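import Cfsg.Agent.Lib.Helper4.TC.Perm
import Cfsg.Agent.Lib.Helper1.Co2TC.Cod6
import Cfsg.Agent.Lib.Helper1.Co2TC.TopFin
import Cfsg.Agent.Lib.Helper1.Co2TC.TopCM0
import Cfsg.Agent.Lib.Helper1.Co2TC.TopCM1
import Cfsg.Agent.Lib.Helper1.Co2TC.TopCE0x0
import Cfsg.Agent.Lib.Helper1.Co2TC.TopCE0x1
import Cfsg.Agent.Lib.Helper1.Co2TC.TopCE1x0
import Cfsg.Agent.Lib.Helper1.Co2TC.TopCE1x1
import Cfsg.Agent.Lib.Helper1.Co2TC.TopCE2x0
import Cfsg.Agent.Lib.Helper1.Co2TC.TopCE2x1
import Cfsg.Agent.Lib.Helper1.Co2TC.TopCE3x0
import Cfsg.Agent.Lib.Helper1.Co2TC.TopCE3x1
import Cfsg.Agent.Lib.Helper1.Co2TC.TopCE4x0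
import Cfsg.Agent.Lib.Helper1.Co2TC.TopCE4x1
import Cfsg.Agent.Lib.Helper1.Co2TC.TopCE5x0
import Cfsg.Agent.Lib.Helper1.Co2TC.TopCE5x1
import Cfsg.Agent.Lib.Helper1.Co2TC.TopCE6x0
import Cfsg.Agent.Lib.Helper1.Co2TC.TopCE6x1
import Cfsg.Agent.Lib.Helper1.Co2TC.TopCE7x0
import Cfsg.Agent.Lib.Helper1.Co2TC.TopCE7x1
import Cfsg.Agent.Lib.Helper1.Co2TC.TopCE8x0
import Cfsg.Agent.Lib.Helper1.Co2TC.TopCE8x1
import Cfsg.Agent.Lib.Helper1.Co2TC.TopCE9x0
import Cfsg.Agent.Lib.Helper1.Co2TC.TopCE9x1
import Cfsg.Agent.Lib.Helper1.Co2TC.TopCE10x0
import Cfsg.Agent.Lib.Helper1.Co2TC.TopCE10x1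
import Cfsg.Agent.Lib.Helper1.Co2TC.TopCE11x0
import Cfsg.Agent.Lib.Helper1.Co2TC.TopCE11x1
import Cfsg.Agent.Lib.Helper1.Co2TC.TopCF0
import Cfsg.Agent.Lib.Helper1.Co2TC.TopCF1

set_option autoImplicit false
set_option maxRecDepth 100000
set_option linter.unusedVariables false

namespace Cfsg.Agent.Lib.Helper1.Co2TC.Top

open Cfsg.Agent.Helper4.TC

theorem allE0 : ∀ k, k < 131072 → justE data 0 k = true := by
  intro k hk
  by_cases hh1 : k < 65536
  · skip
    by_cases hh2 : k < 32768
    · skip
      by_cases hh3 : k < 16384
      · skip
        exact edgeRange_sound data 0 16384 0 e0_c0 k (by omega) (by omega)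
      · skip
        exact edgeRange_sound data 0 16384 16384 e0_c1 k (by omega) (by omega)
    · skip
      by_cases hh4 : k < 49152
      · skip
        exact edgeRange_sound data 0 16384 32768 e0_c2 k (by omega) (by omega)
      · skip
        exact edgeRange_sound data 0 16384 49152 e0_c3 k (by omega) (by omega)
  · skip
    by_cases hh5 : k < 98304
    · skip
      by_cases hh6 : k < 81920
      · skip
        exact edgeRange_sound data 0 16384 65536 e0_c4 k (by omega) (by omega)
      · skip
        exact edgeRange_sound data 0 16384 81920 e0_c5 k (by omega) (by omega)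
    · skip
      by_cases hh7 : k < 107221
      · skip
        exact edgeRange_sound data 0 8917 98304 e0_c6 k (by omega) (by omega)
      · skip
        exact edgeRange_sound data 0 23851 107221 e0_c7 k (by omega) (by omega)

theorem allE1 : ∀ k, k < 131072 → justE data 1 k = true := by
  intro k hk
  by_cases hh1 : k < 65536
  · skip
    by_cases hh2 : k < 32768
    · skip
      by_cases hh3 : k < 16384
      · skip
        exact edgeRange_sound data 1 16384 0 e1_c0 k (by omega) (by omega)
      · skip
        exact edgeRange_sound data 1 16384 16384 e1_c1 k (by omega) (by omega)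
    · skip
      by_cases hh4 : k < 49152
      · skip
        exact edgeRange_sound data 1 16384 32768 e1_c2 k (by omega) (by omega)
      · skip
        exact edgeRange_sound data 1 16384 49152 e1_c3 k (by omega) (by omega)
  · skip
    by_cases hh5 : k < 98304
    · skip
      by_cases hh6 : k < 81920
      · skip
        exact edgeRange_sound data 1 16384 65536 e1_c4 k (by omega) (by omega)
      · skip
        exact edgeRange_sound data 1 16384 81920 e1_c5 k (by omega) (by omega)
    · skip
      by_cases hh7 : k < 107221
      · skip
        exact edgeRange_sound data 1 8917 98304 e1_c6 k (by omega) (by omega)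
      · skip
        exact edgeRange_sound data 1 23851 107221 e1_c7 k (by omega) (by omega)

theorem allE2 : ∀ k, k < 131072 → justE data 2 k = true := by
  intro k hk
  by_cases hh1 : k < 65536
  · skip
    by_cases hh2 : k < 32768
    · skip
      by_cases hh3 : k < 16384
      · skip
        exact edgeRange_sound data 2 16384 0 e2_c0 k (by omega) (by omega)
      · skip
        exact edgeRange_sound data 2 16384 16384 e2_c1 k (by omega) (by omega)
    · skip
      by_cases hh4 : k < 49152
      · skip
        exact edgeRange_sound data 2 16384 32768 e2_c2 k (by omega) (by omega)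
      · skip
        exact edgeRange_sound data 2 16384 49152 e2_c3 k (by omega) (by omega)
  · skip
    by_cases hh5 : k < 98304
    · skip
      by_cases hh6 : k < 81920
      · skip
        exact edgeRange_sound data 2 16384 65536 e2_c4 k (by omega) (by omega)
      · skip
        exact edgeRange_sound data 2 16384 81920 e2_c5 k (by omega) (by omega)
    · skip
      by_cases hh7 : k < 107221
      · skip
        exact edgeRange_sound data 2 8917 98304 e2_c6 k (by omega) (by omega)
      · skip
        exact edgeRange_sound data 2 23851 107221 e2_c7 k (by omega) (by omega)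

theorem allE3 : ∀ k, k < 131072 → justE data 3 k = true := by
  intro k hk
  by_cases hh1 : k < 65536
  · skip
    by_cases hh2 : k < 32768
    · skip
      by_cases hh3 : k < 16384
      · skip
        exact edgeRange_sound data 3 16384 0 e3_c0 k (by omega) (by omega)
      · skip
        exact edgeRange_sound data 3 16384 16384 e3_c1 k (by omega) (by omega)
    · skip
      by_cases hh4 : k < 49152
      · skip
        exact edgeRange_sound data 3 16384 32768 e3_c2 k (by omega) (by omega)
      · skip
        exact edgeRange_sound data 3 16384 49152 e3_c3 k (by omega) (by omega)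
  · skip
    by_cases hh5 : k < 98304
    · skip
      by_cases hh6 : k < 81920
      · skip
        exact edgeRange_sound data 3 16384 65536 e3_c4 k (by omega) (by omega)
      · skip
        exact edgeRange_sound data 3 16384 81920 e3_c5 k (by omega) (by omega)
    · skip
      by_cases hh7 : k < 107221
      · skip
        exact edgeRange_sound data 3 8917 98304 e3_c6 k (by omega) (by omega)
      · skip
        exact edgeRange_sound data 3 23851 107221 e3_c7 k (by omega) (by omega)

theorem allE4 : ∀ k, k < 131072 → justE data 4 k = true := by
  intro k hk
  by_cases hh1 : k < 65536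
  · skip
    by_cases hh2 : k < 32768
    · skip
      by_cases hh3 : k < 16384
      · skip
        exact edgeRange_sound data 4 16384 0 e4_c0 k (by omega) (by omega)
      · skip
        exact edgeRange_sound data 4 16384 16384 e4_c1 k (by omega) (by omega)
    · skip
      by_cases hh4 : k < 49152
      · skip
        exact edgeRange_sound data 4 16384 32768 e4_c2 k (by omega) (by omega)
      · skip
        exact edgeRange_sound data 4 16384 49152 e4_c3 k (by omega) (by omega)
  · skip
    by_cases hh5 : k < 98304
    · skip
      by_cases hh6 : k < 81920
      · skip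
        exact edgeRange_sound data 4 16384 65536 e4_c4 k (by omega) (by omega)
      · skip
        exact edgeRange_sound data 4 16384 81920 e4_c5 k (by omega) (by omega)
    · skip
      by_cases hh7 : k < 107221
      · skip
        exact edgeRange_sound data 4 8917 98304 e4_c6 k (by omega) (by omega)
      · skip
        exact edgeRange_sound data 4 23851 107221 e4_c7 k (by omega) (by omega)

theorem allE5 : ∀ k, k < 131072 → justE data 5 k = true := by
  intro k hk
  by_cases hh1 : k < 65536
  · skip
    by_cases hh2 : k < 32768
    · skip
      by_cases hh3 : k < 16384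
      · skip
        exact edgeRange_sound data 5 16384 0 e5_c0 k (by omega) (by omega)
      · skip
        exact edgeRange_sound data 5 16384 16384 e5_c1 k (by omega) (by omega)
    · skip
      by_cases hh4 : k < 49152
      · skip
        exact edgeRange_sound data 5 16384 32768 e5_c2 k (by omega) (by omega)
      · skip
        exact edgeRange_sound data 5 16384 49152 e5_c3 k (by omega) (by omega)
  · skip
    by_cases hh5 : k < 98304
    · skip
      by_cases hh6 : k < 81920
      · skip
        exact edgeRange_sound data 5 16384 65536 e5_c4 k (by omega) (by omega)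
      · skip
        exact edgeRange_sound data 5 16384 81920 e5_c5 k (by omega) (by omega)
    · skip
      by_cases hh7 : k < 107221
      · skip
        exact edgeRange_sound data 5 8917 98304 e5_c6 k (by omega) (by omega)
      · skip
        exact edgeRange_sound data 5 23851 107221 e5_c7 k (by omega) (by omega)

theorem allE6 : ∀ k, k < 131072 → justE data 6 k = true := by
  intro k hk
  by_cases hh1 : k < 65536
  · skip
    by_cases hh2 : k < 32768
    · skip
      by_cases hh3 : k < 16384
      · skip
        exact edgeRange_sound data 6 16384 0 e6_c0 k (by omega) (by omega)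
      · skip
        exact edgeRange_sound data 6 16384 16384 e6_c1 k (by omega) (by omega)
    · skip
      by_cases hh4 : k < 49152
      · skip
        exact edgeRange_sound data 6 16384 32768 e6_c2 k (by omega) (by omega)
      · skip
        exact edgeRange_sound data 6 16384 49152 e6_c3 k (by omega) (by omega)
  · skip
    by_cases hh5 : k < 98304
    · skip
      by_cases hh6 : k < 81920
      · skip
        exact edgeRange_sound data 6 16384 65536 e6_c4 k (by omega) (by omega)
      · skip
        exact edgeRange_sound data 6 16384 81920 e6_c5 k (by omega) (by omega)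
    · skip
      by_cases hh7 : k < 107221
      · skip
        exact edgeRange_sound data 6 8917 98304 e6_c6 k (by omega) (by omega)
      · skip
        exact edgeRange_sound data 6 23851 107221 e6_c7 k (by omega) (by omega)

theorem allE7 : ∀ k, k < 131072 → justE data 7 k = true := by
  intro k hk
  by_cases hh1 : k < 65536
  · skip
    by_cases hh2 : k < 32768
    · skip
      by_cases hh3 : k < 16384
      · skip
        exact edgeRange_sound data 7 16384 0 e7_c0 k (by omega) (by omega)
      · skip
        exact edgeRange_sound data 7 16384 16384 e7_c1 k (by omega) (by omega)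
    · skip
      by_cases hh4 : k < 49152
      · skip
        exact edgeRange_sound data 7 16384 32768 e7_c2 k (by omega) (by omega)
      · skip
        exact edgeRange_sound data 7 16384 49152 e7_c3 k (by omega) (by omega)
  · skip
    by_cases hh5 : k < 98304
    · skip
      by_cases hh6 : k < 81920
      · skip
        exact edgeRange_sound data 7 16384 65536 e7_c4 k (by omega) (by omega)
      · skip
        exact edgeRange_sound data 7 16384 81920 e7_c5 k (by omega) (by omega)
    · skip
      by_cases hh7 : k < 107221
      · skip
        exact edgeRange_sound data 7 8917 98304 e7_c6 k (by omega) (by omega)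
      · skip
        exact edgeRange_sound data 7 23851 107221 e7_c7 k (by omega) (by omega)

theorem allE8 : ∀ k, k < 131072 → justE data 8 k = true := by
  intro k hk
  by_cases hh1 : k < 65536
  · skip
    by_cases hh2 : k < 32768
    · skip
      by_cases hh3 : k < 16384
      · skip
        exact edgeRange_sound data 8 16384 0 e8_c0 k (by omega) (by omega)
      · skip
        exact edgeRange_sound data 8 16384 16384 e8_c1 k (by omega) (by omega)
    · skip
      by_cases hh4 : k < 49152
      · skip
        exact edgeRange_sound data 8 16384 32768 e8_c2 k (by omega) (by omega)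
      · skip
        exact edgeRange_sound data 8 16384 49152 e8_c3 k (by omega) (by omega)
  · skip
    by_cases hh5 : k < 98304
    · skip
      by_cases hh6 : k < 81920
      · skip
        exact edgeRange_sound data 8 16384 65536 e8_c4 k (by omega) (by omega)
      · skip
        exact edgeRange_sound data 8 16384 81920 e8_c5 k (by omega) (by omega)
    · skip
      by_cases hh7 : k < 107221
      · skip
        exact edgeRange_sound data 8 8917 98304 e8_c6 k (by omega) (by omega)
      · skip
        exact edgeRange_sound data 8 23851 107221 e8_c7 k (by omega) (by omega)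

theorem allE9 : ∀ k, k < 131072 → justE data 9 k = true := by
  intro k hk
  by_cases hh1 : k < 65536
  · skip
    by_cases hh2 : k < 32768
    · skip
      by_cases hh3 : k < 16384
      · skip
        exact edgeRange_sound data 9 16384 0 e9_c0 k (by omega) (by omega)
      · skip
        exact edgeRange_sound data 9 16384 16384 e9_c1 k (by omega) (by omega)
    · skip
      by_cases hh4 : k < 49152
      · skip
        exact edgeRange_sound data 9 16384 32768 e9_c2 k (by omega) (by omega)
      · skip
        exact edgeRange_sound data 9 16384 49152 e9_c3 k (by omega) (by omega)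
  · skip
    by_cases hh5 : k < 98304
    · skip
      by_cases hh6 : k < 81920
      · skip
        exact edgeRange_sound data 9 16384 65536 e9_c4 k (by omega) (by omega)
      · skip
        exact edgeRange_sound data 9 16384 81920 e9_c5 k (by omega) (by omega)
    · skip
      by_cases hh7 : k < 107221
      · skip
        exact edgeRange_sound data 9 8917 98304 e9_c6 k (by omega) (by omega)
      · skip
        exact edgeRange_sound data 9 23851 107221 e9_c7 k (by omega) (by omega)

theorem allE10 : ∀ k, k < 131072 → justE data 10 k = true := by
  intro k hk
  by_cases hh1 : k < 65536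
  · skip
    by_cases hh2 : k < 32768
    · skip
      by_cases hh3 : k < 16384
      · skip
        exact edgeRange_sound data 10 16384 0 e10_c0 k (by omega) (by omega)
      · skip
        exact edgeRange_sound data 10 16384 16384 e10_c1 k (by omega) (by omega)
    · skip
      by_cases hh4 : k < 49152
      · skip
        exact edgeRange_sound data 10 16384 32768 e10_c2 k (by omega) (by omega)
      · skip
        exact edgeRange_sound data 10 16384 49152 e10_c3 k (by omega) (by omega)
  · skip
    by_cases hh5 : k < 98304
    · skip
      by_cases hh6 : k < 81920
      · skip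
        exact edgeRange_sound data 10 16384 65536 e10_c4 k (by omega) (by omega)
      · skip
        exact edgeRange_sound data 10 16384 81920 e10_c5 k (by omega) (by omega)
    · skip
      by_cases hh7 : k < 107221
      · skip
        exact edgeRange_sound data 10 8917 98304 e10_c6 k (by omega) (by omega)
      · skip
        exact edgeRange_sound data 10 23851 107221 e10_c7 k (by omega) (by omega)

theorem allE11 : ∀ k, k < 131072 → justE data 11 k = true := by
  intro k hk
  by_cases hh1 : k < 65536
  · skip
    by_cases hh2 : k < 32768
    · skip
      by_cases hh3 : k < 16384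
      · skip
        exact edgeRange_sound data 11 16384 0 e11_c0 k (by omega) (by omega)
      · skip
        exact edgeRange_sound data 11 16384 16384 e11_c1 k (by omega) (by omega)
    · skip
      by_cases hh4 : k < 49152
      · skip
        exact edgeRange_sound data 11 16384 32768 e11_c2 k (by omega) (by omega)
      · skip
        exact edgeRange_sound data 11 16384 49152 e11_c3 k (by omega) (by omega)
  · skip
    by_cases hh5 : k < 98304
    · skip
      by_cases hh6 : k < 81920
      · skip
        exact edgeRange_sound data 11 16384 65536 e11_c4 k (by omega) (by omega)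
      · skip
        exact edgeRange_sound data 11 16384 81920 e11_c5 k (by omega) (by omega)
    · skip
      by_cases hh7 : k < 107221
      · skip
        exact edgeRange_sound data 11 8917 98304 e11_c6 k (by omega) (by omega)
      · skip
        exact edgeRange_sound data 11 23851 107221 e11_c7 k (by omega) (by omega)

theorem allE : ∀ c k, c < data.nc → k ≤ data.mask → justE data c k = true := by
  intro c k hc hk
  have hk' : k < 131072 := Nat.lt_succ_of_le hk
  have hc' : c < 12 := hc
  interval_cases c
  · exact allE0 k hk'
  · exact allE1 k hk'
  · exact allE2 k hk'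
  · exact allE3 k hk'
  · exact allE4 k hk'
  · exact allE5 k hk'
  · exact allE6 k hk'
  · exact allE7 k hk'
  · exact allE8 k hk'
  · exact allE9 k hk'
  · exact allE10 k hk'
  · exact allE11 k hk'

theorem allM : ∀ k, k ≤ data.mask → justM data k = true := by
  intro k hk
  have hk' : k < 131072 := Nat.lt_succ_of_le hk
  by_cases hh1 : k < 65536
  · skip
    by_cases hh2 : k < 32768
    · skip
      by_cases hh3 : k < 16384
      · skip
        exact mergeRange_sound data 16384 0 m_c0 k (by omega) (by omega)
      · skip
        exact mergeRange_sound data 16384 16384 m_c1 k (by omega) (by omega)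
    · skip
      by_cases hh4 : k < 49152
      · skip
        exact mergeRange_sound data 16384 32768 m_c2 k (by omega) (by omega)
      · skip
        exact mergeRange_sound data 16384 49152 m_c3 k (by omega) (by omega)
  · skip
    by_cases hh5 : k < 98304
    · skip
      by_cases hh6 : k < 81920
      · skip
        exact mergeRange_sound data 16384 65536 m_c4 k (by omega) (by omega)
      · skip
        exact mergeRange_sound data 16384 81920 m_c5 k (by omega) (by omega)
    · skip
      by_cases hh7 : k < 107221
      · skip
        exact mergeRange_sound data 8917 98304 m_c6 k (by omega) (by omega)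
      · skip
        exact mergeRange_sound data 23851 107221 m_c7 k (by omega) (by omega)

theorem rows_all : ∀ k, k < M → isFinal data k = true → rowOK data M k data.nc = true := by
  intro k hk
  have hk' : k < 107221 := hk
  by_cases hh1 : k < 49152
  · skip
    by_cases hh2 : k < 16384
    · skip
      exact rowsRange_sound data M 16384 0 rows0 k (by omega) (by omega)
    · skip
      by_cases hh3 : k < 32768
      · skip
        exact rowsRange_sound data M 16384 16384 rows1 k (by omega) (by omega)
      · skip
        exact rowsRange_sound data M 16384 32768 rows2 k (by omega) (by omega)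
  · skip
    by_cases hh4 : k < 81920
    · skip
      by_cases hh5 : k < 65536
      · skip
        exact rowsRange_sound data M 16384 49152 rows3 k (by omega) (by omega)
      · skip
        exact rowsRange_sound data M 16384 65536 rows4 k (by omega) (by omega)
    · skip
      by_cases hh6 : k < 98304
      · skip
        exact rowsRange_sound data M 16384 81920 rows5 k (by omega) (by omega)
      · skip
        exact rowsRange_sound data M 8917 98304 rows6 k (by omega) (by omega)

theorem cnt_ok : countFinal data M 0 0 = n := by
  exact cnt0

theorem bound : Finite (PresentedGroup (relSet Cfsg.Agent.Lib.Helper1.Co2TC.Cod6.dec bases) ⧸ (Subgroup.closure (relSet Cfsg.Agent.Lib.Helper1.Co2TC.Cod6.dec subsL)).map (PresentedGroup.mk (relSet Cfsg.Agent.Lib.Helper1.Co2TC.Cod6.dec bases))) ∧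
    Nat.card (PresentedGroup (relSet Cfsg.Agent.Lib.Helper1.Co2TC.Cod6.dec bases) ⧸ (Subgroup.closure (relSet Cfsg.Agent.Lib.Helper1.Co2TC.Cod6.dec subsL)).map (PresentedGroup.mk (relSet Cfsg.Agent.Lib.Helper1.Co2TC.Cod6.dec bases))) ≤ n :=
  tc_bound data bases subsL rots Cfsg.Agent.Lib.Helper1.Co2TC.Cod6.coding (mem_relSet bases) (mem_relSet subsL) words_ok allE allM M n fin0_ok (by decide) (by decide) cnt_ok rows_all

end Cfsg.Agent.Lib.Helper1.Co2TC.Top
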