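import Cfsg.Agent.Lib.Helper1.Co2TC.TopT0
import Cfsg.Agent.Lib.Helper1.Co2TC.TopT1
import Cfsg.Agent.Lib.Helper1.Co2TC.TopT2
import Cfsg.Agent.Lib.Helper1.Co2TC.TopT3
import Cfsg.Agent.Lib.Helper1.Co2TC.TopT4
import Cfsg.Agent.Lib.Helper1.Co2TC.TopT5
import Cfsg.Agent.Lib.Helper1.Co2TC.TopT6
import Cfsg.Agent.Lib.Helper1.Co2TC.TopT7
import Cfsg.Agent.Lib.Helper1.Co2TC.TopT8
import Cfsg.Agent.Lib.Helper1.Co2TC.TopT9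
import Cfsg.Agent.Lib.Helper1.Co2TC.TopT10
import Cfsg.Agent.Lib.Helper1.Co2TC.TopT11
import Cfsg.Agent.Lib.Helper1.Co2TC.TopT12
import Cfsg.Agent.Lib.Helper1.Co2TC.TopT13
import Cfsg.Agent.Lib.Helper1.Co2TC.TopT14
import Cfsg.Agent.Lib.Helper1.Co2TC.TopT15
import Cfsg.Agent.Lib.Helper1.Co2TC.TopT16
import Cfsg.Agent.Lib.Helper1.Co2TC.TopT17
import Cfsg.Agent.Lib.Helper1.Co2TC.TopT18
import Cfsg.Agent.Lib.Helper1.Co2TC.TopT19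
import Cfsg.Agent.Lib.Helper1.Co2TC.TopT20
import Cfsg.Agent.Lib.Helper1.Co2TC.TopT21
import Cfsg.Agent.Lib.Helper1.Co2TC.TopT22
import Cfsg.Agent.Lib.Helper1.Co2TC.TopT23
import Cfsg.Agent.Lib.Helper1.Co2TC.TopT24
import Cfsg.Agent.Lib.Helper1.Co2TC.TopT25
import Cfsg.Agent.Lib.Helper1.Co2TC.TopT26
import Cfsg.Agent.Lib.Helper1.Co2TC.TopT27
import Cfsg.Agent.Lib.Helper1.Co2TC.TopT28
import Cfsg.Agent.Lib.Helper1.Co2TC.TopT29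
import Cfsg.Agent.Lib.Helper1.Co2TC.TopT30

set_option autoImplicit false
set_option maxRecDepth 100000
set_option linter.unusedVariables false

namespace Cfsg.Agent.Lib.Helper1.Co2TC.Top

open Cfsg.Agent.Helper4.TC

noncomputable def ecol0 (b : ℕ) : ℕ := (Bool.rec (motive := fun _ => ℕ) (Bool.rec (motive := fun _ => ℕ) (Bool.rec (motive := fun _ => ℕ) (Bool.rec (motive := fun _ => ℕ) (Bool.rec (motive := fun _ => ℕ) (Bool.rec (motive := fun _ => ℕ) (e0_0) (e0_1) (Nat.ble 1 b)) (Bool.rec (motive := fun _ => ℕ) (e0_2) (e0_3) (Nat.ble 3 b)) (Nat.ble 2 b)) (Bool.rec (motive := fun _ => ℕ) (Bool.rec (motive := fun _ => ℕ) (e0_4) (e0_5) (Nat.ble 5 b)) (Bool.rec (motive := fun _ => ℕ) (e0_6) (e0_7) (Nat.ble 7 b)) (Nat.ble 6 b)) (Nat.ble 4 b)) (Bool.rec (motive := fun _ => ℕ) (Bool.rec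 (motive := fun _ => ℕ) (Bool.rec (motive := fun _ => ℕ) (e0_8) (e0_9) (Nat.ble 9 b)) (Bool.rec (motive := fun _ => ℕ) (e0_10) (e0_11) (Nat.ble 11 b)) (Nat.ble 10 b)) (Bool.rec (motive := fun _ => ℕ) (Bool.rec (motive := fun _ => ℕ) (e0_12) (e0_13) (Nat.ble 13 b)) (Bool.rec (motive := fun _ => ℕ) (e0_14) (e0_15) (Nat.ble 15 b)) (Nat.ble 14 b)) (Nat.ble 12 b)) (Nat.ble 8 b)) (Bool.rec (motive := fun _ => ℕ) (Bool.rec (motive := fun _ => ℕ) (Bool.rec (motive := fun _ => ℕ) (Bool.rec (motive := fun _ => ℕ) (e0_16) (e0_17) (Nat.ble 17 b)) (Bool.rec (motive := fun _ => ℕ) (e0_18) (e0_19) (Nat.ble 19 b)) (Nat.ble 18 b)) (Bool.rec (motive := fun _ => ℕ) (Bool.rec (motive := fun _ => ℕ) (e0_20) (e0_21) (Nat.ble 21 b)) (Bool.rec (motive := fun _ => ℕ) (e0_22) (e0_23) (Nat.ble 23 b)) (Nat.ble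 22 b)) (Nat.ble 20 b)) (Bool.rec (motive := fun _ => ℕ) (Bool.rec (motive := fun _ => ℕ) (Bool.rec (motive := fun _ => ℕ) (e0_24) (e0_25) (Nat.ble 25 b)) (Bool.rec (motive := fun _ => ℕ) (e0_26) (e0_27) (Nat.ble 27 b)) (Nat.ble 26 b)) (Bool.rec (motive := fun _ => ℕ) (Bool.rec (motive := fun _ => ℕ) (e0_28) (e0_29) (Nat.ble 29 b)) (Bool.rec (motive := fun _ => ℕ) (e0_30) (e0_31) (Nat.ble 31 b)) (Nat.ble 30 b)) (Nat.ble 28 b)) (Nat.ble 24 b)) (Nat.ble 16 b)) (Bool.rec (motive := fun _ => ℕ) (Bool.rec (motive := fun _ => ℕ) (Bool.rec (motive := fun _ => ℕ) (Bool.rec (motive := fun _ => ℕ) (Bool.rec (motive := fun _ => ℕ) (e0_32) (e0_33) (Nat.ble 33 b)) (Bool.rec (motive := fun _ => ℕ) (e0_34) (e0_35) (Nat.ble 35 b)) (Nat.ble 34 b)) (Bool.rec (motive := fun _ => ℕ) (Bool.rec (motive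 := fun _ => ℕ) (e0_36) (e0_37) (Nat.ble 37 b)) (Bool.rec (motive := fun _ => ℕ) (e0_38) (e0_39) (Nat.ble 39 b)) (Nat.ble 38 b)) (Nat.ble 36 b)) (Bool.rec (motive := fun _ => ℕ) (Bool.rec (motive := fun _ => ℕ) (Bool.rec (motive := fun _ => ℕ) (e0_40) (e0_41) (Nat.ble 41 b)) (Bool.rec (motive := fun _ => ℕ) (e0_42) (e0_43) (Nat.ble 43 b)) (Nat.ble 42 b)) (Bool.rec (motive := fun _ => ℕ) (Bool.rec (motive := fun _ => ℕ) (e0_44) (e0_45) (Nat.ble 45 b)) (Bool.rec (motive := fun _ => ℕ) (e0_46) (e0_47) (Nat.ble 47 b)) (Nat.ble 46 b)) (Nat.ble 44 b)) (Nat.ble 40 b)) (Bool.rec (motive := fun _ => ℕ) (Bool.rec (motive := fun _ => ℕ) (Bool.rec (motive := fun _ => ℕ) (Bool.rec (motive := fun _ => ℕ) (e0_48) (e0_49) (Nat.ble 49 b)) (Bool.rec (motive := fun _ => ℕ) (e0_50) (e0_51) (Nat.ble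 51 b)) (Nat.ble 50 b)) (Bool.rec (motive := fun _ => ℕ) (Bool.rec (motive := fun _ => ℕ) (e0_52) (0) (Nat.ble 53 b)) (0) (Nat.ble 54 b)) (Nat.ble 52 b)) (0) (Nat.ble 56 b)) (Nat.ble 48 b)) (Nat.ble 32 b))
noncomputable def jcol0 (b : ℕ) : ℕ := (Bool.rec (motive := fun _ => ℕ) (Bool.rec (motive := fun _ => ℕ) (Bool.rec (motive := fun _ => ℕ) (Bool.rec (motive := fun _ => ℕ) (Bool.rec (motive := fun _ => ℕ) (Bool.rec (motive := fun _ => ℕ) (j0_0) (j0_1) (Nat.ble 1 b)) (Bool.rec (motive := fun _ => ℕ) (j0_2) (j0_3) (Nat.ble 3 b)) (Nat.ble 2 b)) (Bool.rec (motive := fun _ => ℕ) (Bool.rec (motive := fun _ => ℕ) (j0_4) (j0_5) (Nat.ble 5 b)) (Bool.rec (motive := fun _ => ℕ) (j0_6) (j0_7) (Nat.ble 7 b)) (Nat.ble 6 b)) (Nat.ble 4 b)) (Bool.rec (motive := fun _ => ℕ) (Bool.rec (motive :=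 fun _ => ℕ) (Bool.rec (motive := fun _ => ℕ) (j0_8) (j0_9) (Nat.ble 9 b)) (Bool.rec (motive := fun _ => ℕ) (j0_10) (j0_11) (Nat.ble 11 b)) (Nat.ble 10 b)) (Bool.rec (motive := fun _ => ℕ) (Bool.rec (motive := fun _ => ℕ) (j0_12) (j0_13) (Nat.ble 13 b)) (Bool.rec (motive := fun _ => ℕ) (j0_14) (j0_15) (Nat.ble 15 b)) (Nat.ble 14 b)) (Nat.ble 12 b)) (Nat.ble 8 b)) (Bool.rec (motive := fun _ => ℕ) (Bool.rec (motive := fun _ => ℕ) (Bool.rec (motive := fun _ => ℕ) (Bool.rec (motive := fun _ => ℕ) (j0_16) (j0_17) (Nat.ble 17 b)) (Bool.rec (motive := fun _ => ℕ) (j0_18) (j0_19) (Nat.ble 19 b)) (Nat.ble 18 b)) (Bool.rec (motive := fun _ => ℕ) (Bool.rec (motive := fun _ => ℕ) (j0_20) (j0_21) (Nat.ble 21 b)) (Bool.rec (motive := fun _ => ℕ) (j0_22) (j0_23) (Nat.ble 23 b)) (Nat.ble 22 b))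 (Nat.ble 20 b)) (Bool.rec (motive := fun _ => ℕ) (Bool.rec (motive := fun _ => ℕ) (Bool.rec (motive := fun _ => ℕ) (j0_24) (j0_25) (Nat.ble 25 b)) (Bool.rec (motive := fun _ => ℕ) (j0_26) (j0_27) (Nat.ble 27 b)) (Nat.ble 26 b)) (Bool.rec (motive := fun _ => ℕ) (Bool.rec (motive := fun _ => ℕ) (j0_28) (j0_29) (Nat.ble 29 b)) (Bool.rec (motive := fun _ => ℕ) (j0_30) (j0_31) (Nat.ble 31 b)) (Nat.ble 30 b)) (Nat.ble 28 b)) (Nat.ble 24 b)) (Nat.ble 16 b)) (Bool.rec (motive := fun _ => ℕ) (Bool.rec (motive := fun _ => ℕ) (Bool.rec (motive := fun _ => ℕ) (Bool.rec (motive := fun _ => ℕ) (Bool.rec (motive := fun _ => ℕ) (j0_32) (j0_33) (Nat.ble 33 b)) (Bool.rec (motive := fun _ => ℕ) (j0_34) (j0_35) (Nat.ble 35 b)) (Nat.ble 34 b)) (Bool.rec (motive := fun _ => ℕ) (Bool.rec (motive :=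 fun _ => ℕ) (j0_36) (j0_37) (Nat.ble 37 b)) (Bool.rec (motive := fun _ => ℕ) (j0_38) (j0_39) (Nat.ble 39 b)) (Nat.ble 38 b)) (Nat.ble 36 b)) (Bool.rec (motive := fun _ => ℕ) (Bool.rec (motive := fun _ => ℕ) (Bool.rec (motive := fun _ => ℕ) (j0_40) (j0_41) (Nat.ble 41 b)) (Bool.rec (motive := fun _ => ℕ) (j0_42) (j0_43) (Nat.ble 43 b)) (Nat.ble 42 b)) (Bool.rec (motive := fun _ => ℕ) (Bool.rec (motive := fun _ => ℕ) (j0_44) (j0_45) (Nat.ble 45 b)) (Bool.rec (motive := fun _ => ℕ) (j0_46) (j0_47) (Nat.ble 47 b)) (Nat.ble 46 b)) (Nat.ble 44 b)) (Nat.ble 40 b)) (Bool.rec (motive := fun _ => ℕ) (Bool.rec (motive := fun _ => ℕ) (Bool.rec (motive := fun _ => ℕ) (Bool.rec (motive := fun _ => ℕ) (j0_48) (j0_49) (Nat.ble 49 b)) (Bool.rec (motive := fun _ => ℕ) (j0_50) (j0_51) (Nat.ble 51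 b)) (Nat.ble 50 b)) (Bool.rec (motive := fun _ => ℕ) (Bool.rec (motive := fun _ => ℕ) (j0_52) (0) (Nat.ble 53 b)) (0) (Nat.ble 54 b)) (Nat.ble 52 b)) (0) (Nat.ble 56 b)) (Nat.ble 48 b)) (Nat.ble 32 b))
noncomputable def ecol1 (b : ℕ) : ℕ := (Bool.rec (motive := fun _ => ℕ) (Bool.rec (motive := fun _ => ℕ) (Bool.rec (motive := fun _ => ℕ) (Bool.rec (motive := fun _ => ℕ) (Bool.rec (motive := fun _ => ℕ) (Bool.rec (motive := fun _ => ℕ) (e1_0) (e1_1) (Nat.ble 1 b)) (Bool.rec (motive := fun _ => ℕ) (e1_2) (e1_3) (Nat.ble 3 b)) (Nat.ble 2 b)) (Bool.rec (motive := fun _ => ℕ) (Bool.rec (motive := fun _ => ℕ) (e1_4) (e1_5) (Nat.ble 5 b)) (Bool.rec (motive := fun _ => ℕ) (e1_6) (e1_7) (Nat.ble 7 b)) (Nat.ble 6 b)) (Nat.ble 4 b)) (Bool.rec (motive := fun _ => ℕ) (Bool.rec (motive := fun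 _ => ℕ) (Bool.rec (motive := fun _ => ℕ) (e1_8) (e1_9) (Nat.ble 9 b)) (Bool.rec (motive := fun _ => ℕ) (e1_10) (e1_11) (Nat.ble 11 b)) (Nat.ble 10 b)) (Bool.rec (motive := fun _ => ℕ) (Bool.rec (motive := fun _ => ℕ) (e1_12) (e1_13) (Nat.ble 13 b)) (Bool.rec (motive := fun _ => ℕ) (e1_14) (e1_15) (Nat.ble 15 b)) (Nat.ble 14 b)) (Nat.ble 12 b)) (Nat.ble 8 b)) (Bool.rec (motive := fun _ => ℕ) (Bool.rec (motive := fun _ => ℕ) (Bool.rec (motive := fun _ => ℕ) (Bool.rec (motive := fun _ => ℕ) (e1_16) (e1_17) (Nat.ble 17 b)) (Bool.rec (motive := fun _ => ℕ) (e1_18) (e1_19) (Nat.ble 19 b)) (Nat.ble 18 b)) (Bool.rec (motive := fun _ => ℕ) (Bool.rec (motive := fun _ => ℕ) (e1_20) (e1_21) (Nat.ble 21 b)) (Bool.rec (motive := fun _ => ℕ) (e1_22) (e1_23) (Nat.ble 23 b)) (Nat.ble 22 b)) (Nat.ble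 20 b)) (Bool.rec (motive := fun _ => ℕ) (Bool.rec (motive := fun _ => ℕ) (Bool.rec (motive := fun _ => ℕ) (e1_24) (e1_25) (Nat.ble 25 b)) (Bool.rec (motive := fun _ => ℕ) (e1_26) (e1_27) (Nat.ble 27 b)) (Nat.ble 26 b)) (Bool.rec (motive := fun _ => ℕ) (Bool.rec (motive := fun _ => ℕ) (e1_28) (e1_29) (Nat.ble 29 b)) (Bool.rec (motive := fun _ => ℕ) (e1_30) (e1_31) (Nat.ble 31 b)) (Nat.ble 30 b)) (Nat.ble 28 b)) (Nat.ble 24 b)) (Nat.ble 16 b)) (Bool.rec (motive := fun _ => ℕ) (Bool.rec (motive := fun _ => ℕ) (Bool.rec (motive := fun _ => ℕ) (Bool.rec (motive := fun _ => ℕ) (Bool.rec (motive := fun _ => ℕ) (e1_32) (e1_33) (Nat.ble 33 b)) (Bool.rec (motive := fun _ => ℕ) (e1_34) (e1_35) (Nat.ble 35 b)) (Nat.ble 34 b)) (Bool.rec (motive := fun _ => ℕ) (Bool.rec (motive := fun _ =>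 ℕ) (e1_36) (e1_37) (Nat.ble 37 b)) (Bool.rec (motive := fun _ => ℕ) (e1_38) (e1_39) (Nat.ble 39 b)) (Nat.ble 38 b)) (Nat.ble 36 b)) (Bool.rec (motive := fun _ => ℕ) (Bool.rec (motive := fun _ => ℕ) (Bool.rec (motive := fun _ => ℕ) (e1_40) (e1_41) (Nat.ble 41 b)) (Bool.rec (motive := fun _ => ℕ) (e1_42) (e1_43) (Nat.ble 43 b)) (Nat.ble 42 b)) (Bool.rec (motive := fun _ => ℕ) (Bool.rec (motive := fun _ => ℕ) (e1_44) (e1_45) (Nat.ble 45 b)) (Bool.rec (motive := fun _ => ℕ) (e1_46) (e1_47) (Nat.ble 47 b)) (Nat.ble 46 b)) (Nat.ble 44 b)) (Nat.ble 40 b)) (Bool.rec (motive := fun _ => ℕ) (Bool.rec (motive := fun _ => ℕ) (Bool.rec (motive := fun _ => ℕ) (Bool.rec (motive := fun _ => ℕ) (e1_48) (e1_49) (Nat.ble 49 b)) (Bool.rec (motive := fun _ => ℕ) (e1_50) (e1_51) (Nat.ble 51 b)) (Nat.ble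 50 b)) (Bool.rec (motive := fun _ => ℕ) (Bool.rec (motive := fun _ => ℕ) (e1_52) (0) (Nat.ble 53 b)) (0) (Nat.ble 54 b)) (Nat.ble 52 b)) (0) (Nat.ble 56 b)) (Nat.ble 48 b)) (Nat.ble 32 b))
noncomputable def jcol1 (b : ℕ) : ℕ := (Bool.rec (motive := fun _ => ℕ) (Bool.rec (motive := fun _ => ℕ) (Bool.rec (motive := fun _ => ℕ) (Bool.rec (motive := fun _ => ℕ) (Bool.rec (motive := fun _ => ℕ) (Bool.rec (motive := fun _ => ℕ) (j1_0) (j1_1) (Nat.ble 1 b)) (Bool.rec (motive := fun _ => ℕ) (j1_2) (j1_3) (Nat.ble 3 b)) (Nat.ble 2 b)) (Bool.rec (motive := fun _ => ℕ) (Bool.rec (motive := fun _ => ℕ) (j1_4) (j1_5) (Nat.ble 5 b)) (Bool.rec (motive := fun _ => ℕ) (j1_6) (j1_7) (Nat.ble 7 b)) (Nat.ble 6 b)) (Nat.ble 4 b)) (Bool.rec (motive := fun _ => ℕ) (Bool.rec (motive := fun _ => ℕ) (Bool.rec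 (motive := fun _ => ℕ) (j1_8) (j1_9) (Nat.ble 9 b)) (Bool.rec (motive := fun _ => ℕ) (j1_10) (j1_11) (Nat.ble 11 b)) (Nat.ble 10 b)) (Bool.rec (motive := fun _ => ℕ) (Bool.rec (motive := fun _ => ℕ) (j1_12) (j1_13) (Nat.ble 13 b)) (Bool.rec (motive := fun _ => ℕ) (j1_14) (j1_15) (Nat.ble 15 b)) (Nat.ble 14 b)) (Nat.ble 12 b)) (Nat.ble 8 b)) (Bool.rec (motive := fun _ => ℕ) (Bool.rec (motive := fun _ => ℕ) (Bool.rec (motive := fun _ => ℕ) (Bool.rec (motive := fun _ => ℕ) (j1_16) (j1_17) (Nat.ble 17 b)) (Bool.rec (motive := fun _ => ℕ) (j1_18) (j1_19) (Nat.ble 19 b)) (Nat.ble 18 b)) (Bool.rec (motive := fun _ => ℕ) (Bool.rec (motive := fun _ => ℕ) (j1_20) (j1_21) (Nat.ble 21 b)) (Bool.rec (motive := fun _ => ℕ) (j1_22) (j1_23) (Nat.ble 23 b)) (Nat.ble 22 b)) (Nat.ble 20 b)) (Bool.rec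 (motive := fun _ => ℕ) (Bool.rec (motive := fun _ => ℕ) (Bool.rec (motive := fun _ => ℕ) (j1_24) (j1_25) (Nat.ble 25 b)) (Bool.rec (motive := fun _ => ℕ) (j1_26) (j1_27) (Nat.ble 27 b)) (Nat.ble 26 b)) (Bool.rec (motive := fun _ => ℕ) (Bool.rec (motive := fun _ => ℕ) (j1_28) (j1_29) (Nat.ble 29 b)) (Bool.rec (motive := fun _ => ℕ) (j1_30) (j1_31) (Nat.ble 31 b)) (Nat.ble 30 b)) (Nat.ble 28 b)) (Nat.ble 24 b)) (Nat.ble 16 b)) (Bool.rec (motive := fun _ => ℕ) (Bool.rec (motive := fun _ => ℕ) (Bool.rec (motive := fun _ => ℕ) (Bool.rec (motive := fun _ => ℕ) (Bool.rec (motive := fun _ => ℕ) (j1_32) (j1_33) (Nat.ble 33 b)) (Bool.rec (motive := fun _ => ℕ) (j1_34) (j1_35) (Nat.ble 35 b)) (Nat.ble 34 b)) (Bool.rec (motive := fun _ => ℕ) (Bool.rec (motive := fun _ => ℕ) (j1_36) (j1_37)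 (Nat.ble 37 b)) (Bool.rec (motive := fun _ => ℕ) (j1_38) (j1_39) (Nat.ble 39 b)) (Nat.ble 38 b)) (Nat.ble 36 b)) (Bool.rec (motive := fun _ => ℕ) (Bool.rec (motive := fun _ => ℕ) (Bool.rec (motive := fun _ => ℕ) (j1_40) (j1_41) (Nat.ble 41 b)) (Bool.rec (motive := fun _ => ℕ) (j1_42) (j1_43) (Nat.ble 43 b)) (Nat.ble 42 b)) (Bool.rec (motive := fun _ => ℕ) (Bool.rec (motive := fun _ => ℕ) (j1_44) (j1_45) (Nat.ble 45 b)) (Bool.rec (motive := fun _ => ℕ) (j1_46) (j1_47) (Nat.ble 47 b)) (Nat.ble 46 b)) (Nat.ble 44 b)) (Nat.ble 40 b)) (Bool.rec (motive := fun _ => ℕ) (Bool.rec (motive := fun _ => ℕ) (Bool.rec (motive := fun _ => ℕ) (Bool.rec (motive := fun _ => ℕ) (j1_48) (j1_49) (Nat.ble 49 b)) (Bool.rec (motive := fun _ => ℕ) (j1_50) (j1_51) (Nat.ble 51 b)) (Nat.ble 50 b)) (Bool.rec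 (motive := fun _ => ℕ) (Bool.rec (motive := fun _ => ℕ) (j1_52) (0) (Nat.ble 53 b)) (0) (Nat.ble 54 b)) (Nat.ble 52 b)) (0) (Nat.ble 56 b)) (Nat.ble 48 b)) (Nat.ble 32 b))
noncomputable def ecol2 (b : ℕ) : ℕ := (Bool.rec (motive := fun _ => ℕ) (Bool.rec (motive := fun _ => ℕ) (Bool.rec (motive := fun _ => ℕ) (Bool.rec (motive := fun _ => ℕ) (Bool.rec (motive := fun _ => ℕ) (Bool.rec (motive := fun _ => ℕ) (e2_0) (e2_1) (Nat.ble 1 b)) (Bool.rec (motive := fun _ => ℕ) (e2_2) (e2_3) (Nat.ble 3 b)) (Nat.ble 2 b)) (Bool.rec (motive := fun _ => ℕ) (Bool.rec (motive := fun _ => ℕ) (e2_4) (e2_5) (Nat.ble 5 b)) (Bool.rec (motive := fun _ => ℕ) (e2_6) (e2_7) (Nat.ble 7 b)) (Nat.ble 6 b)) (Nat.ble 4 b)) (Bool.rec (motive := fun _ => ℕ) (Bool.rec (motive := fun _ => ℕ) (Bool.rec (motive :=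 fun _ => ℕ) (e2_8) (e2_9) (Nat.ble 9 b)) (Bool.rec (motive := fun _ => ℕ) (e2_10) (e2_11) (Nat.ble 11 b)) (Nat.ble 10 b)) (Bool.rec (motive := fun _ => ℕ) (Bool.rec (motive := fun _ => ℕ) (e2_12) (e2_13) (Nat.ble 13 b)) (Bool.rec (motive := fun _ => ℕ) (e2_14) (e2_15) (Nat.ble 15 b)) (Nat.ble 14 b)) (Nat.ble 12 b)) (Nat.ble 8 b)) (Bool.rec (motive := fun _ => ℕ) (Bool.rec (motive := fun _ => ℕ) (Bool.rec (motive := fun _ => ℕ) (Bool.rec (motive := fun _ => ℕ) (e2_16) (e2_17) (Nat.ble 17 b)) (Bool.rec (motive := fun _ => ℕ) (e2_18) (e2_19) (Nat.ble 19 b)) (Nat.ble 18 b)) (Bool.rec (motive := fun _ => ℕ) (Bool.rec (motive := fun _ => ℕ) (e2_20) (e2_21) (Nat.ble 21 b)) (Bool.rec (motive := fun _ => ℕ) (e2_22) (e2_23) (Nat.ble 23 b)) (Nat.ble 22 b)) (Nat.ble 20 b)) (Bool.rec (motive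 := fun _ => ℕ) (Bool.rec (motive := fun _ => ℕ) (Bool.rec (motive := fun _ => ℕ) (e2_24) (e2_25) (Nat.ble 25 b)) (Bool.rec (motive := fun _ => ℕ) (e2_26) (e2_27) (Nat.ble 27 b)) (Nat.ble 26 b)) (Bool.rec (motive := fun _ => ℕ) (Bool.rec (motive := fun _ => ℕ) (e2_28) (e2_29) (Nat.ble 29 b)) (Bool.rec (motive := fun _ => ℕ) (e2_30) (e2_31) (Nat.ble 31 b)) (Nat.ble 30 b)) (Nat.ble 28 b)) (Nat.ble 24 b)) (Nat.ble 16 b)) (Bool.rec (motive := fun _ => ℕ) (Bool.rec (motive := fun _ => ℕ) (Bool.rec (motive := fun _ => ℕ) (Bool.rec (motive := fun _ => ℕ) (Bool.rec (motive := fun _ => ℕ) (e2_32) (e2_33) (Nat.ble 33 b)) (Bool.rec (motive := fun _ => ℕ) (e2_34) (e2_35) (Nat.ble 35 b)) (Nat.ble 34 b)) (Bool.rec (motive := fun _ => ℕ) (Bool.rec (motive := fun _ => ℕ) (e2_36) (e2_37) (Nat.ble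 37 b)) (Bool.rec (motive := fun _ => ℕ) (e2_38) (e2_39) (Nat.ble 39 b)) (Nat.ble 38 b)) (Nat.ble 36 b)) (Bool.rec (motive := fun _ => ℕ) (Bool.rec (motive := fun _ => ℕ) (Bool.rec (motive := fun _ => ℕ) (e2_40) (e2_41) (Nat.ble 41 b)) (Bool.rec (motive := fun _ => ℕ) (e2_42) (e2_43) (Nat.ble 43 b)) (Nat.ble 42 b)) (Bool.rec (motive := fun _ => ℕ) (Bool.rec (motive := fun _ => ℕ) (e2_44) (e2_45) (Nat.ble 45 b)) (Bool.rec (motive := fun _ => ℕ) (e2_46) (e2_47) (Nat.ble 47 b)) (Nat.ble 46 b)) (Nat.ble 44 b)) (Nat.ble 40 b)) (Bool.rec (motive := fun _ => ℕ) (Bool.rec (motive := fun _ => ℕ) (Bool.rec (motive := fun _ => ℕ) (Bool.rec (motive := fun _ => ℕ) (e2_48) (e2_49) (Nat.ble 49 b)) (Bool.rec (motive := fun _ => ℕ) (e2_50) (e2_51) (Nat.ble 51 b)) (Nat.ble 50 b)) (Bool.rec (motive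 := fun _ => ℕ) (Bool.rec (motive := fun _ => ℕ) (e2_52) (0) (Nat.ble 53 b)) (0) (Nat.ble 54 b)) (Nat.ble 52 b)) (0) (Nat.ble 56 b)) (Nat.ble 48 b)) (Nat.ble 32 b))
noncomputable def jcol2 (b : ℕ) : ℕ := (Bool.rec (motive := fun _ => ℕ) (Bool.rec (motive := fun _ => ℕ) (Bool.rec (motive := fun _ => ℕ) (Bool.rec (motive := fun _ => ℕ) (Bool.rec (motive := fun _ => ℕ) (Bool.rec (motive := fun _ => ℕ) (j2_0) (j2_1) (Nat.ble 1 b)) (Bool.rec (motive := fun _ => ℕ) (j2_2) (j2_3) (Nat.ble 3 b)) (Nat.ble 2 b)) (Bool.rec (motive := fun _ => ℕ) (Bool.rec (motive := fun _ => ℕ) (j2_4) (j2_5) (Nat.ble 5 b)) (Bool.rec (motive := fun _ => ℕ) (j2_6) (j2_7) (Nat.ble 7 b)) (Nat.ble 6 b)) (Nat.ble 4 b)) (Bool.rec (motive := fun _ => ℕ) (Bool.rec (motive := fun _ => ℕ) (Bool.rec (motive := fun _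 => ℕ) (j2_8) (j2_9) (Nat.ble 9 b)) (Bool.rec (motive := fun _ => ℕ) (j2_10) (j2_11) (Nat.ble 11 b)) (Nat.ble 10 b)) (Bool.rec (motive := fun _ => ℕ) (Bool.rec (motive := fun _ => ℕ) (j2_12) (j2_13) (Nat.ble 13 b)) (Bool.rec (motive := fun _ => ℕ) (j2_14) (j2_15) (Nat.ble 15 b)) (Nat.ble 14 b)) (Nat.ble 12 b)) (Nat.ble 8 b)) (Bool.rec (motive := fun _ => ℕ) (Bool.rec (motive := fun _ => ℕ) (Bool.rec (motive := fun _ => ℕ) (Bool.rec (motive := fun _ => ℕ) (j2_16) (j2_17) (Nat.ble 17 b)) (Bool.rec (motive := fun _ => ℕ) (j2_18) (j2_19) (Nat.ble 19 b)) (Nat.ble 18 b)) (Bool.rec (motive := fun _ => ℕ) (Bool.rec (motive := fun _ => ℕ) (j2_20) (j2_21) (Nat.ble 21 b)) (Bool.rec (motive := fun _ => ℕ) (j2_22) (j2_23) (Nat.ble 23 b)) (Nat.ble 22 b)) (Nat.ble 20 b)) (Bool.rec (motive :=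 fun _ => ℕ) (Bool.rec (motive := fun _ => ℕ) (Bool.rec (motive := fun _ => ℕ) (j2_24) (j2_25) (Nat.ble 25 b)) (Bool.rec (motive := fun _ => ℕ) (j2_26) (j2_27) (Nat.ble 27 b)) (Nat.ble 26 b)) (Bool.rec (motive := fun _ => ℕ) (Bool.rec (motive := fun _ => ℕ) (j2_28) (j2_29) (Nat.ble 29 b)) (Bool.rec (motive := fun _ => ℕ) (j2_30) (j2_31) (Nat.ble 31 b)) (Nat.ble 30 b)) (Nat.ble 28 b)) (Nat.ble 24 b)) (Nat.ble 16 b)) (Bool.rec (motive := fun _ => ℕ) (Bool.rec (motive := fun _ => ℕ) (Bool.rec (motive := fun _ => ℕ) (Bool.rec (motive := fun _ => ℕ) (Bool.rec (motive := fun _ => ℕ) (j2_32) (j2_33) (Nat.ble 33 b)) (Bool.rec (motive := fun _ => ℕ) (j2_34) (j2_35) (Nat.ble 35 b)) (Nat.ble 34 b)) (Bool.rec (motive := fun _ => ℕ) (Bool.rec (motive := fun _ => ℕ) (j2_36) (j2_37) (Nat.ble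 37 b)) (Bool.rec (motive := fun _ => ℕ) (j2_38) (j2_39) (Nat.ble 39 b)) (Nat.ble 38 b)) (Nat.ble 36 b)) (Bool.rec (motive := fun _ => ℕ) (Bool.rec (motive := fun _ => ℕ) (Bool.rec (motive := fun _ => ℕ) (j2_40) (j2_41) (Nat.ble 41 b)) (Bool.rec (motive := fun _ => ℕ) (j2_42) (j2_43) (Nat.ble 43 b)) (Nat.ble 42 b)) (Bool.rec (motive := fun _ => ℕ) (Bool.rec (motive := fun _ => ℕ) (j2_44) (j2_45) (Nat.ble 45 b)) (Bool.rec (motive := fun _ => ℕ) (j2_46) (j2_47) (Nat.ble 47 b)) (Nat.ble 46 b)) (Nat.ble 44 b)) (Nat.ble 40 b)) (Bool.rec (motive := fun _ => ℕ) (Bool.rec (motive := fun _ => ℕ) (Bool.rec (motive := fun _ => ℕ) (Bool.rec (motive := fun _ => ℕ) (j2_48) (j2_49) (Nat.ble 49 b)) (Bool.rec (motive := fun _ => ℕ) (j2_50) (j2_51) (Nat.ble 51 b)) (Nat.ble 50 b)) (Bool.rec (motive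 := fun _ => ℕ) (Bool.rec (motive := fun _ => ℕ) (j2_52) (0) (Nat.ble 53 b)) (0) (Nat.ble 54 b)) (Nat.ble 52 b)) (0) (Nat.ble 56 b)) (Nat.ble 48 b)) (Nat.ble 32 b))
noncomputable def ecol3 (b : ℕ) : ℕ := (Bool.rec (motive := fun _ => ℕ) (Bool.rec (motive := fun _ => ℕ) (Bool.rec (motive := fun _ => ℕ) (Bool.rec (motive := fun _ => ℕ) (Bool.rec (motive := fun _ => ℕ) (Bool.rec (motive := fun _ => ℕ) (e3_0) (e3_1) (Nat.ble 1 b)) (Bool.rec (motive := fun _ => ℕ) (e3_2) (e3_3) (Nat.ble 3 b)) (Nat.ble 2 b)) (Bool.rec (motive := fun _ => ℕ) (Bool.rec (motive := fun _ => ℕ) (e3_4) (e3_5) (Nat.ble 5 b)) (Bool.rec (motive := fun _ => ℕ) (e3_6) (e3_7) (Nat.ble 7 b)) (Nat.ble 6 b)) (Nat.ble 4 b)) (Bool.rec (motive := fun _ => ℕ) (Bool.rec (motive := fun _ => ℕ) (Bool.rec (motive := fun _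 => ℕ) (e3_8) (e3_9) (Nat.ble 9 b)) (Bool.rec (motive := fun _ => ℕ) (e3_10) (e3_11) (Nat.ble 11 b)) (Nat.ble 10 b)) (Bool.rec (motive := fun _ => ℕ) (Bool.rec (motive := fun _ => ℕ) (e3_12) (e3_13) (Nat.ble 13 b)) (Bool.rec (motive := fun _ => ℕ) (e3_14) (e3_15) (Nat.ble 15 b)) (Nat.ble 14 b)) (Nat.ble 12 b)) (Nat.ble 8 b)) (Bool.rec (motive := fun _ => ℕ) (Bool.rec (motive := fun _ => ℕ) (Bool.rec (motive := fun _ => ℕ) (Bool.rec (motive := fun _ => ℕ) (e3_16) (e3_17) (Nat.ble 17 b)) (Bool.rec (motive := fun _ => ℕ) (e3_18) (e3_19) (Nat.ble 19 b)) (Nat.ble 18 b)) (Bool.rec (motive := fun _ => ℕ) (Bool.rec (motive := fun _ => ℕ) (e3_20) (e3_21) (Nat.ble 21 b)) (Bool.rec (motive := fun _ => ℕ) (e3_22) (e3_23) (Nat.ble 23 b)) (Nat.ble 22 b)) (Nat.ble 20 b)) (Bool.rec (motive :=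 fun _ => ℕ) (Bool.rec (motive := fun _ => ℕ) (Bool.rec (motive := fun _ => ℕ) (e3_24) (e3_25) (Nat.ble 25 b)) (Bool.rec (motive := fun _ => ℕ) (e3_26) (e3_27) (Nat.ble 27 b)) (Nat.ble 26 b)) (Bool.rec (motive := fun _ => ℕ) (Bool.rec (motive := fun _ => ℕ) (e3_28) (e3_29) (Nat.ble 29 b)) (Bool.rec (motive := fun _ => ℕ) (e3_30) (e3_31) (Nat.ble 31 b)) (Nat.ble 30 b)) (Nat.ble 28 b)) (Nat.ble 24 b)) (Nat.ble 16 b)) (Bool.rec (motive := fun _ => ℕ) (Bool.rec (motive := fun _ => ℕ) (Bool.rec (motive := fun _ => ℕ) (Bool.rec (motive := fun _ => ℕ) (Bool.rec (motive := fun _ => ℕ) (e3_32) (e3_33) (Nat.ble 33 b)) (Bool.rec (motive := fun _ => ℕ) (e3_34) (e3_35) (Nat.ble 35 b)) (Nat.ble 34 b)) (Bool.rec (motive := fun _ => ℕ) (Bool.rec (motive := fun _ => ℕ) (e3_36) (e3_37) (Nat.ble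 37 b)) (Bool.rec (motive := fun _ => ℕ) (e3_38) (e3_39) (Nat.ble 39 b)) (Nat.ble 38 b)) (Nat.ble 36 b)) (Bool.rec (motive := fun _ => ℕ) (Bool.rec (motive := fun _ => ℕ) (Bool.rec (motive := fun _ => ℕ) (e3_40) (e3_41) (Nat.ble 41 b)) (Bool.rec (motive := fun _ => ℕ) (e3_42) (e3_43) (Nat.ble 43 b)) (Nat.ble 42 b)) (Bool.rec (motive := fun _ => ℕ) (Bool.rec (motive := fun _ => ℕ) (e3_44) (e3_45) (Nat.ble 45 b)) (Bool.rec (motive := fun _ => ℕ) (e3_46) (e3_47) (Nat.ble 47 b)) (Nat.ble 46 b)) (Nat.ble 44 b)) (Nat.ble 40 b)) (Bool.rec (motive := fun _ => ℕ) (Bool.rec (motive := fun _ => ℕ) (Bool.rec (motive := fun _ => ℕ) (Bool.rec (motive := fun _ => ℕ) (e3_48) (e3_49) (Nat.ble 49 b)) (Bool.rec (motive := fun _ => ℕ) (e3_50) (e3_51) (Nat.ble 51 b)) (Nat.ble 50 b)) (Bool.rec (motive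 := fun _ => ℕ) (Bool.rec (motive := fun _ => ℕ) (e3_52) (0) (Nat.ble 53 b)) (0) (Nat.ble 54 b)) (Nat.ble 52 b)) (0) (Nat.ble 56 b)) (Nat.ble 48 b)) (Nat.ble 32 b))
noncomputable def jcol3 (b : ℕ) : ℕ := (Bool.rec (motive := fun _ => ℕ) (Bool.rec (motive := fun _ => ℕ) (Bool.rec (motive := fun _ => ℕ) (Bool.rec (motive := fun _ => ℕ) (Bool.rec (motive := fun _ => ℕ) (Bool.rec (motive := fun _ => ℕ) (j3_0) (j3_1) (Nat.ble 1 b)) (Bool.rec (motive := fun _ => ℕ) (j3_2) (j3_3) (Nat.ble 3 b)) (Nat.ble 2 b)) (Bool.rec (motive := fun _ => ℕ) (Bool.rec (motive := fun _ => ℕ) (j3_4) (j3_5) (Nat.ble 5 b)) (Bool.rec (motive := fun _ => ℕ) (j3_6) (j3_7) (Nat.ble 7 b)) (Nat.ble 6 b)) (Nat.ble 4 b)) (Bool.rec (motive := fun _ => ℕ) (Bool.rec (motive := fun _ => ℕ) (Bool.rec (motive := fun _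 => ℕ) (j3_8) (j3_9) (Nat.ble 9 b)) (Bool.rec (motive := fun _ => ℕ) (j3_10) (j3_11) (Nat.ble 11 b)) (Nat.ble 10 b)) (Bool.rec (motive := fun _ => ℕ) (Bool.rec (motive := fun _ => ℕ) (j3_12) (j3_13) (Nat.ble 13 b)) (Bool.rec (motive := fun _ => ℕ) (j3_14) (j3_15) (Nat.ble 15 b)) (Nat.ble 14 b)) (Nat.ble 12 b)) (Nat.ble 8 b)) (Bool.rec (motive := fun _ => ℕ) (Bool.rec (motive := fun _ => ℕ) (Bool.rec (motive := fun _ => ℕ) (Bool.rec (motive := fun _ => ℕ) (j3_16) (j3_17) (Nat.ble 17 b)) (Bool.rec (motive := fun _ => ℕ) (j3_18) (j3_19) (Nat.ble 19 b)) (Nat.ble 18 b)) (Bool.rec (motive := fun _ => ℕ) (Bool.rec (motive := fun _ => ℕ) (j3_20) (j3_21) (Nat.ble 21 b)) (Bool.rec (motive := fun _ => ℕ) (j3_22) (j3_23) (Nat.ble 23 b)) (Nat.ble 22 b)) (Nat.ble 20 b)) (Bool.rec (motive :=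 fun _ => ℕ) (Bool.rec (motive := fun _ => ℕ) (Bool.rec (motive := fun _ => ℕ) (j3_24) (j3_25) (Nat.ble 25 b)) (Bool.rec (motive := fun _ => ℕ) (j3_26) (j3_27) (Nat.ble 27 b)) (Nat.ble 26 b)) (Bool.rec (motive := fun _ => ℕ) (Bool.rec (motive := fun _ => ℕ) (j3_28) (j3_29) (Nat.ble 29 b)) (Bool.rec (motive := fun _ => ℕ) (j3_30) (j3_31) (Nat.ble 31 b)) (Nat.ble 30 b)) (Nat.ble 28 b)) (Nat.ble 24 b)) (Nat.ble 16 b)) (Bool.rec (motive := fun _ => ℕ) (Bool.rec (motive := fun _ => ℕ) (Bool.rec (motive := fun _ => ℕ) (Bool.rec (motive := fun _ => ℕ) (Bool.rec (motive := fun _ => ℕ) (j3_32) (j3_33) (Nat.ble 33 b)) (Bool.rec (motive := fun _ => ℕ) (j3_34) (j3_35) (Nat.ble 35 b)) (Nat.ble 34 b)) (Bool.rec (motive := fun _ => ℕ) (Bool.rec (motive := fun _ => ℕ) (j3_36) (j3_37) (Nat.ble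 37 b)) (Bool.rec (motive := fun _ => ℕ) (j3_38) (j3_39) (Nat.ble 39 b)) (Nat.ble 38 b)) (Nat.ble 36 b)) (Bool.rec (motive := fun _ => ℕ) (Bool.rec (motive := fun _ => ℕ) (Bool.rec (motive := fun _ => ℕ) (j3_40) (j3_41) (Nat.ble 41 b)) (Bool.rec (motive := fun _ => ℕ) (j3_42) (j3_43) (Nat.ble 43 b)) (Nat.ble 42 b)) (Bool.rec (motive := fun _ => ℕ) (Bool.rec (motive := fun _ => ℕ) (j3_44) (j3_45) (Nat.ble 45 b)) (Bool.rec (motive := fun _ => ℕ) (j3_46) (j3_47) (Nat.ble 47 b)) (Nat.ble 46 b)) (Nat.ble 44 b)) (Nat.ble 40 b)) (Bool.rec (motive := fun _ => ℕ) (Bool.rec (motive := fun _ => ℕ) (Bool.rec (motive := fun _ => ℕ) (Bool.rec (motive := fun _ => ℕ) (j3_48) (j3_49) (Nat.ble 49 b)) (Bool.rec (motive := fun _ => ℕ) (j3_50) (j3_51) (Nat.ble 51 b)) (Nat.ble 50 b)) (Bool.rec (motive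 := fun _ => ℕ) (Bool.rec (motive := fun _ => ℕ) (j3_52) (0) (Nat.ble 53 b)) (0) (Nat.ble 54 b)) (Nat.ble 52 b)) (0) (Nat.ble 56 b)) (Nat.ble 48 b)) (Nat.ble 32 b))
noncomputable def ecol4 (b : ℕ) : ℕ := (Bool.rec (motive := fun _ => ℕ) (Bool.rec (motive := fun _ => ℕ) (Bool.rec (motive := fun _ => ℕ) (Bool.rec (motive := fun _ => ℕ) (Bool.rec (motive := fun _ => ℕ) (Bool.rec (motive := fun _ => ℕ) (e4_0) (e4_1) (Nat.ble 1 b)) (Bool.rec (motive := fun _ => ℕ) (e4_2) (e4_3) (Nat.ble 3 b)) (Nat.ble 2 b)) (Bool.rec (motive := fun _ => ℕ) (Bool.rec (motive := fun _ => ℕ) (e4_4) (e4_5) (Nat.ble 5 b)) (Bool.rec (motive := fun _ => ℕ) (e4_6) (e4_7) (Nat.ble 7 b)) (Nat.ble 6 b)) (Nat.ble 4 b)) (Bool.rec (motive := fun _ => ℕ) (Bool.rec (motive := fun _ => ℕ) (Bool.rec (motive := fun _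 => ℕ) (e4_8) (e4_9) (Nat.ble 9 b)) (Bool.rec (motive := fun _ => ℕ) (e4_10) (e4_11) (Nat.ble 11 b)) (Nat.ble 10 b)) (Bool.rec (motive := fun _ => ℕ) (Bool.rec (motive := fun _ => ℕ) (e4_12) (e4_13) (Nat.ble 13 b)) (Bool.rec (motive := fun _ => ℕ) (e4_14) (e4_15) (Nat.ble 15 b)) (Nat.ble 14 b)) (Nat.ble 12 b)) (Nat.ble 8 b)) (Bool.rec (motive := fun _ => ℕ) (Bool.rec (motive := fun _ => ℕ) (Bool.rec (motive := fun _ => ℕ) (Bool.rec (motive := fun _ => ℕ) (e4_16) (e4_17) (Nat.ble 17 b)) (Bool.rec (motive := fun _ => ℕ) (e4_18) (e4_19) (Nat.ble 19 b)) (Nat.ble 18 b)) (Bool.rec (motive := fun _ => ℕ) (Bool.rec (motive := fun _ => ℕ) (e4_20) (e4_21) (Nat.ble 21 b)) (Bool.rec (motive := fun _ => ℕ) (e4_22) (e4_23) (Nat.ble 23 b)) (Nat.ble 22 b)) (Nat.ble 20 b)) (Bool.rec (motive :=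 fun _ => ℕ) (Bool.rec (motive := fun _ => ℕ) (Bool.rec (motive := fun _ => ℕ) (e4_24) (e4_25) (Nat.ble 25 b)) (Bool.rec (motive := fun _ => ℕ) (e4_26) (e4_27) (Nat.ble 27 b)) (Nat.ble 26 b)) (Bool.rec (motive := fun _ => ℕ) (Bool.rec (motive := fun _ => ℕ) (e4_28) (e4_29) (Nat.ble 29 b)) (Bool.rec (motive := fun _ => ℕ) (e4_30) (e4_31) (Nat.ble 31 b)) (Nat.ble 30 b)) (Nat.ble 28 b)) (Nat.ble 24 b)) (Nat.ble 16 b)) (Bool.rec (motive := fun _ => ℕ) (Bool.rec (motive := fun _ => ℕ) (Bool.rec (motive := fun _ => ℕ) (Bool.rec (motive := fun _ => ℕ) (Bool.rec (motive := fun _ => ℕ) (e4_32) (e4_33) (Nat.ble 33 b)) (Bool.rec (motive := fun _ => ℕ) (e4_34) (e4_35) (Nat.ble 35 b)) (Nat.ble 34 b)) (Bool.rec (motive := fun _ => ℕ) (Bool.rec (motive := fun _ => ℕ) (e4_36) (e4_37) (Nat.ble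 37 b)) (Bool.rec (motive := fun _ => ℕ) (e4_38) (e4_39) (Nat.ble 39 b)) (Nat.ble 38 b)) (Nat.ble 36 b)) (Bool.rec (motive := fun _ => ℕ) (Bool.rec (motive := fun _ => ℕ) (Bool.rec (motive := fun _ => ℕ) (e4_40) (e4_41) (Nat.ble 41 b)) (Bool.rec (motive := fun _ => ℕ) (e4_42) (e4_43) (Nat.ble 43 b)) (Nat.ble 42 b)) (Bool.rec (motive := fun _ => ℕ) (Bool.rec (motive := fun _ => ℕ) (e4_44) (e4_45) (Nat.ble 45 b)) (Bool.rec (motive := fun _ => ℕ) (e4_46) (e4_47) (Nat.ble 47 b)) (Nat.ble 46 b)) (Nat.ble 44 b)) (Nat.ble 40 b)) (Bool.rec (motive := fun _ => ℕ) (Bool.rec (motive := fun _ => ℕ) (Bool.rec (motive := fun _ => ℕ) (Bool.rec (motive := fun _ => ℕ) (e4_48) (e4_49) (Nat.ble 49 b)) (Bool.rec (motive := fun _ => ℕ) (e4_50) (e4_51) (Nat.ble 51 b)) (Nat.ble 50 b)) (Bool.rec (motive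 := fun _ => ℕ) (Bool.rec (motive := fun _ => ℕ) (e4_52) (0) (Nat.ble 53 b)) (0) (Nat.ble 54 b)) (Nat.ble 52 b)) (0) (Nat.ble 56 b)) (Nat.ble 48 b)) (Nat.ble 32 b))
noncomputable def jcol4 (b : ℕ) : ℕ := (Bool.rec (motive := fun _ => ℕ) (Bool.rec (motive := fun _ => ℕ) (Bool.rec (motive := fun _ => ℕ) (Bool.rec (motive := fun _ => ℕ) (Bool.rec (motive := fun _ => ℕ) (Bool.rec (motive := fun _ => ℕ) (j4_0) (j4_1) (Nat.ble 1 b)) (Bool.rec (motive := fun _ => ℕ) (j4_2) (j4_3) (Nat.ble 3 b)) (Nat.ble 2 b)) (Bool.rec (motive := fun _ => ℕ) (Bool.rec (motive := fun _ => ℕ) (j4_4) (j4_5) (Nat.ble 5 b)) (Bool.rec (motive := fun _ => ℕ) (j4_6) (j4_7) (Nat.ble 7 b)) (Nat.ble 6 b)) (Nat.ble 4 b)) (Bool.rec (motive := fun _ => ℕ) (Bool.rec (motive := fun _ => ℕ) (Bool.rec (motive := fun _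 => ℕ) (j4_8) (j4_9) (Nat.ble 9 b)) (Bool.rec (motive := fun _ => ℕ) (j4_10) (j4_11) (Nat.ble 11 b)) (Nat.ble 10 b)) (Bool.rec (motive := fun _ => ℕ) (Bool.rec (motive := fun _ => ℕ) (j4_12) (j4_13) (Nat.ble 13 b)) (Bool.rec (motive := fun _ => ℕ) (j4_14) (j4_15) (Nat.ble 15 b)) (Nat.ble 14 b)) (Nat.ble 12 b)) (Nat.ble 8 b)) (Bool.rec (motive := fun _ => ℕ) (Bool.rec (motive := fun _ => ℕ) (Bool.rec (motive := fun _ => ℕ) (Bool.rec (motive := fun _ => ℕ) (j4_16) (j4_17) (Nat.ble 17 b)) (Bool.rec (motive := fun _ => ℕ) (j4_18) (j4_19) (Nat.ble 19 b)) (Nat.ble 18 b)) (Bool.rec (motive := fun _ => ℕ) (Bool.rec (motive := fun _ => ℕ) (j4_20) (j4_21) (Nat.ble 21 b)) (Bool.rec (motive := fun _ => ℕ) (j4_22) (j4_23) (Nat.ble 23 b)) (Nat.ble 22 b)) (Nat.ble 20 b)) (Bool.rec (motive :=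 fun _ => ℕ) (Bool.rec (motive := fun _ => ℕ) (Bool.rec (motive := fun _ => ℕ) (j4_24) (j4_25) (Nat.ble 25 b)) (Bool.rec (motive := fun _ => ℕ) (j4_26) (j4_27) (Nat.ble 27 b)) (Nat.ble 26 b)) (Bool.rec (motive := fun _ => ℕ) (Bool.rec (motive := fun _ => ℕ) (j4_28) (j4_29) (Nat.ble 29 b)) (Bool.rec (motive := fun _ => ℕ) (j4_30) (j4_31) (Nat.ble 31 b)) (Nat.ble 30 b)) (Nat.ble 28 b)) (Nat.ble 24 b)) (Nat.ble 16 b)) (Bool.rec (motive := fun _ => ℕ) (Bool.rec (motive := fun _ => ℕ) (Bool.rec (motive := fun _ => ℕ) (Bool.rec (motive := fun _ => ℕ) (Bool.rec (motive := fun _ => ℕ) (j4_32) (j4_33) (Nat.ble 33 b)) (Bool.rec (motive := fun _ => ℕ) (j4_34) (j4_35) (Nat.ble 35 b)) (Nat.ble 34 b)) (Bool.rec (motive := fun _ => ℕ) (Bool.rec (motive := fun _ => ℕ) (j4_36) (j4_37) (Nat.ble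 37 b)) (Bool.rec (motive := fun _ => ℕ) (j4_38) (j4_39) (Nat.ble 39 b)) (Nat.ble 38 b)) (Nat.ble 36 b)) (Bool.rec (motive := fun _ => ℕ) (Bool.rec (motive := fun _ => ℕ) (Bool.rec (motive := fun _ => ℕ) (j4_40) (j4_41) (Nat.ble 41 b)) (Bool.rec (motive := fun _ => ℕ) (j4_42) (j4_43) (Nat.ble 43 b)) (Nat.ble 42 b)) (Bool.rec (motive := fun _ => ℕ) (Bool.rec (motive := fun _ => ℕ) (j4_44) (j4_45) (Nat.ble 45 b)) (Bool.rec (motive := fun _ => ℕ) (j4_46) (j4_47) (Nat.ble 47 b)) (Nat.ble 46 b)) (Nat.ble 44 b)) (Nat.ble 40 b)) (Bool.rec (motive := fun _ => ℕ) (Bool.rec (motive := fun _ => ℕ) (Bool.rec (motive := fun _ => ℕ) (Bool.rec (motive := fun _ => ℕ) (j4_48) (j4_49) (Nat.ble 49 b)) (Bool.rec (motive := fun _ => ℕ) (j4_50) (j4_51) (Nat.ble 51 b)) (Nat.ble 50 b)) (Bool.rec (motive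 := fun _ => ℕ) (Bool.rec (motive := fun _ => ℕ) (j4_52) (0) (Nat.ble 53 b)) (0) (Nat.ble 54 b)) (Nat.ble 52 b)) (0) (Nat.ble 56 b)) (Nat.ble 48 b)) (Nat.ble 32 b))
noncomputable def ecol5 (b : ℕ) : ℕ := (Bool.rec (motive := fun _ => ℕ) (Bool.rec (motive := fun _ => ℕ) (Bool.rec (motive := fun _ => ℕ) (Bool.rec (motive := fun _ => ℕ) (Bool.rec (motive := fun _ => ℕ) (Bool.rec (motive := fun _ => ℕ) (e5_0) (e5_1) (Nat.ble 1 b)) (Bool.rec (motive := fun _ => ℕ) (e5_2) (e5_3) (Nat.ble 3 b)) (Nat.ble 2 b)) (Bool.rec (motive := fun _ => ℕ) (Bool.rec (motive := fun _ => ℕ) (e5_4) (e5_5) (Nat.ble 5 b)) (Bool.rec (motive := fun _ => ℕ) (e5_6) (e5_7) (Nat.ble 7 b)) (Nat.ble 6 b)) (Nat.ble 4 b)) (Bool.rec (motive := fun _ => ℕ) (Bool.rec (motive := fun _ => ℕ) (Bool.rec (motive := fun _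 => ℕ) (e5_8) (e5_9) (Nat.ble 9 b)) (Bool.rec (motive := fun _ => ℕ) (e5_10) (e5_11) (Nat.ble 11 b)) (Nat.ble 10 b)) (Bool.rec (motive := fun _ => ℕ) (Bool.rec (motive := fun _ => ℕ) (e5_12) (e5_13) (Nat.ble 13 b)) (Bool.rec (motive := fun _ => ℕ) (e5_14) (e5_15) (Nat.ble 15 b)) (Nat.ble 14 b)) (Nat.ble 12 b)) (Nat.ble 8 b)) (Bool.rec (motive := fun _ => ℕ) (Bool.rec (motive := fun _ => ℕ) (Bool.rec (motive := fun _ => ℕ) (Bool.rec (motive := fun _ => ℕ) (e5_16) (e5_17) (Nat.ble 17 b)) (Bool.rec (motive := fun _ => ℕ) (e5_18) (e5_19) (Nat.ble 19 b)) (Nat.ble 18 b)) (Bool.rec (motive := fun _ => ℕ) (Bool.rec (motive := fun _ => ℕ) (e5_20) (e5_21) (Nat.ble 21 b)) (Bool.rec (motive := fun _ => ℕ) (e5_22) (e5_23) (Nat.ble 23 b)) (Nat.ble 22 b)) (Nat.ble 20 b)) (Bool.rec (motive :=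 fun _ => ℕ) (Bool.rec (motive := fun _ => ℕ) (Bool.rec (motive := fun _ => ℕ) (e5_24) (e5_25) (Nat.ble 25 b)) (Bool.rec (motive := fun _ => ℕ) (e5_26) (e5_27) (Nat.ble 27 b)) (Nat.ble 26 b)) (Bool.rec (motive := fun _ => ℕ) (Bool.rec (motive := fun _ => ℕ) (e5_28) (e5_29) (Nat.ble 29 b)) (Bool.rec (motive := fun _ => ℕ) (e5_30) (e5_31) (Nat.ble 31 b)) (Nat.ble 30 b)) (Nat.ble 28 b)) (Nat.ble 24 b)) (Nat.ble 16 b)) (Bool.rec (motive := fun _ => ℕ) (Bool.rec (motive := fun _ => ℕ) (Bool.rec (motive := fun _ => ℕ) (Bool.rec (motive := fun _ => ℕ) (Bool.rec (motive := fun _ => ℕ) (e5_32) (e5_33) (Nat.ble 33 b)) (Bool.rec (motive := fun _ => ℕ) (e5_34) (e5_35) (Nat.ble 35 b)) (Nat.ble 34 b)) (Bool.rec (motive := fun _ => ℕ) (Bool.rec (motive := fun _ => ℕ) (e5_36) (e5_37) (Nat.ble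 37 b)) (Bool.rec (motive := fun _ => ℕ) (e5_38) (e5_39) (Nat.ble 39 b)) (Nat.ble 38 b)) (Nat.ble 36 b)) (Bool.rec (motive := fun _ => ℕ) (Bool.rec (motive := fun _ => ℕ) (Bool.rec (motive := fun _ => ℕ) (e5_40) (e5_41) (Nat.ble 41 b)) (Bool.rec (motive := fun _ => ℕ) (e5_42) (e5_43) (Nat.ble 43 b)) (Nat.ble 42 b)) (Bool.rec (motive := fun _ => ℕ) (Bool.rec (motive := fun _ => ℕ) (e5_44) (e5_45) (Nat.ble 45 b)) (Bool.rec (motive := fun _ => ℕ) (e5_46) (e5_47) (Nat.ble 47 b)) (Nat.ble 46 b)) (Nat.ble 44 b)) (Nat.ble 40 b)) (Bool.rec (motive := fun _ => ℕ) (Bool.rec (motive := fun _ => ℕ) (Bool.rec (motive := fun _ => ℕ) (Bool.rec (motive := fun _ => ℕ) (e5_48) (e5_49) (Nat.ble 49 b)) (Bool.rec (motive := fun _ => ℕ) (e5_50) (e5_51) (Nat.ble 51 b)) (Nat.ble 50 b)) (Bool.rec (motive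 := fun _ => ℕ) (Bool.rec (motive := fun _ => ℕ) (e5_52) (0) (Nat.ble 53 b)) (0) (Nat.ble 54 b)) (Nat.ble 52 b)) (0) (Nat.ble 56 b)) (Nat.ble 48 b)) (Nat.ble 32 b))
noncomputable def jcol5 (b : ℕ) : ℕ := (Bool.rec (motive := fun _ => ℕ) (Bool.rec (motive := fun _ => ℕ) (Bool.rec (motive := fun _ => ℕ) (Bool.rec (motive := fun _ => ℕ) (Bool.rec (motive := fun _ => ℕ) (Bool.rec (motive := fun _ => ℕ) (j5_0) (j5_1) (Nat.ble 1 b)) (Bool.rec (motive := fun _ => ℕ) (j5_2) (j5_3) (Nat.ble 3 b)) (Nat.ble 2 b)) (Bool.rec (motive := fun _ => ℕ) (Bool.rec (motive := fun _ => ℕ) (j5_4) (j5_5) (Nat.ble 5 b)) (Bool.rec (motive := fun _ => ℕ) (j5_6) (j5_7) (Nat.ble 7 b)) (Nat.ble 6 b)) (Nat.ble 4 b)) (Bool.rec (motive := fun _ => ℕ) (Bool.rec (motive := fun _ => ℕ) (Bool.rec (motive := fun _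 => ℕ) (j5_8) (j5_9) (Nat.ble 9 b)) (Bool.rec (motive := fun _ => ℕ) (j5_10) (j5_11) (Nat.ble 11 b)) (Nat.ble 10 b)) (Bool.rec (motive := fun _ => ℕ) (Bool.rec (motive := fun _ => ℕ) (j5_12) (j5_13) (Nat.ble 13 b)) (Bool.rec (motive := fun _ => ℕ) (j5_14) (j5_15) (Nat.ble 15 b)) (Nat.ble 14 b)) (Nat.ble 12 b)) (Nat.ble 8 b)) (Bool.rec (motive := fun _ => ℕ) (Bool.rec (motive := fun _ => ℕ) (Bool.rec (motive := fun _ => ℕ) (Bool.rec (motive := fun _ => ℕ) (j5_16) (j5_17) (Nat.ble 17 b)) (Bool.rec (motive := fun _ => ℕ) (j5_18) (j5_19) (Nat.ble 19 b)) (Nat.ble 18 b)) (Bool.rec (motive := fun _ => ℕ) (Bool.rec (motive := fun _ => ℕ) (j5_20) (j5_21) (Nat.ble 21 b)) (Bool.rec (motive := fun _ => ℕ) (j5_22) (j5_23) (Nat.ble 23 b)) (Nat.ble 22 b)) (Nat.ble 20 b)) (Bool.rec (motive :=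 fun _ => ℕ) (Bool.rec (motive := fun _ => ℕ) (Bool.rec (motive := fun _ => ℕ) (j5_24) (j5_25) (Nat.ble 25 b)) (Bool.rec (motive := fun _ => ℕ) (j5_26) (j5_27) (Nat.ble 27 b)) (Nat.ble 26 b)) (Bool.rec (motive := fun _ => ℕ) (Bool.rec (motive := fun _ => ℕ) (j5_28) (j5_29) (Nat.ble 29 b)) (Bool.rec (motive := fun _ => ℕ) (j5_30) (j5_31) (Nat.ble 31 b)) (Nat.ble 30 b)) (Nat.ble 28 b)) (Nat.ble 24 b)) (Nat.ble 16 b)) (Bool.rec (motive := fun _ => ℕ) (Bool.rec (motive := fun _ => ℕ) (Bool.rec (motive := fun _ => ℕ) (Bool.rec (motive := fun _ => ℕ) (Bool.rec (motive := fun _ => ℕ) (j5_32) (j5_33) (Nat.ble 33 b)) (Bool.rec (motive := fun _ => ℕ) (j5_34) (j5_35) (Nat.ble 35 b)) (Nat.ble 34 b)) (Bool.rec (motive := fun _ => ℕ) (Bool.rec (motive := fun _ => ℕ) (j5_36) (j5_37) (Nat.ble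 37 b)) (Bool.rec (motive := fun _ => ℕ) (j5_38) (j5_39) (Nat.ble 39 b)) (Nat.ble 38 b)) (Nat.ble 36 b)) (Bool.rec (motive := fun _ => ℕ) (Bool.rec (motive := fun _ => ℕ) (Bool.rec (motive := fun _ => ℕ) (j5_40) (j5_41) (Nat.ble 41 b)) (Bool.rec (motive := fun _ => ℕ) (j5_42) (j5_43) (Nat.ble 43 b)) (Nat.ble 42 b)) (Bool.rec (motive := fun _ => ℕ) (Bool.rec (motive := fun _ => ℕ) (j5_44) (j5_45) (Nat.ble 45 b)) (Bool.rec (motive := fun _ => ℕ) (j5_46) (j5_47) (Nat.ble 47 b)) (Nat.ble 46 b)) (Nat.ble 44 b)) (Nat.ble 40 b)) (Bool.rec (motive := fun _ => ℕ) (Bool.rec (motive := fun _ => ℕ) (Bool.rec (motive := fun _ => ℕ) (Bool.rec (motive := fun _ => ℕ) (j5_48) (j5_49) (Nat.ble 49 b)) (Bool.rec (motive := fun _ => ℕ) (j5_50) (j5_51) (Nat.ble 51 b)) (Nat.ble 50 b)) (Bool.rec (motive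 := fun _ => ℕ) (Bool.rec (motive := fun _ => ℕ) (j5_52) (0) (Nat.ble 53 b)) (0) (Nat.ble 54 b)) (Nat.ble 52 b)) (0) (Nat.ble 56 b)) (Nat.ble 48 b)) (Nat.ble 32 b))
noncomputable def ecol6 (b : ℕ) : ℕ := (Bool.rec (motive := fun _ => ℕ) (Bool.rec (motive := fun _ => ℕ) (Bool.rec (motive := fun _ => ℕ) (Bool.rec (motive := fun _ => ℕ) (Bool.rec (motive := fun _ => ℕ) (Bool.rec (motive := fun _ => ℕ) (e6_0) (e6_1) (Nat.ble 1 b)) (Bool.rec (motive := fun _ => ℕ) (e6_2) (e6_3) (Nat.ble 3 b)) (Nat.ble 2 b)) (Bool.rec (motive := fun _ => ℕ) (Bool.rec (motive := fun _ => ℕ) (e6_4) (e6_5) (Nat.ble 5 b)) (Bool.rec (motive := fun _ => ℕ) (e6_6) (e6_7) (Nat.ble 7 b)) (Nat.ble 6 b)) (Nat.ble 4 b)) (Bool.rec (motive := fun _ => ℕ) (Bool.rec (motive := fun _ => ℕ) (Bool.rec (motive := fun _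 => ℕ) (e6_8) (e6_9) (Nat.ble 9 b)) (Bool.rec (motive := fun _ => ℕ) (e6_10) (e6_11) (Nat.ble 11 b)) (Nat.ble 10 b)) (Bool.rec (motive := fun _ => ℕ) (Bool.rec (motive := fun _ => ℕ) (e6_12) (e6_13) (Nat.ble 13 b)) (Bool.rec (motive := fun _ => ℕ) (e6_14) (e6_15) (Nat.ble 15 b)) (Nat.ble 14 b)) (Nat.ble 12 b)) (Nat.ble 8 b)) (Bool.rec (motive := fun _ => ℕ) (Bool.rec (motive := fun _ => ℕ) (Bool.rec (motive := fun _ => ℕ) (Bool.rec (motive := fun _ => ℕ) (e6_16) (e6_17) (Nat.ble 17 b)) (Bool.rec (motive := fun _ => ℕ) (e6_18) (e6_19) (Nat.ble 19 b)) (Nat.ble 18 b)) (Bool.rec (motive := fun _ => ℕ) (Bool.rec (motive := fun _ => ℕ) (e6_20) (e6_21) (Nat.ble 21 b)) (Bool.rec (motive := fun _ => ℕ) (e6_22) (e6_23) (Nat.ble 23 b)) (Nat.ble 22 b)) (Nat.ble 20 b)) (Bool.rec (motive :=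 fun _ => ℕ) (Bool.rec (motive := fun _ => ℕ) (Bool.rec (motive := fun _ => ℕ) (e6_24) (e6_25) (Nat.ble 25 b)) (Bool.rec (motive := fun _ => ℕ) (e6_26) (e6_27) (Nat.ble 27 b)) (Nat.ble 26 b)) (Bool.rec (motive := fun _ => ℕ) (Bool.rec (motive := fun _ => ℕ) (e6_28) (e6_29) (Nat.ble 29 b)) (Bool.rec (motive := fun _ => ℕ) (e6_30) (e6_31) (Nat.ble 31 b)) (Nat.ble 30 b)) (Nat.ble 28 b)) (Nat.ble 24 b)) (Nat.ble 16 b)) (Bool.rec (motive := fun _ => ℕ) (Bool.rec (motive := fun _ => ℕ) (Bool.rec (motive := fun _ => ℕ) (Bool.rec (motive := fun _ => ℕ) (Bool.rec (motive := fun _ => ℕ) (e6_32) (e6_33) (Nat.ble 33 b)) (Bool.rec (motive := fun _ => ℕ) (e6_34) (e6_35) (Nat.ble 35 b)) (Nat.ble 34 b)) (Bool.rec (motive := fun _ => ℕ) (Bool.rec (motive := fun _ => ℕ) (e6_36) (e6_37) (Nat.ble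 37 b)) (Bool.rec (motive := fun _ => ℕ) (e6_38) (e6_39) (Nat.ble 39 b)) (Nat.ble 38 b)) (Nat.ble 36 b)) (Bool.rec (motive := fun _ => ℕ) (Bool.rec (motive := fun _ => ℕ) (Bool.rec (motive := fun _ => ℕ) (e6_40) (e6_41) (Nat.ble 41 b)) (Bool.rec (motive := fun _ => ℕ) (e6_42) (e6_43) (Nat.ble 43 b)) (Nat.ble 42 b)) (Bool.rec (motive := fun _ => ℕ) (Bool.rec (motive := fun _ => ℕ) (e6_44) (e6_45) (Nat.ble 45 b)) (Bool.rec (motive := fun _ => ℕ) (e6_46) (e6_47) (Nat.ble 47 b)) (Nat.ble 46 b)) (Nat.ble 44 b)) (Nat.ble 40 b)) (Bool.rec (motive := fun _ => ℕ) (Bool.rec (motive := fun _ => ℕ) (Bool.rec (motive := fun _ => ℕ) (Bool.rec (motive := fun _ => ℕ) (e6_48) (e6_49) (Nat.ble 49 b)) (Bool.rec (motive := fun _ => ℕ) (e6_50) (e6_51) (Nat.ble 51 b)) (Nat.ble 50 b)) (Bool.rec (motive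 := fun _ => ℕ) (Bool.rec (motive := fun _ => ℕ) (e6_52) (0) (Nat.ble 53 b)) (0) (Nat.ble 54 b)) (Nat.ble 52 b)) (0) (Nat.ble 56 b)) (Nat.ble 48 b)) (Nat.ble 32 b))
noncomputable def jcol6 (b : ℕ) : ℕ := (Bool.rec (motive := fun _ => ℕ) (Bool.rec (motive := fun _ => ℕ) (Bool.rec (motive := fun _ => ℕ) (Bool.rec (motive := fun _ => ℕ) (Bool.rec (motive := fun _ => ℕ) (Bool.rec (motive := fun _ => ℕ) (j6_0) (j6_1) (Nat.ble 1 b)) (Bool.rec (motive := fun _ => ℕ) (j6_2) (j6_3) (Nat.ble 3 b)) (Nat.ble 2 b)) (Bool.rec (motive := fun _ => ℕ) (Bool.rec (motive := fun _ => ℕ) (j6_4) (j6_5) (Nat.ble 5 b)) (Bool.rec (motive := fun _ => ℕ) (j6_6) (j6_7) (Nat.ble 7 b)) (Nat.ble 6 b)) (Nat.ble 4 b)) (Bool.rec (motive := fun _ => ℕ) (Bool.rec (motive := fun _ => ℕ) (Bool.rec (motive := fun _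 => ℕ) (j6_8) (j6_9) (Nat.ble 9 b)) (Bool.rec (motive := fun _ => ℕ) (j6_10) (j6_11) (Nat.ble 11 b)) (Nat.ble 10 b)) (Bool.rec (motive := fun _ => ℕ) (Bool.rec (motive := fun _ => ℕ) (j6_12) (j6_13) (Nat.ble 13 b)) (Bool.rec (motive := fun _ => ℕ) (j6_14) (j6_15) (Nat.ble 15 b)) (Nat.ble 14 b)) (Nat.ble 12 b)) (Nat.ble 8 b)) (Bool.rec (motive := fun _ => ℕ) (Bool.rec (motive := fun _ => ℕ) (Bool.rec (motive := fun _ => ℕ) (Bool.rec (motive := fun _ => ℕ) (j6_16) (j6_17) (Nat.ble 17 b)) (Bool.rec (motive := fun _ => ℕ) (j6_18) (j6_19) (Nat.ble 19 b)) (Nat.ble 18 b)) (Bool.rec (motive := fun _ => ℕ) (Bool.rec (motive := fun _ => ℕ) (j6_20) (j6_21) (Nat.ble 21 b)) (Bool.rec (motive := fun _ => ℕ) (j6_22) (j6_23) (Nat.ble 23 b)) (Nat.ble 22 b)) (Nat.ble 20 b)) (Bool.rec (motive :=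 fun _ => ℕ) (Bool.rec (motive := fun _ => ℕ) (Bool.rec (motive := fun _ => ℕ) (j6_24) (j6_25) (Nat.ble 25 b)) (Bool.rec (motive := fun _ => ℕ) (j6_26) (j6_27) (Nat.ble 27 b)) (Nat.ble 26 b)) (Bool.rec (motive := fun _ => ℕ) (Bool.rec (motive := fun _ => ℕ) (j6_28) (j6_29) (Nat.ble 29 b)) (Bool.rec (motive := fun _ => ℕ) (j6_30) (j6_31) (Nat.ble 31 b)) (Nat.ble 30 b)) (Nat.ble 28 b)) (Nat.ble 24 b)) (Nat.ble 16 b)) (Bool.rec (motive := fun _ => ℕ) (Bool.rec (motive := fun _ => ℕ) (Bool.rec (motive := fun _ => ℕ) (Bool.rec (motive := fun _ => ℕ) (Bool.rec (motive := fun _ => ℕ) (j6_32) (j6_33) (Nat.ble 33 b)) (Bool.rec (motive := fun _ => ℕ) (j6_34) (j6_35) (Nat.ble 35 b)) (Nat.ble 34 b)) (Bool.rec (motive := fun _ => ℕ) (Bool.rec (motive := fun _ => ℕ) (j6_36) (j6_37) (Nat.ble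 37 b)) (Bool.rec (motive := fun _ => ℕ) (j6_38) (j6_39) (Nat.ble 39 b)) (Nat.ble 38 b)) (Nat.ble 36 b)) (Bool.rec (motive := fun _ => ℕ) (Bool.rec (motive := fun _ => ℕ) (Bool.rec (motive := fun _ => ℕ) (j6_40) (j6_41) (Nat.ble 41 b)) (Bool.rec (motive := fun _ => ℕ) (j6_42) (j6_43) (Nat.ble 43 b)) (Nat.ble 42 b)) (Bool.rec (motive := fun _ => ℕ) (Bool.rec (motive := fun _ => ℕ) (j6_44) (j6_45) (Nat.ble 45 b)) (Bool.rec (motive := fun _ => ℕ) (j6_46) (j6_47) (Nat.ble 47 b)) (Nat.ble 46 b)) (Nat.ble 44 b)) (Nat.ble 40 b)) (Bool.rec (motive := fun _ => ℕ) (Bool.rec (motive := fun _ => ℕ) (Bool.rec (motive := fun _ => ℕ) (Bool.rec (motive := fun _ => ℕ) (j6_48) (j6_49) (Nat.ble 49 b)) (Bool.rec (motive := fun _ => ℕ) (j6_50) (j6_51) (Nat.ble 51 b)) (Nat.ble 50 b)) (Bool.rec (motive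 := fun _ => ℕ) (Bool.rec (motive := fun _ => ℕ) (j6_52) (0) (Nat.ble 53 b)) (0) (Nat.ble 54 b)) (Nat.ble 52 b)) (0) (Nat.ble 56 b)) (Nat.ble 48 b)) (Nat.ble 32 b))
noncomputable def ecol7 (b : ℕ) : ℕ := (Bool.rec (motive := fun _ => ℕ) (Bool.rec (motive := fun _ => ℕ) (Bool.rec (motive := fun _ => ℕ) (Bool.rec (motive := fun _ => ℕ) (Bool.rec (motive := fun _ => ℕ) (Bool.rec (motive := fun _ => ℕ) (e7_0) (e7_1) (Nat.ble 1 b)) (Bool.rec (motive := fun _ => ℕ) (e7_2) (e7_3) (Nat.ble 3 b)) (Nat.ble 2 b)) (Bool.rec (motive := fun _ => ℕ) (Bool.rec (motive := fun _ => ℕ) (e7_4) (e7_5) (Nat.ble 5 b)) (Bool.rec (motive := fun _ => ℕ) (e7_6) (e7_7) (Nat.ble 7 b)) (Nat.ble 6 b)) (Nat.ble 4 b)) (Bool.rec (motive := fun _ => ℕ) (Bool.rec (motive := fun _ => ℕ) (Bool.rec (motive := fun _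 => ℕ) (e7_8) (e7_9) (Nat.ble 9 b)) (Bool.rec (motive := fun _ => ℕ) (e7_10) (e7_11) (Nat.ble 11 b)) (Nat.ble 10 b)) (Bool.rec (motive := fun _ => ℕ) (Bool.rec (motive := fun _ => ℕ) (e7_12) (e7_13) (Nat.ble 13 b)) (Bool.rec (motive := fun _ => ℕ) (e7_14) (e7_15) (Nat.ble 15 b)) (Nat.ble 14 b)) (Nat.ble 12 b)) (Nat.ble 8 b)) (Bool.rec (motive := fun _ => ℕ) (Bool.rec (motive := fun _ => ℕ) (Bool.rec (motive := fun _ => ℕ) (Bool.rec (motive := fun _ => ℕ) (e7_16) (e7_17) (Nat.ble 17 b)) (Bool.rec (motive := fun _ => ℕ) (e7_18) (e7_19) (Nat.ble 19 b)) (Nat.ble 18 b)) (Bool.rec (motive := fun _ => ℕ) (Bool.rec (motive := fun _ => ℕ) (e7_20) (e7_21) (Nat.ble 21 b)) (Bool.rec (motive := fun _ => ℕ) (e7_22) (e7_23) (Nat.ble 23 b)) (Nat.ble 22 b)) (Nat.ble 20 b)) (Bool.rec (motive :=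 fun _ => ℕ) (Bool.rec (motive := fun _ => ℕ) (Bool.rec (motive := fun _ => ℕ) (e7_24) (e7_25) (Nat.ble 25 b)) (Bool.rec (motive := fun _ => ℕ) (e7_26) (e7_27) (Nat.ble 27 b)) (Nat.ble 26 b)) (Bool.rec (motive := fun _ => ℕ) (Bool.rec (motive := fun _ => ℕ) (e7_28) (e7_29) (Nat.ble 29 b)) (Bool.rec (motive := fun _ => ℕ) (e7_30) (e7_31) (Nat.ble 31 b)) (Nat.ble 30 b)) (Nat.ble 28 b)) (Nat.ble 24 b)) (Nat.ble 16 b)) (Bool.rec (motive := fun _ => ℕ) (Bool.rec (motive := fun _ => ℕ) (Bool.rec (motive := fun _ => ℕ) (Bool.rec (motive := fun _ => ℕ) (Bool.rec (motive := fun _ => ℕ) (e7_32) (e7_33) (Nat.ble 33 b)) (Bool.rec (motive := fun _ => ℕ) (e7_34) (e7_35) (Nat.ble 35 b)) (Nat.ble 34 b)) (Bool.rec (motive := fun _ => ℕ) (Bool.rec (motive := fun _ => ℕ) (e7_36) (e7_37) (Nat.ble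 37 b)) (Bool.rec (motive := fun _ => ℕ) (e7_38) (e7_39) (Nat.ble 39 b)) (Nat.ble 38 b)) (Nat.ble 36 b)) (Bool.rec (motive := fun _ => ℕ) (Bool.rec (motive := fun _ => ℕ) (Bool.rec (motive := fun _ => ℕ) (e7_40) (e7_41) (Nat.ble 41 b)) (Bool.rec (motive := fun _ => ℕ) (e7_42) (e7_43) (Nat.ble 43 b)) (Nat.ble 42 b)) (Bool.rec (motive := fun _ => ℕ) (Bool.rec (motive := fun _ => ℕ) (e7_44) (e7_45) (Nat.ble 45 b)) (Bool.rec (motive := fun _ => ℕ) (e7_46) (e7_47) (Nat.ble 47 b)) (Nat.ble 46 b)) (Nat.ble 44 b)) (Nat.ble 40 b)) (Bool.rec (motive := fun _ => ℕ) (Bool.rec (motive := fun _ => ℕ) (Bool.rec (motive := fun _ => ℕ) (Bool.rec (motive := fun _ => ℕ) (e7_48) (e7_49) (Nat.ble 49 b)) (Bool.rec (motive := fun _ => ℕ) (e7_50) (e7_51) (Nat.ble 51 b)) (Nat.ble 50 b)) (Bool.rec (motive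 := fun _ => ℕ) (Bool.rec (motive := fun _ => ℕ) (e7_52) (0) (Nat.ble 53 b)) (0) (Nat.ble 54 b)) (Nat.ble 52 b)) (0) (Nat.ble 56 b)) (Nat.ble 48 b)) (Nat.ble 32 b))
noncomputable def jcol7 (b : ℕ) : ℕ := (Bool.rec (motive := fun _ => ℕ) (Bool.rec (motive := fun _ => ℕ) (Bool.rec (motive := fun _ => ℕ) (Bool.rec (motive := fun _ => ℕ) (Bool.rec (motive := fun _ => ℕ) (Bool.rec (motive := fun _ => ℕ) (j7_0) (j7_1) (Nat.ble 1 b)) (Bool.rec (motive := fun _ => ℕ) (j7_2) (j7_3) (Nat.ble 3 b)) (Nat.ble 2 b)) (Bool.rec (motive := fun _ => ℕ) (Bool.rec (motive := fun _ => ℕ) (j7_4) (j7_5) (Nat.ble 5 b)) (Bool.rec (motive := fun _ => ℕ) (j7_6) (j7_7) (Nat.ble 7 b)) (Nat.ble 6 b)) (Nat.ble 4 b)) (Bool.rec (motive := fun _ => ℕ) (Bool.rec (motive := fun _ => ℕ) (Bool.rec (motive := fun _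 => ℕ) (j7_8) (j7_9) (Nat.ble 9 b)) (Bool.rec (motive := fun _ => ℕ) (j7_10) (j7_11) (Nat.ble 11 b)) (Nat.ble 10 b)) (Bool.rec (motive := fun _ => ℕ) (Bool.rec (motive := fun _ => ℕ) (j7_12) (j7_13) (Nat.ble 13 b)) (Bool.rec (motive := fun _ => ℕ) (j7_14) (j7_15) (Nat.ble 15 b)) (Nat.ble 14 b)) (Nat.ble 12 b)) (Nat.ble 8 b)) (Bool.rec (motive := fun _ => ℕ) (Bool.rec (motive := fun _ => ℕ) (Bool.rec (motive := fun _ => ℕ) (Bool.rec (motive := fun _ => ℕ) (j7_16) (j7_17) (Nat.ble 17 b)) (Bool.rec (motive := fun _ => ℕ) (j7_18) (j7_19) (Nat.ble 19 b)) (Nat.ble 18 b)) (Bool.rec (motive := fun _ => ℕ) (Bool.rec (motive := fun _ => ℕ) (j7_20) (j7_21) (Nat.ble 21 b)) (Bool.rec (motive := fun _ => ℕ) (j7_22) (j7_23) (Nat.ble 23 b)) (Nat.ble 22 b)) (Nat.ble 20 b)) (Bool.rec (motive :=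 fun _ => ℕ) (Bool.rec (motive := fun _ => ℕ) (Bool.rec (motive := fun _ => ℕ) (j7_24) (j7_25) (Nat.ble 25 b)) (Bool.rec (motive := fun _ => ℕ) (j7_26) (j7_27) (Nat.ble 27 b)) (Nat.ble 26 b)) (Bool.rec (motive := fun _ => ℕ) (Bool.rec (motive := fun _ => ℕ) (j7_28) (j7_29) (Nat.ble 29 b)) (Bool.rec (motive := fun _ => ℕ) (j7_30) (j7_31) (Nat.ble 31 b)) (Nat.ble 30 b)) (Nat.ble 28 b)) (Nat.ble 24 b)) (Nat.ble 16 b)) (Bool.rec (motive := fun _ => ℕ) (Bool.rec (motive := fun _ => ℕ) (Bool.rec (motive := fun _ => ℕ) (Bool.rec (motive := fun _ => ℕ) (Bool.rec (motive := fun _ => ℕ) (j7_32) (j7_33) (Nat.ble 33 b)) (Bool.rec (motive := fun _ => ℕ) (j7_34) (j7_35) (Nat.ble 35 b)) (Nat.ble 34 b)) (Bool.rec (motive := fun _ => ℕ) (Bool.rec (motive := fun _ => ℕ) (j7_36) (j7_37) (Nat.ble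 37 b)) (Bool.rec (motive := fun _ => ℕ) (j7_38) (j7_39) (Nat.ble 39 b)) (Nat.ble 38 b)) (Nat.ble 36 b)) (Bool.rec (motive := fun _ => ℕ) (Bool.rec (motive := fun _ => ℕ) (Bool.rec (motive := fun _ => ℕ) (j7_40) (j7_41) (Nat.ble 41 b)) (Bool.rec (motive := fun _ => ℕ) (j7_42) (j7_43) (Nat.ble 43 b)) (Nat.ble 42 b)) (Bool.rec (motive := fun _ => ℕ) (Bool.rec (motive := fun _ => ℕ) (j7_44) (j7_45) (Nat.ble 45 b)) (Bool.rec (motive := fun _ => ℕ) (j7_46) (j7_47) (Nat.ble 47 b)) (Nat.ble 46 b)) (Nat.ble 44 b)) (Nat.ble 40 b)) (Bool.rec (motive := fun _ => ℕ) (Bool.rec (motive := fun _ => ℕ) (Bool.rec (motive := fun _ => ℕ) (Bool.rec (motive := fun _ => ℕ) (j7_48) (j7_49) (Nat.ble 49 b)) (Bool.rec (motive := fun _ => ℕ) (j7_50) (j7_51) (Nat.ble 51 b)) (Nat.ble 50 b)) (Bool.rec (motive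 := fun _ => ℕ) (Bool.rec (motive := fun _ => ℕ) (j7_52) (0) (Nat.ble 53 b)) (0) (Nat.ble 54 b)) (Nat.ble 52 b)) (0) (Nat.ble 56 b)) (Nat.ble 48 b)) (Nat.ble 32 b))
noncomputable def ecol8 (b : ℕ) : ℕ := (Bool.rec (motive := fun _ => ℕ) (Bool.rec (motive := fun _ => ℕ) (Bool.rec (motive := fun _ => ℕ) (Bool.rec (motive := fun _ => ℕ) (Bool.rec (motive := fun _ => ℕ) (Bool.rec (motive := fun _ => ℕ) (e8_0) (e8_1) (Nat.ble 1 b)) (Bool.rec (motive := fun _ => ℕ) (e8_2) (e8_3) (Nat.ble 3 b)) (Nat.ble 2 b)) (Bool.rec (motive := fun _ => ℕ) (Bool.rec (motive := fun _ => ℕ) (e8_4) (e8_5) (Nat.ble 5 b)) (Bool.rec (motive := fun _ => ℕ) (e8_6) (e8_7) (Nat.ble 7 b)) (Nat.ble 6 b)) (Nat.ble 4 b)) (Bool.rec (motive := fun _ => ℕ) (Bool.rec (motive := fun _ => ℕ) (Bool.rec (motive := fun _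 => ℕ) (e8_8) (e8_9) (Nat.ble 9 b)) (Bool.rec (motive := fun _ => ℕ) (e8_10) (e8_11) (Nat.ble 11 b)) (Nat.ble 10 b)) (Bool.rec (motive := fun _ => ℕ) (Bool.rec (motive := fun _ => ℕ) (e8_12) (e8_13) (Nat.ble 13 b)) (Bool.rec (motive := fun _ => ℕ) (e8_14) (e8_15) (Nat.ble 15 b)) (Nat.ble 14 b)) (Nat.ble 12 b)) (Nat.ble 8 b)) (Bool.rec (motive := fun _ => ℕ) (Bool.rec (motive := fun _ => ℕ) (Bool.rec (motive := fun _ => ℕ) (Bool.rec (motive := fun _ => ℕ) (e8_16) (e8_17) (Nat.ble 17 b)) (Bool.rec (motive := fun _ => ℕ) (e8_18) (e8_19) (Nat.ble 19 b)) (Nat.ble 18 b)) (Bool.rec (motive := fun _ => ℕ) (Bool.rec (motive := fun _ => ℕ) (e8_20) (e8_21) (Nat.ble 21 b)) (Bool.rec (motive := fun _ => ℕ) (e8_22) (e8_23) (Nat.ble 23 b)) (Nat.ble 22 b)) (Nat.ble 20 b)) (Bool.rec (motive :=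 fun _ => ℕ) (Bool.rec (motive := fun _ => ℕ) (Bool.rec (motive := fun _ => ℕ) (e8_24) (e8_25) (Nat.ble 25 b)) (Bool.rec (motive := fun _ => ℕ) (e8_26) (e8_27) (Nat.ble 27 b)) (Nat.ble 26 b)) (Bool.rec (motive := fun _ => ℕ) (Bool.rec (motive := fun _ => ℕ) (e8_28) (e8_29) (Nat.ble 29 b)) (Bool.rec (motive := fun _ => ℕ) (e8_30) (e8_31) (Nat.ble 31 b)) (Nat.ble 30 b)) (Nat.ble 28 b)) (Nat.ble 24 b)) (Nat.ble 16 b)) (Bool.rec (motive := fun _ => ℕ) (Bool.rec (motive := fun _ => ℕ) (Bool.rec (motive := fun _ => ℕ) (Bool.rec (motive := fun _ => ℕ) (Bool.rec (motive := fun _ => ℕ) (e8_32) (e8_33) (Nat.ble 33 b)) (Bool.rec (motive := fun _ => ℕ) (e8_34) (e8_35) (Nat.ble 35 b)) (Nat.ble 34 b)) (Bool.rec (motive := fun _ => ℕ) (Bool.rec (motive := fun _ => ℕ) (e8_36) (e8_37) (Nat.ble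 37 b)) (Bool.rec (motive := fun _ => ℕ) (e8_38) (e8_39) (Nat.ble 39 b)) (Nat.ble 38 b)) (Nat.ble 36 b)) (Bool.rec (motive := fun _ => ℕ) (Bool.rec (motive := fun _ => ℕ) (Bool.rec (motive := fun _ => ℕ) (e8_40) (e8_41) (Nat.ble 41 b)) (Bool.rec (motive := fun _ => ℕ) (e8_42) (e8_43) (Nat.ble 43 b)) (Nat.ble 42 b)) (Bool.rec (motive := fun _ => ℕ) (Bool.rec (motive := fun _ => ℕ) (e8_44) (e8_45) (Nat.ble 45 b)) (Bool.rec (motive := fun _ => ℕ) (e8_46) (e8_47) (Nat.ble 47 b)) (Nat.ble 46 b)) (Nat.ble 44 b)) (Nat.ble 40 b)) (Bool.rec (motive := fun _ => ℕ) (Bool.rec (motive := fun _ => ℕ) (Bool.rec (motive := fun _ => ℕ) (Bool.rec (motive := fun _ => ℕ) (e8_48) (e8_49) (Nat.ble 49 b)) (Bool.rec (motive := fun _ => ℕ) (e8_50) (e8_51) (Nat.ble 51 b)) (Nat.ble 50 b)) (Bool.rec (motive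 := fun _ => ℕ) (Bool.rec (motive := fun _ => ℕ) (e8_52) (0) (Nat.ble 53 b)) (0) (Nat.ble 54 b)) (Nat.ble 52 b)) (0) (Nat.ble 56 b)) (Nat.ble 48 b)) (Nat.ble 32 b))
noncomputable def jcol8 (b : ℕ) : ℕ := (Bool.rec (motive := fun _ => ℕ) (Bool.rec (motive := fun _ => ℕ) (Bool.rec (motive := fun _ => ℕ) (Bool.rec (motive := fun _ => ℕ) (Bool.rec (motive := fun _ => ℕ) (Bool.rec (motive := fun _ => ℕ) (j8_0) (j8_1) (Nat.ble 1 b)) (Bool.rec (motive := fun _ => ℕ) (j8_2) (j8_3) (Nat.ble 3 b)) (Nat.ble 2 b)) (Bool.rec (motive := fun _ => ℕ) (Bool.rec (motive := fun _ => ℕ) (j8_4) (j8_5) (Nat.ble 5 b)) (Bool.rec (motive := fun _ => ℕ) (j8_6) (j8_7) (Nat.ble 7 b)) (Nat.ble 6 b)) (Nat.ble 4 b)) (Bool.rec (motive := fun _ => ℕ) (Bool.rec (motive := fun _ => ℕ) (Bool.rec (motive := fun _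 => ℕ) (j8_8) (j8_9) (Nat.ble 9 b)) (Bool.rec (motive := fun _ => ℕ) (j8_10) (j8_11) (Nat.ble 11 b)) (Nat.ble 10 b)) (Bool.rec (motive := fun _ => ℕ) (Bool.rec (motive := fun _ => ℕ) (j8_12) (j8_13) (Nat.ble 13 b)) (Bool.rec (motive := fun _ => ℕ) (j8_14) (j8_15) (Nat.ble 15 b)) (Nat.ble 14 b)) (Nat.ble 12 b)) (Nat.ble 8 b)) (Bool.rec (motive := fun _ => ℕ) (Bool.rec (motive := fun _ => ℕ) (Bool.rec (motive := fun _ => ℕ) (Bool.rec (motive := fun _ => ℕ) (j8_16) (j8_17) (Nat.ble 17 b)) (Bool.rec (motive := fun _ => ℕ) (j8_18) (j8_19) (Nat.ble 19 b)) (Nat.ble 18 b)) (Bool.rec (motive := fun _ => ℕ) (Bool.rec (motive := fun _ => ℕ) (j8_20) (j8_21) (Nat.ble 21 b)) (Bool.rec (motive := fun _ => ℕ) (j8_22) (j8_23) (Nat.ble 23 b)) (Nat.ble 22 b)) (Nat.ble 20 b)) (Bool.rec (motive :=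 fun _ => ℕ) (Bool.rec (motive := fun _ => ℕ) (Bool.rec (motive := fun _ => ℕ) (j8_24) (j8_25) (Nat.ble 25 b)) (Bool.rec (motive := fun _ => ℕ) (j8_26) (j8_27) (Nat.ble 27 b)) (Nat.ble 26 b)) (Bool.rec (motive := fun _ => ℕ) (Bool.rec (motive := fun _ => ℕ) (j8_28) (j8_29) (Nat.ble 29 b)) (Bool.rec (motive := fun _ => ℕ) (j8_30) (j8_31) (Nat.ble 31 b)) (Nat.ble 30 b)) (Nat.ble 28 b)) (Nat.ble 24 b)) (Nat.ble 16 b)) (Bool.rec (motive := fun _ => ℕ) (Bool.rec (motive := fun _ => ℕ) (Bool.rec (motive := fun _ => ℕ) (Bool.rec (motive := fun _ => ℕ) (Bool.rec (motive := fun _ => ℕ) (j8_32) (j8_33) (Nat.ble 33 b)) (Bool.rec (motive := fun _ => ℕ) (j8_34) (j8_35) (Nat.ble 35 b)) (Nat.ble 34 b)) (Bool.rec (motive := fun _ => ℕ) (Bool.rec (motive := fun _ => ℕ) (j8_36) (j8_37) (Nat.ble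 37 b)) (Bool.rec (motive := fun _ => ℕ) (j8_38) (j8_39) (Nat.ble 39 b)) (Nat.ble 38 b)) (Nat.ble 36 b)) (Bool.rec (motive := fun _ => ℕ) (Bool.rec (motive := fun _ => ℕ) (Bool.rec (motive := fun _ => ℕ) (j8_40) (j8_41) (Nat.ble 41 b)) (Bool.rec (motive := fun _ => ℕ) (j8_42) (j8_43) (Nat.ble 43 b)) (Nat.ble 42 b)) (Bool.rec (motive := fun _ => ℕ) (Bool.rec (motive := fun _ => ℕ) (j8_44) (j8_45) (Nat.ble 45 b)) (Bool.rec (motive := fun _ => ℕ) (j8_46) (j8_47) (Nat.ble 47 b)) (Nat.ble 46 b)) (Nat.ble 44 b)) (Nat.ble 40 b)) (Bool.rec (motive := fun _ => ℕ) (Bool.rec (motive := fun _ => ℕ) (Bool.rec (motive := fun _ => ℕ) (Bool.rec (motive := fun _ => ℕ) (j8_48) (j8_49) (Nat.ble 49 b)) (Bool.rec (motive := fun _ => ℕ) (j8_50) (j8_51) (Nat.ble 51 b)) (Nat.ble 50 b)) (Bool.rec (motive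 := fun _ => ℕ) (Bool.rec (motive := fun _ => ℕ) (j8_52) (0) (Nat.ble 53 b)) (0) (Nat.ble 54 b)) (Nat.ble 52 b)) (0) (Nat.ble 56 b)) (Nat.ble 48 b)) (Nat.ble 32 b))
noncomputable def ecol9 (b : ℕ) : ℕ := (Bool.rec (motive := fun _ => ℕ) (Bool.rec (motive := fun _ => ℕ) (Bool.rec (motive := fun _ => ℕ) (Bool.rec (motive := fun _ => ℕ) (Bool.rec (motive := fun _ => ℕ) (Bool.rec (motive := fun _ => ℕ) (e9_0) (e9_1) (Nat.ble 1 b)) (Bool.rec (motive := fun _ => ℕ) (e9_2) (e9_3) (Nat.ble 3 b)) (Nat.ble 2 b)) (Bool.rec (motive := fun _ => ℕ) (Bool.rec (motive := fun _ => ℕ) (e9_4) (e9_5) (Nat.ble 5 b)) (Bool.rec (motive := fun _ => ℕ) (e9_6) (e9_7) (Nat.ble 7 b)) (Nat.ble 6 b)) (Nat.ble 4 b)) (Bool.rec (motive := fun _ => ℕ) (Bool.rec (motive := fun _ => ℕ) (Bool.rec (motive := fun _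 => ℕ) (e9_8) (e9_9) (Nat.ble 9 b)) (Bool.rec (motive := fun _ => ℕ) (e9_10) (e9_11) (Nat.ble 11 b)) (Nat.ble 10 b)) (Bool.rec (motive := fun _ => ℕ) (Bool.rec (motive := fun _ => ℕ) (e9_12) (e9_13) (Nat.ble 13 b)) (Bool.rec (motive := fun _ => ℕ) (e9_14) (e9_15) (Nat.ble 15 b)) (Nat.ble 14 b)) (Nat.ble 12 b)) (Nat.ble 8 b)) (Bool.rec (motive := fun _ => ℕ) (Bool.rec (motive := fun _ => ℕ) (Bool.rec (motive := fun _ => ℕ) (Bool.rec (motive := fun _ => ℕ) (e9_16) (e9_17) (Nat.ble 17 b)) (Bool.rec (motive := fun _ => ℕ) (e9_18) (e9_19) (Nat.ble 19 b)) (Nat.ble 18 b)) (Bool.rec (motive := fun _ => ℕ) (Bool.rec (motive := fun _ => ℕ) (e9_20) (e9_21) (Nat.ble 21 b)) (Bool.rec (motive := fun _ => ℕ) (e9_22) (e9_23) (Nat.ble 23 b)) (Nat.ble 22 b)) (Nat.ble 20 b)) (Bool.rec (motive :=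 fun _ => ℕ) (Bool.rec (motive := fun _ => ℕ) (Bool.rec (motive := fun _ => ℕ) (e9_24) (e9_25) (Nat.ble 25 b)) (Bool.rec (motive := fun _ => ℕ) (e9_26) (e9_27) (Nat.ble 27 b)) (Nat.ble 26 b)) (Bool.rec (motive := fun _ => ℕ) (Bool.rec (motive := fun _ => ℕ) (e9_28) (e9_29) (Nat.ble 29 b)) (Bool.rec (motive := fun _ => ℕ) (e9_30) (e9_31) (Nat.ble 31 b)) (Nat.ble 30 b)) (Nat.ble 28 b)) (Nat.ble 24 b)) (Nat.ble 16 b)) (Bool.rec (motive := fun _ => ℕ) (Bool.rec (motive := fun _ => ℕ) (Bool.rec (motive := fun _ => ℕ) (Bool.rec (motive := fun _ => ℕ) (Bool.rec (motive := fun _ => ℕ) (e9_32) (e9_33) (Nat.ble 33 b)) (Bool.rec (motive := fun _ => ℕ) (e9_34) (e9_35) (Nat.ble 35 b)) (Nat.ble 34 b)) (Bool.rec (motive := fun _ => ℕ) (Bool.rec (motive := fun _ => ℕ) (e9_36) (e9_37) (Nat.ble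 37 b)) (Bool.rec (motive := fun _ => ℕ) (e9_38) (e9_39) (Nat.ble 39 b)) (Nat.ble 38 b)) (Nat.ble 36 b)) (Bool.rec (motive := fun _ => ℕ) (Bool.rec (motive := fun _ => ℕ) (Bool.rec (motive := fun _ => ℕ) (e9_40) (e9_41) (Nat.ble 41 b)) (Bool.rec (motive := fun _ => ℕ) (e9_42) (e9_43) (Nat.ble 43 b)) (Nat.ble 42 b)) (Bool.rec (motive := fun _ => ℕ) (Bool.rec (motive := fun _ => ℕ) (e9_44) (e9_45) (Nat.ble 45 b)) (Bool.rec (motive := fun _ => ℕ) (e9_46) (e9_47) (Nat.ble 47 b)) (Nat.ble 46 b)) (Nat.ble 44 b)) (Nat.ble 40 b)) (Bool.rec (motive := fun _ => ℕ) (Bool.rec (motive := fun _ => ℕ) (Bool.rec (motive := fun _ => ℕ) (Bool.rec (motive := fun _ => ℕ) (e9_48) (e9_49) (Nat.ble 49 b)) (Bool.rec (motive := fun _ => ℕ) (e9_50) (e9_51) (Nat.ble 51 b)) (Nat.ble 50 b)) (Bool.rec (motive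 := fun _ => ℕ) (Bool.rec (motive := fun _ => ℕ) (e9_52) (0) (Nat.ble 53 b)) (0) (Nat.ble 54 b)) (Nat.ble 52 b)) (0) (Nat.ble 56 b)) (Nat.ble 48 b)) (Nat.ble 32 b))
noncomputable def jcol9 (b : ℕ) : ℕ := (Bool.rec (motive := fun _ => ℕ) (Bool.rec (motive := fun _ => ℕ) (Bool.rec (motive := fun _ => ℕ) (Bool.rec (motive := fun _ => ℕ) (Bool.rec (motive := fun _ => ℕ) (Bool.rec (motive := fun _ => ℕ) (j9_0) (j9_1) (Nat.ble 1 b)) (Bool.rec (motive := fun _ => ℕ) (j9_2) (j9_3) (Nat.ble 3 b)) (Nat.ble 2 b)) (Bool.rec (motive := fun _ => ℕ) (Bool.rec (motive := fun _ => ℕ) (j9_4) (j9_5) (Nat.ble 5 b)) (Bool.rec (motive := fun _ => ℕ) (j9_6) (j9_7) (Nat.ble 7 b)) (Nat.ble 6 b)) (Nat.ble 4 b)) (Bool.rec (motive := fun _ => ℕ) (Bool.rec (motive := fun _ => ℕ) (Bool.rec (motive := fun _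 => ℕ) (j9_8) (j9_9) (Nat.ble 9 b)) (Bool.rec (motive := fun _ => ℕ) (j9_10) (j9_11) (Nat.ble 11 b)) (Nat.ble 10 b)) (Bool.rec (motive := fun _ => ℕ) (Bool.rec (motive := fun _ => ℕ) (j9_12) (j9_13) (Nat.ble 13 b)) (Bool.rec (motive := fun _ => ℕ) (j9_14) (j9_15) (Nat.ble 15 b)) (Nat.ble 14 b)) (Nat.ble 12 b)) (Nat.ble 8 b)) (Bool.rec (motive := fun _ => ℕ) (Bool.rec (motive := fun _ => ℕ) (Bool.rec (motive := fun _ => ℕ) (Bool.rec (motive := fun _ => ℕ) (j9_16) (j9_17) (Nat.ble 17 b)) (Bool.rec (motive := fun _ => ℕ) (j9_18) (j9_19) (Nat.ble 19 b)) (Nat.ble 18 b)) (Bool.rec (motive := fun _ => ℕ) (Bool.rec (motive := fun _ => ℕ) (j9_20) (j9_21) (Nat.ble 21 b)) (Bool.rec (motive := fun _ => ℕ) (j9_22) (j9_23) (Nat.ble 23 b)) (Nat.ble 22 b)) (Nat.ble 20 b)) (Bool.rec (motive :=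 fun _ => ℕ) (Bool.rec (motive := fun _ => ℕ) (Bool.rec (motive := fun _ => ℕ) (j9_24) (j9_25) (Nat.ble 25 b)) (Bool.rec (motive := fun _ => ℕ) (j9_26) (j9_27) (Nat.ble 27 b)) (Nat.ble 26 b)) (Bool.rec (motive := fun _ => ℕ) (Bool.rec (motive := fun _ => ℕ) (j9_28) (j9_29) (Nat.ble 29 b)) (Bool.rec (motive := fun _ => ℕ) (j9_30) (j9_31) (Nat.ble 31 b)) (Nat.ble 30 b)) (Nat.ble 28 b)) (Nat.ble 24 b)) (Nat.ble 16 b)) (Bool.rec (motive := fun _ => ℕ) (Bool.rec (motive := fun _ => ℕ) (Bool.rec (motive := fun _ => ℕ) (Bool.rec (motive := fun _ => ℕ) (Bool.rec (motive := fun _ => ℕ) (j9_32) (j9_33) (Nat.ble 33 b)) (Bool.rec (motive := fun _ => ℕ) (j9_34) (j9_35) (Nat.ble 35 b)) (Nat.ble 34 b)) (Bool.rec (motive := fun _ => ℕ) (Bool.rec (motive := fun _ => ℕ) (j9_36) (j9_37) (Nat.ble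 37 b)) (Bool.rec (motive := fun _ => ℕ) (j9_38) (j9_39) (Nat.ble 39 b)) (Nat.ble 38 b)) (Nat.ble 36 b)) (Bool.rec (motive := fun _ => ℕ) (Bool.rec (motive := fun _ => ℕ) (Bool.rec (motive := fun _ => ℕ) (j9_40) (j9_41) (Nat.ble 41 b)) (Bool.rec (motive := fun _ => ℕ) (j9_42) (j9_43) (Nat.ble 43 b)) (Nat.ble 42 b)) (Bool.rec (motive := fun _ => ℕ) (Bool.rec (motive := fun _ => ℕ) (j9_44) (j9_45) (Nat.ble 45 b)) (Bool.rec (motive := fun _ => ℕ) (j9_46) (j9_47) (Nat.ble 47 b)) (Nat.ble 46 b)) (Nat.ble 44 b)) (Nat.ble 40 b)) (Bool.rec (motive := fun _ => ℕ) (Bool.rec (motive := fun _ => ℕ) (Bool.rec (motive := fun _ => ℕ) (Bool.rec (motive := fun _ => ℕ) (j9_48) (j9_49) (Nat.ble 49 b)) (Bool.rec (motive := fun _ => ℕ) (j9_50) (j9_51) (Nat.ble 51 b)) (Nat.ble 50 b)) (Bool.rec (motive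 := fun _ => ℕ) (Bool.rec (motive := fun _ => ℕ) (j9_52) (0) (Nat.ble 53 b)) (0) (Nat.ble 54 b)) (Nat.ble 52 b)) (0) (Nat.ble 56 b)) (Nat.ble 48 b)) (Nat.ble 32 b))
noncomputable def ecol10 (b : ℕ) : ℕ := (Bool.rec (motive := fun _ => ℕ) (Bool.rec (motive := fun _ => ℕ) (Bool.rec (motive := fun _ => ℕ) (Bool.rec (motive := fun _ => ℕ) (Bool.rec (motive := fun _ => ℕ) (Bool.rec (motive := fun _ => ℕ) (e10_0) (e10_1) (Nat.ble 1 b)) (Bool.rec (motive := fun _ => ℕ) (e10_2) (e10_3) (Nat.ble 3 b)) (Nat.ble 2 b)) (Bool.rec (motive := fun _ => ℕ) (Bool.rec (motive := fun _ => ℕ) (e10_4) (e10_5) (Nat.ble 5 b)) (Bool.rec (motive := fun _ => ℕ) (e10_6) (e10_7) (Nat.ble 7 b)) (Nat.ble 6 b)) (Nat.ble 4 b)) (Bool.rec (motive := fun _ => ℕ) (Bool.rec (motive := fun _ => ℕ) (Bool.rec (motive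 := fun _ => ℕ) (e10_8) (e10_9) (Nat.ble 9 b)) (Bool.rec (motive := fun _ => ℕ) (e10_10) (e10_11) (Nat.ble 11 b)) (Nat.ble 10 b)) (Bool.rec (motive := fun _ => ℕ) (Bool.rec (motive := fun _ => ℕ) (e10_12) (e10_13) (Nat.ble 13 b)) (Bool.rec (motive := fun _ => ℕ) (e10_14) (e10_15) (Nat.ble 15 b)) (Nat.ble 14 b)) (Nat.ble 12 b)) (Nat.ble 8 b)) (Bool.rec (motive := fun _ => ℕ) (Bool.rec (motive := fun _ => ℕ) (Bool.rec (motive := fun _ => ℕ) (Bool.rec (motive := fun _ => ℕ) (e10_16) (e10_17) (Nat.ble 17 b)) (Bool.rec (motive := fun _ => ℕ) (e10_18) (e10_19) (Nat.ble 19 b)) (Nat.ble 18 b)) (Bool.rec (motive := fun _ => ℕ) (Bool.rec (motive := fun _ => ℕ) (e10_20) (e10_21) (Nat.ble 21 b)) (Bool.rec (motive := fun _ => ℕ) (e10_22) (e10_23) (Nat.ble 23 b)) (Nat.ble 22 b)) (Nat.ble 20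 b)) (Bool.rec (motive := fun _ => ℕ) (Bool.rec (motive := fun _ => ℕ) (Bool.rec (motive := fun _ => ℕ) (e10_24) (e10_25) (Nat.ble 25 b)) (Bool.rec (motive := fun _ => ℕ) (e10_26) (e10_27) (Nat.ble 27 b)) (Nat.ble 26 b)) (Bool.rec (motive := fun _ => ℕ) (Bool.rec (motive := fun _ => ℕ) (e10_28) (e10_29) (Nat.ble 29 b)) (Bool.rec (motive := fun _ => ℕ) (e10_30) (e10_31) (Nat.ble 31 b)) (Nat.ble 30 b)) (Nat.ble 28 b)) (Nat.ble 24 b)) (Nat.ble 16 b)) (Bool.rec (motive := fun _ => ℕ) (Bool.rec (motive := fun _ => ℕ) (Bool.rec (motive := fun _ => ℕ) (Bool.rec (motive := fun _ => ℕ) (Bool.rec (motive := fun _ => ℕ) (e10_32) (e10_33) (Nat.ble 33 b)) (Bool.rec (motive := fun _ => ℕ) (e10_34) (e10_35) (Nat.ble 35 b)) (Nat.ble 34 b)) (Bool.rec (motive := fun _ => ℕ) (Bool.rec (motive :=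 fun _ => ℕ) (e10_36) (e10_37) (Nat.ble 37 b)) (Bool.rec (motive := fun _ => ℕ) (e10_38) (e10_39) (Nat.ble 39 b)) (Nat.ble 38 b)) (Nat.ble 36 b)) (Bool.rec (motive := fun _ => ℕ) (Bool.rec (motive := fun _ => ℕ) (Bool.rec (motive := fun _ => ℕ) (e10_40) (e10_41) (Nat.ble 41 b)) (Bool.rec (motive := fun _ => ℕ) (e10_42) (e10_43) (Nat.ble 43 b)) (Nat.ble 42 b)) (Bool.rec (motive := fun _ => ℕ) (Bool.rec (motive := fun _ => ℕ) (e10_44) (e10_45) (Nat.ble 45 b)) (Bool.rec (motive := fun _ => ℕ) (e10_46) (e10_47) (Nat.ble 47 b)) (Nat.ble 46 b)) (Nat.ble 44 b)) (Nat.ble 40 b)) (Bool.rec (motive := fun _ => ℕ) (Bool.rec (motive := fun _ => ℕ) (Bool.rec (motive := fun _ => ℕ) (Bool.rec (motive := fun _ => ℕ) (e10_48) (e10_49) (Nat.ble 49 b)) (Bool.rec (motive := fun _ => ℕ) (e10_50) (e10_51)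 (Nat.ble 51 b)) (Nat.ble 50 b)) (Bool.rec (motive := fun _ => ℕ) (Bool.rec (motive := fun _ => ℕ) (e10_52) (0) (Nat.ble 53 b)) (0) (Nat.ble 54 b)) (Nat.ble 52 b)) (0) (Nat.ble 56 b)) (Nat.ble 48 b)) (Nat.ble 32 b))
noncomputable def jcol10 (b : ℕ) : ℕ := (Bool.rec (motive := fun _ => ℕ) (Bool.rec (motive := fun _ => ℕ) (Bool.rec (motive := fun _ => ℕ) (Bool.rec (motive := fun _ => ℕ) (Bool.rec (motive := fun _ => ℕ) (Bool.rec (motive := fun _ => ℕ) (j10_0) (j10_1) (Nat.ble 1 b)) (Bool.rec (motive := fun _ => ℕ) (j10_2) (j10_3) (Nat.ble 3 b)) (Nat.ble 2 b)) (Bool.rec (motive := fun _ => ℕ) (Bool.rec (motive := fun _ => ℕ) (j10_4) (j10_5) (Nat.ble 5 b)) (Bool.rec (motive := fun _ => ℕ) (j10_6) (j10_7) (Nat.ble 7 b)) (Nat.ble 6 b)) (Nat.ble 4 b)) (Bool.rec (motive := fun _ => ℕ)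 (Bool.rec (motive := fun _ => ℕ) (Bool.rec (motive := fun _ => ℕ) (j10_8) (j10_9) (Nat.ble 9 b)) (Bool.rec (motive := fun _ => ℕ) (j10_10) (j10_11) (Nat.ble 11 b)) (Nat.ble 10 b)) (Bool.rec (motive := fun _ => ℕ) (Bool.rec (motive := fun _ => ℕ) (j10_12) (j10_13) (Nat.ble 13 b)) (Bool.rec (motive := fun _ => ℕ) (j10_14) (j10_15) (Nat.ble 15 b)) (Nat.ble 14 b)) (Nat.ble 12 b)) (Nat.ble 8 b)) (Bool.rec (motive := fun _ => ℕ) (Bool.rec (motive := fun _ => ℕ) (Bool.rec (motive := fun _ => ℕ) (Bool.rec (motive := fun _ => ℕ) (j10_16) (j10_17) (Nat.ble 17 b)) (Bool.rec (motive := fun _ => ℕ) (j10_18) (j10_19) (Nat.ble 19 b)) (Nat.ble 18 b)) (Bool.rec (motive := fun _ => ℕ) (Bool.rec (motive := fun _ => ℕ) (j10_20) (j10_21) (Nat.ble 21 b)) (Bool.rec (motive := fun _ => ℕ) (j10_22) (j10_23)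 (Nat.ble 23 b)) (Nat.ble 22 b)) (Nat.ble 20 b)) (Bool.rec (motive := fun _ => ℕ) (Bool.rec (motive := fun _ => ℕ) (Bool.rec (motive := fun _ => ℕ) (j10_24) (j10_25) (Nat.ble 25 b)) (Bool.rec (motive := fun _ => ℕ) (j10_26) (j10_27) (Nat.ble 27 b)) (Nat.ble 26 b)) (Bool.rec (motive := fun _ => ℕ) (Bool.rec (motive := fun _ => ℕ) (j10_28) (j10_29) (Nat.ble 29 b)) (Bool.rec (motive := fun _ => ℕ) (j10_30) (j10_31) (Nat.ble 31 b)) (Nat.ble 30 b)) (Nat.ble 28 b)) (Nat.ble 24 b)) (Nat.ble 16 b)) (Bool.rec (motive := fun _ => ℕ) (Bool.rec (motive := fun _ => ℕ) (Bool.rec (motive := fun _ => ℕ) (Bool.rec (motive := fun _ => ℕ) (Bool.rec (motive := fun _ => ℕ) (j10_32) (j10_33) (Nat.ble 33 b)) (Bool.rec (motive := fun _ => ℕ) (j10_34) (j10_35) (Nat.ble 35 b)) (Nat.ble 34 b)) (Bool.rec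 (motive := fun _ => ℕ) (Bool.rec (motive := fun _ => ℕ) (j10_36) (j10_37) (Nat.ble 37 b)) (Bool.rec (motive := fun _ => ℕ) (j10_38) (j10_39) (Nat.ble 39 b)) (Nat.ble 38 b)) (Nat.ble 36 b)) (Bool.rec (motive := fun _ => ℕ) (Bool.rec (motive := fun _ => ℕ) (Bool.rec (motive := fun _ => ℕ) (j10_40) (j10_41) (Nat.ble 41 b)) (Bool.rec (motive := fun _ => ℕ) (j10_42) (j10_43) (Nat.ble 43 b)) (Nat.ble 42 b)) (Bool.rec (motive := fun _ => ℕ) (Bool.rec (motive := fun _ => ℕ) (j10_44) (j10_45) (Nat.ble 45 b)) (Bool.rec (motive := fun _ => ℕ) (j10_46) (j10_47) (Nat.ble 47 b)) (Nat.ble 46 b)) (Nat.ble 44 b)) (Nat.ble 40 b)) (Bool.rec (motive := fun _ => ℕ) (Bool.rec (motive := fun _ => ℕ) (Bool.rec (motive := fun _ => ℕ) (Bool.rec (motive := fun _ => ℕ) (j10_48) (j10_49) (Nat.ble 49 b)) (Bool.rec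 (motive := fun _ => ℕ) (j10_50) (j10_51) (Nat.ble 51 b)) (Nat.ble 50 b)) (Bool.rec (motive := fun _ => ℕ) (Bool.rec (motive := fun _ => ℕ) (j10_52) (0) (Nat.ble 53 b)) (0) (Nat.ble 54 b)) (Nat.ble 52 b)) (0) (Nat.ble 56 b)) (Nat.ble 48 b)) (Nat.ble 32 b))
noncomputable def ecol11 (b : ℕ) : ℕ := (Bool.rec (motive := fun _ => ℕ) (Bool.rec (motive := fun _ => ℕ) (Bool.rec (motive := fun _ => ℕ) (Bool.rec (motive := fun _ => ℕ) (Bool.rec (motive := fun _ => ℕ) (Bool.rec (motive := fun _ => ℕ) (e11_0) (e11_1) (Nat.ble 1 b)) (Bool.rec (motive := fun _ => ℕ) (e11_2) (e11_3) (Nat.ble 3 b)) (Nat.ble 2 b)) (Bool.rec (motive := fun _ => ℕ) (Bool.rec (motive := fun _ => ℕ) (e11_4) (e11_5) (Nat.ble 5 b)) (Bool.rec (motive := fun _ => ℕ) (e11_6) (e11_7) (Nat.ble 7 b)) (Nat.ble 6 b)) (Nat.ble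 4 b)) (Bool.rec (motive := fun _ => ℕ) (Bool.rec (motive := fun _ => ℕ) (Bool.rec (motive := fun _ => ℕ) (e11_8) (e11_9) (Nat.ble 9 b)) (Bool.rec (motive := fun _ => ℕ) (e11_10) (e11_11) (Nat.ble 11 b)) (Nat.ble 10 b)) (Bool.rec (motive := fun _ => ℕ) (Bool.rec (motive := fun _ => ℕ) (e11_12) (e11_13) (Nat.ble 13 b)) (Bool.rec (motive := fun _ => ℕ) (e11_14) (e11_15) (Nat.ble 15 b)) (Nat.ble 14 b)) (Nat.ble 12 b)) (Nat.ble 8 b)) (Bool.rec (motive := fun _ => ℕ) (Bool.rec (motive := fun _ => ℕ) (Bool.rec (motive := fun _ => ℕ) (Bool.rec (motive := fun _ => ℕ) (e11_16) (e11_17) (Nat.ble 17 b)) (Bool.rec (motive := fun _ => ℕ) (e11_18) (e11_19) (Nat.ble 19 b)) (Nat.ble 18 b)) (Bool.rec (motive := fun _ => ℕ) (Bool.rec (motive := fun _ => ℕ) (e11_20) (e11_21) (Nat.ble 21 b)) (Bool.rec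 (motive := fun _ => ℕ) (e11_22) (e11_23) (Nat.ble 23 b)) (Nat.ble 22 b)) (Nat.ble 20 b)) (Bool.rec (motive := fun _ => ℕ) (Bool.rec (motive := fun _ => ℕ) (Bool.rec (motive := fun _ => ℕ) (e11_24) (e11_25) (Nat.ble 25 b)) (Bool.rec (motive := fun _ => ℕ) (e11_26) (e11_27) (Nat.ble 27 b)) (Nat.ble 26 b)) (Bool.rec (motive := fun _ => ℕ) (Bool.rec (motive := fun _ => ℕ) (e11_28) (e11_29) (Nat.ble 29 b)) (Bool.rec (motive := fun _ => ℕ) (e11_30) (e11_31) (Nat.ble 31 b)) (Nat.ble 30 b)) (Nat.ble 28 b)) (Nat.ble 24 b)) (Nat.ble 16 b)) (Bool.rec (motive := fun _ => ℕ) (Bool.rec (motive := fun _ => ℕ) (Bool.rec (motive := fun _ => ℕ) (Bool.rec (motive := fun _ => ℕ) (Bool.rec (motive := fun _ => ℕ) (e11_32) (e11_33) (Nat.ble 33 b)) (Bool.rec (motive := fun _ => ℕ) (e11_34) (e11_35) (Nat.ble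 35 b)) (Nat.ble 34 b)) (Bool.rec (motive := fun _ => ℕ) (Bool.rec (motive := fun _ => ℕ) (e11_36) (e11_37) (Nat.ble 37 b)) (Bool.rec (motive := fun _ => ℕ) (e11_38) (e11_39) (Nat.ble 39 b)) (Nat.ble 38 b)) (Nat.ble 36 b)) (Bool.rec (motive := fun _ => ℕ) (Bool.rec (motive := fun _ => ℕ) (Bool.rec (motive := fun _ => ℕ) (e11_40) (e11_41) (Nat.ble 41 b)) (Bool.rec (motive := fun _ => ℕ) (e11_42) (e11_43) (Nat.ble 43 b)) (Nat.ble 42 b)) (Bool.rec (motive := fun _ => ℕ) (Bool.rec (motive := fun _ => ℕ) (e11_44) (e11_45) (Nat.ble 45 b)) (Bool.rec (motive := fun _ => ℕ) (e11_46) (e11_47) (Nat.ble 47 b)) (Nat.ble 46 b)) (Nat.ble 44 b)) (Nat.ble 40 b)) (Bool.rec (motive := fun _ => ℕ) (Bool.rec (motive := fun _ => ℕ) (Bool.rec (motive := fun _ => ℕ) (Bool.rec (motive := fun _ => ℕ) (e11_48)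 (e11_49) (Nat.ble 49 b)) (Bool.rec (motive := fun _ => ℕ) (e11_50) (e11_51) (Nat.ble 51 b)) (Nat.ble 50 b)) (Bool.rec (motive := fun _ => ℕ) (Bool.rec (motive := fun _ => ℕ) (e11_52) (0) (Nat.ble 53 b)) (0) (Nat.ble 54 b)) (Nat.ble 52 b)) (0) (Nat.ble 56 b)) (Nat.ble 48 b)) (Nat.ble 32 b))
noncomputable def jcol11 (b : ℕ) : ℕ := (Bool.rec (motive := fun _ => ℕ) (Bool.rec (motive := fun _ => ℕ) (Bool.rec (motive := fun _ => ℕ) (Bool.rec (motive := fun _ => ℕ) (Bool.rec (motive := fun _ => ℕ) (Bool.rec (motive := fun _ => ℕ) (j11_0) (j11_1) (Nat.ble 1 b)) (Bool.rec (motive := fun _ => ℕ) (j11_2) (j11_3) (Nat.ble 3 b)) (Nat.ble 2 b)) (Bool.rec (motive := fun _ => ℕ) (Bool.rec (motive := fun _ => ℕ) (j11_4) (j11_5) (Nat.ble 5 b)) (Bool.rec (motive := fun _ => ℕ) (j11_6) (j11_7) (Nat.ble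 7 b)) (Nat.ble 6 b)) (Nat.ble 4 b)) (Bool.rec (motive := fun _ => ℕ) (Bool.rec (motive := fun _ => ℕ) (Bool.rec (motive := fun _ => ℕ) (j11_8) (j11_9) (Nat.ble 9 b)) (Bool.rec (motive := fun _ => ℕ) (j11_10) (j11_11) (Nat.ble 11 b)) (Nat.ble 10 b)) (Bool.rec (motive := fun _ => ℕ) (Bool.rec (motive := fun _ => ℕ) (j11_12) (j11_13) (Nat.ble 13 b)) (Bool.rec (motive := fun _ => ℕ) (j11_14) (j11_15) (Nat.ble 15 b)) (Nat.ble 14 b)) (Nat.ble 12 b)) (Nat.ble 8 b)) (Bool.rec (motive := fun _ => ℕ) (Bool.rec (motive := fun _ => ℕ) (Bool.rec (motive := fun _ => ℕ) (Bool.rec (motive := fun _ => ℕ) (j11_16) (j11_17) (Nat.ble 17 b)) (Bool.rec (motive := fun _ => ℕ) (j11_18) (j11_19) (Nat.ble 19 b)) (Nat.ble 18 b)) (Bool.rec (motive := fun _ => ℕ) (Bool.rec (motive := fun _ => ℕ) (j11_20)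 (j11_21) (Nat.ble 21 b)) (Bool.rec (motive := fun _ => ℕ) (j11_22) (j11_23) (Nat.ble 23 b)) (Nat.ble 22 b)) (Nat.ble 20 b)) (Bool.rec (motive := fun _ => ℕ) (Bool.rec (motive := fun _ => ℕ) (Bool.rec (motive := fun _ => ℕ) (j11_24) (j11_25) (Nat.ble 25 b)) (Bool.rec (motive := fun _ => ℕ) (j11_26) (j11_27) (Nat.ble 27 b)) (Nat.ble 26 b)) (Bool.rec (motive := fun _ => ℕ) (Bool.rec (motive := fun _ => ℕ) (j11_28) (j11_29) (Nat.ble 29 b)) (Bool.rec (motive := fun _ => ℕ) (j11_30) (j11_31) (Nat.ble 31 b)) (Nat.ble 30 b)) (Nat.ble 28 b)) (Nat.ble 24 b)) (Nat.ble 16 b)) (Bool.rec (motive := fun _ => ℕ) (Bool.rec (motive := fun _ => ℕ) (Bool.rec (motive := fun _ => ℕ) (Bool.rec (motive := fun _ => ℕ) (Bool.rec (motive := fun _ => ℕ) (j11_32) (j11_33) (Nat.ble 33 b)) (Bool.rec (motive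 := fun _ => ℕ) (j11_34) (j11_35) (Nat.ble 35 b)) (Nat.ble 34 b)) (Bool.rec (motive := fun _ => ℕ) (Bool.rec (motive := fun _ => ℕ) (j11_36) (j11_37) (Nat.ble 37 b)) (Bool.rec (motive := fun _ => ℕ) (j11_38) (j11_39) (Nat.ble 39 b)) (Nat.ble 38 b)) (Nat.ble 36 b)) (Bool.rec (motive := fun _ => ℕ) (Bool.rec (motive := fun _ => ℕ) (Bool.rec (motive := fun _ => ℕ) (j11_40) (j11_41) (Nat.ble 41 b)) (Bool.rec (motive := fun _ => ℕ) (j11_42) (j11_43) (Nat.ble 43 b)) (Nat.ble 42 b)) (Bool.rec (motive := fun _ => ℕ) (Bool.rec (motive := fun _ => ℕ) (j11_44) (j11_45) (Nat.ble 45 b)) (Bool.rec (motive := fun _ => ℕ) (j11_46) (j11_47) (Nat.ble 47 b)) (Nat.ble 46 b)) (Nat.ble 44 b)) (Nat.ble 40 b)) (Bool.rec (motive := fun _ => ℕ) (Bool.rec (motive := fun _ => ℕ) (Bool.rec (motive := fun _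 => ℕ) (Bool.rec (motive := fun _ => ℕ) (j11_48) (j11_49) (Nat.ble 49 b)) (Bool.rec (motive := fun _ => ℕ) (j11_50) (j11_51) (Nat.ble 51 b)) (Nat.ble 50 b)) (Bool.rec (motive := fun _ => ℕ) (Bool.rec (motive := fun _ => ℕ) (j11_52) (0) (Nat.ble 53 b)) (0) (Nat.ble 54 b)) (Nat.ble 52 b)) (0) (Nat.ble 56 b)) (Nat.ble 48 b)) (Nat.ble 32 b))
noncomputable def eT (c b : ℕ) : ℕ := (Bool.rec (motive := fun _ => ℕ) (Bool.rec (motive := fun _ => ℕ) (Bool.rec (motive := fun _ => ℕ) (Bool.rec (motive := fun _ => ℕ) (ecol0 b) (ecol1 b) (Nat.ble 1 c)) (Bool.rec (motive := fun _ => ℕ) (ecol2 b) (ecol3 b) (Nat.ble 3 c)) (Nat.ble 2 c)) (Bool.rec (motive := fun _ => ℕ) (Bool.rec (motive := fun _ => ℕ) (ecol4 b) (ecol5 b) (Nat.ble 5 c)) (Bool.rec (motive := fun _ => ℕ) (ecol6 b) (ecol7 b) (Nat.ble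 7 c)) (Nat.ble 6 c)) (Nat.ble 4 c)) (Bool.rec (motive := fun _ => ℕ) (Bool.rec (motive := fun _ => ℕ) (Bool.rec (motive := fun _ => ℕ) (ecol8 b) (ecol9 b) (Nat.ble 9 c)) (Bool.rec (motive := fun _ => ℕ) (ecol10 b) (ecol11 b) (Nat.ble 11 c)) (Nat.ble 10 c)) (0) (Nat.ble 12 c)) (Nat.ble 8 c))
noncomputable def jT (c b : ℕ) : ℕ := (Bool.rec (motive := fun _ => ℕ) (Bool.rec (motive := fun _ => ℕ) (Bool.rec (motive := fun _ => ℕ) (Bool.rec (motive := fun _ => ℕ) (jcol0 b) (jcol1 b) (Nat.ble 1 c)) (Bool.rec (motive := fun _ => ℕ) (jcol2 b) (jcol3 b) (Nat.ble 3 c)) (Nat.ble 2 c)) (Bool.rec (motive := fun _ => ℕ) (Bool.rec (motive := fun _ => ℕ) (jcol4 b) (jcol5 b) (Nat.ble 5 c)) (Bool.rec (motive := fun _ => ℕ) (jcol6 b) (jcol7 b) (Nat.ble 7 c)) (Nat.ble 6 c)) (Nat.ble 4 c)) (Bool.rec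 (motive := fun _ => ℕ) (Bool.rec (motive := fun _ => ℕ) (Bool.rec (motive := fun _ => ℕ) (jcol8 b) (jcol9 b) (Nat.ble 9 c)) (Bool.rec (motive := fun _ => ℕ) (jcol10 b) (jcol11 b) (Nat.ble 11 c)) (Nat.ble 10 c)) (0) (Nat.ble 12 c)) (Nat.ble 8 c))
noncomputable def mgT (b : ℕ) : ℕ := (Bool.rec (motive := fun _ => ℕ) (Bool.rec (motive := fun _ => ℕ) (Bool.rec (motive := fun _ => ℕ) (Bool.rec (motive := fun _ => ℕ) (Bool.rec (motive := fun _ => ℕ) (Bool.rec (motive := fun _ => ℕ) (m_0) (m_1) (Nat.ble 1 b)) (Bool.rec (motive := fun _ => ℕ) (m_2) (m_3) (Nat.ble 3 b)) (Nat.ble 2 b)) (Bool.rec (motive := fun _ => ℕ) (Bool.rec (motive := fun _ => ℕ) (m_4) (m_5) (Nat.ble 5 b)) (Bool.rec (motive := fun _ => ℕ) (m_6) (m_7) (Nat.ble 7 b)) (Nat.ble 6 b)) (Nat.ble 4 b)) (Bool.rec (motive :=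 fun _ => ℕ) (Bool.rec (motive := fun _ => ℕ) (Bool.rec (motive := fun _ => ℕ) (m_8) (m_9) (Nat.ble 9 b)) (Bool.rec (motive := fun _ => ℕ) (m_10) (m_11) (Nat.ble 11 b)) (Nat.ble 10 b)) (Bool.rec (motive := fun _ => ℕ) (Bool.rec (motive := fun _ => ℕ) (m_12) (m_13) (Nat.ble 13 b)) (Bool.rec (motive := fun _ => ℕ) (m_14) (m_15) (Nat.ble 15 b)) (Nat.ble 14 b)) (Nat.ble 12 b)) (Nat.ble 8 b)) (Bool.rec (motive := fun _ => ℕ) (Bool.rec (motive := fun _ => ℕ) (Bool.rec (motive := fun _ => ℕ) (Bool.rec (motive := fun _ => ℕ) (m_16) (m_17) (Nat.ble 17 b)) (Bool.rec (motive := fun _ => ℕ) (m_18) (m_19) (Nat.ble 19 b)) (Nat.ble 18 b)) (Bool.rec (motive := fun _ => ℕ) (Bool.rec (motive := fun _ => ℕ) (m_20) (m_21) (Nat.ble 21 b)) (Bool.rec (motive := fun _ => ℕ) (m_22) (m_23) (Nat.ble 23 b))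 (Nat.ble 22 b)) (Nat.ble 20 b)) (Bool.rec (motive := fun _ => ℕ) (Bool.rec (motive := fun _ => ℕ) (Bool.rec (motive := fun _ => ℕ) (m_24) (m_25) (Nat.ble 25 b)) (Bool.rec (motive := fun _ => ℕ) (m_26) (m_27) (Nat.ble 27 b)) (Nat.ble 26 b)) (Bool.rec (motive := fun _ => ℕ) (Bool.rec (motive := fun _ => ℕ) (m_28) (m_29) (Nat.ble 29 b)) (Bool.rec (motive := fun _ => ℕ) (m_30) (m_31) (Nat.ble 31 b)) (Nat.ble 30 b)) (Nat.ble 28 b)) (Nat.ble 24 b)) (Nat.ble 16 b)) (Bool.rec (motive := fun _ => ℕ) (Bool.rec (motive := fun _ => ℕ) (Bool.rec (motive := fun _ => ℕ) (Bool.rec (motive := fun _ => ℕ) (Bool.rec (motive := fun _ => ℕ) (m_32) (m_33) (Nat.ble 33 b)) (Bool.rec (motive := fun _ => ℕ) (m_34) (m_35) (Nat.ble 35 b)) (Nat.ble 34 b)) (Bool.rec (motive := fun _ => ℕ) (Bool.rec (motive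 := fun _ => ℕ) (m_36) (m_37) (Nat.ble 37 b)) (Bool.rec (motive := fun _ => ℕ) (m_38) (m_39) (Nat.ble 39 b)) (Nat.ble 38 b)) (Nat.ble 36 b)) (Bool.rec (motive := fun _ => ℕ) (Bool.rec (motive := fun _ => ℕ) (Bool.rec (motive := fun _ => ℕ) (m_40) (m_41) (Nat.ble 41 b)) (Bool.rec (motive := fun _ => ℕ) (m_42) (m_43) (Nat.ble 43 b)) (Nat.ble 42 b)) (Bool.rec (motive := fun _ => ℕ) (Bool.rec (motive := fun _ => ℕ) (m_44) (m_45) (Nat.ble 45 b)) (Bool.rec (motive := fun _ => ℕ) (m_46) (m_47) (Nat.ble 47 b)) (Nat.ble 46 b)) (Nat.ble 44 b)) (Nat.ble 40 b)) (Bool.rec (motive := fun _ => ℕ) (Bool.rec (motive := fun _ => ℕ) (Bool.rec (motive := fun _ => ℕ) (Bool.rec (motive := fun _ => ℕ) (m_48) (m_49) (Nat.ble 49 b)) (Bool.rec (motive := fun _ => ℕ) (m_50) (m_51) (Nat.ble 51 b)) (Nat.ble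 50 b)) (Bool.rec (motive := fun _ => ℕ) (Bool.rec (motive := fun _ => ℕ) (m_52) (0) (Nat.ble 53 b)) (0) (Nat.ble 54 b)) (Nat.ble 52 b)) (0) (Nat.ble 56 b)) (Nat.ble 48 b)) (Nat.ble 32 b))
noncomputable def jmT (b : ℕ) : ℕ := (Bool.rec (motive := fun _ => ℕ) (Bool.rec (motive := fun _ => ℕ) (Bool.rec (motive := fun _ => ℕ) (Bool.rec (motive := fun _ => ℕ) (Bool.rec (motive := fun _ => ℕ) (Bool.rec (motive := fun _ => ℕ) (jm_0) (jm_1) (Nat.ble 1 b)) (Bool.rec (motive := fun _ => ℕ) (jm_2) (jm_3) (Nat.ble 3 b)) (Nat.ble 2 b)) (Bool.rec (motive := fun _ => ℕ) (Bool.rec (motive := fun _ => ℕ) (jm_4) (jm_5) (Nat.ble 5 b)) (Bool.rec (motive := fun _ => ℕ) (jm_6) (jm_7) (Nat.ble 7 b)) (Nat.ble 6 b)) (Nat.ble 4 b)) (Bool.rec (motive := fun _ => ℕ) (Bool.rec (motive := fun _ => ℕ) (Bool.rec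 (motive := fun _ => ℕ) (jm_8) (jm_9) (Nat.ble 9 b)) (Bool.rec (motive := fun _ => ℕ) (jm_10) (jm_11) (Nat.ble 11 b)) (Nat.ble 10 b)) (Bool.rec (motive := fun _ => ℕ) (Bool.rec (motive := fun _ => ℕ) (jm_12) (jm_13) (Nat.ble 13 b)) (Bool.rec (motive := fun _ => ℕ) (jm_14) (jm_15) (Nat.ble 15 b)) (Nat.ble 14 b)) (Nat.ble 12 b)) (Nat.ble 8 b)) (Bool.rec (motive := fun _ => ℕ) (Bool.rec (motive := fun _ => ℕ) (Bool.rec (motive := fun _ => ℕ) (Bool.rec (motive := fun _ => ℕ) (jm_16) (jm_17) (Nat.ble 17 b)) (Bool.rec (motive := fun _ => ℕ) (jm_18) (jm_19) (Nat.ble 19 b)) (Nat.ble 18 b)) (Bool.rec (motive := fun _ => ℕ) (Bool.rec (motive := fun _ => ℕ) (jm_20) (jm_21) (Nat.ble 21 b)) (Bool.rec (motive := fun _ => ℕ) (jm_22) (jm_23) (Nat.ble 23 b)) (Nat.ble 22 b)) (Nat.ble 20 b)) (Bool.rec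 (motive := fun _ => ℕ) (Bool.rec (motive := fun _ => ℕ) (Bool.rec (motive := fun _ => ℕ) (jm_24) (jm_25) (Nat.ble 25 b)) (Bool.rec (motive := fun _ => ℕ) (jm_26) (jm_27) (Nat.ble 27 b)) (Nat.ble 26 b)) (Bool.rec (motive := fun _ => ℕ) (Bool.rec (motive := fun _ => ℕ) (jm_28) (jm_29) (Nat.ble 29 b)) (Bool.rec (motive := fun _ => ℕ) (jm_30) (jm_31) (Nat.ble 31 b)) (Nat.ble 30 b)) (Nat.ble 28 b)) (Nat.ble 24 b)) (Nat.ble 16 b)) (Bool.rec (motive := fun _ => ℕ) (Bool.rec (motive := fun _ => ℕ) (Bool.rec (motive := fun _ => ℕ) (Bool.rec (motive := fun _ => ℕ) (Bool.rec (motive := fun _ => ℕ) (jm_32) (jm_33) (Nat.ble 33 b)) (Bool.rec (motive := fun _ => ℕ) (jm_34) (jm_35) (Nat.ble 35 b)) (Nat.ble 34 b)) (Bool.rec (motive := fun _ => ℕ) (Bool.rec (motive := fun _ => ℕ) (jm_36) (jm_37)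 (Nat.ble 37 b)) (Bool.rec (motive := fun _ => ℕ) (jm_38) (jm_39) (Nat.ble 39 b)) (Nat.ble 38 b)) (Nat.ble 36 b)) (Bool.rec (motive := fun _ => ℕ) (Bool.rec (motive := fun _ => ℕ) (Bool.rec (motive := fun _ => ℕ) (jm_40) (jm_41) (Nat.ble 41 b)) (Bool.rec (motive := fun _ => ℕ) (jm_42) (jm_43) (Nat.ble 43 b)) (Nat.ble 42 b)) (Bool.rec (motive := fun _ => ℕ) (Bool.rec (motive := fun _ => ℕ) (jm_44) (jm_45) (Nat.ble 45 b)) (Bool.rec (motive := fun _ => ℕ) (jm_46) (jm_47) (Nat.ble 47 b)) (Nat.ble 46 b)) (Nat.ble 44 b)) (Nat.ble 40 b)) (Bool.rec (motive := fun _ => ℕ) (Bool.rec (motive := fun _ => ℕ) (Bool.rec (motive := fun _ => ℕ) (Bool.rec (motive := fun _ => ℕ) (jm_48) (jm_49) (Nat.ble 49 b)) (Bool.rec (motive := fun _ => ℕ) (jm_50) (jm_51) (Nat.ble 51 b)) (Nat.ble 50 b)) (Bool.rec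 (motive := fun _ => ℕ) (Bool.rec (motive := fun _ => ℕ) (jm_52) (0) (Nat.ble 53 b)) (0) (Nat.ble 54 b)) (Nat.ble 52 b)) (0) (Nat.ble 56 b)) (Nat.ble 48 b)) (Nat.ble 32 b))
def rw0 : List ℕ := [0, 3, 11, 7, 9, 0, 8, 7, 0, 0, 0, 6, 6, 10, 1, 3]
def rw1 : List ℕ := [0, 4, 0, 4, 2, 1, 5]
def rw2 : List ℕ := [0, 3, 1, 3, 0, 2]
def rw3 : List ℕ := [0, 0, 3, 11, 7, 9, 0, 8, 7, 0, 0, 0, 6, 6, 10, 0, 2, 0]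
def rw4 : List ℕ := [0, 2, 1, 3, 1, 2]
def rw5 : List ℕ := [0, 5, 5, 5, 0, 2, 4]
def rw6 : List ℕ := [0, 4, 2, 6, 0, 4, 2, 6]
def rw7 : List ℕ := [0, 0, 3, 1, 2, 1, 1, 2, 2, 0, 0, 3, 3]
def rw8 : List ℕ := [0, 3, 5, 1, 5, 1, 4]
def rw9 : List ℕ := [0, 0, 5, 2, 1, 3, 5]
def rw10 : List ℕ := [0, 2, 2, 0, 2, 2]
def rw11 : List ℕ := [0, 3, 3, 0, 0, 3, 1, 2, 1, 1, 2, 2, 0]
def rw12 : List ℕ := [0, 3, 5, 11, 9, 3, 0, 6, 1, 6, 9, 2, 1, 8, 10, 2, 0, 7]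
def rw13 : List ℕ := [0, 0, 0, 0, 0, 0, 0]
def rw14 : List ℕ := [0, 5, 2, 1, 3, 5, 0]
def rw15 : List ℕ := [0, 2, 0, 2, 0, 2]
def rw16 : List ℕ := [0, 2, 0, 3, 1, 3]
def rw17 : List ℕ := [0, 2, 0, 3, 3, 1, 3, 0]
def rw18 : List ℕ := [0, 3, 0, 2, 1, 1, 2, 2, 1, 1, 3, 3, 0]
def rw19 : List ℕ := [0, 0, 3, 0, 2, 1, 1, 2, 2, 1, 1, 3, 3]
def rw20 : List ℕ := [0, 3, 0, 4, 4, 0, 3, 4]
def rw21 : List ℕ := [0, 2, 0, 2, 0, 2]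
def rw22 : List ℕ := [0, 2, 2, 1, 3, 1, 1, 2]
def rw23 : List ℕ := [0, 0, 2, 0, 3, 3, 1, 3]
def rw24 : List ℕ := [0, 2, 9, 11, 8, 3, 1, 10, 10]
def rw25 : List ℕ := [0, 3, 4, 1, 1, 4, 2]
def rw26 : List ℕ := [0, 4, 2, 1, 5, 0, 4]
def rw27 : List ℕ := [0, 2, 4, 0, 5, 5, 5]
def rw28 : List ℕ := [0, 2, 9, 10, 8, 3, 1, 11, 11]
def rw29 : List ℕ := [0, 4, 4, 0, 3, 4, 0, 3]
def rw30 : List ℕ := [0, 2, 1, 1, 2, 2, 1, 1, 3, 3, 0, 0, 3]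
def rw31 : List ℕ := [0, 3, 4, 0, 3, 0, 4, 4]
def rw32 : List ℕ := [0, 2, 0, 2, 0, 2]
def rw33 : List ℕ := [0, 4, 2, 6, 0, 4, 2, 6]
def rw34 : List ℕ := [0, 0, 0, 0, 0, 0, 0]
def rw35 : List ℕ := [0, 0, 0, 0, 0, 0, 0]
def rw36 : List ℕ := [0, 2, 2, 0, 2, 2]
def rw37 : List ℕ := [0, 0, 3, 3, 0, 0, 3, 1, 2, 1, 1, 2, 2]
def rw38 : List ℕ := [0, 3, 0, 9, 9, 9, 0, 3, 1, 5, 9]
def rw39 : List ℕ := [0, 3, 3, 1, 3, 0, 0, 2]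
def rw40 : List ℕ := [0, 9, 9, 9, 0, 3, 1, 5, 9, 0, 3]
def rw41 : List ℕ := [0, 3, 1, 5, 9, 0, 3, 0, 9, 9, 9]
def rw42 : List ℕ := [0, 11, 1, 2, 5, 11, 9, 6, 6, 2, 1, 8, 7, 2, 7, 2, 6, 3, 6, 9, 0, 3, 7, 7, 8, 10, 4, 3, 0, 10, 1, 10, 3, 11]
def rw43 : List ℕ := [0, 11, 6, 2, 4, 10, 8, 3, 8, 5, 1, 2, 8, 4, 2, 8, 9, 9, 3, 5, 9, 3, 0, 4, 9, 2, 9, 11, 5, 3, 7, 10, 1, 11, 8, 10]
def rw44 : List ℕ := [0, 4, 4, 11, 1, 9, 1, 8, 2, 2, 9, 5, 5, 8, 10, 5, 0, 5]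
def rw45 : List ℕ := [0, 11, 5, 2, 6, 9, 3, 0, 9, 3, 9, 10, 4, 8, 8, 3, 4]
def rw46 : List ℕ := [0, 11, 7, 9, 0, 8, 7, 0, 0, 0, 6, 6, 10, 2, 2, 2]
def rw47 : List ℕ := [0, 11, 1, 2, 5, 11, 5, 10, 4, 3, 0, 10, 1, 10, 6, 3, 6, 9, 0, 3, 7, 7, 8, 4, 9, 6, 6, 2, 1, 8, 7, 2, 7, 11]
def rw48 : List ℕ := [0, 10, 1, 10, 8, 11, 0, 11, 1, 2, 5, 11, 9, 6, 6, 2, 1, 8, 7, 2, 7, 9, 6, 3, 6, 9, 0, 3, 7, 7, 8, 10, 4, 3]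
def rw49 : List ℕ := [0, 5, 6, 0, 5, 11, 5, 3, 0, 6, 9, 2, 5, 3, 9, 7, 10, 6]
def rw50 : List ℕ := [0, 8, 7, 0, 0, 0, 6, 6, 10, 1, 1, 2, 1, 2, 1, 11, 7, 9]
def rw51 : List ℕ := [0, 2, 11, 7, 9, 0, 8, 7, 0, 0, 0, 6, 6, 10, 2, 2, 1, 2]
def rw52 : List ℕ := [0, 7, 9, 1, 3, 4, 7, 3, 5, 10, 3, 3, 6, 1, 6, 5, 11, 8]
def rw53 : List ℕ := [0, 3, 11, 7, 9, 0, 8, 7, 0, 0, 0, 6, 6, 10, 3, 1, 3, 0]
def rw54 : List ℕ := [0, 5, 11, 6, 8, 2, 4, 3, 8, 7, 1, 2, 4, 10, 1, 5, 0, 4]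
def rw55 : List ℕ := [0, 4, 8, 10, 7, 2, 7, 3, 6, 1, 11, 3, 0, 7, 0, 6, 8]
def rw56 : List ℕ := [0, 5, 11, 8, 2, 8, 5, 7, 1, 1, 7, 8, 10, 2, 6, 6, 0]
def rw57 : List ℕ := [0, 6, 8, 10, 6, 2, 2, 6, 0, 5, 11, 9, 7, 0, 9, 1, 3, 9]
def rw58 : List ℕ := [0, 0, 11, 7, 7, 1, 1, 1, 6, 9, 1, 8, 6, 10, 0, 3, 0, 3]
def rw59 : List ℕ := [0, 4, 1, 7, 9, 0, 5, 6, 8, 7, 9, 7, 4, 1, 8, 6, 0, 5, 1, 10, 8, 3, 8, 7, 10, 6, 11, 6, 9, 2, 9, 11]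
def rw60 : List ℕ := [0, 4, 9, 3, 6, 6, 1, 5, 5, 10, 6, 0, 5, 3, 3, 7, 11]
def rw61 : List ℕ := [0, 11, 1, 3, 8, 6, 3, 5, 5, 0, 8, 10, 7, 3, 7, 5, 7]
def rw62 : List ℕ := [0, 10, 1, 5, 0, 3, 4, 1, 11, 9, 4, 4, 8, 3, 3, 9, 0, 8]
def rw63 : List ℕ := [0, 3, 11, 7, 9, 0, 8, 7, 0, 0, 0, 6, 6, 10, 0, 2, 0, 0]
def rw64 : List ℕ := [0, 0, 0, 3, 11, 7, 9, 0, 8, 7, 0, 0, 0, 6, 6, 10, 0, 2]
def rw65 : List ℕ := [0, 0, 0, 6, 6, 10, 1, 3, 0, 3, 11, 7, 9, 0, 8, 7]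
def rw66 : List ℕ := [0, 0, 0, 0, 0, 0, 0]
def rw67 : List ℕ := [0, 7, 9, 5, 7, 1, 10, 5, 5, 3, 4, 4, 4, 11, 2, 9, 2, 8]
def rw68 : List ℕ := [0, 3, 3, 11, 7, 7, 1, 1, 1, 6, 9, 1, 8, 6, 10, 0, 2, 0]
def rw69 : List ℕ := [0, 11, 1, 2, 5, 11, 9, 6, 6, 2, 1, 8, 7, 2, 7, 10, 6, 3, 6, 9, 0, 3, 7, 7, 8, 10, 4, 3, 0, 10, 1, 10, 11, 11]
def rw70 : List ℕ := [0, 0, 6, 0, 9, 3, 10, 7, 4, 9, 2, 4, 7, 11, 2, 7, 9, 2]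
def rw71 : List ℕ := [0, 8, 1, 7, 0, 8, 2, 7, 8, 11, 5, 6, 2, 5, 8, 7, 10, 7]
def rw72 : List ℕ := [0, 7, 2, 7, 9, 6, 10, 1, 1, 4, 6, 0, 0, 11, 2, 1, 8, 8]
def rw73 : List ℕ := [0, 0, 0, 0, 0, 0, 0]
def rw74 : List ℕ := [0, 9, 10, 1, 9, 1, 6, 9, 9, 2, 6, 5, 9, 11, 4, 0, 7, 4]
def rw75 : List ℕ := [0, 8, 7, 0, 0, 0, 6, 6, 10, 3, 4, 1, 4, 0, 4, 11, 7, 9]
def rw76 : List ℕ := [0, 0, 9, 2, 6, 3, 11, 9, 4, 4, 3, 6, 3, 10, 4, 7, 3, 8]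
def rw77 : List ℕ := [0, 10, 1, 10, 6, 3, 6, 9, 0, 3, 7, 7, 8, 3, 9, 6, 6, 2, 1, 8, 7, 2, 7, 11, 0, 11, 1, 2, 5, 11, 2, 10, 4, 3]
def rw78 : List ℕ := [0, 8, 7, 0, 0, 0, 6, 6, 10, 2, 2, 1, 2, 0, 2, 11, 7, 9]
def rw79 : List ℕ := [0, 6, 9, 2, 5, 3, 9, 7, 10, 4, 4, 2, 11, 5, 3]
def rw80 : List ℕ := [0, 0, 8, 6, 3, 10, 4, 7, 3, 8, 2, 2, 11, 2, 8, 1, 7, 2]
def rw81 : List ℕ := [0, 10, 1, 5, 6, 2, 5, 5, 11, 9, 1, 4, 4, 2, 7, 9, 2]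
def rw82 : List ℕ := [0, 0, 6, 4, 9, 3, 9, 10, 4, 1, 1, 7, 7, 3, 11, 9, 6]
def rw83 : List ℕ := [0, 9, 2, 6, 3, 11, 9, 4, 4, 3, 6, 3, 10, 4, 7, 3, 8, 0]
def rw84 : List ℕ := [0, 5, 11, 5, 3, 0, 6, 9, 2, 5, 3, 9, 7, 10, 6, 0, 5, 6]
def rw85 : List ℕ := [0, 0, 5, 11, 7, 7, 1, 1, 1, 6, 9, 1, 8, 6, 10, 2, 5]
def rw86 : List ℕ := [0, 11, 11, 11, 6, 6, 0, 11, 11, 10, 1, 7, 7, 10, 10, 10, 1, 8, 8, 4, 0, 8, 3, 9, 5, 6, 10, 7, 4, 8, 2, 9, 1, 5, 9, 9]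
def rw87 : List ℕ := [0, 11, 9, 4, 4, 8, 3, 3, 9, 0, 8, 0, 10, 1, 5, 3, 5]
def rw88 : List ℕ := [0, 10, 1, 10, 4, 11, 0, 11, 1, 2, 5, 11, 9, 6, 6, 2, 1, 8, 7, 2, 7, 5, 6, 3, 6, 9, 0, 3, 7, 7, 8, 10, 4, 3]
def rw89 : List ℕ := [0, 0, 4, 6, 11, 0, 0, 9, 0, 9, 0, 5, 8, 8, 8, 10, 7, 7]
def rw90 : List ℕ := [0, 6, 8, 0, 6, 8, 0, 3, 10, 5, 7, 3, 7, 2, 1, 11, 6, 8]
def rw91 : List ℕ := [0, 9, 3, 10, 3, 3, 9, 2, 6, 5, 11, 2, 7, 9, 1, 1, 3, 6]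
def rw92 : List ℕ := [0, 6, 4, 8, 6, 1, 9, 3, 8, 3, 10, 3, 5, 5, 11]
def rw93 : List ℕ := [0, 3, 6, 2, 6, 4, 11, 2, 1, 9, 7, 1, 9, 7, 1, 9, 7, 10]
def rw94 : List ℕ := [0, 5, 1, 10, 8, 3, 8, 7, 10, 10, 11, 6, 9, 2, 9, 11, 0, 4, 1, 7, 9, 0, 5, 6, 8, 11, 9, 7, 4, 1, 8, 6]
def rw95 : List ℕ := [0, 3, 9, 5, 8, 2, 1, 5, 3, 11, 3, 3, 8, 7, 4, 8, 10]
def rw96 : List ℕ := [0, 7, 0, 6, 8, 0, 4, 8, 10, 7, 2, 7, 3, 6, 1, 11, 3]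
def rw97 : List ℕ := [0, 7, 10, 6, 0, 4, 3, 7, 11, 4, 7, 0, 9, 1, 9, 5, 8]
def rw98 : List ℕ := [0, 2, 1, 8, 8, 8, 1, 2, 1, 8, 4]
def rw99 : List ℕ := [0, 6, 8, 0, 3, 10, 4, 3, 4, 6, 2, 1, 11, 6, 8, 0, 6, 8]
def rw100 : List ℕ := [0, 11, 1, 2, 5, 11, 9, 6, 6, 2, 1, 8, 7, 2, 7, 4, 6, 3, 6, 9, 0, 3, 7, 7, 8, 10, 4, 3, 0, 10, 1, 10, 5, 11]
def rw101 : List ℕ := [0, 11, 1, 2, 5, 11, 9, 6, 6, 2, 1, 8, 7, 2, 7, 3, 6, 3, 6, 9, 0, 3, 7, 7, 8, 10, 4, 3, 0, 10, 1, 10, 2, 11]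
def rw102 : List ℕ := [0, 4, 0, 5, 11, 6, 8, 2, 4, 3, 8, 7, 1, 2, 4, 10, 1, 5]
def rw103 : List ℕ := [0, 5, 2, 1, 4, 0, 11, 1, 9, 1, 8, 2, 2, 9, 5, 5, 8, 10]
def rw104 : List ℕ := [0, 7, 2, 6, 3, 6, 11, 9, 5, 1, 9, 7, 1, 6, 1, 2, 10]
def rw105 : List ℕ := [0, 0, 3, 5, 8, 11, 9, 5, 1, 8, 4, 0, 5, 2, 9, 7, 10, 9]
def rw106 : List ℕ := [0, 9, 10, 6, 4, 2, 8, 5, 6, 11, 1, 7, 1, 1, 1, 4, 8, 8]
def rw107 : List ℕ := [0, 11, 6, 2, 5, 9, 3, 5, 10, 3, 0, 7, 8, 6, 1, 8, 0, 4]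
def rw108 : List ℕ := [0, 2, 4, 0, 5, 2, 11, 2, 9, 2, 8, 0, 7, 9, 5, 7, 1, 10]
def rw109 : List ℕ := [0, 11, 1, 3, 8, 6, 3, 5, 5, 0, 8, 10, 4, 4, 3, 7, 4]
def rw110 : List ℕ := [0, 11, 6, 2, 4, 10, 8, 3, 8, 5, 1, 2, 8, 4, 2, 8, 0, 9, 3, 5, 9, 3, 0, 4, 9, 2, 9, 11, 5, 3, 7, 10, 1, 11, 1, 10]
def rw111 : List ℕ := [0, 11, 1, 2, 5, 11, 11, 10, 4, 3, 0, 10, 1, 10, 6, 3, 6, 9, 0, 3, 7, 7, 8, 10, 9, 6, 6, 2, 1, 8, 7, 2, 7, 11]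
def rw112 : List ℕ := [0, 6, 1, 6, 9, 2, 1, 8, 10, 2, 0, 7, 0, 3, 5, 11, 9, 3]
def rw113 : List ℕ := [0, 4, 6, 11, 0, 0, 9, 0, 9, 0, 5, 8, 8, 8, 10, 7, 7, 0]
def rw114 : List ℕ := [0, 3, 7, 10, 4, 9, 6, 3, 4, 7, 11, 2, 7, 7, 4, 0, 8, 6]
def rw115 : List ℕ := [0, 2, 2, 0, 11, 7, 7, 1, 1, 1, 6, 9, 1, 8, 6, 10, 1, 3]
def rw116 : List ℕ := [0, 11, 6, 2, 4, 10, 8, 3, 8, 5, 1, 2, 8, 4, 2, 8, 8, 9, 3, 5, 9, 3, 0, 4, 9, 2, 9, 11, 5, 3, 7, 10, 1, 11, 9, 10]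
def rw117 : List ℕ := [0, 7, 5, 8, 1, 1, 10, 5, 8, 4, 7, 5, 2, 11, 7, 8, 0, 2]
def rw118 : List ℕ := [0, 9, 3, 5, 1, 4, 2, 8, 2, 1, 11, 8, 6, 4, 2, 2, 10]
def rw119 : List ℕ := [0, 10, 5, 5, 1, 4, 1, 4, 11, 9, 4, 4, 8, 3, 3, 9, 0, 8]
def rw120 : List ℕ := [0, 5, 2, 11, 7, 7, 1, 1, 1, 6, 9, 1, 8, 6, 10, 5, 1, 5]
def rw121 : List ℕ := [0, 7, 0, 3, 5, 11, 9, 3, 0, 6, 1, 6, 9, 2, 1, 8, 10, 2]
def rw122 : List ℕ := [0, 0, 0, 6, 0, 10, 7, 4, 9, 3, 5, 7, 11, 8, 1, 9, 9, 5]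
def rw123 : List ℕ := [0, 5, 8, 8, 8, 10, 7, 7, 0, 0, 4, 6, 11, 0, 0, 9, 0, 9]
def rw124 : List ℕ := [0, 2, 11, 5, 3, 0, 6, 9, 2, 5, 3, 9, 7, 10, 5, 0, 2, 4]
def rw125 : List ℕ := [0, 2, 8, 1, 6, 11, 1, 7, 2, 11, 9, 11, 2, 10, 8, 10, 3, 6, 0, 10, 7, 0, 9, 3, 1, 4, 9, 6, 2, 3, 3, 7, 8, 5]
def rw126 : List ℕ := [0, 3, 0, 3, 0, 0, 11, 7, 7, 1, 1, 1, 6, 9, 1, 8, 6, 10]
def rw127 : List ℕ := [0, 9, 2, 6, 3, 11, 9, 3, 6, 3, 3, 6, 10, 4, 7, 3, 8, 0]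
def rw128 : List ℕ := [0, 3, 8, 7, 0, 7, 1, 2, 8, 10, 4, 2, 1, 6, 1, 3, 11, 9]
def rw129 : List ℕ := [0, 11, 6, 2, 4, 10, 8, 3, 8, 5, 1, 2, 8, 4, 2, 8, 11, 9, 3, 5, 9, 3, 0, 4, 9, 2, 9, 11, 5, 3, 7, 10, 1, 11, 10, 10]
def rw130 : List ℕ := [0, 8, 10, 7, 3, 5, 7, 5, 0, 11, 1, 3, 8, 6, 3, 5, 5]
def rw131 : List ℕ := [0, 9, 3, 9, 10, 4, 8, 8, 3, 4, 0, 11, 5, 2, 6, 9, 3]
def rw132 : List ℕ := [0, 8, 7, 0, 0, 0, 6, 6, 10, 1, 3, 0, 3, 11, 7, 9]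
def rw133 : List ℕ := [0, 6, 4, 9, 3, 9, 10, 4, 1, 1, 7, 7, 3, 11, 9, 6, 0]
def rw134 : List ℕ := [0, 8, 10, 4, 4, 3, 7, 4, 0, 11, 1, 3, 8, 6, 3, 5, 5]
def rw135 : List ℕ := [0, 4, 2, 8, 1, 11, 3, 3, 5, 7, 9, 10, 0, 3, 9, 3, 5]
def rw136 : List ℕ := [0, 11, 1, 2, 5, 11, 0, 10, 4, 3, 0, 10, 1, 10, 6, 3, 6, 9, 0, 3, 7, 7, 8, 1, 9, 6, 6, 2, 1, 8, 7, 2, 7, 11]
def rw137 : List ℕ := [0, 3, 9, 4, 8, 2, 1, 11, 9, 5, 6, 9, 2, 2, 10, 2, 4]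
def rw138 : List ℕ := [0, 7, 9, 11, 1, 7, 8, 8, 7, 0, 10, 7, 1, 8, 3, 5, 8]
def rw139 : List ℕ := [0, 10, 1, 5, 3, 5, 0, 11, 9, 4, 4, 8, 3, 3, 9, 0, 8]
def rw140 : List ℕ := [0, 0, 6, 6, 10, 4, 3, 3, 3, 4, 0, 11, 7, 9, 0, 8, 7, 0]
def rw141 : List ℕ := [0, 8, 7, 0, 0, 0, 6, 6, 10, 0, 2, 0, 0, 0, 3, 11, 7, 9]
def rw142 : List ℕ := [0, 2, 0, 3, 11, 7, 9, 0, 8, 7, 0, 0, 0, 6, 6, 10, 2, 2]
def rw143 : List ℕ := [0, 11, 6, 2, 4, 10, 8, 3, 8, 5, 1, 2, 8, 4, 2, 8, 7, 9, 3, 5, 9, 3, 0, 4, 9, 2, 9, 11, 5, 3, 7, 10, 1, 11, 6, 10]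
def rw144 : List ℕ := [0, 11, 1, 2, 5, 11, 9, 6, 6, 2, 1, 8, 7, 2, 7, 9, 6, 3, 6, 9, 0, 3, 7, 7, 8, 10, 4, 3, 0, 10, 1, 10, 8, 11]
def rw145 : List ℕ := [0, 11, 1, 2, 5, 11, 9, 6, 6, 2, 1, 8, 7, 2, 7, 6, 6, 3, 6, 9, 0, 3, 7, 7, 8, 10, 4, 3, 0, 10, 1, 10, 7, 11]
def rw146 : List ℕ := [0, 4, 7, 8, 11, 3, 8, 1, 3, 1, 6, 1, 7, 9, 2, 10, 9, 4]
def rw147 : List ℕ := [0, 11, 1, 2, 5, 11, 6, 10, 4, 3, 0, 10, 1, 10, 6, 3, 6, 9, 0, 3, 7, 7, 8, 7, 9, 6, 6, 2, 1, 8, 7, 2, 7, 11]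
def rw148 : List ℕ := [0, 3, 10, 1, 1, 7, 5, 0, 0, 11, 7, 8, 6, 3, 6, 1, 9, 9]
def rw149 : List ℕ := [0, 3, 10, 6, 6, 3, 6, 5, 1, 11, 6, 8, 0, 6, 8, 0, 6, 8]
def rw150 : List ℕ := [0, 5, 2, 1, 11, 5, 3, 0, 6, 9, 2, 5, 3, 9, 7, 10, 4, 0]
def rw151 : List ℕ := [0, 0, 6, 6, 10, 1, 3, 0, 3, 11, 7, 9, 0, 8, 7, 0]
def rw152 : List ℕ := [0, 5, 1, 10, 8, 3, 8, 7, 10, 11, 11, 6, 9, 2, 9, 11, 0, 4, 1, 7, 9, 0, 5, 6, 8, 10, 9, 7, 4, 1, 8, 6]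
def rw153 : List ℕ := [0, 9, 4, 6, 1, 3, 1, 9, 6, 10, 3, 4, 6, 5, 9, 4, 11, 0]
def rw154 : List ℕ := [0, 0, 11, 2, 1, 8, 8, 0, 7, 2, 7, 9, 6, 10, 1, 1, 4, 6]
def rw155 : List ℕ := [0, 4, 7, 2, 7, 7, 11, 2, 1, 9, 7, 1, 9, 7, 1, 9, 7, 10]
def rw156 : List ℕ := [0, 10, 1, 10, 3, 11, 0, 11, 1, 2, 5, 11, 9, 6, 6, 2, 1, 8, 7, 2, 7, 2, 6, 3, 6, 9, 0, 3, 7, 7, 8, 10, 4, 3]
def rw157 : List ℕ := [0, 11, 1, 2, 5, 11, 2, 10, 4, 3, 0, 10, 1, 10, 6, 3, 6, 9, 0, 3, 7, 7, 8, 3, 9, 6, 6, 2, 1, 8, 7, 2, 7, 11]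
def rw158 : List ℕ := [0, 4, 0, 11, 6, 2, 5, 9, 3, 5, 10, 3, 0, 7, 8, 6, 1, 8]
def rw159 : List ℕ := [0, 4, 1, 7, 9, 0, 5, 6, 8, 10, 9, 7, 4, 1, 8, 6, 0, 5, 1, 10, 8, 3, 8, 7, 10, 11, 11, 6, 9, 2, 9, 11]
def rw160 : List ℕ := [0, 2, 0, 0, 3, 11, 7, 9, 0, 8, 7, 0, 0, 0, 6, 6, 10, 2]
def rw161 : List ℕ := [0, 11, 1, 2, 5, 11, 9, 6, 6, 2, 1, 8, 7, 2, 7, 8, 6, 3, 6, 9, 0, 3, 7, 7, 8, 10, 4, 3, 0, 10, 1, 10, 9, 11]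
def rw162 : List ℕ := [0, 7, 0, 2, 0, 9, 2, 10, 9, 6, 5, 1, 5, 8, 11, 3, 8, 6]
def rw163 : List ℕ := [0, 8, 7, 0, 0, 0, 6, 6, 10, 2, 0, 2, 0, 0, 3, 11, 7, 9]
def rw164 : List ℕ := [0, 0, 6, 6, 10, 1, 1, 2, 1, 2, 1, 11, 7, 9, 0, 8, 7, 0]
def rw165 : List ℕ := [0, 9, 0, 5, 8, 8, 8, 10, 7, 7, 0, 0, 4, 6, 11, 0, 0, 9]
def rw166 : List ℕ := [0, 0, 5, 2, 1, 11, 5, 3, 0, 6, 9, 2, 5, 3, 9, 7, 10, 4]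
def rw167 : List ℕ := [0, 5, 0, 11, 9, 4, 4, 8, 3, 3, 9, 0, 8, 0, 10, 5, 5, 5]
def rw168 : List ℕ := [0, 7, 9, 5, 7, 1, 10, 2, 2, 5, 5, 3, 5, 11, 2, 9, 2, 8]
def rw169 : List ℕ := [0, 0, 3, 3, 11, 7, 7, 1, 1, 1, 6, 9, 1, 8, 6, 10, 0, 2]
def rw170 : List ℕ := [0, 10, 7, 1, 8, 3, 5, 8, 0, 7, 9, 11, 1, 7, 8, 8, 7]
def rw171 : List ℕ := [0, 9, 1, 3, 9, 0, 6, 8, 10, 6, 2, 2, 6, 0, 5, 11, 9, 7]
def rw172 : List ℕ := [0, 5, 6, 8, 1, 9, 7, 4, 1, 8, 6, 0, 5, 1, 10, 8, 3, 8, 7, 10, 0, 11, 6, 9, 2, 9, 11, 0, 4, 1, 7, 9]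
def rw173 : List ℕ := [0, 2, 0, 0, 0, 3, 11, 7, 9, 0, 8, 7, 0, 0, 0, 6, 6, 10]
def rw174 : List ℕ := [0, 6, 9, 2, 5, 3, 9, 7, 10, 7, 7, 4, 3, 5, 6, 11, 5, 3]
def rw175 : List ℕ := [0, 10, 8, 6, 1, 9, 4, 2, 9, 0, 6, 11, 1, 6, 9, 9, 6]
def rw176 : List ℕ := [0, 10, 5, 5, 5, 0, 5, 0, 11, 9, 4, 4, 8, 3, 3, 9, 0, 8]
def rw177 : List ℕ := [0, 8, 1, 6, 5, 10, 6, 2, 5, 1, 7, 11, 6, 1, 9, 4, 8]
def rw178 : List ℕ := [0, 7, 9, 5, 7, 1, 10, 3, 3, 5, 5, 3, 11, 2, 9, 2, 8]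
def rw179 : List ℕ := [0, 3, 7, 3, 4, 3, 11, 2, 1, 9, 7, 1, 9, 7, 1, 9, 7, 10]
def rw180 : List ℕ := [0, 11, 7, 9, 0, 8, 7, 0, 0, 0, 6, 6, 10, 1, 3, 3, 1, 2]
def rw181 : List ℕ := [0, 9, 0, 9, 0, 5, 8, 8, 8, 10, 7, 7, 0, 0, 4, 6, 11, 0]
def rw182 : List ℕ := [0, 9, 2, 10, 9, 6, 5, 1, 5, 8, 11, 3, 8, 6, 0, 7, 0, 2]
def rw183 : List ℕ := [0, 2, 8, 1, 6, 11, 1, 7, 2, 11, 9, 11, 1, 10, 8, 10, 3, 6, 0, 10, 7, 0, 9, 3, 1, 4, 9, 6, 2, 0, 3, 7, 8, 5]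
def rw184 : List ℕ := [0, 5, 1, 5, 0, 4, 1, 7, 9, 0, 5, 6, 8, 11, 6, 9, 2, 9, 11, 4, 10, 8, 3, 8, 7, 10, 9, 7, 4, 1, 8, 6]
def rw185 : List ℕ := [0, 11, 1, 9, 1, 8, 2, 2, 9, 5, 5, 8, 10, 1, 4, 2, 4]
def rw186 : List ℕ := [0, 9, 1, 6, 11, 6, 9, 4, 3, 7, 4, 10, 9, 6, 3, 9, 1, 6]
def rw187 : List ℕ := [0, 7, 9, 6, 1, 2, 11, 4, 2, 8, 4, 3, 7, 10, 1, 5, 1, 9]
def rw188 : List ℕ := [0, 6, 11, 1, 6, 9, 9, 6, 0, 10, 8, 6, 1, 9, 4, 2, 9]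
def rw189 : List ℕ := [0, 0, 11, 7, 8, 6, 3, 6, 1, 9, 9, 0, 3, 10, 1, 1, 7, 5]
def rw190 : List ℕ := [0, 7, 0, 2, 10, 3, 3, 7, 4, 0, 11, 3, 5, 8, 6]
def rw191 : List ℕ := [0, 2, 0, 0, 3, 3, 11, 7, 7, 1, 1, 1, 6, 9, 1, 8, 6, 10]
def rw192 : List ℕ := [0, 4, 11, 7, 9, 0, 8, 7, 0, 0, 0, 6, 6, 10, 3, 4, 1, 4]
def rw193 : List ℕ := [0, 3, 5, 8, 11, 9, 5, 1, 8, 4, 0, 5, 2, 9, 7, 10, 9, 0]
def rw194 : List ℕ := [0, 2, 0, 3, 3, 11, 7, 7, 1, 1, 1, 6, 9, 1, 8, 6, 10, 2]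
def rw195 : List ℕ := [0, 0, 6, 6, 10, 3, 3, 3, 3, 0, 11, 7, 9, 0, 8, 7, 0]
def rw196 : List ℕ := [0, 8, 6, 3, 10, 4, 7, 3, 8, 2, 2, 11, 2, 8, 1, 7, 2, 0]
def rw197 : List ℕ := [0, 10, 7, 4, 9, 3, 5, 7, 11, 8, 1, 9, 9, 5, 0, 0, 0, 6]
def rw198 : List ℕ := [0, 6, 6, 10, 0, 2, 0, 0, 0, 3, 11, 7, 9, 0, 8, 7, 0, 0]
def rw199 : List ℕ := [0, 7, 2, 2, 11, 4, 2, 6, 5, 2, 0, 8, 6, 1, 9, 10, 4, 7]
def rw200 : List ℕ := [0, 11, 6, 2, 4, 10, 8, 3, 8, 5, 1, 2, 8, 4, 2, 8, 3, 9, 3, 5, 9, 3, 0, 4, 9, 2, 9, 11, 5, 3, 7, 10, 1, 11, 2, 10]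
def rw201 : List ℕ := [0, 0, 5, 11, 8, 2, 8, 5, 7, 1, 1, 7, 8, 10, 2, 6, 6]
def rw202 : List ℕ := [0, 11, 3, 5, 8, 6, 0, 7, 0, 2, 10, 3, 3, 7, 4]
def rw203 : List ℕ := [0, 10, 1, 10, 6, 11, 0, 11, 1, 2, 5, 11, 9, 6, 6, 2, 1, 8, 7, 2, 7, 7, 6, 3, 6, 9, 0, 3, 7, 7, 8, 10, 4, 3]
def rw204 : List ℕ := [0, 3, 11, 7, 7, 1, 1, 1, 6, 9, 1, 8, 6, 10, 2, 2]
def rw205 : List ℕ := [0, 8, 0, 10, 1, 5, 3, 5, 0, 11, 9, 4, 4, 8, 3, 3, 9]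
def rw206 : List ℕ := [0, 11, 1, 2, 5, 11, 8, 10, 4, 3, 0, 10, 1, 10, 6, 3, 6, 9, 0, 3, 7, 7, 8, 9, 9, 6, 6, 2, 1, 8, 7, 2, 7, 11]
def rw207 : List ℕ := [0, 2, 8, 1, 6, 10, 7, 0, 9, 3, 1, 4, 9, 6, 2, 10, 8, 10, 3, 6, 0, 10, 11, 11, 1, 7, 2, 11, 9, 11, 3, 7, 8, 5]
def rw208 : List ℕ := [0, 8, 6, 0, 3, 7, 10, 4, 9, 6, 3, 4, 7, 11, 2, 7, 7, 4]
def rw209 : List ℕ := [0, 8, 0, 11, 8, 1, 5, 6, 1, 5, 10, 8, 4, 7, 3, 8, 8, 7]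
def rw210 : List ℕ := [0, 11, 1, 2, 5, 11, 9, 6, 6, 2, 1, 8, 7, 2, 7, 0, 6, 3, 6, 9, 0, 3, 7, 7, 8, 10, 4, 3, 0, 10, 1, 10, 1, 11]
def rw211 : List ℕ := [0, 4, 1, 7, 9, 0, 5, 6, 8, 11, 6, 9, 2, 9, 11, 8, 10, 8, 3, 8, 7, 10, 9, 7, 4, 1, 8, 6, 0, 5, 1, 9]
def rw212 : List ℕ := [0, 7, 4, 0, 9, 10, 1, 9, 1, 6, 9, 9, 2, 6, 5, 9, 11, 4]
def rw213 : List ℕ := [0, 3, 4, 1, 1, 5, 11, 6, 8, 2, 4, 3, 8, 7, 1, 2, 4, 10]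
def rw214 : List ℕ := [0, 4, 8, 10, 9, 4, 2, 1, 1, 8, 11, 6, 8, 3, 4, 1, 5, 9]
def rw215 : List ℕ := [0, 0, 3, 11, 7, 9, 0, 8, 7, 0, 0, 0, 6, 6, 10, 2, 0, 2]
def rw216 : List ℕ := [0, 11, 6, 2, 4, 10, 8, 3, 8, 5, 1, 2, 8, 4, 2, 8, 5, 9, 3, 5, 9, 3, 0, 4, 9, 2, 9, 11, 5, 3, 7, 10, 1, 11, 4, 10]
def rw217 : List ℕ := [0, 2, 8, 1, 6, 5, 7, 0, 9, 3, 1, 4, 9, 6, 2, 10, 8, 10, 3, 6, 0, 10, 4, 11, 1, 7, 2, 11, 9, 11, 3, 7, 8, 5]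
def rw218 : List ℕ := [0, 9, 1, 9, 5, 8, 0, 7, 10, 6, 0, 4, 3, 7, 11, 4, 7]
def rw219 : List ℕ := [0, 11, 2, 0, 7, 4, 2, 8, 10, 1, 2, 9, 1, 5, 8, 4, 1, 3]
def rw220 : List ℕ := [0, 3, 1, 2, 1, 1, 2, 2, 0, 0, 3, 3, 0]
def rw221 : List ℕ := [0, 10, 1, 4, 6, 4, 2, 6, 11, 9, 1, 4, 4, 2, 7, 9, 2]
def rw222 : List ℕ := [0, 11, 0, 10, 1, 7, 7, 10, 10, 10, 1, 8, 8, 4, 0, 8, 3, 9, 5, 6, 1, 7, 4, 8, 2, 9, 1, 5, 9, 9, 0, 11, 11, 11, 6, 6]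
def rw223 : List ℕ := [0, 11, 7, 7, 1, 1, 1, 6, 9, 1, 8, 6, 10, 2, 1, 2]
def rw224 : List ℕ := [0, 11, 7, 8, 6, 3, 6, 1, 9, 9, 0, 3, 10, 1, 1, 7, 5, 0]
def rw225 : List ℕ := [0, 2, 0, 7, 5, 8, 1, 1, 10, 5, 8, 7, 5, 6, 2, 11, 7, 8]
def rw226 : List ℕ := [0, 9, 3, 1, 4, 9, 6, 2, 10, 8, 10, 3, 6, 0, 10, 8, 11, 1, 7, 2, 11, 9, 11, 3, 7, 8, 5, 0, 2, 8, 1, 6, 9, 7]
def rw227 : List ℕ := [0, 2, 4, 0, 2, 11, 5, 3, 0, 6, 9, 2, 5, 3, 9, 7, 10, 5]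
def rw228 : List ℕ := [0, 10, 7, 0, 9, 3, 1, 4, 9, 6, 2, 10, 3, 7, 8, 5, 0, 2, 8, 1, 6, 11, 1, 7, 2, 11, 9, 11, 11, 10, 8, 10, 3, 6]
def rw229 : List ℕ := [0, 6, 8, 0, 3, 10, 6, 6, 3, 6, 5, 1, 11, 6, 8, 0, 6, 8]
def rw230 : List ℕ := [0, 11, 6, 2, 4, 10, 8, 3, 8, 5, 1, 2, 8, 4, 2, 8, 1, 9, 3, 5, 9, 3, 0, 4, 9, 2, 9, 11, 5, 3, 7, 10, 1, 11, 0, 10]
def rw231 : List ℕ := [0, 11, 1, 3, 8, 6, 3, 5, 5, 0, 8, 10, 7, 3, 6, 4, 6]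
def rw232 : List ℕ := [0, 11, 5, 3, 0, 6, 9, 2, 5, 3, 9, 7, 10, 4, 1, 5, 1, 4]
def rw233 : List ℕ := [0, 2, 10, 3, 3, 7, 4, 0, 11, 3, 5, 8, 6, 0, 7]
def rw234 : List ℕ := [0, 11, 6, 2, 4, 10, 8, 3, 8, 5, 1, 2, 8, 4, 2, 8, 4, 9, 3, 5, 9, 3, 0, 4, 9, 2, 9, 11, 5, 3, 7, 10, 1, 11, 5, 10]
def rw235 : List ℕ := [0, 8, 0, 10, 5, 5, 1, 4, 1, 4, 11, 9, 4, 4, 8, 3, 3, 9]
def rw236 : List ℕ := [0, 4, 1, 7, 9, 0, 5, 6, 8, 1, 9, 7, 4, 1, 8, 6, 0, 5, 1, 10, 8, 3, 8, 7, 10, 0, 11, 6, 9, 2, 9, 11]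
def rw237 : List ℕ := [0, 5, 6, 8, 11, 6, 9, 2, 9, 11, 1, 10, 8, 3, 8, 7, 10, 9, 7, 4, 1, 8, 6, 0, 5, 1, 0, 0, 4, 1, 7, 9]
def rw238 : List ℕ := [0, 5, 11, 9, 7, 0, 9, 1, 3, 9, 0, 6, 8, 10, 6, 2, 2, 6]
def rw239 : List ℕ := [0, 11, 1, 9, 1, 8, 2, 2, 9, 5, 5, 8, 10, 0, 5, 2, 1, 4]
def rw240 : List ℕ := [0, 2, 8, 1, 6, 11, 7, 0, 9, 3, 1, 4, 9, 6, 2, 10, 8, 10, 3, 6, 0, 10, 10, 11, 1, 7, 2, 11, 9, 11, 3, 7, 8, 5]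
def rw241 : List ℕ := [0, 3, 0, 0, 11, 7, 7, 1, 1, 1, 6, 9, 1, 8, 6, 10, 0, 3]
def rw242 : List ℕ := [0, 7, 4, 2, 8, 10, 1, 2, 9, 1, 5, 8, 4, 1, 3, 0, 11, 2]
def rw243 : List ℕ := [0, 2, 0, 9, 2, 10, 9, 6, 5, 1, 5, 8, 11, 3, 8, 6, 0, 7]
def rw244 : List ℕ := [0, 3, 3, 11, 7, 7, 1, 1, 1, 6, 9, 1, 8, 6, 10, 3, 1, 3]
def rw245 : List ℕ := [0, 11, 1, 2, 5, 11, 4, 10, 4, 3, 0, 10, 1, 10, 6, 3, 6, 9, 0, 3, 7, 7, 8, 5, 9, 6, 6, 2, 1, 8, 7, 2, 7, 11]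
def rw246 : List ℕ := [0, 6, 8, 0, 4, 8, 10, 7, 2, 7, 3, 6, 1, 11, 3, 0, 7]
def rw247 : List ℕ := [0, 11, 7, 10, 1, 7, 7, 10, 10, 10, 1, 8, 8, 4, 0, 8, 3, 9, 5, 6, 6, 7, 4, 8, 2, 9, 1, 5, 9, 9, 0, 11, 11, 11, 6, 6]
def rw248 : List ℕ := [0, 10, 1, 10, 6, 3, 6, 9, 0, 3, 7, 7, 8, 6, 9, 6, 6, 2, 1, 8, 7, 2, 7, 11, 0, 11, 1, 2, 5, 11, 7, 10, 4, 3]
def rw249 : List ℕ := [0, 5, 0, 4, 4, 11, 1, 9, 1, 8, 2, 2, 9, 5, 5, 8, 10, 5]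
def rw250 : List ℕ := [0, 8, 6, 1, 9, 10, 4, 7, 0, 7, 2, 2, 11, 4, 2, 6, 5, 2]
def rw251 : List ℕ := [0, 7, 7, 2, 8, 5, 1, 10, 6, 2, 2, 4, 1, 7, 11, 4, 4]
def rw252 : List ℕ := [0, 7, 9, 5, 7, 1, 10, 4, 4, 2, 11, 2, 9, 2, 8]
def rw253 : List ℕ := [0, 5, 1, 10, 8, 3, 8, 7, 10, 7, 11, 6, 9, 2, 9, 11, 0, 4, 1, 7, 9, 0, 5, 6, 8, 6, 9, 7, 4, 1, 8, 6]
def rw254 : List ℕ := [0, 5, 5, 1, 3, 4, 11, 7, 9, 0, 8, 7, 0, 0, 0, 6, 6, 10]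
def rw255 : List ℕ := [0, 7, 8, 6, 1, 8, 0, 4, 0, 11, 6, 2, 5, 9, 3, 5, 10, 3]
def rw256 : List ℕ := [0, 5, 1, 10, 8, 3, 8, 7, 10, 2, 11, 6, 9, 2, 9, 11, 0, 4, 1, 7, 9, 0, 5, 6, 8, 3, 9, 7, 4, 1, 8, 6]
def rw257 : List ℕ := [0, 3, 10, 2, 5, 2, 6, 2, 1, 11, 6, 8, 0, 6, 8, 0, 6, 8]
def rw258 : List ℕ := [0, 6, 8, 0, 6, 8, 0, 3, 10, 2, 5, 2, 6, 2, 1, 11, 6, 8]
def rw259 : List ℕ := [0, 11, 1, 2, 5, 11, 9, 6, 6, 2, 1, 8, 7, 2, 7, 5, 6, 3, 6, 9, 0, 3, 7, 7, 8, 10, 4, 3, 0, 10, 1, 10, 4, 11]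
def rw260 : List ℕ := [0, 11, 1, 2, 5, 11, 9, 6, 6, 2, 1, 8, 7, 2, 7, 7, 6, 3, 6, 9, 0, 3, 7, 7, 8, 10, 4, 3, 0, 10, 1, 10, 6, 11]
def rw261 : List ℕ := [0, 11, 1, 2, 5, 11, 3, 10, 4, 3, 0, 10, 1, 10, 6, 3, 6, 9, 0, 3, 7, 7, 8, 2, 9, 6, 6, 2, 1, 8, 7, 2, 7, 11]
def rw262 : List ℕ := [0, 2, 11, 7, 7, 1, 1, 1, 6, 9, 1, 8, 6, 10, 2, 1, 1, 2]
def rw263 : List ℕ := [0, 5, 2, 11, 2, 9, 2, 8, 0, 7, 9, 5, 7, 1, 10, 0, 2, 4]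
def rw264 : List ℕ := [0, 11, 7, 9, 0, 8, 7, 0, 0, 0, 6, 6, 10, 3, 3, 3, 3]
def rw265 : List ℕ := [0, 10, 1, 10, 6, 3, 6, 9, 0, 3, 7, 7, 8, 7, 9, 6, 6, 2, 1, 8, 7, 2, 7, 11, 0, 11, 1, 2, 5, 11, 6, 10, 4, 3]
def rw266 : List ℕ := [0, 5, 9, 4, 0, 8, 3, 0, 11, 9, 3, 5, 6, 1, 3, 10, 1, 2]
def rw267 : List ℕ := [0, 0, 3, 11, 7, 9, 0, 8, 7, 0, 0, 0, 6, 6, 10, 3, 1, 3]
def rw268 : List ℕ := [0, 7, 9, 5, 7, 1, 10, 2, 4, 4, 2, 5, 5, 11, 2, 9, 2, 8]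
def rw269 : List ℕ := [0, 4, 1, 7, 9, 0, 5, 6, 8, 11, 6, 9, 2, 9, 11, 6, 10, 8, 3, 8, 7, 10, 9, 7, 4, 1, 8, 6, 0, 5, 1, 7]
def rw270 : List ℕ := [0, 11, 1, 2, 5, 11, 9, 6, 6, 2, 1, 8, 7, 2, 7, 1, 6, 3, 6, 9, 0, 3, 7, 7, 8, 10, 4, 3, 0, 10, 1, 10, 0, 11]
def rw271 : List ℕ := [0, 8, 7, 0, 0, 0, 6, 6, 10, 1, 3, 3, 1, 2, 0, 11, 7, 9]
def rw272 : List ℕ := [0, 5, 1, 10, 8, 3, 8, 7, 10, 8, 11, 6, 9, 2, 9, 11, 0, 4, 1, 7, 9, 0, 5, 6, 8, 9, 9, 7, 4, 1, 8, 6]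
def rw273 : List ℕ := [0, 11, 9, 4, 4, 8, 3, 3, 9, 0, 8, 0, 10, 5, 5, 5, 0, 5]
def rw274 : List ℕ := [0, 9, 3, 1, 4, 9, 6, 2, 10, 8, 10, 3, 6, 0, 10, 11, 11, 1, 7, 2, 11, 9, 11, 3, 7, 8, 5, 0, 2, 8, 1, 6, 10, 7]
def rw275 : List ℕ := [0, 11, 6, 2, 4, 10, 8, 3, 8, 5, 1, 2, 8, 4, 2, 8, 2, 9, 3, 5, 9, 3, 0, 4, 9, 2, 9, 11, 5, 3, 7, 10, 1, 11, 3, 10]
def rw276 : List ℕ := [0, 0, 6, 0, 10, 7, 4, 9, 3, 5, 7, 11, 8, 1, 9, 9, 5, 0]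
def rw277 : List ℕ := [0, 7, 9, 5, 7, 1, 10, 7, 5, 5, 7, 2, 11, 2, 9, 2, 8]
def rw278 : List ℕ := [0, 11, 7, 7, 1, 1, 1, 6, 9, 1, 8, 6, 10, 1, 3, 0, 2, 2]
def rw279 : List ℕ := [0, 8, 1, 6, 8, 10, 4, 1, 7, 3, 3, 7, 11, 9, 7, 1, 8, 2]
def rw280 : List ℕ := [0, 3, 7, 7, 8, 10, 4, 3, 0, 10, 1, 10, 11, 11, 0, 11, 1, 2, 5, 11, 9, 6, 6, 2, 1, 8, 7, 2, 7, 10, 6, 3, 6, 9]
def rw281 : List ℕ := [0, 4, 1, 7, 9, 0, 5, 6, 8, 4, 9, 7, 4, 1, 8, 6, 0, 5, 1, 10, 8, 3, 8, 7, 10, 5, 11, 6, 9, 2, 9, 11]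
def rw282 : List ℕ := [0, 5, 3, 3, 7, 11, 0, 4, 9, 3, 6, 6, 1, 5, 5, 10, 6]
def rw283 : List ℕ := [0, 5, 11, 7, 7, 1, 1, 1, 6, 9, 1, 8, 6, 10, 2, 5, 0]
def rw284 : List ℕ := [0, 10, 1, 10, 1, 11, 0, 11, 1, 2, 5, 11, 9, 6, 6, 2, 1, 8, 7, 2, 7, 0, 6, 3, 6, 9, 0, 3, 7, 7, 8, 10, 4, 3]
def rw285 : List ℕ := [0, 10, 7, 0, 9, 3, 1, 4, 9, 6, 2, 3, 3, 7, 8, 5, 0, 2, 8, 1, 6, 11, 1, 7, 2, 11, 9, 11, 2, 10, 8, 10, 3, 6]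
def rw286 : List ℕ := [0, 6, 4, 8, 6, 1, 9, 3, 8, 3, 10, 2, 4, 4, 2, 2, 11]
def rw287 : List ℕ := [0, 9, 4, 6, 1, 3, 1, 9, 6, 10, 3, 7, 4, 6, 9, 4, 11, 0]
def rw288 : List ℕ := [0, 3, 10, 5, 7, 3, 7, 2, 1, 11, 6, 8, 0, 6, 8, 0, 6, 8]
def rw289 : List ℕ := [0, 0, 0, 6, 6, 10, 3, 4, 1, 4, 0, 4, 11, 7, 9, 0, 8, 7]
def rw290 : List ℕ := [0, 6, 8, 0, 3, 10, 5, 7, 3, 7, 2, 1, 11, 6, 8, 0, 6, 8]
def rw291 : List ℕ := [0, 5, 6, 8, 8, 9, 7, 4, 1, 8, 6, 0, 5, 1, 10, 8, 3, 8, 7, 10, 9, 11, 6, 9, 2, 9, 11, 0, 4, 1, 7, 9]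
def rw292 : List ℕ := [0, 10, 7, 0, 9, 3, 1, 4, 9, 6, 2, 0, 3, 7, 8, 5, 0, 2, 8, 1, 6, 11, 1, 7, 2, 11, 9, 11, 1, 10, 8, 10, 3, 6]
def rw293 : List ℕ := [0, 11, 8, 1, 5, 6, 1, 5, 10, 8, 4, 7, 3, 8, 8, 7, 0, 8]
def rw294 : List ℕ := [0, 4, 1, 7, 9, 0, 5, 6, 8, 8, 9, 7, 4, 1, 8, 6, 0, 5, 1, 10, 8, 3, 8, 7, 10, 9, 11, 6, 9, 2, 9, 11]
def rw295 : List ℕ := [0, 9, 3, 1, 4, 9, 6, 2, 6, 3, 7, 8, 5, 0, 2, 8, 1, 6, 11, 1, 7, 2, 11, 9, 11, 7, 10, 8, 10, 3, 6, 0, 10, 7]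
def rw296 : List ℕ := [0, 11, 8, 10, 1, 7, 7, 10, 10, 10, 1, 8, 8, 4, 0, 8, 3, 9, 5, 6, 9, 7, 4, 8, 2, 9, 1, 5, 9, 9, 0, 11, 11, 11, 6, 6]
def rw297 : List ℕ := [0, 7, 1, 2, 8, 10, 4, 2, 1, 6, 1, 3, 11, 9, 0, 3, 8, 7]
def rw298 : List ℕ := [0, 6, 4, 8, 6, 1, 9, 3, 8, 3, 10, 5, 5, 3, 5, 5, 2, 11]
def rw299 : List ℕ := [0, 3, 10, 4, 3, 4, 6, 2, 1, 11, 6, 8, 0, 6, 8, 0, 6, 8]
def rw300 : List ℕ := [0, 3, 4, 1, 11, 9, 4, 4, 8, 3, 3, 9, 0, 8, 0, 10, 1, 5]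
def rw301 : List ℕ := [0, 8, 10, 7, 3, 6, 4, 6, 0, 11, 1, 3, 8, 6, 3, 5, 5]
def rw302 : List ℕ := [0, 4, 3, 7, 11, 4, 7, 0, 9, 1, 9, 5, 8, 0, 7, 10, 6]
def rw303 : List ℕ := [0, 10, 1, 10, 6, 3, 6, 9, 0, 3, 7, 7, 8, 8, 9, 6, 6, 2, 1, 8, 7, 2, 7, 11, 0, 11, 1, 2, 5, 11, 9, 10, 4, 3]
def rw304 : List ℕ := [0, 11, 1, 2, 5, 11, 1, 10, 4, 3, 0, 10, 1, 10, 6, 3, 6, 9, 0, 3, 7, 7, 8, 0, 9, 6, 6, 2, 1, 8, 7, 2, 7, 11]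
def rw305 : List ℕ := [0, 6, 9, 2, 5, 3, 9, 7, 10, 2, 5, 5, 3, 4, 11, 5, 3]
def rw306 : List ℕ := [0, 6, 9, 2, 5, 3, 9, 7, 10, 5, 0, 2, 4, 0, 2, 11, 5, 3]
def rw307 : List ℕ := [0, 8, 0, 10, 5, 5, 5, 0, 5, 0, 11, 9, 4, 4, 8, 3, 3, 9]
def rw308 : List ℕ := [0, 11, 6, 2, 4, 10, 8, 3, 8, 5, 1, 2, 8, 4, 2, 8, 6, 9, 3, 5, 9, 3, 0, 4, 9, 2, 9, 11, 5, 3, 7, 10, 1, 11, 7, 10]
def rw309 : List ℕ := [0, 11, 9, 3, 5, 6, 1, 3, 10, 1, 2, 0, 5, 9, 4, 0, 8, 3]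
def rw310 : List ℕ := [0, 4, 1, 7, 9, 0, 5, 6, 8, 11, 9, 7, 4, 1, 8, 6, 0, 5, 1, 10, 8, 3, 8, 7, 10, 10, 11, 6, 9, 2, 9, 11]
def rw311 : List ℕ := [0, 0, 9, 4, 6, 1, 3, 1, 9, 6, 10, 3, 4, 6, 5, 9, 4, 11]
def rw312 : List ℕ := [0, 3, 11, 7, 9, 0, 8, 7, 0, 0, 0, 6, 6, 10, 2, 2, 0, 2]
def rw313 : List ℕ := [0, 6, 4, 8, 6, 1, 9, 3, 8, 3, 10, 3, 6, 4, 4, 6, 11]
def rw314 : List ℕ := [0, 9, 3, 10, 7, 4, 9, 2, 4, 7, 11, 2, 7, 9, 2, 0, 0, 6]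
def rw315 : List ℕ := [0, 6, 6, 10, 4, 1, 1, 4, 3, 11, 7, 9, 0, 8, 7, 0, 0]
def rw316 : List ℕ := [0, 10, 1, 10, 0, 11, 0, 11, 1, 2, 5, 11, 9, 6, 6, 2, 1, 8, 7, 2, 7, 1, 6, 3, 6, 9, 0, 3, 7, 7, 8, 10, 4, 3]
def rw317 : List ℕ := [0, 6, 0, 10, 7, 4, 9, 3, 5, 7, 11, 8, 1, 9, 9, 5, 0, 0]
def rw318 : List ℕ := [0, 6, 9, 2, 5, 3, 9, 7, 10, 4, 1, 5, 1, 4, 0, 11, 5, 3]
def rw319 : List ℕ := [0, 0, 9, 2, 6, 3, 11, 9, 3, 6, 3, 3, 6, 10, 4, 7, 3, 8]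
def rw320 : List ℕ := [0, 6, 8, 0, 6, 8, 0, 3, 10, 4, 3, 4, 6, 2, 1, 11, 6, 8]
def rw321 : List ℕ := [0, 11, 1, 2, 5, 11, 7, 10, 4, 3, 0, 10, 1, 10, 6, 3, 6, 9, 0, 3, 7, 7, 8, 6, 9, 6, 6, 2, 1, 8, 7, 2, 7, 11]
def rw322 : List ℕ := [0, 2, 8, 1, 6, 9, 7, 0, 9, 3, 1, 4, 9, 6, 2, 10, 8, 10, 3, 6, 0, 10, 8, 11, 1, 7, 2, 11, 9, 11, 3, 7, 8, 5]
def rw323 : List ℕ := [0, 10, 4, 11, 1, 7, 2, 11, 9, 11, 3, 7, 8, 5, 0, 2, 8, 1, 6, 5, 7, 0, 9, 3, 1, 4, 9, 6, 2, 10, 8, 10, 3, 6]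
def rw324 : List ℕ := [0, 0, 9, 0, 9, 0, 5, 8, 8, 8, 10, 7, 7, 0, 0, 4, 6, 11]
def rw325 : List ℕ := [0, 3, 7, 7, 8, 2, 9, 6, 6, 2, 1, 8, 7, 2, 7, 11, 0, 11, 1, 2, 5, 11, 3, 10, 4, 3, 0, 10, 1, 10, 6, 3, 6, 9]
def rw326 : List ℕ := [0, 5, 2, 9, 7, 10, 9, 0, 0, 3, 5, 8, 11, 9, 5, 1, 8, 4]
def rw327 : List ℕ := [0, 10, 1, 10, 6, 3, 6, 9, 0, 3, 7, 7, 8, 5, 9, 6, 6, 2, 1, 8, 7, 2, 7, 11, 0, 11, 1, 2, 5, 11, 4, 10, 4, 3]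
def rw328 : List ℕ := [0, 10, 6, 11, 1, 7, 2, 11, 9, 11, 3, 7, 8, 5, 0, 2, 8, 1, 6, 7, 7, 0, 9, 3, 1, 4, 9, 6, 2, 10, 8, 10, 3, 6]
def rw329 : List ℕ := [0, 6, 0, 9, 3, 10, 7, 4, 9, 2, 4, 7, 11, 2, 7, 9, 2, 0]
def rw330 : List ℕ := [0, 6, 9, 2, 5, 3, 9, 7, 10, 4, 0, 0, 5, 2, 1, 11, 5, 3]
def rw331 : List ℕ := [0, 0, 0, 6, 6, 10, 2, 2, 1, 1, 3, 1, 11, 7, 9, 0, 8, 7]
def rw332 : List ℕ := [0, 8, 3, 0, 11, 9, 3, 5, 6, 1, 3, 10, 1, 2, 0, 5, 9, 4]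
def rw333 : List ℕ := [0, 4, 1, 7, 9, 0, 5, 6, 8, 11, 6, 9, 2, 9, 11, 5, 10, 8, 3, 8, 7, 10, 9, 7, 4, 1, 8, 6, 0, 5, 1, 4]
def rw334 : List ℕ := [0, 4, 4, 1, 11, 7, 7, 1, 1, 1, 6, 9, 1, 8, 6, 10, 5, 2]
def rw335 : List ℕ := [0, 0, 0, 6, 6, 10, 2, 2, 1, 3, 1, 3, 11, 7, 9, 0, 8, 7]
def rw336 : List ℕ := [0, 2, 8, 1, 6, 6, 7, 0, 9, 3, 1, 4, 9, 6, 2, 10, 8, 10, 3, 6, 0, 10, 7, 11, 1, 7, 2, 11, 9, 11, 3, 7, 8, 5]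
def rw337 : List ℕ := [0, 7, 4, 3, 7, 4, 11, 4, 3, 5, 8, 2, 5, 10, 6, 5, 3, 8]
def rw338 : List ℕ := [0, 0, 0, 0, 0, 0, 0]
def rw339 : List ℕ := [0, 2, 8, 1, 6, 2, 7, 0, 9, 3, 1, 4, 9, 6, 2, 10, 8, 10, 3, 6, 0, 10, 3, 11, 1, 7, 2, 11, 9, 11, 3, 7, 8, 5]
def rw340 : List ℕ := [0, 11, 6, 10, 1, 7, 7, 10, 10, 10, 1, 8, 8, 4, 0, 8, 3, 9, 5, 6, 7, 7, 4, 8, 2, 9, 1, 5, 9, 9, 0, 11, 11, 11, 6, 6]
def rw341 : List ℕ := [0, 11, 11, 11, 6, 6, 0, 11, 1, 10, 1, 7, 7, 10, 10, 10, 1, 8, 8, 4, 0, 8, 3, 9, 5, 6, 0, 7, 4, 8, 2, 9, 1, 5, 9, 9]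
def rw342 : List ℕ := [0, 8, 7, 0, 0, 0, 6, 6, 10, 2, 2, 1, 1, 3, 1, 11, 7, 9]
def rw343 : List ℕ := [0, 10, 1, 10, 6, 3, 6, 9, 0, 3, 7, 7, 8, 0, 9, 6, 6, 2, 1, 8, 7, 2, 7, 11, 0, 11, 1, 2, 5, 11, 1, 10, 4, 3]
def rw344 : List ℕ := [0, 10, 5, 11, 1, 7, 2, 11, 9, 11, 3, 7, 8, 5, 0, 2, 8, 1, 6, 4, 7, 0, 9, 3, 1, 4, 9, 6, 2, 10, 8, 10, 3, 6]
def rw345 : List ℕ := [0, 5, 1, 10, 8, 3, 8, 7, 10, 4, 11, 6, 9, 2, 9, 11, 0, 4, 1, 7, 9, 0, 5, 6, 8, 5, 9, 7, 4, 1, 8, 6]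
def rw346 : List ℕ := [0, 9, 3, 1, 4, 9, 6, 2, 11, 3, 7, 8, 5, 0, 2, 8, 1, 6, 11, 1, 7, 2, 11, 9, 11, 10, 10, 8, 10, 3, 6, 0, 10, 7]
def rw347 : List ℕ := [0, 6, 6, 10, 2, 2, 1, 2, 0, 2, 11, 7, 9, 0, 8, 7, 0, 0]
def rw348 : List ℕ := [0, 10, 1, 10, 6, 3, 6, 9, 0, 3, 7, 7, 8, 11, 9, 6, 6, 2, 1, 8, 7, 2, 7, 11, 0, 11, 1, 2, 5, 11, 10, 10, 4, 3]
def rw349 : List ℕ := [0, 5, 6, 8, 11, 9, 7, 4, 1, 8, 6, 0, 5, 1, 10, 8, 3, 8, 7, 10, 10, 11, 6, 9, 2, 9, 11, 0, 4, 1, 7, 9]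
def rw350 : List ℕ := [0, 6, 8, 0, 3, 10, 2, 5, 2, 6, 2, 1, 11, 6, 8, 0, 6, 8]
def rw351 : List ℕ := [0, 10, 7, 0, 9, 3, 1, 4, 9, 6, 2, 2, 3, 7, 8, 5, 0, 2, 8, 1, 6, 11, 1, 7, 2, 11, 9, 11, 3, 10, 8, 10, 3, 6]
def rw352 : List ℕ := [0, 11, 2, 1, 8, 8, 0, 7, 2, 7, 9, 6, 10, 1, 1, 4, 6, 0]
def rw353 : List ℕ := [0, 8, 2, 7, 8, 11, 5, 6, 2, 5, 8, 7, 10, 7, 0, 8, 1, 7]
def rw354 : List ℕ := [0, 0, 0, 6, 6, 10, 0, 2, 0, 0, 0, 3, 11, 7, 9, 0, 8, 7]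
def rw355 : List ℕ := [0, 11, 7, 7, 1, 1, 1, 6, 9, 1, 8, 6, 10, 0, 3, 0, 3, 0]
def rw356 : List ℕ := [0, 5, 1, 10, 8, 3, 8, 7, 10, 3, 11, 6, 9, 2, 9, 11, 0, 4, 1, 7, 9, 0, 5, 6, 8, 2, 9, 7, 4, 1, 8, 6]
def rw357 : List ℕ := [0, 7, 9, 5, 7, 1, 10, 3, 5, 5, 3, 5, 5, 11, 2, 9, 2, 8]
def rw358 : List ℕ := [0, 8, 7, 0, 0, 0, 6, 6, 10, 2, 2, 2, 0, 11, 7, 9]
def rw359 : List ℕ := [0, 10, 7, 0, 9, 3, 1, 4, 9, 6, 2, 9, 3, 7, 8, 5, 0, 2, 8, 1, 6, 11, 1, 7, 2, 11, 9, 11, 8, 10, 8, 10, 3, 6]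
def rw360 : List ℕ := [0, 3, 7, 5, 2, 5, 11, 2, 1, 9, 7, 1, 9, 7, 1, 9, 7, 10]
def rw361 : List ℕ := [0, 6, 6, 10, 1, 3, 0, 3, 11, 7, 9, 0, 8, 7, 0, 0]
def rw362 : List ℕ := [0, 0, 0, 6, 6, 10, 2, 2, 1, 2, 0, 2, 11, 7, 9, 0, 8, 7]
def rw363 : List ℕ := [0, 11, 1, 2, 5, 11, 10, 10, 4, 3, 0, 10, 1, 10, 6, 3, 6, 9, 0, 3, 7, 7, 8, 11, 9, 6, 6, 2, 1, 8, 7, 2, 7, 11]
def rw364 : List ℕ := [0, 11, 1, 3, 8, 6, 3, 5, 5, 0, 8, 10, 7, 3, 4, 6, 4]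
def rw365 : List ℕ := [0, 11, 3, 10, 1, 7, 7, 10, 10, 10, 1, 8, 8, 4, 0, 8, 3, 9, 5, 6, 2, 7, 4, 8, 2, 9, 1, 5, 9, 9, 0, 11, 11, 11, 6, 6]
def rw366 : List ℕ := [0, 2, 8, 1, 6, 11, 1, 7, 2, 11, 9, 11, 9, 10, 8, 10, 3, 6, 0, 10, 7, 0, 9, 3, 1, 4, 9, 6, 2, 8, 3, 7, 8, 5]
def rw367 : List ℕ := [0, 8, 7, 0, 0, 0, 6, 6, 10, 4, 1, 1, 4, 3, 11, 7, 9]
def rw368 : List ℕ := [0, 7, 9, 5, 7, 1, 10, 2, 6, 2, 4, 3, 6, 11, 2, 9, 2, 8]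
def rw369 : List ℕ := [0, 11, 1, 3, 8, 6, 3, 5, 5, 0, 8, 10, 7, 3, 5, 7, 5]
def rw370 : List ℕ := [0, 3, 7, 7, 8, 10, 4, 3, 0, 10, 1, 10, 1, 11, 0, 11, 1, 2, 5, 11, 9, 6, 6, 2, 1, 8, 7, 2, 7, 0, 6, 3, 6, 9]
def rw371 : List ℕ := [0, 10, 8, 11, 1, 7, 2, 11, 9, 11, 3, 7, 8, 5, 0, 2, 8, 1, 6, 9, 7, 0, 9, 3, 1, 4, 9, 6, 2, 10, 8, 10, 3, 6]
def rw372 : List ℕ := [0, 10, 1, 10, 6, 3, 6, 9, 0, 3, 7, 7, 8, 1, 9, 6, 6, 2, 1, 8, 7, 2, 7, 11, 0, 11, 1, 2, 5, 11, 0, 10, 4, 3]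
def rw373 : List ℕ := [0, 6, 4, 8, 6, 1, 9, 3, 8, 3, 10, 3, 4, 1, 5, 3, 1, 11]
def rw374 : List ℕ := [0, 10, 1, 10, 10, 11, 0, 11, 1, 2, 5, 11, 9, 6, 6, 2, 1, 8, 7, 2, 7, 11, 6, 3, 6, 9, 0, 3, 7, 7, 8, 10, 4, 3]
def rw375 : List ℕ := [0, 10, 9, 11, 1, 7, 2, 11, 9, 11, 3, 7, 8, 5, 0, 2, 8, 1, 6, 8, 7, 0, 9, 3, 1, 4, 9, 6, 2, 10, 8, 10, 3, 6]
def rw376 : List ℕ := [0, 5, 6, 8, 7, 9, 7, 4, 1, 8, 6, 0, 5, 1, 10, 8, 3, 8, 7, 10, 6, 11, 6, 9, 2, 9, 11, 0, 4, 1, 7, 9]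
def rw377 : List ℕ := [0, 3, 11, 7, 9, 0, 8, 7, 0, 0, 0, 6, 6, 10, 2, 0, 2, 0]
def rw378 : List ℕ := [0, 4, 1, 7, 9, 0, 5, 6, 8, 2, 9, 7, 4, 1, 8, 6, 0, 5, 1, 10, 8, 3, 8, 7, 10, 3, 11, 6, 9, 2, 9, 11]
def rw379 : List ℕ := [0, 10, 1, 10, 6, 3, 6, 9, 0, 3, 7, 7, 8, 4, 9, 6, 6, 2, 1, 8, 7, 2, 7, 11, 0, 11, 1, 2, 5, 11, 5, 10, 4, 3]
def rw380 : List ℕ := [0, 2, 8, 1, 6, 11, 1, 7, 2, 11, 9, 11, 10, 10, 8, 10, 3, 6, 0, 10, 7, 0, 9, 3, 1, 4, 9, 6, 2, 11, 3, 7, 8, 5]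
def rw381 : List ℕ := [0, 6, 4, 8, 6, 1, 9, 3, 8, 3, 10, 7, 2, 5, 3, 7, 3, 11]
def rw382 : List ℕ := [0, 4, 9, 2, 9, 11, 5, 3, 7, 10, 1, 11, 8, 10, 0, 11, 6, 2, 4, 10, 8, 3, 8, 5, 1, 2, 8, 4, 2, 8, 9, 9, 3, 5, 9, 3]
def rw383 : List ℕ := [0, 10, 1, 10, 2, 11, 0, 11, 1, 2, 5, 11, 9, 6, 6, 2, 1, 8, 7, 2, 7, 3, 6, 3, 6, 9, 0, 3, 7, 7, 8, 10, 4, 3]
def rw384 : List ℕ := [0, 3, 9, 3, 5, 0, 4, 2, 8, 1, 11, 3, 3, 5, 7, 9, 10]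
def rw385 : List ℕ := [0, 0, 0, 6, 6, 10, 4, 3, 3, 3, 4, 0, 11, 7, 9, 0, 8, 7]
def rw386 : List ℕ := [0, 5, 1, 10, 8, 3, 8, 7, 10, 0, 11, 6, 9, 2, 9, 11, 0, 4, 1, 7, 9, 0, 5, 6, 8, 1, 9, 7, 4, 1, 8, 6]
def rw387 : List ℕ := [0, 6, 6, 10, 1, 1, 2, 1, 2, 1, 11, 7, 9, 0, 8, 7, 0, 0]
def rw388 : List ℕ := [0, 10, 0, 11, 1, 7, 2, 11, 9, 11, 3, 7, 8, 5, 0, 2, 8, 1, 6, 1, 7, 0, 9, 3, 1, 4, 9, 6, 2, 10, 8, 10, 3, 6]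
def rw389 : List ℕ := [0, 0, 0, 6, 6, 10, 2, 2, 2, 0, 11, 7, 9, 0, 8, 7]
def rw390 : List ℕ := [0, 0, 6, 6, 10, 4, 1, 1, 4, 3, 11, 7, 9, 0, 8, 7, 0]
def rw391 : List ℕ := [0, 11, 1, 2, 5, 11, 9, 10, 4, 3, 0, 10, 1, 10, 6, 3, 6, 9, 0, 3, 7, 7, 8, 8, 9, 6, 6, 2, 1, 8, 7, 2, 7, 11]
def rw392 : List ℕ := [0, 6, 6, 10, 3, 4, 1, 4, 0, 4, 11, 7, 9, 0, 8, 7, 0, 0]
def rw393 : List ℕ := [0, 10, 7, 0, 9, 3, 1, 4, 9, 6, 2, 4, 3, 7, 8, 5, 0, 2, 8, 1, 6, 11, 1, 7, 2, 11, 9, 11, 5, 10, 8, 10, 3, 6]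
def rw394 : List ℕ := [0, 2, 8, 1, 6, 11, 1, 7, 2, 11, 9, 11, 3, 10, 8, 10, 3, 6, 0, 10, 7, 0, 9, 3, 1, 4, 9, 6, 2, 2, 3, 7, 8, 5]
def rw395 : List ℕ := [0, 8, 3, 9, 5, 6, 11, 7, 4, 8, 2, 9, 1, 5, 9, 9, 0, 11, 11, 11, 6, 6, 0, 11, 10, 10, 1, 7, 7, 10, 10, 10, 1, 8, 8, 4]
def rw396 : List ℕ := [0, 6, 6, 10, 2, 2, 2, 0, 11, 7, 9, 0, 8, 7, 0, 0]
def rw397 : List ℕ := [0, 8, 7, 0, 0, 0, 6, 6, 10, 2, 2, 1, 3, 1, 3, 11, 7, 9]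
def rw398 : List ℕ := [0, 8, 0, 10, 1, 5, 0, 3, 4, 1, 11, 9, 4, 4, 8, 3, 3, 9]
def rw399 : List ℕ := [0, 10, 1, 10, 7, 11, 0, 11, 1, 2, 5, 11, 9, 6, 6, 2, 1, 8, 7, 2, 7, 6, 6, 3, 6, 9, 0, 3, 7, 7, 8, 10, 4, 3]
def rw400 : List ℕ := [0, 10, 1, 7, 5, 7, 2, 6, 11, 9, 1, 4, 4, 2, 7, 9, 2]
def rw401 : List ℕ := [0, 4, 9, 2, 9, 11, 5, 3, 7, 10, 1, 11, 4, 10, 0, 11, 6, 2, 4, 10, 8, 3, 8, 5, 1, 2, 8, 4, 2, 8, 5, 9, 3, 5, 9, 3]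
def rw402 : List ℕ := [0, 10, 7, 0, 9, 3, 1, 4, 9, 6, 2, 11, 3, 7, 8, 5, 0, 2, 8, 1, 6, 11, 1, 7, 2, 11, 9, 11, 10, 10, 8, 10, 3, 6]
def rw403 : List ℕ := [0, 11, 7, 9, 0, 8, 7, 0, 0, 0, 6, 6, 10, 4, 3, 3, 3, 4]
def rw404 : List ℕ := [0, 0, 9, 4, 6, 1, 3, 1, 9, 6, 10, 3, 7, 4, 6, 9, 4, 11]
def rw405 : List ℕ := [0, 10, 1, 10, 6, 3, 6, 9, 0, 3, 7, 7, 8, 9, 9, 6, 6, 2, 1, 8, 7, 2, 7, 11, 0, 11, 1, 2, 5, 11, 8, 10, 4, 3]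
def rw406 : List ℕ := [0, 5, 1, 2, 0, 4, 1, 7, 9, 0, 5, 6, 8, 11, 6, 9, 2, 9, 11, 3, 10, 8, 3, 8, 7, 10, 9, 7, 4, 1, 8, 6]
def rw407 : List ℕ := [0, 3, 7, 7, 8, 1, 9, 6, 6, 2, 1, 8, 7, 2, 7, 11, 0, 11, 1, 2, 5, 11, 0, 10, 4, 3, 0, 10, 1, 10, 6, 3, 6, 9]
def rw408 : List ℕ := [0, 4, 1, 7, 9, 0, 5, 6, 8, 6, 9, 7, 4, 1, 8, 6, 0, 5, 1, 10, 8, 3, 8, 7, 10, 7, 11, 6, 9, 2, 9, 11]
def rw409 : List ℕ := [0, 10, 1, 10, 6, 3, 6, 9, 0, 3, 7, 7, 8, 2, 9, 6, 6, 2, 1, 8, 7, 2, 7, 11, 0, 11, 1, 2, 5, 11, 3, 10, 4, 3]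
def rw410 : List ℕ := [0, 5, 6, 8, 9, 9, 7, 4, 1, 8, 6, 0, 5, 1, 10, 8, 3, 8, 7, 10, 8, 11, 6, 9, 2, 9, 11, 0, 4, 1, 7, 9]
def rw411 : List ℕ := [0, 11, 2, 10, 1, 7, 7, 10, 10, 10, 1, 8, 8, 4, 0, 8, 3, 9, 5, 6, 3, 7, 4, 8, 2, 9, 1, 5, 9, 9, 0, 11, 11, 11, 6, 6]
def rw412 : List ℕ := [0, 5, 6, 8, 5, 9, 7, 4, 1, 8, 6, 0, 5, 1, 10, 8, 3, 8, 7, 10, 4, 11, 6, 9, 2, 9, 11, 0, 4, 1, 7, 9]
def rw413 : List ℕ := [0, 7, 9, 5, 7, 1, 10, 2, 5, 5, 3, 4, 11, 2, 9, 2, 8]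
def rw414 : List ℕ := [0, 8, 10, 7, 3, 7, 5, 7, 0, 11, 1, 3, 8, 6, 3, 5, 5]
def rw415 : List ℕ := [0, 8, 3, 9, 5, 6, 10, 7, 4, 8, 2, 9, 1, 5, 9, 9, 0, 11, 11, 11, 6, 6, 0, 11, 11, 10, 1, 7, 7, 10, 10, 10, 1, 8, 8, 4]
def rw416 : List ℕ := [0, 10, 7, 0, 9, 3, 1, 4, 9, 6, 2, 1, 3, 7, 8, 5, 0, 2, 8, 1, 6, 11, 1, 7, 2, 11, 9, 11, 0, 10, 8, 10, 3, 6]
def rw417 : List ℕ := [0, 2, 0, 7, 5, 8, 1, 1, 10, 5, 8, 4, 7, 5, 2, 11, 7, 8]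
def rw418 : List ℕ := [0, 5, 6, 8, 11, 6, 9, 2, 9, 11, 10, 10, 8, 3, 8, 7, 10, 9, 7, 4, 1, 8, 6, 0, 5, 1, 11, 0, 4, 1, 7, 9]
def rw419 : List ℕ := [0, 4, 1, 7, 9, 0, 5, 6, 8, 9, 9, 7, 4, 1, 8, 6, 0, 5, 1, 10, 8, 3, 8, 7, 10, 8, 11, 6, 9, 2, 9, 11]
def rw420 : List ℕ := [0, 5, 1, 10, 8, 3, 8, 7, 10, 1, 11, 6, 9, 2, 9, 11, 0, 4, 1, 7, 9, 0, 5, 6, 8, 0, 9, 7, 4, 1, 8, 6]
def rw421 : List ℕ := [0, 8, 7, 0, 0, 0, 6, 6, 10, 2, 1, 3, 3, 11, 7, 9]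
def rw422 : List ℕ := [0, 10, 1, 10, 11, 11, 0, 11, 1, 2, 5, 11, 9, 6, 6, 2, 1, 8, 7, 2, 7, 10, 6, 3, 6, 9, 0, 3, 7, 7, 8, 10, 4, 3]
def rw423 : List ℕ := [0, 3, 7, 7, 8, 10, 4, 3, 0, 10, 1, 10, 3, 11, 0, 11, 1, 2, 5, 11, 9, 6, 6, 2, 1, 8, 7, 2, 7, 2, 6, 3, 6, 9]
def rw424 : List ℕ := [0, 10, 1, 5, 7, 5, 2, 6, 11, 9, 1, 4, 4, 2, 7, 9, 2]
def rw425 : List ℕ := [0, 11, 11, 10, 1, 7, 7, 10, 10, 10, 1, 8, 8, 4, 0, 8, 3, 9, 5, 6, 10, 7, 4, 8, 2, 9, 1, 5, 9, 9, 0, 11, 11, 11, 6, 6]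
def rw426 : List ℕ := [0, 11, 9, 10, 1, 7, 7, 10, 10, 10, 1, 8, 8, 4, 0, 8, 3, 9, 5, 6, 8, 7, 4, 8, 2, 9, 1, 5, 9, 9, 0, 11, 11, 11, 6, 6]
def rw427 : List ℕ := [0, 6, 9, 2, 5, 3, 9, 7, 10, 7, 5, 5, 7, 2, 11, 5, 3]
def rw428 : List ℕ := [0, 5, 1, 10, 0, 4, 1, 7, 9, 0, 5, 6, 8, 11, 6, 9, 2, 9, 11, 11, 10, 8, 3, 8, 7, 10, 9, 7, 4, 1, 8, 6]
def rw429 : List ℕ := [0, 5, 6, 8, 11, 6, 9, 2, 9, 11, 7, 10, 8, 3, 8, 7, 10, 9, 7, 4, 1, 8, 6, 0, 5, 1, 6, 0, 4, 1, 7, 9]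
def rw430 : List ℕ := [0, 8, 3, 9, 5, 6, 4, 7, 4, 8, 2, 9, 1, 5, 9, 9, 0, 11, 11, 11, 6, 6, 0, 11, 5, 10, 1, 7, 7, 10, 10, 10, 1, 8, 8, 4]
def rw431 : List ℕ := [0, 7, 9, 5, 7, 1, 10, 0, 2, 4, 0, 5, 2, 11, 2, 9, 2, 8]
def rw432 : List ℕ := [0, 10, 7, 0, 9, 3, 1, 4, 9, 6, 2, 8, 3, 7, 8, 5, 0, 2, 8, 1, 6, 11, 1, 7, 2, 11, 9, 11, 9, 10, 8, 10, 3, 6]
def rw433 : List ℕ := [0, 4, 9, 2, 9, 11, 5, 3, 7, 10, 1, 11, 10, 10, 0, 11, 6, 2, 4, 10, 8, 3, 8, 5, 1, 2, 8, 4, 2, 8, 11, 9, 3, 5, 9, 3]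
def rw434 : List ℕ := [0, 11, 11, 11, 6, 6, 0, 11, 4, 10, 1, 7, 7, 10, 10, 10, 1, 8, 8, 4, 0, 8, 3, 9, 5, 6, 5, 7, 4, 8, 2, 9, 1, 5, 9, 9]
def rw435 : List ℕ := [0, 11, 11, 11, 6, 6, 0, 11, 8, 10, 1, 7, 7, 10, 10, 10, 1, 8, 8, 4, 0, 8, 3, 9, 5, 6, 9, 7, 4, 8, 2, 9, 1, 5, 9, 9]
def rw436 : List ℕ := [0, 6, 9, 2, 5, 3, 9, 7, 10, 3, 3, 5, 5, 3, 11, 5, 3]
def rw437 : List ℕ := [0, 11, 4, 10, 1, 7, 7, 10, 10, 10, 1, 8, 8, 4, 0, 8, 3, 9, 5, 6, 5, 7, 4, 8, 2, 9, 1, 5, 9, 9, 0, 11, 11, 11, 6, 6]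
def rw438 : List ℕ := [0, 3, 7, 7, 8, 10, 9, 6, 6, 2, 1, 8, 7, 2, 7, 11, 0, 11, 1, 2, 5, 11, 11, 10, 4, 3, 0, 10, 1, 10, 6, 3, 6, 9]
def rw439 : List ℕ := [0, 10, 7, 0, 9, 3, 1, 4, 9, 6, 2, 7, 3, 7, 8, 5, 0, 2, 8, 1, 6, 11, 1, 7, 2, 11, 9, 11, 6, 10, 8, 10, 3, 6]
def rw440 : List ℕ := [0, 10, 7, 11, 1, 7, 2, 11, 9, 11, 3, 7, 8, 5, 0, 2, 8, 1, 6, 6, 7, 0, 9, 3, 1, 4, 9, 6, 2, 10, 8, 10, 3, 6]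
def rw441 : List ℕ := [0, 5, 6, 8, 11, 6, 9, 2, 9, 11, 9, 10, 8, 3, 8, 7, 10, 9, 7, 4, 1, 8, 6, 0, 5, 1, 8, 0, 4, 1, 7, 9]
def rw442 : List ℕ := [0, 10, 1, 10, 9, 11, 0, 11, 1, 2, 5, 11, 9, 6, 6, 2, 1, 8, 7, 2, 7, 8, 6, 3, 6, 9, 0, 3, 7, 7, 8, 10, 4, 3]
def rw443 : List ℕ := [0, 10, 1, 10, 6, 3, 6, 9, 0, 3, 7, 7, 8, 10, 9, 6, 6, 2, 1, 8, 7, 2, 7, 11, 0, 11, 1, 2, 5, 11, 11, 10, 4, 3]
def rw444 : List ℕ := [0, 4, 9, 2, 9, 11, 5, 3, 7, 10, 1, 11, 7, 10, 0, 11, 6, 2, 4, 10, 8, 3, 8, 5, 1, 2, 8, 4, 2, 8, 6, 9, 3, 5, 9, 3]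
def rw445 : List ℕ := [0, 0, 6, 6, 10, 2, 2, 2, 0, 11, 7, 9, 0, 8, 7, 0]
def rw446 : List ℕ := [0, 4, 1, 7, 9, 0, 5, 6, 8, 11, 6, 9, 2, 9, 11, 2, 10, 8, 3, 8, 7, 10, 9, 7, 4, 1, 8, 6, 0, 5, 1, 3]
def rw447 : List ℕ := [0, 5, 1, 6, 0, 4, 1, 7, 9, 0, 5, 6, 8, 11, 6, 9, 2, 9, 11, 7, 10, 8, 3, 8, 7, 10, 9, 7, 4, 1, 8, 6]
def rw448 : List ℕ := [0, 11, 1, 10, 1, 7, 7, 10, 10, 10, 1, 8, 8, 4, 0, 8, 3, 9, 5, 6, 0, 7, 4, 8, 2, 9, 1, 5, 9, 9, 0, 11, 11, 11, 6, 6]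
def rw449 : List ℕ := [0, 5, 6, 8, 10, 9, 7, 4, 1, 8, 6, 0, 5, 1, 10, 8, 3, 8, 7, 10, 11, 11, 6, 9, 2, 9, 11, 0, 4, 1, 7, 9]
def rw450 : List ℕ := [0, 8, 3, 9, 5, 6, 5, 7, 4, 8, 2, 9, 1, 5, 9, 9, 0, 11, 11, 11, 6, 6, 0, 11, 4, 10, 1, 7, 7, 10, 10, 10, 1, 8, 8, 4]
def rw451 : List ℕ := [0, 0, 0, 6, 6, 10, 4, 1, 1, 4, 3, 11, 7, 9, 0, 8, 7]
def rw452 : List ℕ := [0, 6, 8, 0, 6, 8, 0, 3, 10, 6, 6, 3, 6, 5, 1, 11, 6, 8]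
def rw453 : List ℕ := [0, 6, 4, 8, 6, 1, 9, 3, 8, 3, 10, 5, 5, 5, 2, 4, 4, 11]
def rw454 : List ℕ := [0, 6, 9, 2, 5, 3, 9, 7, 10, 5, 5, 5, 5, 5, 2, 11, 5, 3]
def rw455 : List ℕ := [0, 4, 1, 7, 9, 0, 5, 6, 8, 11, 6, 9, 2, 9, 11, 3, 10, 8, 3, 8, 7, 10, 9, 7, 4, 1, 8, 6, 0, 5, 1, 2]
def rw456 : List ℕ := [0, 10, 1, 6, 4, 6, 2, 6, 11, 9, 1, 4, 4, 2, 7, 9, 2]
def rw457 : List ℕ := [0, 5, 1, 10, 8, 3, 8, 7, 10, 6, 11, 6, 9, 2, 9, 11, 0, 4, 1, 7, 9, 0, 5, 6, 8, 7, 9, 7, 4, 1, 8, 6]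
def rw458 : List ℕ := [0, 10, 7, 0, 9, 3, 1, 4, 9, 6, 2, 5, 3, 7, 8, 5, 0, 2, 8, 1, 6, 11, 1, 7, 2, 11, 9, 11, 4, 10, 8, 10, 3, 6]
def rw459 : List ℕ := [0, 11, 11, 11, 6, 6, 0, 11, 10, 10, 1, 7, 7, 10, 10, 10, 1, 8, 8, 4, 0, 8, 3, 9, 5, 6, 11, 7, 4, 8, 2, 9, 1, 5, 9, 9]
def rw460 : List ℕ := [0, 6, 6, 10, 1, 3, 3, 1, 2, 0, 11, 7, 9, 0, 8, 7, 0, 0]
def rw461 : List ℕ := [0, 0, 0, 6, 6, 10, 3, 1, 3, 0, 0, 3, 11, 7, 9, 0, 8, 7]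
def rw462 : List ℕ := [0, 10, 7, 0, 9, 3, 1, 4, 9, 6, 2, 6, 3, 7, 8, 5, 0, 2, 8, 1, 6, 11, 1, 7, 2, 11, 9, 11, 7, 10, 8, 10, 3, 6]
def rw463 : List ℕ := [0, 10, 10, 11, 1, 7, 2, 11, 9, 11, 3, 7, 8, 5, 0, 2, 8, 1, 6, 11, 7, 0, 9, 3, 1, 4, 9, 6, 2, 10, 8, 10, 3, 6]
def rw464 : List ℕ := [0, 4, 9, 2, 9, 11, 5, 3, 7, 10, 1, 11, 3, 10, 0, 11, 6, 2, 4, 10, 8, 3, 8, 5, 1, 2, 8, 4, 2, 8, 2, 9, 3, 5, 9, 3]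
def rw465 : List ℕ := [0, 10, 1, 11, 1, 7, 2, 11, 9, 11, 3, 7, 8, 5, 0, 2, 8, 1, 6, 0, 7, 0, 9, 3, 1, 4, 9, 6, 2, 10, 8, 10, 3, 6]
def rw466 : List ℕ := [0, 4, 1, 7, 9, 0, 5, 6, 8, 11, 6, 9, 2, 9, 11, 1, 10, 8, 3, 8, 7, 10, 9, 7, 4, 1, 8, 6, 0, 5, 1, 0]
def rw467 : List ℕ := [0, 4, 1, 7, 9, 0, 5, 6, 8, 11, 6, 9, 2, 9, 11, 11, 10, 8, 3, 8, 7, 10, 9, 7, 4, 1, 8, 6, 0, 5, 1, 10]
def rw468 : List ℕ := [0, 5, 1, 10, 8, 3, 8, 7, 10, 9, 11, 6, 9, 2, 9, 11, 0, 4, 1, 7, 9, 0, 5, 6, 8, 8, 9, 7, 4, 1, 8, 6]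
def rw469 : List ℕ := [0, 9, 3, 1, 4, 9, 6, 2, 10, 8, 10, 3, 6, 0, 10, 9, 11, 1, 7, 2, 11, 9, 11, 3, 7, 8, 5, 0, 2, 8, 1, 6, 8, 7]
def rw470 : List ℕ := [0, 0, 6, 6, 10, 3, 4, 1, 4, 0, 4, 11, 7, 9, 0, 8, 7, 0]
def rw471 : List ℕ := [0, 5, 1, 10, 8, 3, 8, 7, 10, 5, 11, 6, 9, 2, 9, 11, 0, 4, 1, 7, 9, 0, 5, 6, 8, 4, 9, 7, 4, 1, 8, 6]
def rw472 : List ℕ := [0, 3, 7, 7, 8, 11, 9, 6, 6, 2, 1, 8, 7, 2, 7, 11, 0, 11, 1, 2, 5, 11, 10, 10, 4, 3, 0, 10, 1, 10, 6, 3, 6, 9]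
def rw473 : List ℕ := [0, 9, 3, 1, 4, 9, 6, 2, 10, 8, 10, 3, 6, 0, 10, 7, 11, 1, 7, 2, 11, 9, 11, 3, 7, 8, 5, 0, 2, 8, 1, 6, 6, 7]
def rw474 : List ℕ := [0, 10, 2, 11, 1, 7, 2, 11, 9, 11, 3, 7, 8, 5, 0, 2, 8, 1, 6, 3, 7, 0, 9, 3, 1, 4, 9, 6, 2, 10, 8, 10, 3, 6]
def rw475 : List ℕ := [0, 6, 4, 8, 6, 1, 9, 3, 8, 3, 10, 4, 4, 2, 4, 4, 2, 11]
def rw476 : List ℕ := [0, 4, 1, 7, 9, 0, 5, 6, 8, 0, 9, 7, 4, 1, 8, 6, 0, 5, 1, 10, 8, 3, 8, 7, 10, 1, 11, 6, 9, 2, 9, 11]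
def rw477 : List ℕ := [0, 5, 6, 8, 11, 6, 9, 2, 9, 11, 4, 10, 8, 3, 8, 7, 10, 9, 7, 4, 1, 8, 6, 0, 5, 1, 5, 0, 4, 1, 7, 9]
def rw478 : List ℕ := [0, 0, 6, 6, 10, 2, 0, 2, 0, 0, 3, 11, 7, 9, 0, 8, 7, 0]
def rw479 : List ℕ := [0, 0, 6, 6, 10, 2, 2, 1, 1, 3, 1, 11, 7, 9, 0, 8, 7, 0]
def rw480 : List ℕ := [0, 10, 1, 10, 5, 11, 0, 11, 1, 2, 5, 11, 9, 6, 6, 2, 1, 8, 7, 2, 7, 4, 6, 3, 6, 9, 0, 3, 7, 7, 8, 10, 4, 3]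
def rw481 : List ℕ := [0, 11, 11, 11, 6, 6, 0, 11, 3, 10, 1, 7, 7, 10, 10, 10, 1, 8, 8, 4, 0, 8, 3, 9, 5, 6, 2, 7, 4, 8, 2, 9, 1, 5, 9, 9]
def rw482 : List ℕ := [0, 5, 6, 8, 11, 6, 9, 2, 9, 11, 2, 10, 8, 3, 8, 7, 10, 9, 7, 4, 1, 8, 6, 0, 5, 1, 3, 0, 4, 1, 7, 9]
def rw483 : List ℕ := [0, 10, 3, 11, 1, 7, 2, 11, 9, 11, 3, 7, 8, 5, 0, 2, 8, 1, 6, 2, 7, 0, 9, 3, 1, 4, 9, 6, 2, 10, 8, 10, 3, 6]
def rw484 : List ℕ := [0, 7, 5, 8, 1, 1, 10, 5, 8, 7, 5, 6, 2, 11, 7, 8, 0, 2]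
def rw485 : List ℕ := [0, 8, 7, 0, 0, 0, 6, 6, 10, 0, 5, 5, 1, 3, 4, 11, 7, 9]
def rw486 : List ℕ := [0, 5, 1, 9, 0, 4, 1, 7, 9, 0, 5, 6, 8, 11, 6, 9, 2, 9, 11, 8, 10, 8, 3, 8, 7, 10, 9, 7, 4, 1, 8, 6]
def rw487 : List ℕ := [0, 3, 7, 7, 8, 7, 9, 6, 6, 2, 1, 8, 7, 2, 7, 11, 0, 11, 1, 2, 5, 11, 6, 10, 4, 3, 0, 10, 1, 10, 6, 3, 6, 9]
def rw488 : List ℕ := [0, 9, 3, 1, 4, 9, 6, 2, 1, 3, 7, 8, 5, 0, 2, 8, 1, 6, 11, 1, 7, 2, 11, 9, 11, 0, 10, 8, 10, 3, 6, 0, 10, 7]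
def rw489 : List ℕ := [0, 5, 1, 11, 0, 4, 1, 7, 9, 0, 5, 6, 8, 11, 6, 9, 2, 9, 11, 10, 10, 8, 3, 8, 7, 10, 9, 7, 4, 1, 8, 6]
def rw490 : List ℕ := [0, 0, 0, 6, 6, 10, 2, 0, 2, 0, 0, 3, 11, 7, 9, 0, 8, 7]
def rw491 : List ℕ := [0, 8, 7, 0, 0, 0, 6, 6, 10, 4, 3, 3, 3, 4, 0, 11, 7, 9]
def rw492 : List ℕ := [0, 3, 7, 7, 8, 10, 4, 3, 0, 10, 1, 10, 2, 11, 0, 11, 1, 2, 5, 11, 9, 6, 6, 2, 1, 8, 7, 2, 7, 3, 6, 3, 6, 9]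
def rw493 : List ℕ := [0, 9, 3, 1, 4, 9, 6, 2, 10, 3, 7, 8, 5, 0, 2, 8, 1, 6, 11, 1, 7, 2, 11, 9, 11, 11, 10, 8, 10, 3, 6, 0, 10, 7]
def rw494 : List ℕ := [0, 8, 7, 0, 0, 0, 6, 6, 10, 3, 3, 3, 3, 0, 11, 7, 9]
def rw495 : List ℕ := [0, 3, 3, 11, 7, 7, 1, 1, 1, 6, 9, 1, 8, 6, 10, 2, 0, 2]
def rw496 : List ℕ := [0, 9, 3, 1, 4, 9, 6, 2, 7, 3, 7, 8, 5, 0, 2, 8, 1, 6, 11, 1, 7, 2, 11, 9, 11, 6, 10, 8, 10, 3, 6, 0, 10, 7]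
def rw497 : List ℕ := [0, 4, 1, 7, 9, 0, 5, 6, 8, 5, 9, 7, 4, 1, 8, 6, 0, 5, 1, 10, 8, 3, 8, 7, 10, 4, 11, 6, 9, 2, 9, 11]
def rw498 : List ℕ := [0, 5, 6, 8, 4, 9, 7, 4, 1, 8, 6, 0, 5, 1, 10, 8, 3, 8, 7, 10, 5, 11, 6, 9, 2, 9, 11, 0, 4, 1, 7, 9]
def rw499 : List ℕ := [0, 7, 9, 5, 7, 1, 10, 3, 4, 4, 2, 4, 4, 11, 2, 9, 2, 8]
def rw500 : List ℕ := [0, 6, 6, 10, 3, 3, 3, 3, 0, 11, 7, 9, 0, 8, 7, 0, 0]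
def rw501 : List ℕ := [0, 5, 6, 8, 0, 9, 7, 4, 1, 8, 6, 0, 5, 1, 10, 8, 3, 8, 7, 10, 1, 11, 6, 9, 2, 9, 11, 0, 4, 1, 7, 9]
def rw502 : List ℕ := [0, 4, 9, 2, 9, 11, 5, 3, 7, 10, 1, 11, 0, 10, 0, 11, 6, 2, 4, 10, 8, 3, 8, 5, 1, 2, 8, 4, 2, 8, 1, 9, 3, 5, 9, 3]
def rw503 : List ℕ := [0, 8, 7, 0, 0, 0, 6, 6, 10, 3, 1, 3, 0, 0, 3, 11, 7, 9]
def rw504 : List ℕ := [0, 0, 0, 6, 6, 10, 0, 5, 5, 1, 3, 4, 11, 7, 9, 0, 8, 7]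
def rw505 : List ℕ := [0, 5, 6, 8, 11, 6, 9, 2, 9, 11, 11, 10, 8, 3, 8, 7, 10, 9, 7, 4, 1, 8, 6, 0, 5, 1, 10, 0, 4, 1, 7, 9]
def rw506 : List ℕ := [0, 6, 9, 2, 5, 3, 9, 7, 10, 6, 0, 5, 6, 0, 5, 11, 5, 3]
def rw507 : List ℕ := [0, 6, 6, 10, 2, 2, 0, 2, 0, 3, 11, 7, 9, 0, 8, 7, 0, 0]
def rw508 : List ℕ := [0, 9, 3, 1, 4, 9, 6, 2, 0, 3, 7, 8, 5, 0, 2, 8, 1, 6, 11, 1, 7, 2, 11, 9, 11, 1, 10, 8, 10, 3, 6, 0, 10, 7]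
def rw509 : List ℕ := [0, 6, 6, 10, 4, 3, 3, 3, 4, 0, 11, 7, 9, 0, 8, 7, 0, 0]
def rw510 : List ℕ := [0, 8, 3, 9, 5, 6, 7, 7, 4, 8, 2, 9, 1, 5, 9, 9, 0, 11, 11, 11, 6, 6, 0, 11, 6, 10, 1, 7, 7, 10, 10, 10, 1, 8, 8, 4]
def rw511 : List ℕ := [0, 0, 6, 6, 10, 0, 5, 5, 1, 3, 4, 11, 7, 9, 0, 8, 7, 0]
def rw512 : List ℕ := [0, 8, 10, 7, 3, 4, 6, 4, 0, 11, 1, 3, 8, 6, 3, 5, 5]
def rw513 : List ℕ := [0, 11, 11, 11, 6, 6, 0, 11, 9, 10, 1, 7, 7, 10, 10, 10, 1, 8, 8, 4, 0, 8, 3, 9, 5, 6, 8, 7, 4, 8, 2, 9, 1, 5, 9, 9]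
def rw514 : List ℕ := [0, 3, 7, 7, 8, 6, 9, 6, 6, 2, 1, 8, 7, 2, 7, 11, 0, 11, 1, 2, 5, 11, 7, 10, 4, 3, 0, 10, 1, 10, 6, 3, 6, 9]
def rw515 : List ℕ := [0, 3, 7, 7, 8, 10, 4, 3, 0, 10, 1, 10, 6, 11, 0, 11, 1, 2, 5, 11, 9, 6, 6, 2, 1, 8, 7, 2, 7, 7, 6, 3, 6, 9]
def rw516 : List ℕ := [0, 6, 4, 8, 6, 1, 9, 3, 8, 3, 10, 5, 2, 4, 4, 3, 11]
def rw517 : List ℕ := [0, 8, 3, 9, 5, 6, 3, 7, 4, 8, 2, 9, 1, 5, 9, 9, 0, 11, 11, 11, 6, 6, 0, 11, 2, 10, 1, 7, 7, 10, 10, 10, 1, 8, 8, 4]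
def rw518 : List ℕ := [0, 11, 1, 2, 5, 11, 9, 6, 6, 2, 1, 8, 7, 2, 7, 11, 6, 3, 6, 9, 0, 3, 7, 7, 8, 10, 4, 3, 0, 10, 1, 10, 10, 11]
def rw519 : List ℕ := [0, 11, 11, 11, 6, 6, 0, 11, 0, 10, 1, 7, 7, 10, 10, 10, 1, 8, 8, 4, 0, 8, 3, 9, 5, 6, 1, 7, 4, 8, 2, 9, 1, 5, 9, 9]
def rw520 : List ℕ := [0, 9, 3, 1, 4, 9, 6, 2, 10, 8, 10, 3, 6, 0, 10, 10, 11, 1, 7, 2, 11, 9, 11, 3, 7, 8, 5, 0, 2, 8, 1, 6, 11, 7]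
def rw521 : List ℕ := [0, 5, 1, 0, 0, 4, 1, 7, 9, 0, 5, 6, 8, 11, 6, 9, 2, 9, 11, 1, 10, 8, 3, 8, 7, 10, 9, 7, 4, 1, 8, 6]
def rw522 : List ℕ := [0, 11, 5, 10, 1, 7, 7, 10, 10, 10, 1, 8, 8, 4, 0, 8, 3, 9, 5, 6, 4, 7, 4, 8, 2, 9, 1, 5, 9, 9, 0, 11, 11, 11, 6, 6]
def rw523 : List ℕ := [0, 11, 6, 2, 4, 10, 8, 3, 8, 5, 1, 2, 8, 4, 2, 8, 10, 9, 3, 5, 9, 3, 0, 4, 9, 2, 9, 11, 5, 3, 7, 10, 1, 11, 11, 10]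
def rw524 : List ℕ := [0, 2, 8, 1, 6, 11, 1, 7, 2, 11, 9, 11, 11, 10, 8, 10, 3, 6, 0, 10, 7, 0, 9, 3, 1, 4, 9, 6, 2, 10, 3, 7, 8, 5]
def rw525 : List ℕ := [0, 5, 6, 8, 11, 6, 9, 2, 9, 11, 3, 10, 8, 3, 8, 7, 10, 9, 7, 4, 1, 8, 6, 0, 5, 1, 2, 0, 4, 1, 7, 9]
def rw526 : List ℕ := [0, 8, 3, 9, 5, 6, 8, 7, 4, 8, 2, 9, 1, 5, 9, 9, 0, 11, 11, 11, 6, 6, 0, 11, 9, 10, 1, 7, 7, 10, 10, 10, 1, 8, 8, 4]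
def rw527 : List ℕ := [0, 11, 11, 11, 6, 6, 0, 11, 5, 10, 1, 7, 7, 10, 10, 10, 1, 8, 8, 4, 0, 8, 3, 9, 5, 6, 4, 7, 4, 8, 2, 9, 1, 5, 9, 9]
def rw528 : List ℕ := [0, 6, 6, 10, 2, 1, 3, 3, 11, 7, 9, 0, 8, 7, 0, 0]
def rw529 : List ℕ := [0, 9, 3, 1, 4, 9, 6, 2, 3, 3, 7, 8, 5, 0, 2, 8, 1, 6, 11, 1, 7, 2, 11, 9, 11, 2, 10, 8, 10, 3, 6, 0, 10, 7]
def rw530 : List ℕ := [1, 1, 4, 2, 0, 3, 4]
def rw531 : List ℕ := [1, 4, 2, 0, 3, 4, 1]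
def rw532 : List ℕ := [1, 7, 3, 5, 1, 7, 3, 5]
def rw533 : List ℕ := [1, 11, 11, 0, 2, 9, 10, 8, 3]
def rw534 : List ℕ := [1, 3, 1, 3, 1, 3]
def rw535 : List ℕ := [1, 10, 10, 0, 2, 9, 11, 8, 3]
def rw536 : List ℕ := [1, 3, 0, 2, 0, 3]
def rw537 : List ℕ := [1, 5, 0, 4, 0, 4, 2]
def rw538 : List ℕ := [1, 3, 0, 0, 2, 0, 3, 3]
def rw539 : List ℕ := [1, 3, 5, 0, 0, 5, 2]
def rw540 : List ℕ := [1, 3, 4, 11, 7, 9, 0, 8, 7, 0, 0, 0, 6, 6, 10, 0, 5, 5]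
def rw541 : List ℕ := [1, 1, 1, 1, 1, 1, 1]
def rw542 : List ℕ := [1, 2, 0, 2, 1, 3]
def rw543 : List ℕ := [1, 4, 0, 3, 5, 1, 5]
def rw544 : List ℕ := [1, 3, 3, 1, 3, 3]
def rw545 : List ℕ := [1, 5, 1, 4, 0, 3, 5]
def rw546 : List ℕ := [1, 7, 3, 5, 1, 7, 3, 5]
def rw547 : List ℕ := [1, 3, 3, 1, 3, 3]
def rw548 : List ℕ := [1, 6, 5, 11, 8, 0, 7, 9, 1, 3, 4, 7, 3, 5, 10, 3, 3, 6]
def rw549 : List ℕ := [1, 3, 1, 2, 0, 2]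
def rw550 : List ℕ := [1, 5, 5, 1, 2, 1, 5, 2]
def rw551 : List ℕ := [1, 1, 1, 1, 1, 1, 1]
def rw552 : List ℕ := [1, 2, 1, 8, 4, 0, 2, 1, 8, 8, 8]
def rw553 : List ℕ := [1, 6, 6, 11, 9, 9, 9, 4, 1, 8, 1, 8, 1, 1, 10, 7, 5, 1]
def rw554 : List ℕ := [1, 5, 3, 1, 4, 4, 4]
def rw555 : List ℕ := [1, 4, 4, 4, 1, 5, 3]
def rw556 : List ℕ := [1, 2, 2, 0, 0, 3, 3, 0, 0, 3, 1, 2, 1]
def rw557 : List ℕ := [1, 3, 1, 3, 1, 3]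
def rw558 : List ℕ := [1, 4, 2, 8, 2, 1, 11, 8, 6, 4, 2, 2, 10, 0, 9, 3, 5]
def rw559 : List ℕ := [1, 2, 1, 5, 2, 1, 5, 5]
def rw560 : List ℕ := [1, 2, 0, 2, 2, 1, 3, 1]
def rw561 : List ℕ := [1, 1, 1, 1, 1, 1, 1]
def rw562 : List ℕ := [1, 5, 2, 1, 5, 5, 1, 2]
def rw563 : List ℕ := [1, 1, 2, 2, 1, 1, 3, 3, 0, 0, 3, 0, 2]
def rw564 : List ℕ := [1, 5, 9, 0, 3, 0, 9, 9, 9, 0, 3]
def rw565 : List ℕ := [1, 1, 2, 0, 2, 2, 1, 3]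
def rw566 : List ℕ := [1, 1, 3, 3, 0, 0, 3, 0, 2, 1, 1, 2, 2]
def rw567 : List ℕ := [1, 3, 3, 0, 0, 3, 0, 2, 1, 1, 2, 2, 1]
def rw568 : List ℕ := [1, 8, 4, 0, 2, 1, 8, 8, 8, 1, 2]
def rw569 : List ℕ := [1, 2, 1, 1, 2, 2, 0, 0, 3, 3, 0, 0, 3]
def rw570 : List ℕ := [1, 1, 2, 2, 0, 0, 3, 3, 0, 0, 3, 1, 2]
def rw571 : List ℕ := [1, 8, 8, 8, 1, 2, 1, 8, 4, 0, 2]
def rw572 : List ℕ := [1, 2, 2, 1, 1, 3, 3, 0, 0, 3, 0, 2, 1]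
def rw573 : List ℕ := [1, 3, 3, 3, 11, 7, 7, 1, 1, 1, 6, 9, 1, 8, 6, 10]
def rw574 : List ℕ := [1, 1, 4, 8, 8, 0, 9, 10, 6, 4, 2, 8, 5, 6, 11, 1, 7, 1]
def rw575 : List ℕ := [1, 10, 6, 3, 6, 9, 0, 3, 7, 7, 8, 10, 9, 6, 6, 2, 1, 8, 7, 2, 7, 11, 0, 11, 1, 2, 5, 11, 11, 10, 4, 3, 0, 10]
def rw576 : List ℕ := [1, 3, 10, 1, 2, 0, 5, 9, 4, 0, 8, 3, 0, 11, 9, 3, 5, 6]
def rw577 : List ℕ := [1, 2, 0, 2, 11, 7, 9, 0, 8, 7, 0, 0, 0, 6, 6, 10, 2, 2]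
def rw578 : List ℕ := [1, 5, 7, 5, 2, 6, 11, 9, 1, 4, 4, 2, 7, 9, 2, 0, 10]
def rw579 : List ℕ := [1, 5, 3, 1, 4, 11, 6, 8, 2, 4, 3, 8, 7, 1, 2, 4, 10, 3]
def rw580 : List ℕ := [1, 10, 0, 4, 1, 7, 9, 0, 5, 6, 8, 11, 6, 9, 2, 9, 11, 11, 10, 8, 3, 8, 7, 10, 9, 7, 4, 1, 8, 6, 0, 5]
def rw581 : List ℕ := [1, 2, 1, 11, 7, 9, 0, 8, 7, 0, 0, 0, 6, 6, 10, 1, 1, 2]
def rw582 : List ℕ := [1, 3, 4, 7, 3, 5, 10, 3, 3, 6, 1, 6, 5, 11, 8, 0, 7, 9]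
def rw583 : List ℕ := [1, 11, 4, 10, 0, 11, 6, 2, 4, 10, 8, 3, 8, 5, 1, 2, 8, 4, 2, 8, 5, 9, 3, 5, 9, 3, 0, 4, 9, 2, 9, 11, 5, 3, 7, 10]
def rw584 : List ℕ := [1, 2, 2, 2, 2, 11, 7, 7, 1, 1, 1, 6, 9, 1, 8, 6, 10]
def rw585 : List ℕ := [1, 11, 7, 7, 1, 1, 1, 6, 9, 1, 8, 6, 10, 5, 2, 0, 4, 4]
def rw586 : List ℕ := [1, 5, 8, 11, 3, 8, 6, 0, 7, 0, 2, 0, 9, 2, 10, 9, 6, 5]
def rw587 : List ℕ := [1, 3, 1, 3, 11, 7, 9, 0, 8, 7, 0, 0, 0, 6, 6, 10, 2, 2]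
def rw588 : List ℕ := [1, 8, 6, 0, 5, 1, 10, 8, 3, 8, 7, 10, 5, 11, 6, 9, 2, 9, 11, 0, 4, 1, 7, 9, 0, 5, 6, 8, 4, 9, 7, 4]
def rw589 : List ℕ := [1, 3, 1, 1, 2, 0, 2, 2]
def rw590 : List ℕ := [1, 7, 1, 1, 1, 4, 8, 8, 0, 9, 10, 6, 4, 2, 8, 5, 6, 11]
def rw591 : List ℕ := [1, 9, 6, 10, 3, 4, 6, 5, 9, 4, 11, 0, 0, 9, 4, 6, 1, 3]
def rw592 : List ℕ := [1, 9, 1, 6, 9, 9, 2, 6, 5, 9, 11, 4, 0, 7, 4, 0, 9, 10]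
def rw593 : List ℕ := [1, 10, 6, 2, 2, 4, 1, 7, 11, 4, 4, 0, 7, 7, 2, 8, 5]
def rw594 : List ℕ := [1, 5, 0, 4, 0, 5, 11, 6, 8, 2, 4, 3, 8, 7, 1, 2, 4, 10]
def rw595 : List ℕ := [1, 9, 10, 4, 7, 0, 7, 2, 2, 11, 4, 2, 6, 5, 2, 0, 8, 6]
def rw596 : List ℕ := [1, 1, 1, 1, 1, 1, 1]
def rw597 : List ℕ := [1, 6, 8, 10, 4, 1, 7, 3, 3, 7, 11, 9, 7, 1, 8, 2, 0, 8]
def rw598 : List ℕ := [1, 1, 3, 1, 11, 7, 9, 0, 8, 7, 0, 0, 0, 6, 6, 10, 2, 2]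
def rw599 : List ℕ := [1, 10, 8, 3, 8, 7, 10, 3, 11, 6, 9, 2, 9, 11, 0, 4, 1, 7, 9, 0, 5, 6, 8, 2, 9, 7, 4, 1, 8, 6, 0, 5]
def rw600 : List ℕ := [1, 11, 9, 5, 6, 9, 2, 2, 10, 2, 4, 0, 3, 9, 4, 8, 2]
def rw601 : List ℕ := [1, 7, 9, 0, 5, 6, 8, 11, 6, 9, 2, 9, 11, 1, 10, 8, 3, 8, 7, 10, 9, 7, 4, 1, 8, 6, 0, 5, 1, 0, 0, 4]
def rw602 : List ℕ := [1, 1, 5, 11, 6, 8, 2, 4, 3, 8, 7, 1, 2, 4, 10, 0, 3, 4]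
def rw603 : List ℕ := [1, 1, 7, 7, 3, 11, 9, 6, 0, 0, 6, 4, 9, 3, 9, 10, 4]
def rw604 : List ℕ := [1, 3, 3, 11, 7, 9, 0, 8, 7, 0, 0, 0, 6, 6, 10, 2]
def rw605 : List ℕ := [1, 11, 5, 10, 0, 11, 6, 2, 4, 10, 8, 3, 8, 5, 1, 2, 8, 4, 2, 8, 4, 9, 3, 5, 9, 3, 0, 4, 9, 2, 9, 11, 5, 3, 7, 10]
def rw606 : List ℕ := [1, 10, 6, 3, 6, 9, 0, 3, 7, 7, 8, 0, 9, 6, 6, 2, 1, 8, 7, 2, 7, 11, 0, 11, 1, 2, 5, 11, 1, 10, 4, 3, 0, 10]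
def rw607 : List ℕ := [1, 10, 6, 3, 6, 9, 0, 3, 7, 7, 8, 6, 9, 6, 6, 2, 1, 8, 7, 2, 7, 11, 0, 11, 1, 2, 5, 11, 7, 10, 4, 3, 0, 10]
def rw608 : List ℕ := [1, 4, 1, 4, 11, 9, 4, 4, 8, 3, 3, 9, 0, 8, 0, 10, 5, 5]
def rw609 : List ℕ := [1, 6, 9, 2, 1, 8, 10, 2, 0, 7, 0, 3, 5, 11, 9, 3, 0, 6]
def rw610 : List ℕ := [1, 2, 5, 11, 9, 6, 6, 2, 1, 8, 7, 2, 7, 2, 6, 3, 6, 9, 0, 3, 7, 7, 8, 10, 4, 3, 0, 10, 1, 10, 3, 11, 0, 11]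
def rw611 : List ℕ := [1, 7, 2, 11, 9, 11, 9, 10, 8, 10, 3, 6, 0, 10, 7, 0, 9, 3, 1, 4, 9, 6, 2, 8, 3, 7, 8, 5, 0, 2, 8, 1, 6, 11]
def rw612 : List ℕ := [1, 7, 7, 10, 10, 10, 1, 8, 8, 4, 0, 8, 3, 9, 5, 6, 6, 7, 4, 8, 2, 9, 1, 5, 9, 9, 0, 11, 11, 11, 6, 6, 0, 11, 7, 10]
def rw613 : List ℕ := [1, 7, 9, 0, 5, 6, 8, 11, 6, 9, 2, 9, 11, 3, 10, 8, 3, 8, 7, 10, 9, 7, 4, 1, 8, 6, 0, 5, 1, 2, 0, 4]
def rw614 : List ℕ := [1, 5, 9, 0, 4, 8, 10, 9, 4, 2, 1, 1, 8, 11, 6, 8, 3, 4]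
def rw615 : List ℕ := [1, 8, 3, 5, 8, 0, 7, 9, 11, 1, 7, 8, 8, 7, 0, 10, 7]
def rw616 : List ℕ := [1, 4, 2, 4, 0, 11, 1, 9, 1, 8, 2, 2, 9, 5, 5, 8, 10]
def rw617 : List ℕ := [1, 5, 6, 6, 3, 10, 6, 5, 2, 7, 8, 5, 11, 6, 2, 1, 7, 9]
def rw618 : List ℕ := [1, 11, 1, 10, 0, 11, 6, 2, 4, 10, 8, 3, 8, 5, 1, 2, 8, 4, 2, 8, 0, 9, 3, 5, 9, 3, 0, 4, 9, 2, 9, 11, 5, 3, 7, 10]
def rw619 : List ℕ := [1, 9, 7, 1, 9, 7, 1, 9, 7, 10, 0, 3, 6, 2, 6, 4, 11, 2]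
def rw620 : List ℕ := [1, 2, 4, 10, 3, 4, 4, 4, 4, 4, 11, 6, 8, 2, 4, 3, 8, 7]
def rw621 : List ℕ := [1, 1, 9, 2, 6, 5, 11, 7, 2, 2, 7, 2, 8, 10, 2, 7, 3, 8]
def rw622 : List ℕ := [1, 5, 1, 4, 0, 11, 5, 3, 0, 6, 9, 2, 5, 3, 9, 7, 10, 4]
def rw623 : List ℕ := [1, 10, 5, 11, 0, 11, 1, 2, 5, 11, 9, 6, 6, 2, 1, 8, 7, 2, 7, 4, 6, 3, 6, 9, 0, 3, 7, 7, 8, 10, 4, 3, 0, 10]
def rw624 : List ℕ := [1, 1, 10, 7, 5, 1, 1, 6, 6, 11, 9, 9, 9, 4, 1, 8, 1, 8]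
def rw625 : List ℕ := [1, 10, 6, 3, 6, 9, 0, 3, 7, 7, 8, 1, 9, 6, 6, 2, 1, 8, 7, 2, 7, 11, 0, 11, 1, 2, 5, 11, 0, 10, 4, 3, 0, 10]
def rw626 : List ℕ := [1, 8, 6, 10, 0, 3, 0, 3, 0, 0, 11, 7, 7, 1, 1, 1, 6, 9]
def rw627 : List ℕ := [1, 8, 6, 10, 5, 2, 0, 4, 4, 1, 11, 7, 7, 1, 1, 1, 6, 9]
def rw628 : List ℕ := [1, 6, 1, 2, 10, 0, 7, 2, 6, 3, 6, 11, 9, 5, 1, 9, 7]
def rw629 : List ℕ := [1, 9, 7, 10, 0, 3, 7, 3, 4, 3, 11, 2, 1, 9, 7, 1, 9, 7]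
def rw630 : List ℕ := [1, 10, 8, 11, 0, 11, 1, 2, 5, 11, 9, 6, 6, 2, 1, 8, 7, 2, 7, 9, 6, 3, 6, 9, 0, 3, 7, 7, 8, 10, 4, 3, 0, 10]
def rw631 : List ℕ := [1, 9, 9, 0, 3, 10, 1, 1, 7, 5, 0, 0, 11, 7, 8, 6, 3, 6]
def rw632 : List ℕ := [1, 3, 0, 3, 11, 7, 9, 0, 8, 7, 0, 0, 0, 6, 6, 10]
def rw633 : List ℕ := [1, 8, 2, 2, 9, 5, 5, 8, 10, 1, 4, 1, 4, 4, 4, 11, 1, 9]
def rw634 : List ℕ := [1, 7, 9, 1, 5, 6, 6, 3, 10, 6, 5, 2, 7, 8, 5, 11, 6, 2]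
def rw635 : List ℕ := [1, 3, 8, 6, 3, 5, 5, 0, 8, 10, 7, 3, 5, 7, 5, 0, 11]
def rw636 : List ℕ := [1, 11, 5, 3, 0, 6, 9, 2, 5, 3, 9, 7, 10, 4, 0, 0, 5, 2]
def rw637 : List ℕ := [1, 2, 0, 11, 7, 7, 1, 1, 1, 6, 9, 1, 8, 6, 10, 2]
def rw638 : List ℕ := [1, 7, 9, 0, 5, 6, 8, 5, 9, 7, 4, 1, 8, 6, 0, 5, 1, 10, 8, 3, 8, 7, 10, 4, 11, 6, 9, 2, 9, 11, 0, 4]
def rw639 : List ℕ := [1, 2, 5, 11, 9, 10, 4, 3, 0, 10, 1, 10, 6, 3, 6, 9, 0, 3, 7, 7, 8, 8, 9, 6, 6, 2, 1, 8, 7, 2, 7, 11, 0, 11]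
def rw640 : List ℕ := [1, 7, 11, 4, 4, 0, 7, 7, 2, 8, 5, 1, 10, 6, 2, 2, 4]
def rw641 : List ℕ := [1, 7, 7, 10, 10, 10, 1, 8, 8, 4, 0, 8, 3, 9, 5, 6, 7, 7, 4, 8, 2, 9, 1, 5, 9, 9, 0, 11, 11, 11, 6, 6, 0, 11, 6, 10]
def rw642 : List ℕ := [1, 10, 9, 11, 0, 11, 1, 2, 5, 11, 9, 6, 6, 2, 1, 8, 7, 2, 7, 8, 6, 3, 6, 9, 0, 3, 7, 7, 8, 10, 4, 3, 0, 10]
def rw643 : List ℕ := [1, 9, 5, 8, 0, 7, 10, 6, 0, 4, 3, 7, 11, 4, 7, 0, 9]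
def rw644 : List ℕ := [1, 8, 0, 4, 0, 11, 6, 2, 5, 9, 3, 5, 10, 3, 0, 7, 8, 6]
def rw645 : List ℕ := [1, 5, 6, 1, 5, 10, 8, 4, 7, 3, 8, 8, 7, 0, 8, 0, 11, 8]
def rw646 : List ℕ := [1, 10, 0, 2, 4, 0, 5, 2, 11, 2, 9, 2, 8, 0, 7, 9, 5, 7]
def rw647 : List ℕ := [1, 3, 0, 2, 2, 0, 11, 7, 7, 1, 1, 1, 6, 9, 1, 8, 6, 10]
def rw648 : List ℕ := [1, 7, 0, 8, 2, 7, 8, 11, 5, 6, 2, 5, 8, 7, 10, 7, 0, 8]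
def rw649 : List ℕ := [1, 10, 4, 4, 2, 11, 2, 9, 2, 8, 0, 7, 9, 5, 7]
def rw650 : List ℕ := [1, 10, 6, 3, 6, 9, 0, 3, 7, 7, 8, 5, 9, 6, 6, 2, 1, 8, 7, 2, 7, 11, 0, 11, 1, 2, 5, 11, 4, 10, 4, 3, 0, 10]
def rw651 : List ℕ := [1, 10, 2, 6, 2, 4, 3, 6, 11, 2, 9, 2, 8, 0, 7, 9, 5, 7]
def rw652 : List ℕ := [1, 3, 1, 11, 7, 7, 1, 1, 1, 6, 9, 1, 8, 6, 10, 2, 1, 1]
def rw653 : List ℕ := [1, 2, 8, 4, 2, 8, 10, 9, 3, 5, 9, 3, 0, 4, 9, 2, 9, 11, 5, 3, 7, 10, 1, 11, 11, 10, 0, 11, 6, 2, 4, 10, 8, 3, 8, 5]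
def rw654 : List ℕ := [1, 6, 5, 10, 6, 2, 5, 1, 7, 11, 6, 1, 9, 4, 8, 0, 8]
def rw655 : List ℕ := [1, 2, 5, 11, 9, 6, 6, 2, 1, 8, 7, 2, 7, 1, 6, 3, 6, 9, 0, 3, 7, 7, 8, 10, 4, 3, 0, 10, 1, 10, 0, 11, 0, 11]
def rw656 : List ℕ := [1, 9, 3, 8, 3, 10, 5, 2, 4, 4, 3, 11, 0, 6, 4, 8, 6]
def rw657 : List ℕ := [1, 3, 9, 0, 6, 8, 10, 6, 2, 2, 6, 0, 5, 11, 9, 7, 0, 9]
def rw658 : List ℕ := [1, 6, 9, 9, 2, 6, 5, 9, 11, 4, 0, 7, 4, 0, 9, 10, 1, 9]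
def rw659 : List ℕ := [1, 4, 11, 6, 8, 2, 4, 3, 8, 7, 1, 2, 4, 10, 3, 1, 5, 3]
def rw660 : List ℕ := [1, 10, 8, 3, 8, 7, 10, 11, 11, 6, 9, 2, 9, 11, 0, 4, 1, 7, 9, 0, 5, 6, 8, 10, 9, 7, 4, 1, 8, 6, 0, 5]
def rw661 : List ℕ := [1, 1, 8, 11, 6, 8, 3, 4, 1, 5, 9, 0, 4, 8, 10, 9, 4, 2]
def rw662 : List ℕ := [1, 9, 3, 8, 3, 10, 5, 5, 3, 5, 5, 2, 11, 0, 6, 4, 8, 6]
def rw663 : List ℕ := [1, 1, 9, 2, 6, 5, 11, 2, 7, 2, 5, 5, 8, 10, 2, 7, 3, 8]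
def rw664 : List ℕ := [1, 4, 0, 11, 5, 3, 0, 6, 9, 2, 5, 3, 9, 7, 10, 4, 1, 5]
def rw665 : List ℕ := [1, 4, 6, 0, 0, 11, 2, 1, 8, 8, 0, 7, 2, 7, 9, 6, 10, 1]
def rw666 : List ℕ := [1, 8, 6, 10, 2, 1, 2, 0, 11, 7, 7, 1, 1, 1, 6, 9]
def rw667 : List ℕ := [1, 6, 11, 6, 9, 4, 3, 7, 4, 10, 9, 6, 3, 9, 1, 6, 0, 9]
def rw668 : List ℕ := [1, 10, 3, 11, 0, 11, 1, 2, 5, 11, 9, 6, 6, 2, 1, 8, 7, 2, 7, 2, 6, 3, 6, 9, 0, 3, 7, 7, 8, 10, 4, 3, 0, 10]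
def rw669 : List ℕ := [1, 5, 2, 2, 2, 5, 11, 7, 7, 1, 1, 1, 6, 9, 1, 8, 6, 10]
def rw670 : List ℕ := [1, 7, 5, 7, 2, 6, 11, 9, 1, 4, 4, 2, 7, 9, 2, 0, 10]
def rw671 : List ℕ := [1, 9, 2, 6, 5, 11, 7, 2, 2, 7, 2, 8, 10, 2, 7, 3, 8, 1]
def rw672 : List ℕ := [1, 1, 7, 5, 0, 0, 11, 7, 8, 6, 3, 6, 1, 9, 9, 0, 3, 10]
def rw673 : List ℕ := [1, 1, 4, 6, 0, 0, 11, 2, 1, 8, 8, 0, 7, 2, 7, 9, 6, 10]
def rw674 : List ℕ := [1, 8, 6, 10, 2, 5, 0, 0, 5, 11, 7, 7, 1, 1, 1, 6, 9]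
def rw675 : List ℕ := [1, 2, 0, 11, 7, 9, 0, 8, 7, 0, 0, 0, 6, 6, 10, 1, 3, 3]
def rw676 : List ℕ := [1, 7, 7, 3, 11, 9, 6, 0, 0, 6, 4, 9, 3, 9, 10, 4, 1]
def rw677 : List ℕ := [1, 10, 0, 11, 0, 11, 1, 2, 5, 11, 9, 6, 6, 2, 1, 8, 7, 2, 7, 1, 6, 3, 6, 9, 0, 3, 7, 7, 8, 10, 4, 3, 0, 10]
def rw678 : List ℕ := [1, 11, 8, 6, 4, 2, 2, 10, 0, 9, 3, 5, 1, 4, 2, 8, 2]
def rw679 : List ℕ := [1, 3, 11, 7, 9, 0, 8, 7, 0, 0, 0, 6, 6, 10, 2, 2, 1, 3]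
def rw680 : List ℕ := [1, 4, 3, 11, 7, 9, 0, 8, 7, 0, 0, 0, 6, 6, 10, 4, 1]
def rw681 : List ℕ := [1, 7, 2, 11, 9, 11, 7, 10, 8, 10, 3, 6, 0, 10, 7, 0, 9, 3, 1, 4, 9, 6, 2, 6, 3, 7, 8, 5, 0, 2, 8, 1, 6, 11]
def rw682 : List ℕ := [1, 11, 6, 8, 0, 6, 8, 0, 6, 8, 0, 3, 10, 4, 3, 4, 6, 2]
def rw683 : List ℕ := [1, 11, 7, 10, 0, 11, 6, 2, 4, 10, 8, 3, 8, 5, 1, 2, 8, 4, 2, 8, 6, 9, 3, 5, 9, 3, 0, 4, 9, 2, 9, 11, 5, 3, 7, 10]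
def rw684 : List ℕ := [1, 1, 1, 1, 1, 1, 1]
def rw685 : List ℕ := [1, 7, 11, 6, 8, 2, 4, 3, 8, 7, 1, 2, 4, 10, 4, 1, 7, 4]
def rw686 : List ℕ := [1, 11, 2, 10, 0, 11, 6, 2, 4, 10, 8, 3, 8, 5, 1, 2, 8, 4, 2, 8, 3, 9, 3, 5, 9, 3, 0, 4, 9, 2, 9, 11, 5, 3, 7, 10]
def rw687 : List ℕ := [1, 9, 1, 8, 2, 2, 9, 5, 5, 8, 10, 0, 5, 2, 1, 4, 0, 11]
def rw688 : List ℕ := [1, 4, 6, 4, 2, 6, 11, 9, 1, 4, 4, 2, 7, 9, 2, 0, 10]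
def rw689 : List ℕ := [1, 3, 11, 7, 7, 1, 1, 1, 6, 9, 1, 8, 6, 10, 2, 1, 1, 3]
def rw690 : List ℕ := [1, 2, 10, 0, 7, 2, 6, 3, 6, 11, 9, 5, 1, 9, 7, 1, 6]
def rw691 : List ℕ := [1, 8, 7, 2, 7, 3, 6, 3, 6, 9, 0, 3, 7, 7, 8, 10, 4, 3, 0, 10, 1, 10, 2, 11, 0, 11, 1, 2, 5, 11, 9, 6, 6, 2]
def rw692 : List ℕ := [1, 2, 1, 2, 1, 11, 7, 9, 0, 8, 7, 0, 0, 0, 6, 6, 10, 1]
def rw693 : List ℕ := [1, 7, 2, 0, 0, 8, 6, 3, 10, 4, 7, 3, 8, 2, 2, 11, 2, 8]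
def rw694 : List ℕ := [1, 5, 8, 4, 1, 3, 0, 11, 2, 0, 7, 4, 2, 8, 10, 1, 2, 9]
def rw695 : List ℕ := [1, 9, 0, 7, 9, 6, 1, 2, 11, 4, 2, 8, 4, 3, 7, 10, 1, 5]
def rw696 : List ℕ := [1, 9, 7, 1, 9, 7, 10, 0, 3, 7, 5, 2, 5, 11, 2, 1, 9, 7]
def rw697 : List ℕ := [1, 3, 1, 3, 3, 11, 7, 7, 1, 1, 1, 6, 9, 1, 8, 6, 10, 2]
def rw698 : List ℕ := [1, 5, 0, 5, 2, 11, 7, 7, 1, 1, 1, 6, 9, 1, 8, 6, 10, 5]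
def rw699 : List ℕ := [1, 7, 9, 0, 5, 6, 8, 3, 9, 7, 4, 1, 8, 6, 0, 5, 1, 10, 8, 3, 8, 7, 10, 2, 11, 6, 9, 2, 9, 11, 0, 4]
def rw700 : List ℕ := [1, 11, 3, 10, 0, 11, 6, 2, 4, 10, 8, 3, 8, 5, 1, 2, 8, 4, 2, 8, 2, 9, 3, 5, 9, 3, 0, 4, 9, 2, 9, 11, 5, 3, 7, 10]
def rw701 : List ℕ := [1, 2, 4, 10, 3, 1, 5, 3, 1, 4, 11, 6, 8, 2, 4, 3, 8, 7]
def rw702 : List ℕ := [1, 3, 8, 6, 3, 5, 5, 0, 8, 10, 4, 4, 3, 7, 4, 0, 11]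
def rw703 : List ℕ := [1, 9, 3, 8, 3, 10, 3, 6, 4, 4, 6, 11, 0, 6, 4, 8, 6]
def rw704 : List ℕ := [1, 1, 4, 3, 11, 7, 9, 0, 8, 7, 0, 0, 0, 6, 6, 10, 4]
def rw705 : List ℕ := [1, 7, 3, 3, 7, 11, 9, 7, 1, 8, 2, 0, 8, 1, 6, 8, 10, 4]
def rw706 : List ℕ := [1, 10, 4, 11, 0, 11, 1, 2, 5, 11, 9, 6, 6, 2, 1, 8, 7, 2, 7, 5, 6, 3, 6, 9, 0, 3, 7, 7, 8, 10, 4, 3, 0, 10]
def rw707 : List ℕ := [1, 5, 11, 6, 8, 2, 4, 3, 8, 7, 1, 2, 4, 10, 0, 3, 4, 1]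
def rw708 : List ℕ := [1, 1, 6, 9, 1, 8, 6, 10, 3, 1, 3, 0, 3, 3, 11, 7, 7, 1]
def rw709 : List ℕ := [1, 11, 6, 8, 0, 6, 8, 0, 6, 8, 0, 3, 10, 2, 5, 2, 6, 2]
def rw710 : List ℕ := [1, 2, 11, 4, 2, 8, 4, 3, 7, 10, 1, 5, 1, 9, 0, 7, 9, 6]
def rw711 : List ℕ := [1, 10, 2, 5, 5, 3, 4, 11, 2, 9, 2, 8, 0, 7, 9, 5, 7]
def rw712 : List ℕ := [1, 8, 6, 0, 5, 1, 10, 8, 3, 8, 7, 10, 10, 11, 6, 9, 2, 9, 11, 0, 4, 1, 7, 9, 0, 5, 6, 8, 11, 9, 7, 4]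
def rw713 : List ℕ := [1, 8, 6, 0, 5, 1, 1, 0, 4, 1, 7, 9, 0, 5, 6, 8, 11, 6, 9, 2, 9, 11, 0, 10, 8, 3, 8, 7, 10, 9, 7, 4]
def rw714 : List ℕ := [1, 3, 1, 9, 6, 10, 3, 4, 6, 5, 9, 4, 11, 0, 0, 9, 4, 6]
def rw715 : List ℕ := [1, 1, 6, 6, 11, 9, 9, 9, 4, 1, 8, 1, 8, 1, 1, 10, 7, 5]
def rw716 : List ℕ := [1, 8, 10, 2, 0, 7, 0, 3, 5, 11, 9, 3, 0, 6, 1, 6, 9, 2]
def rw717 : List ℕ := [1, 11, 9, 10, 0, 11, 6, 2, 4, 10, 8, 3, 8, 5, 1, 2, 8, 4, 2, 8, 8, 9, 3, 5, 9, 3, 0, 4, 9, 2, 9, 11, 5, 3, 7, 10]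
def rw718 : List ℕ := [1, 7, 11, 6, 1, 9, 4, 8, 0, 8, 1, 6, 5, 10, 6, 2, 5]
def rw719 : List ℕ := [1, 7, 9, 4, 2, 10, 1, 5, 6, 2, 2, 11, 3, 1, 6]
def rw720 : List ℕ := [1, 10, 6, 3, 6, 9, 0, 3, 7, 7, 8, 3, 9, 6, 6, 2, 1, 8, 7, 2, 7, 11, 0, 11, 1, 2, 5, 11, 2, 10, 4, 3, 0, 10]
def rw721 : List ℕ := [1, 10, 1, 11, 0, 11, 1, 2, 5, 11, 9, 6, 6, 2, 1, 8, 7, 2, 7, 0, 6, 3, 6, 9, 0, 3, 7, 7, 8, 10, 4, 3, 0, 10]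
def rw722 : List ℕ := [1, 11, 3, 0, 7, 0, 6, 8, 0, 4, 8, 10, 7, 2, 7, 3, 6]
def rw723 : List ℕ := [1, 1, 2, 1, 2, 1, 11, 7, 9, 0, 8, 7, 0, 0, 0, 6, 6, 10]
def rw724 : List ℕ := [1, 5, 0, 3, 4, 1, 11, 9, 4, 4, 8, 3, 3, 9, 0, 8, 0, 10]
def rw725 : List ℕ := [1, 9, 3, 8, 3, 10, 4, 4, 2, 4, 4, 2, 11, 0, 6, 4, 8, 6]
def rw726 : List ℕ := [1, 6, 0, 9, 1, 6, 11, 6, 9, 4, 3, 7, 4, 10, 9, 6, 3, 9]
def rw727 : List ℕ := [1, 7, 2, 11, 9, 11, 3, 7, 8, 5, 0, 2, 8, 1, 6, 7, 7, 0, 9, 3, 1, 4, 9, 6, 2, 10, 8, 10, 3, 6, 0, 10, 6, 11]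
def rw728 : List ℕ := [1, 9, 7, 1, 6, 1, 2, 10, 0, 7, 2, 6, 3, 6, 11, 9, 5]
def rw729 : List ℕ := [1, 4, 4, 4, 11, 1, 9, 1, 8, 2, 2, 9, 5, 5, 8, 10, 1, 4]
def rw730 : List ℕ := [1, 10, 6, 3, 6, 9, 0, 3, 7, 7, 8, 9, 9, 6, 6, 2, 1, 8, 7, 2, 7, 11, 0, 11, 1, 2, 5, 11, 8, 10, 4, 3, 0, 10]
def rw731 : List ℕ := [1, 11, 0, 6, 4, 8, 6, 1, 9, 3, 8, 3, 10, 3, 4, 1, 5, 3]
def rw732 : List ℕ := [1, 1, 3, 6, 0, 9, 3, 10, 3, 3, 9, 2, 6, 5, 11, 2, 7, 9]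
def rw733 : List ℕ := [1, 8, 7, 2, 7, 11, 6, 3, 6, 9, 0, 3, 7, 7, 8, 10, 4, 3, 0, 10, 1, 10, 10, 11, 0, 11, 1, 2, 5, 11, 9, 6, 6, 2]
def rw734 : List ℕ := [1, 7, 8, 8, 7, 0, 10, 7, 1, 8, 3, 5, 8, 0, 7, 9, 11]
def rw735 : List ℕ := [1, 2, 0, 5, 9, 4, 0, 8, 3, 0, 11, 9, 3, 5, 6, 1, 3, 10]
def rw736 : List ℕ := [1, 9, 7, 1, 9, 7, 10, 0, 3, 7, 3, 4, 3, 11, 2, 1, 9, 7]
def rw737 : List ℕ := [1, 2, 8, 10, 4, 2, 1, 6, 1, 3, 11, 9, 0, 3, 8, 7, 0, 7]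
def rw738 : List ℕ := [1, 7, 9, 0, 5, 6, 8, 8, 9, 7, 4, 1, 8, 6, 0, 5, 1, 10, 8, 3, 8, 7, 10, 9, 11, 6, 9, 2, 9, 11, 0, 4]
def rw739 : List ℕ := [1, 7, 8, 10, 2, 6, 6, 0, 0, 5, 11, 8, 2, 8, 5, 7, 1]
def rw740 : List ℕ := [1, 1, 1, 6, 9, 1, 8, 6, 10, 2, 1, 2, 0, 11, 7, 7]
def rw741 : List ℕ := [1, 11, 11, 10, 0, 11, 6, 2, 4, 10, 8, 3, 8, 5, 1, 2, 8, 4, 2, 8, 10, 9, 3, 5, 9, 3, 0, 4, 9, 2, 9, 11, 5, 3, 7, 10]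
def rw742 : List ℕ := [1, 1, 1, 3, 1, 11, 7, 7, 1, 1, 1, 6, 9, 1, 8, 6, 10, 2]
def rw743 : List ℕ := [1, 2, 9, 1, 5, 8, 4, 1, 3, 0, 11, 2, 0, 7, 4, 2, 8, 10]
def rw744 : List ℕ := [1, 1, 10, 5, 8, 4, 7, 5, 2, 11, 7, 8, 0, 2, 0, 7, 5, 8]
def rw745 : List ℕ := [1, 11, 7, 9, 0, 8, 7, 0, 0, 0, 6, 6, 10, 1, 1, 2, 1, 2]
def rw746 : List ℕ := [1, 6, 9, 1, 8, 6, 10, 2, 5, 0, 0, 5, 11, 7, 7, 1, 1]
def rw747 : List ℕ := [1, 8, 6, 10, 1, 5, 2, 2, 2, 5, 11, 7, 7, 1, 1, 1, 6, 9]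
def rw748 : List ℕ := [1, 6, 9, 9, 6, 0, 10, 8, 6, 1, 9, 4, 2, 9, 0, 6, 11]
def rw749 : List ℕ := [1, 8, 6, 10, 0, 2, 0, 0, 3, 3, 11, 7, 7, 1, 1, 1, 6, 9]
def rw750 : List ℕ := [1, 3, 1, 3, 1, 3]
def rw751 : List ℕ := [1, 3, 6, 0, 9, 3, 10, 3, 3, 9, 2, 6, 5, 11, 2, 7, 9, 1]
def rw752 : List ℕ := [1, 6, 1, 3, 11, 9, 0, 3, 8, 7, 0, 7, 1, 2, 8, 10, 4, 2]
def rw753 : List ℕ := [1, 4, 0, 4, 11, 7, 9, 0, 8, 7, 0, 0, 0, 6, 6, 10, 3, 4]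
def rw754 : List ℕ := [1, 7, 9, 0, 5, 6, 8, 10, 9, 7, 4, 1, 8, 6, 0, 5, 1, 10, 8, 3, 8, 7, 10, 11, 11, 6, 9, 2, 9, 11, 0, 4]
def rw755 : List ℕ := [1, 3, 0, 11, 2, 0, 7, 4, 2, 8, 10, 1, 2, 9, 1, 5, 8, 4]
def rw756 : List ℕ := [1, 1, 3, 1, 11, 7, 7, 1, 1, 1, 6, 9, 1, 8, 6, 10, 2, 1]
def rw757 : List ℕ := [1, 7, 9, 0, 5, 6, 8, 11, 6, 9, 2, 9, 11, 6, 10, 8, 3, 8, 7, 10, 9, 7, 4, 1, 8, 6, 0, 5, 1, 7, 0, 4]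
def rw758 : List ℕ := [1, 7, 2, 11, 9, 11, 0, 10, 8, 10, 3, 6, 0, 10, 7, 0, 9, 3, 1, 4, 9, 6, 2, 1, 3, 7, 8, 5, 0, 2, 8, 1, 6, 11]
def rw759 : List ℕ := [1, 8, 1, 1, 10, 7, 5, 1, 1, 6, 6, 11, 9, 9, 9, 4, 1, 8]
def rw760 : List ℕ := [1, 8, 2, 0, 8, 1, 6, 8, 10, 4, 1, 7, 3, 3, 7, 11, 9, 7]
def rw761 : List ℕ := [1, 2, 5, 11, 9, 6, 6, 2, 1, 8, 7, 2, 7, 11, 6, 3, 6, 9, 0, 3, 7, 7, 8, 10, 4, 3, 0, 10, 1, 10, 10, 11, 0, 11]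
def rw762 : List ℕ := [1, 1, 3, 8, 6, 3, 10, 6, 5, 3, 8, 5, 6, 11, 2, 8, 1, 7]
def rw763 : List ℕ := [1, 11, 6, 10, 0, 11, 6, 2, 4, 10, 8, 3, 8, 5, 1, 2, 8, 4, 2, 8, 7, 9, 3, 5, 9, 3, 0, 4, 9, 2, 9, 11, 5, 3, 7, 10]
def rw764 : List ℕ := [1, 6, 9, 1, 8, 6, 10, 2, 1, 1, 1, 3, 1, 11, 7, 7, 1, 1]
def rw765 : List ℕ := [1, 2, 4, 10, 3, 5, 5, 11, 6, 8, 2, 4, 3, 8, 7]
def rw766 : List ℕ := [1, 9, 1, 8, 2, 2, 9, 5, 5, 8, 10, 1, 4, 2, 4, 0, 11]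
def rw767 : List ℕ := [1, 9, 7, 10, 0, 3, 6, 2, 6, 4, 11, 2, 1, 9, 7, 1, 9, 7]
def rw768 : List ℕ := [1, 3, 3, 1, 2, 0, 11, 7, 9, 0, 8, 7, 0, 0, 0, 6, 6, 10]
def rw769 : List ℕ := [1, 7, 5, 0, 0, 11, 7, 8, 6, 3, 6, 1, 9, 9, 0, 3, 10, 1]
def rw770 : List ℕ := [1, 8, 1, 8, 1, 1, 10, 7, 5, 1, 1, 6, 6, 11, 9, 9, 9, 4]
def rw771 : List ℕ := [1, 4, 11, 9, 4, 4, 8, 3, 3, 9, 0, 8, 0, 10, 5, 5, 1, 4]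
def rw772 : List ℕ := [1, 6, 9, 1, 8, 6, 10, 2, 1, 2, 0, 11, 7, 7, 1, 1]
def rw773 : List ℕ := [1, 5, 2, 9, 9, 5, 11, 8, 2, 8, 1, 2, 8, 7, 3, 4, 10]
def rw774 : List ℕ := [1, 6, 9, 1, 8, 6, 10, 1, 3, 3, 3, 11, 7, 7, 1, 1]
def rw775 : List ℕ := [1, 1, 1, 4, 8, 8, 0, 9, 10, 6, 4, 2, 8, 5, 6, 11, 1, 7]
def rw776 : List ℕ := [1, 10, 7, 5, 1, 1, 6, 6, 11, 9, 9, 9, 4, 1, 8, 1, 8, 1]
def rw777 : List ℕ := [1, 5, 10, 8, 4, 7, 3, 8, 8, 7, 0, 8, 0, 11, 8, 1, 5, 6]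
def rw778 : List ℕ := [1, 3, 8, 6, 3, 5, 5, 0, 8, 10, 7, 3, 7, 5, 7, 0, 11]
def rw779 : List ℕ := [1, 2, 0, 2, 11, 7, 7, 1, 1, 1, 6, 9, 1, 8, 6, 10, 2, 1]
def rw780 : List ℕ := [1, 8, 2, 2, 9, 5, 5, 8, 10, 1, 4, 2, 4, 0, 11, 1, 9]
def rw781 : List ℕ := [1, 3, 11, 9, 0, 3, 8, 7, 0, 7, 1, 2, 8, 10, 4, 2, 1, 6]
def rw782 : List ℕ := [1, 7, 2, 11, 9, 11, 1, 10, 8, 10, 3, 6, 0, 10, 7, 0, 9, 3, 1, 4, 9, 6, 2, 0, 3, 7, 8, 5, 0, 2, 8, 1, 6, 11]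
def rw783 : List ℕ := [1, 7, 1, 1, 3, 8, 6, 3, 10, 6, 5, 3, 8, 5, 6, 11, 2, 8]
def rw784 : List ℕ := [1, 4, 4, 2, 7, 9, 2, 0, 10, 1, 4, 6, 4, 2, 6, 11, 9]
def rw785 : List ℕ := [1, 11, 0, 10, 0, 11, 6, 2, 4, 10, 8, 3, 8, 5, 1, 2, 8, 4, 2, 8, 1, 9, 3, 5, 9, 3, 0, 4, 9, 2, 9, 11, 5, 3, 7, 10]
def rw786 : List ℕ := [1, 1, 2, 0, 2, 11, 7, 7, 1, 1, 1, 6, 9, 1, 8, 6, 10, 2]
def rw787 : List ℕ := [1, 10, 5, 8, 4, 7, 5, 2, 11, 7, 8, 0, 2, 0, 7, 5, 8, 1]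
def rw788 : List ℕ := [1, 6, 9, 1, 8, 6, 10, 1, 5, 2, 2, 2, 5, 11, 7, 7, 1, 1]
def rw789 : List ℕ := [1, 11, 6, 8, 0, 6, 8, 0, 6, 8, 0, 3, 10, 6, 6, 3, 6, 5]
def rw790 : List ℕ := [1, 5, 6, 2, 2, 11, 3, 1, 6, 1, 7, 9, 4, 2, 10]
def rw791 : List ℕ := [1, 11, 3, 3, 5, 7, 9, 10, 0, 3, 9, 3, 5, 0, 4, 2, 8]
def rw792 : List ℕ := [1, 9, 1, 8, 2, 2, 9, 5, 5, 8, 10, 5, 0, 5, 0, 4, 4, 11]
def rw793 : List ℕ := [1, 3, 1, 11, 7, 9, 0, 8, 7, 0, 0, 0, 6, 6, 10, 2, 2, 1]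
def rw794 : List ℕ := [1, 7, 9, 0, 5, 6, 8, 7, 9, 7, 4, 1, 8, 6, 0, 5, 1, 10, 8, 3, 8, 7, 10, 6, 11, 6, 9, 2, 9, 11, 0, 4]
def rw795 : List ℕ := [1, 10, 6, 11, 0, 11, 1, 2, 5, 11, 9, 6, 6, 2, 1, 8, 7, 2, 7, 7, 6, 3, 6, 9, 0, 3, 7, 7, 8, 10, 4, 3, 0, 10]
def rw796 : List ℕ := [1, 9, 2, 6, 5, 11, 2, 7, 2, 5, 5, 8, 10, 2, 7, 3, 8, 1]
def rw797 : List ℕ := [1, 8, 11, 6, 8, 3, 4, 1, 5, 9, 0, 4, 8, 10, 9, 4, 2, 1]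
def rw798 : List ℕ := [1, 7, 9, 0, 5, 6, 8, 11, 6, 9, 2, 9, 11, 8, 10, 8, 3, 8, 7, 10, 9, 7, 4, 1, 8, 6, 0, 5, 1, 9, 0, 4]
def rw799 : List ℕ := [1, 9, 3, 8, 3, 10, 5, 5, 5, 2, 4, 4, 11, 0, 6, 4, 8, 6]
def rw800 : List ℕ := [1, 8, 6, 10, 1, 2, 2, 2, 2, 11, 7, 7, 1, 1, 1, 6, 9]
def rw801 : List ℕ := [1, 9, 7, 1, 9, 7, 10, 0, 3, 6, 2, 6, 4, 11, 2, 1, 9, 7]
def rw802 : List ℕ := [1, 4, 1, 4, 4, 4, 11, 1, 9, 1, 8, 2, 2, 9, 5, 5, 8, 10]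
def rw803 : List ℕ := [1, 5, 5, 10, 6, 0, 5, 3, 3, 7, 11, 0, 4, 9, 3, 6, 6]
def rw804 : List ℕ := [1, 2, 5, 11, 5, 10, 4, 3, 0, 10, 1, 10, 6, 3, 6, 9, 0, 3, 7, 7, 8, 4, 9, 6, 6, 2, 1, 8, 7, 2, 7, 11, 0, 11]
def rw805 : List ℕ := [1, 2, 5, 11, 9, 6, 6, 2, 1, 8, 7, 2, 7, 6, 6, 3, 6, 9, 0, 3, 7, 7, 8, 10, 4, 3, 0, 10, 1, 10, 7, 11, 0, 11]
def rw806 : List ℕ := [1, 9, 3, 8, 3, 10, 3, 5, 5, 11, 0, 6, 4, 8, 6]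
def rw807 : List ℕ := [1, 6, 9, 1, 8, 6, 10, 1, 2, 2, 2, 2, 11, 7, 7, 1, 1]
def rw808 : List ℕ := [1, 6, 11, 1, 7, 2, 11, 9, 11, 4, 10, 8, 10, 3, 6, 0, 10, 7, 0, 9, 3, 1, 4, 9, 6, 2, 5, 3, 7, 8, 5, 0, 2, 8]
def rw809 : List ℕ := [1, 7, 9, 2, 10, 9, 4, 0, 4, 7, 8, 11, 3, 8, 1, 3, 1, 6]
def rw810 : List ℕ := [1, 10, 2, 11, 0, 11, 1, 2, 5, 11, 9, 6, 6, 2, 1, 8, 7, 2, 7, 3, 6, 3, 6, 9, 0, 3, 7, 7, 8, 10, 4, 3, 0, 10]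
def rw811 : List ℕ := [1, 9, 4, 8, 0, 8, 1, 6, 5, 10, 6, 2, 5, 1, 7, 11, 6]
def rw812 : List ℕ := [1, 1, 7, 8, 10, 2, 6, 6, 0, 0, 5, 11, 8, 2, 8, 5, 7]
def rw813 : List ℕ := [1, 5, 1, 9, 0, 7, 9, 6, 1, 2, 11, 4, 2, 8, 4, 3, 7, 10]
def rw814 : List ℕ := [1, 1, 3, 1, 3, 11, 7, 7, 1, 1, 1, 6, 9, 1, 8, 6, 10, 2]
def rw815 : List ℕ := [1, 2, 4, 10, 3, 6, 4, 4, 6, 11, 6, 8, 2, 4, 3, 8, 7]
def rw816 : List ℕ := [1, 9, 4, 2, 9, 0, 6, 11, 1, 6, 9, 9, 6, 0, 10, 8, 6]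
def rw817 : List ℕ := [1, 10, 6, 3, 6, 9, 0, 3, 7, 7, 8, 4, 9, 6, 6, 2, 1, 8, 7, 2, 7, 11, 0, 11, 1, 2, 5, 11, 5, 10, 4, 3, 0, 10]
def rw818 : List ℕ := [1, 6, 1, 7, 9, 4, 2, 10, 1, 5, 6, 2, 2, 11, 3]
def rw819 : List ℕ := [1, 5, 9, 9, 0, 11, 11, 11, 6, 6, 0, 11, 11, 10, 1, 7, 7, 10, 10, 10, 1, 8, 8, 4, 0, 8, 3, 9, 5, 6, 10, 7, 4, 8, 2, 9]
def rw820 : List ℕ := [1, 9, 9, 5, 0, 0, 0, 6, 0, 10, 7, 4, 9, 3, 5, 7, 11, 8]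
def rw821 : List ℕ := [1, 9, 7, 1, 9, 7, 1, 9, 7, 10, 0, 3, 7, 3, 4, 3, 11, 2]
def rw822 : List ℕ := [1, 7, 7, 10, 10, 10, 1, 8, 8, 4, 0, 8, 3, 9, 5, 6, 0, 7, 4, 8, 2, 9, 1, 5, 9, 9, 0, 11, 11, 11, 6, 6, 0, 11, 1, 10]
def rw823 : List ℕ := [1, 2, 4, 10, 5, 2, 4, 4, 3, 11, 6, 8, 2, 4, 3, 8, 7]
def rw824 : List ℕ := [1, 10, 7, 11, 0, 11, 1, 2, 5, 11, 9, 6, 6, 2, 1, 8, 7, 2, 7, 6, 6, 3, 6, 9, 0, 3, 7, 7, 8, 10, 4, 3, 0, 10]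
def rw825 : List ℕ := [1, 8, 4, 0, 5, 2, 9, 7, 10, 9, 0, 0, 3, 5, 8, 11, 9, 5]
def rw826 : List ℕ := [1, 5, 3, 5, 0, 11, 9, 4, 4, 8, 3, 3, 9, 0, 8, 0, 10]
def rw827 : List ℕ := [1, 3, 0, 3, 3, 11, 7, 7, 1, 1, 1, 6, 9, 1, 8, 6, 10, 3]
def rw828 : List ℕ := [1, 9, 7, 1, 9, 7, 1, 9, 7, 10, 0, 4, 7, 2, 7, 7, 11, 2]
def rw829 : List ℕ := [1, 7, 4, 1, 7, 11, 6, 8, 2, 4, 3, 8, 7, 1, 2, 4, 10, 4]
def rw830 : List ℕ := [1, 3, 0, 0, 3, 11, 7, 9, 0, 8, 7, 0, 0, 0, 6, 6, 10, 3]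
def rw831 : List ℕ := [1, 1, 6, 9, 1, 8, 6, 10, 1, 5, 2, 2, 2, 5, 11, 7, 7, 1]
def rw832 : List ℕ := [1, 7, 2, 11, 9, 11, 11, 10, 8, 10, 3, 6, 0, 10, 7, 0, 9, 3, 1, 4, 9, 6, 2, 10, 3, 7, 8, 5, 0, 2, 8, 1, 6, 11]
def rw833 : List ℕ := [1, 10, 6, 3, 6, 9, 0, 3, 7, 7, 8, 2, 9, 6, 6, 2, 1, 8, 7, 2, 7, 11, 0, 11, 1, 2, 5, 11, 3, 10, 4, 3, 0, 10]
def rw834 : List ℕ := [1, 11, 8, 10, 0, 11, 6, 2, 4, 10, 8, 3, 8, 5, 1, 2, 8, 4, 2, 8, 9, 9, 3, 5, 9, 3, 0, 4, 9, 2, 9, 11, 5, 3, 7, 10]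
def rw835 : List ℕ := [1, 4, 0, 11, 1, 9, 1, 8, 2, 2, 9, 5, 5, 8, 10, 0, 5, 2]
def rw836 : List ℕ := [1, 3, 3, 11, 7, 7, 1, 1, 1, 6, 9, 1, 8, 6, 10, 2, 1, 3]
def rw837 : List ℕ := [1, 4, 8, 8, 0, 9, 10, 6, 4, 2, 8, 5, 6, 11, 1, 7, 1, 1]
def rw838 : List ℕ := [1, 9, 2, 4, 7, 11, 4, 3, 9, 4, 2, 5, 10, 5, 6, 2, 5, 6]
def rw839 : List ℕ := [1, 3, 1, 3, 11, 7, 7, 1, 1, 1, 6, 9, 1, 8, 6, 10, 2, 1]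
def rw840 : List ℕ := [1, 5, 9, 9, 0, 11, 11, 11, 6, 6, 0, 11, 3, 10, 1, 7, 7, 10, 10, 10, 1, 8, 8, 4, 0, 8, 3, 9, 5, 6, 2, 7, 4, 8, 2, 9]
def rw841 : List ℕ := [1, 2, 5, 11, 6, 10, 4, 3, 0, 10, 1, 10, 6, 3, 6, 9, 0, 3, 7, 7, 8, 7, 9, 6, 6, 2, 1, 8, 7, 2, 7, 11, 0, 11]
def rw842 : List ℕ := [1, 9, 3, 8, 3, 10, 3, 4, 1, 5, 3, 1, 11, 0, 6, 4, 8, 6]
def rw843 : List ℕ := [1, 11, 6, 8, 0, 6, 8, 0, 6, 8, 0, 3, 10, 5, 7, 3, 7, 2]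
def rw844 : List ℕ := [1, 7, 9, 0, 5, 6, 8, 6, 9, 7, 4, 1, 8, 6, 0, 5, 1, 10, 8, 3, 8, 7, 10, 7, 11, 6, 9, 2, 9, 11, 0, 4]
def rw845 : List ℕ := [1, 8, 7, 2, 7, 11, 0, 11, 1, 2, 5, 11, 10, 10, 4, 3, 0, 10, 1, 10, 6, 3, 6, 9, 0, 3, 7, 7, 8, 11, 9, 6, 6, 2]
def rw846 : List ℕ := [1, 10, 10, 11, 0, 11, 1, 2, 5, 11, 9, 6, 6, 2, 1, 8, 7, 2, 7, 11, 6, 3, 6, 9, 0, 3, 7, 7, 8, 10, 4, 3, 0, 10]
def rw847 : List ℕ := [1, 2, 5, 11, 1, 10, 4, 3, 0, 10, 1, 10, 6, 3, 6, 9, 0, 3, 7, 7, 8, 0, 9, 6, 6, 2, 1, 8, 7, 2, 7, 11, 0, 11]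
def rw848 : List ℕ := [1, 1, 1, 1, 1, 1, 1]
def rw849 : List ℕ := [1, 5, 6, 2, 5, 5, 11, 9, 1, 4, 4, 2, 7, 9, 2, 0, 10]
def rw850 : List ℕ := [1, 7, 2, 11, 9, 11, 3, 7, 8, 5, 0, 2, 8, 1, 6, 2, 7, 0, 9, 3, 1, 4, 9, 6, 2, 10, 8, 10, 3, 6, 0, 10, 3, 11]
def rw851 : List ℕ := [1, 2, 5, 11, 8, 10, 4, 3, 0, 10, 1, 10, 6, 3, 6, 9, 0, 3, 7, 7, 8, 9, 9, 6, 6, 2, 1, 8, 7, 2, 7, 11, 0, 11]
def rw852 : List ℕ := [1, 8, 7, 2, 7, 11, 0, 11, 1, 2, 5, 11, 4, 10, 4, 3, 0, 10, 1, 10, 6, 3, 6, 9, 0, 3, 7, 7, 8, 5, 9, 6, 6, 2]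
def rw853 : List ℕ := [1, 7, 9, 0, 5, 6, 8, 11, 6, 9, 2, 9, 11, 0, 10, 8, 3, 8, 7, 10, 9, 7, 4, 1, 8, 6, 0, 5, 1, 1, 0, 4]
def rw854 : List ℕ := [1, 6, 9, 1, 8, 6, 10, 3, 1, 3, 0, 3, 3, 11, 7, 7, 1, 1]
def rw855 : List ℕ := [1, 2, 5, 11, 7, 10, 4, 3, 0, 10, 1, 10, 6, 3, 6, 9, 0, 3, 7, 7, 8, 6, 9, 6, 6, 2, 1, 8, 7, 2, 7, 11, 0, 11]
def rw856 : List ℕ := [1, 8, 7, 2, 7, 5, 6, 3, 6, 9, 0, 3, 7, 7, 8, 10, 4, 3, 0, 10, 1, 10, 4, 11, 0, 11, 1, 2, 5, 11, 9, 6, 6, 2]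
def rw857 : List ℕ := [1, 1, 6, 9, 1, 8, 6, 10, 0, 2, 0, 0, 3, 3, 11, 7, 7, 1]
def rw858 : List ℕ := [1, 6, 4, 6, 2, 6, 11, 9, 1, 4, 4, 2, 7, 9, 2, 0, 10]
def rw859 : List ℕ := [1, 8, 6, 10, 2, 1, 1, 1, 3, 1, 11, 7, 7, 1, 1, 1, 6, 9]
def rw860 : List ℕ := [1, 10, 6, 3, 6, 9, 0, 3, 7, 7, 8, 8, 9, 6, 6, 2, 1, 8, 7, 2, 7, 11, 0, 11, 1, 2, 5, 11, 9, 10, 4, 3, 0, 10]
def rw861 : List ℕ := [1, 8, 2, 2, 9, 5, 5, 8, 10, 5, 0, 5, 0, 4, 4, 11, 1, 9]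
def rw862 : List ℕ := [1, 8, 6, 0, 5, 1, 0, 0, 4, 1, 7, 9, 0, 5, 6, 8, 11, 6, 9, 2, 9, 11, 1, 10, 8, 3, 8, 7, 10, 9, 7, 4]
def rw863 : List ℕ := [1, 7, 2, 11, 9, 11, 4, 10, 8, 10, 3, 6, 0, 10, 7, 0, 9, 3, 1, 4, 9, 6, 2, 5, 3, 7, 8, 5, 0, 2, 8, 1, 6, 11]
def rw864 : List ℕ := [1, 4, 9, 6, 2, 10, 3, 7, 8, 5, 0, 2, 8, 1, 6, 11, 1, 7, 2, 11, 9, 11, 11, 10, 8, 10, 3, 6, 0, 10, 7, 0, 9, 3]
def rw865 : List ℕ := [1, 11, 7, 9, 0, 8, 7, 0, 0, 0, 6, 6, 10, 2, 2, 1, 1, 3]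
def rw866 : List ℕ := [1, 4, 4, 2, 7, 9, 2, 0, 10, 1, 5, 6, 2, 5, 5, 11, 9]
def rw867 : List ℕ := [1, 4, 9, 6, 2, 10, 8, 10, 3, 6, 0, 10, 10, 11, 1, 7, 2, 11, 9, 11, 3, 7, 8, 5, 0, 2, 8, 1, 6, 11, 7, 0, 9, 3]
def rw868 : List ℕ := [1, 3, 8, 6, 3, 10, 6, 5, 3, 8, 5, 6, 11, 2, 8, 1, 7, 1]
def rw869 : List ℕ := [1, 8, 6, 10, 5, 1, 5, 0, 5, 2, 11, 7, 7, 1, 1, 1, 6, 9]
def rw870 : List ℕ := [1, 6, 11, 1, 7, 2, 11, 9, 11, 10, 10, 8, 10, 3, 6, 0, 10, 7, 0, 9, 3, 1, 4, 9, 6, 2, 11, 3, 7, 8, 5, 0, 2, 8]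
def rw871 : List ℕ := [1, 9, 1, 8, 2, 2, 9, 5, 5, 8, 10, 1, 4, 1, 4, 4, 4, 11]
def rw872 : List ℕ := [1, 2, 8, 7, 3, 4, 10, 1, 5, 2, 9, 9, 5, 11, 8, 2, 8]
def rw873 : List ℕ := [1, 6, 1, 7, 9, 2, 10, 9, 4, 0, 4, 7, 8, 11, 3, 8, 1, 3]
def rw874 : List ℕ := [1, 6, 11, 1, 7, 2, 11, 9, 11, 7, 10, 8, 10, 3, 6, 0, 10, 7, 0, 9, 3, 1, 4, 9, 6, 2, 6, 3, 7, 8, 5, 0, 2, 8]
def rw875 : List ℕ := [1, 7, 9, 0, 5, 6, 8, 0, 9, 7, 4, 1, 8, 6, 0, 5, 1, 10, 8, 3, 8, 7, 10, 1, 11, 6, 9, 2, 9, 11, 0, 4]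
def rw876 : List ℕ := [1, 2, 4, 10, 0, 3, 4, 1, 1, 5, 11, 6, 8, 2, 4, 3, 8, 7]
def rw877 : List ℕ := [1, 7, 2, 11, 9, 11, 3, 7, 8, 5, 0, 2, 8, 1, 6, 4, 7, 0, 9, 3, 1, 4, 9, 6, 2, 10, 8, 10, 3, 6, 0, 10, 5, 11]
def rw878 : List ℕ := [1, 2, 5, 11, 3, 10, 4, 3, 0, 10, 1, 10, 6, 3, 6, 9, 0, 3, 7, 7, 8, 2, 9, 6, 6, 2, 1, 8, 7, 2, 7, 11, 0, 11]
def rw879 : List ℕ := [1, 11, 9, 4, 4, 8, 3, 3, 9, 0, 8, 0, 10, 1, 5, 0, 3, 4]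
def rw880 : List ℕ := [1, 8, 8, 4, 0, 8, 3, 9, 5, 6, 2, 7, 4, 8, 2, 9, 1, 5, 9, 9, 0, 11, 11, 11, 6, 6, 0, 11, 3, 10, 1, 7, 7, 10, 10, 10]
def rw881 : List ℕ := [1, 4, 9, 6, 2, 10, 8, 10, 3, 6, 0, 10, 5, 11, 1, 7, 2, 11, 9, 11, 3, 7, 8, 5, 0, 2, 8, 1, 6, 4, 7, 0, 9, 3]
def rw882 : List ℕ := [1, 7, 2, 11, 9, 11, 3, 7, 8, 5, 0, 2, 8, 1, 6, 10, 7, 0, 9, 3, 1, 4, 9, 6, 2, 10, 8, 10, 3, 6, 0, 10, 11, 11]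
def rw883 : List ℕ := [1, 1, 6, 9, 1, 8, 6, 10, 2, 1, 2, 0, 11, 7, 7, 1]
def rw884 : List ℕ := [1, 8, 6, 0, 5, 1, 8, 0, 4, 1, 7, 9, 0, 5, 6, 8, 11, 6, 9, 2, 9, 11, 9, 10, 8, 3, 8, 7, 10, 9, 7, 4]
def rw885 : List ℕ := [1, 8, 8, 0, 7, 2, 7, 9, 6, 10, 1, 1, 4, 6, 0, 0, 11, 2]
def rw886 : List ℕ := [1, 7, 2, 11, 9, 11, 3, 7, 8, 5, 0, 2, 8, 1, 6, 9, 7, 0, 9, 3, 1, 4, 9, 6, 2, 10, 8, 10, 3, 6, 0, 10, 8, 11]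
def rw887 : List ℕ := [1, 1, 1, 6, 9, 1, 8, 6, 10, 5, 1, 5, 0, 5, 2, 11, 7, 7]
def rw888 : List ℕ := [1, 2, 5, 11, 11, 10, 4, 3, 0, 10, 1, 10, 6, 3, 6, 9, 0, 3, 7, 7, 8, 10, 9, 6, 6, 2, 1, 8, 7, 2, 7, 11, 0, 11]
def rw889 : List ℕ := [1, 7, 2, 11, 9, 11, 8, 10, 8, 10, 3, 6, 0, 10, 7, 0, 9, 3, 1, 4, 9, 6, 2, 9, 3, 7, 8, 5, 0, 2, 8, 1, 6, 11]
def rw890 : List ℕ := [1, 3, 1, 9, 6, 10, 3, 7, 4, 6, 9, 4, 11, 0, 0, 9, 4, 6]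
def rw891 : List ℕ := [1, 7, 9, 0, 5, 6, 8, 11, 9, 7, 4, 1, 8, 6, 0, 5, 1, 10, 8, 3, 8, 7, 10, 10, 11, 6, 9, 2, 9, 11, 0, 4]
def rw892 : List ℕ := [1, 1, 1, 6, 9, 1, 8, 6, 10, 2, 0, 2, 0, 3, 3, 11, 7, 7]
def rw893 : List ℕ := [1, 5, 3, 11, 3, 3, 8, 7, 4, 8, 10, 0, 3, 9, 5, 8, 2]
def rw894 : List ℕ := [1, 8, 6, 0, 5, 1, 10, 8, 3, 8, 7, 10, 1, 11, 6, 9, 2, 9, 11, 0, 4, 1, 7, 9, 0, 5, 6, 8, 0, 9, 7, 4]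
def rw895 : List ℕ := [1, 5, 3, 1, 11, 0, 6, 4, 8, 6, 1, 9, 3, 8, 3, 10, 3, 4]
def rw896 : List ℕ := [1, 2, 5, 11, 9, 6, 6, 2, 1, 8, 7, 2, 7, 0, 6, 3, 6, 9, 0, 3, 7, 7, 8, 10, 4, 3, 0, 10, 1, 10, 1, 11, 0, 11]
def rw897 : List ℕ := [1, 9, 6, 10, 3, 7, 4, 6, 9, 4, 11, 0, 0, 9, 4, 6, 1, 3]
def rw898 : List ℕ := [1, 9, 7, 1, 9, 7, 10, 0, 4, 7, 2, 7, 7, 11, 2, 1, 9, 7]
def rw899 : List ℕ := [1, 3, 1, 6, 1, 7, 9, 2, 10, 9, 4, 0, 4, 7, 8, 11, 3, 8]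
def rw900 : List ℕ := [1, 4, 4, 2, 7, 9, 2, 0, 10, 1, 7, 5, 7, 2, 6, 11, 9]
def rw901 : List ℕ := [1, 2, 4, 10, 7, 4, 2, 5, 6, 6, 11, 6, 8, 2, 4, 3, 8, 7]
def rw902 : List ℕ := [1, 7, 9, 0, 5, 6, 8, 11, 6, 9, 2, 9, 11, 11, 10, 8, 3, 8, 7, 10, 9, 7, 4, 1, 8, 6, 0, 5, 1, 10, 0, 4]
def rw903 : List ℕ := [1, 8, 6, 0, 5, 1, 10, 0, 4, 1, 7, 9, 0, 5, 6, 8, 11, 6, 9, 2, 9, 11, 11, 10, 8, 3, 8, 7, 10, 9, 7, 4]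
def rw904 : List ℕ := [1, 11, 7, 7, 1, 1, 1, 6, 9, 1, 8, 6, 10, 2, 1, 1, 1, 3]
def rw905 : List ℕ := [1, 6, 11, 1, 7, 2, 11, 9, 11, 0, 10, 8, 10, 3, 6, 0, 10, 7, 0, 9, 3, 1, 4, 9, 6, 2, 1, 3, 7, 8, 5, 0, 2, 8]
def rw906 : List ℕ := [1, 10, 6, 3, 6, 9, 0, 3, 7, 7, 8, 11, 9, 6, 6, 2, 1, 8, 7, 2, 7, 11, 0, 11, 1, 2, 5, 11, 10, 10, 4, 3, 0, 10]
def rw907 : List ℕ := [1, 1, 6, 9, 1, 8, 6, 10, 2, 1, 1, 2, 0, 2, 11, 7, 7, 1]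
def rw908 : List ℕ := [1, 6, 9, 1, 8, 6, 10, 2, 2, 0, 3, 11, 7, 7, 1, 1]
def rw909 : List ℕ := [1, 3, 8, 6, 3, 5, 5, 0, 8, 10, 7, 3, 6, 4, 6, 0, 11]
def rw910 : List ℕ := [1, 7, 9, 0, 5, 6, 8, 11, 6, 9, 2, 9, 11, 2, 10, 8, 3, 8, 7, 10, 9, 7, 4, 1, 8, 6, 0, 5, 1, 3, 0, 4]
def rw911 : List ℕ := [1, 8, 7, 2, 7, 11, 0, 11, 1, 2, 5, 11, 2, 10, 4, 3, 0, 10, 1, 10, 6, 3, 6, 9, 0, 3, 7, 7, 8, 3, 9, 6, 6, 2]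
def rw912 : List ℕ := [1, 7, 2, 11, 9, 11, 3, 7, 8, 5, 0, 2, 8, 1, 6, 3, 7, 0, 9, 3, 1, 4, 9, 6, 2, 10, 8, 10, 3, 6, 0, 10, 2, 11]
def rw913 : List ℕ := [1, 7, 2, 11, 9, 11, 3, 10, 8, 10, 3, 6, 0, 10, 7, 0, 9, 3, 1, 4, 9, 6, 2, 2, 3, 7, 8, 5, 0, 2, 8, 1, 6, 11]
def rw914 : List ℕ := [1, 10, 7, 5, 5, 7, 2, 11, 2, 9, 2, 8, 0, 7, 9, 5, 7]
def rw915 : List ℕ := [1, 8, 7, 2, 7, 7, 6, 3, 6, 9, 0, 3, 7, 7, 8, 10, 4, 3, 0, 10, 1, 10, 6, 11, 0, 11, 1, 2, 5, 11, 9, 6, 6, 2]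
def rw916 : List ℕ := [1, 4, 4, 2, 7, 9, 2, 0, 10, 1, 5, 7, 5, 2, 6, 11, 9]
def rw917 : List ℕ := [1, 6, 0, 4, 1, 7, 9, 0, 5, 6, 8, 11, 6, 9, 2, 9, 11, 7, 10, 8, 3, 8, 7, 10, 9, 7, 4, 1, 8, 6, 0, 5]
def rw918 : List ℕ := [1, 8, 2, 2, 9, 5, 5, 8, 10, 0, 5, 2, 1, 4, 0, 11, 1, 9]
def rw919 : List ℕ := [1, 10, 8, 3, 8, 7, 10, 2, 11, 6, 9, 2, 9, 11, 0, 4, 1, 7, 9, 0, 5, 6, 8, 3, 9, 7, 4, 1, 8, 6, 0, 5]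
def rw920 : List ℕ := [1, 10, 6, 3, 6, 9, 0, 3, 7, 7, 8, 7, 9, 6, 6, 2, 1, 8, 7, 2, 7, 11, 0, 11, 1, 2, 5, 11, 6, 10, 4, 3, 0, 10]
def rw921 : List ℕ := [1, 7, 2, 11, 9, 11, 3, 7, 8, 5, 0, 2, 8, 1, 6, 6, 7, 0, 9, 3, 1, 4, 9, 6, 2, 10, 8, 10, 3, 6, 0, 10, 7, 11]
def rw922 : List ℕ := [1, 8, 7, 2, 7, 2, 6, 3, 6, 9, 0, 3, 7, 7, 8, 10, 4, 3, 0, 10, 1, 10, 3, 11, 0, 11, 1, 2, 5, 11, 9, 6, 6, 2]
def rw923 : List ℕ := [1, 1, 6, 9, 1, 8, 6, 10, 1, 3, 3, 3, 11, 7, 7, 1]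
def rw924 : List ℕ := [1, 6, 11, 1, 7, 2, 11, 9, 11, 3, 10, 8, 10, 3, 6, 0, 10, 7, 0, 9, 3, 1, 4, 9, 6, 2, 2, 3, 7, 8, 5, 0, 2, 8]
def rw925 : List ℕ := [1, 10, 8, 3, 8, 7, 10, 4, 11, 6, 9, 2, 9, 11, 0, 4, 1, 7, 9, 0, 5, 6, 8, 5, 9, 7, 4, 1, 8, 6, 0, 5]
def rw926 : List ℕ := [1, 4, 9, 6, 2, 10, 8, 10, 3, 6, 0, 10, 7, 11, 1, 7, 2, 11, 9, 11, 3, 7, 8, 5, 0, 2, 8, 1, 6, 6, 7, 0, 9, 3]
def rw927 : List ℕ := [1, 1, 6, 9, 1, 8, 6, 10, 5, 1, 5, 0, 5, 2, 11, 7, 7, 1]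
def rw928 : List ℕ := [1, 10, 2, 2, 5, 5, 3, 5, 11, 2, 9, 2, 8, 0, 7, 9, 5, 7]
def rw929 : List ℕ := [1, 7, 2, 11, 9, 11, 6, 10, 8, 10, 3, 6, 0, 10, 7, 0, 9, 3, 1, 4, 9, 6, 2, 7, 3, 7, 8, 5, 0, 2, 8, 1, 6, 11]
def rw930 : List ℕ := [1, 2, 4, 10, 2, 4, 4, 2, 2, 11, 6, 8, 2, 4, 3, 8, 7]
def rw931 : List ℕ := [1, 2, 5, 11, 4, 10, 4, 3, 0, 10, 1, 10, 6, 3, 6, 9, 0, 3, 7, 7, 8, 5, 9, 6, 6, 2, 1, 8, 7, 2, 7, 11, 0, 11]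
def rw932 : List ℕ := [1, 7, 9, 0, 5, 6, 8, 11, 6, 9, 2, 9, 11, 5, 10, 8, 3, 8, 7, 10, 9, 7, 4, 1, 8, 6, 0, 5, 1, 4, 0, 4]
def rw933 : List ℕ := [1, 7, 2, 11, 9, 11, 2, 10, 8, 10, 3, 6, 0, 10, 7, 0, 9, 3, 1, 4, 9, 6, 2, 3, 3, 7, 8, 5, 0, 2, 8, 1, 6, 11]
def rw934 : List ℕ := [1, 2, 5, 11, 9, 6, 6, 2, 1, 8, 7, 2, 7, 4, 6, 3, 6, 9, 0, 3, 7, 7, 8, 10, 4, 3, 0, 10, 1, 10, 5, 11, 0, 11]
def rw935 : List ℕ := [1, 6, 9, 1, 8, 6, 10, 2, 1, 1, 3, 1, 3, 11, 7, 7, 1, 1]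
def rw936 : List ℕ := [1, 7, 9, 0, 5, 6, 8, 11, 6, 9, 2, 9, 11, 10, 10, 8, 3, 8, 7, 10, 9, 7, 4, 1, 8, 6, 0, 5, 1, 11, 0, 4]
def rw937 : List ℕ := [1, 2, 4, 10, 6, 2, 6, 3, 6, 6, 11, 6, 8, 2, 4, 3, 8, 7]
def rw938 : List ℕ := [1, 7, 2, 11, 9, 11, 3, 7, 8, 5, 0, 2, 8, 1, 6, 1, 7, 0, 9, 3, 1, 4, 9, 6, 2, 10, 8, 10, 3, 6, 0, 10, 0, 11]
def rw939 : List ℕ := [1, 6, 10, 7, 0, 9, 3, 1, 4, 9, 6, 2, 10, 8, 10, 3, 6, 0, 10, 11, 11, 1, 7, 2, 11, 9, 11, 3, 7, 8, 5, 0, 2, 8]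
def rw940 : List ℕ := [1, 7, 2, 11, 9, 11, 5, 10, 8, 10, 3, 6, 0, 10, 7, 0, 9, 3, 1, 4, 9, 6, 2, 4, 3, 7, 8, 5, 0, 2, 8, 1, 6, 11]
def rw941 : List ℕ := [1, 10, 3, 5, 5, 3, 5, 5, 11, 2, 9, 2, 8, 0, 7, 9, 5, 7]
def rw942 : List ℕ := [1, 6, 9, 1, 8, 6, 10, 0, 3, 0, 3, 0, 0, 11, 7, 7, 1, 1]
def rw943 : List ℕ := [1, 2, 5, 11, 9, 6, 6, 2, 1, 8, 7, 2, 7, 5, 6, 3, 6, 9, 0, 3, 7, 7, 8, 10, 4, 3, 0, 10, 1, 10, 4, 11, 0, 11]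
def rw944 : List ℕ := [1, 9, 3, 8, 3, 10, 7, 2, 5, 3, 7, 3, 11, 0, 6, 4, 8, 6]
def rw945 : List ℕ := [1, 10, 2, 4, 4, 2, 5, 5, 11, 2, 9, 2, 8, 0, 7, 9, 5, 7]
def rw946 : List ℕ := [1, 8, 8, 4, 0, 8, 3, 9, 5, 6, 10, 7, 4, 8, 2, 9, 1, 5, 9, 9, 0, 11, 11, 11, 6, 6, 0, 11, 11, 10, 1, 7, 7, 10, 10, 10]
def rw947 : List ℕ := [1, 2, 5, 11, 9, 6, 6, 2, 1, 8, 7, 2, 7, 10, 6, 3, 6, 9, 0, 3, 7, 7, 8, 10, 4, 3, 0, 10, 1, 10, 11, 11, 0, 11]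
def rw948 : List ℕ := [1, 8, 6, 10, 2, 2, 0, 3, 11, 7, 7, 1, 1, 1, 6, 9]
def rw949 : List ℕ := [1, 9, 7, 1, 9, 7, 1, 9, 7, 10, 0, 3, 7, 5, 2, 5, 11, 2]
def rw950 : List ℕ := [1, 8, 6, 0, 5, 1, 4, 0, 4, 1, 7, 9, 0, 5, 6, 8, 11, 6, 9, 2, 9, 11, 5, 10, 8, 3, 8, 7, 10, 9, 7, 4]
def rw951 : List ℕ := [1, 7, 7, 10, 10, 10, 1, 8, 8, 4, 0, 8, 3, 9, 5, 6, 3, 7, 4, 8, 2, 9, 1, 5, 9, 9, 0, 11, 11, 11, 6, 6, 0, 11, 2, 10]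
def rw952 : List ℕ := [1, 7, 7, 10, 10, 10, 1, 8, 8, 4, 0, 8, 3, 9, 5, 6, 11, 7, 4, 8, 2, 9, 1, 5, 9, 9, 0, 11, 11, 11, 6, 6, 0, 11, 10, 10]
def rw953 : List ℕ := [1, 2, 5, 11, 9, 6, 6, 2, 1, 8, 7, 2, 7, 3, 6, 3, 6, 9, 0, 3, 7, 7, 8, 10, 4, 3, 0, 10, 1, 10, 2, 11, 0, 11]
def rw954 : List ℕ := [1, 4, 9, 6, 2, 11, 3, 7, 8, 5, 0, 2, 8, 1, 6, 11, 1, 7, 2, 11, 9, 11, 10, 10, 8, 10, 3, 6, 0, 10, 7, 0, 9, 3]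
def rw955 : List ℕ := [1, 2, 5, 11, 0, 10, 4, 3, 0, 10, 1, 10, 6, 3, 6, 9, 0, 3, 7, 7, 8, 1, 9, 6, 6, 2, 1, 8, 7, 2, 7, 11, 0, 11]
def rw956 : List ℕ := [1, 4, 4, 2, 7, 9, 2, 0, 10, 1, 6, 4, 6, 2, 6, 11, 9]
def rw957 : List ℕ := [1, 5, 9, 9, 0, 11, 11, 11, 6, 6, 0, 11, 10, 10, 1, 7, 7, 10, 10, 10, 1, 8, 8, 4, 0, 8, 3, 9, 5, 6, 11, 7, 4, 8, 2, 9]
def rw958 : List ℕ := [1, 6, 11, 1, 7, 2, 11, 9, 11, 11, 10, 8, 10, 3, 6, 0, 10, 7, 0, 9, 3, 1, 4, 9, 6, 2, 10, 3, 7, 8, 5, 0, 2, 8]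
def rw959 : List ℕ := [1, 10, 5, 5, 3, 4, 4, 4, 11, 2, 9, 2, 8, 0, 7, 9, 5, 7]
def rw960 : List ℕ := [1, 10, 8, 3, 8, 7, 10, 8, 11, 6, 9, 2, 9, 11, 0, 4, 1, 7, 9, 0, 5, 6, 8, 9, 9, 7, 4, 1, 8, 6, 0, 5]
def rw961 : List ℕ := [1, 9, 3, 8, 3, 10, 4, 2, 4, 4, 3, 3, 11, 0, 6, 4, 8, 6]
def rw962 : List ℕ := [1, 3, 8, 6, 3, 5, 5, 0, 8, 10, 7, 3, 4, 6, 4, 0, 11]
def rw963 : List ℕ := [1, 10, 8, 3, 8, 7, 10, 1, 11, 6, 9, 2, 9, 11, 0, 4, 1, 7, 9, 0, 5, 6, 8, 0, 9, 7, 4, 1, 8, 6, 0, 5]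
def rw964 : List ℕ := [1, 8, 0, 4, 1, 7, 9, 0, 5, 6, 8, 11, 6, 9, 2, 9, 11, 9, 10, 8, 3, 8, 7, 10, 9, 7, 4, 1, 8, 6, 0, 5]
def rw965 : List ℕ := [1, 2, 5, 11, 9, 6, 6, 2, 1, 8, 7, 2, 7, 9, 6, 3, 6, 9, 0, 3, 7, 7, 8, 10, 4, 3, 0, 10, 1, 10, 8, 11, 0, 11]
def rw966 : List ℕ := [1, 7, 7, 10, 10, 10, 1, 8, 8, 4, 0, 8, 3, 9, 5, 6, 4, 7, 4, 8, 2, 9, 1, 5, 9, 9, 0, 11, 11, 11, 6, 6, 0, 11, 5, 10]
def rw967 : List ℕ := [1, 7, 2, 11, 9, 11, 10, 10, 8, 10, 3, 6, 0, 10, 7, 0, 9, 3, 1, 4, 9, 6, 2, 11, 3, 7, 8, 5, 0, 2, 8, 1, 6, 11]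
def rw968 : List ℕ := [1, 1, 1, 6, 9, 1, 8, 6, 10, 1, 5, 2, 2, 2, 5, 11, 7, 7]
def rw969 : List ℕ := [1, 9, 7, 10, 0, 3, 7, 5, 2, 5, 11, 2, 1, 9, 7, 1, 9, 7]
def rw970 : List ℕ := [1, 7, 7, 10, 10, 10, 1, 8, 8, 4, 0, 8, 3, 9, 5, 6, 2, 7, 4, 8, 2, 9, 1, 5, 9, 9, 0, 11, 11, 11, 6, 6, 0, 11, 3, 10]
def rw971 : List ℕ := [1, 8, 6, 10, 3, 1, 3, 0, 3, 3, 11, 7, 7, 1, 1, 1, 6, 9]
def rw972 : List ℕ := [1, 7, 9, 0, 5, 6, 8, 11, 6, 9, 2, 9, 11, 7, 10, 8, 3, 8, 7, 10, 9, 7, 4, 1, 8, 6, 0, 5, 1, 6, 0, 4]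
def rw973 : List ℕ := [1, 10, 8, 3, 8, 7, 10, 9, 11, 6, 9, 2, 9, 11, 0, 4, 1, 7, 9, 0, 5, 6, 8, 8, 9, 7, 4, 1, 8, 6, 0, 5]
def rw974 : List ℕ := [1, 6, 9, 1, 8, 6, 10, 2, 1, 1, 2, 0, 2, 11, 7, 7, 1, 1]
def rw975 : List ℕ := [1, 7, 9, 0, 5, 6, 8, 2, 9, 7, 4, 1, 8, 6, 0, 5, 1, 10, 8, 3, 8, 7, 10, 3, 11, 6, 9, 2, 9, 11, 0, 4]
def rw976 : List ℕ := [1, 1, 0, 4, 1, 7, 9, 0, 5, 6, 8, 11, 6, 9, 2, 9, 11, 0, 10, 8, 3, 8, 7, 10, 9, 7, 4, 1, 8, 6, 0, 5]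
def rw977 : List ℕ := [1, 8, 6, 0, 5, 1, 10, 8, 3, 8, 7, 10, 7, 11, 6, 9, 2, 9, 11, 0, 4, 1, 7, 9, 0, 5, 6, 8, 6, 9, 7, 4]
def rw978 : List ℕ := [1, 8, 8, 4, 0, 8, 3, 9, 5, 6, 1, 7, 4, 8, 2, 9, 1, 5, 9, 9, 0, 11, 11, 11, 6, 6, 0, 11, 0, 10, 1, 7, 7, 10, 10, 10]
def rw979 : List ℕ := [1, 2, 5, 11, 2, 10, 4, 3, 0, 10, 1, 10, 6, 3, 6, 9, 0, 3, 7, 7, 8, 3, 9, 6, 6, 2, 1, 8, 7, 2, 7, 11, 0, 11]
def rw980 : List ℕ := [1, 1, 1, 6, 9, 1, 8, 6, 10, 2, 5, 0, 0, 5, 11, 7, 7]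
def rw981 : List ℕ := [1, 7, 7, 10, 10, 10, 1, 8, 8, 4, 0, 8, 3, 9, 5, 6, 1, 7, 4, 8, 2, 9, 1, 5, 9, 9, 0, 11, 11, 11, 6, 6, 0, 11, 0, 10]
def rw982 : List ℕ := [1, 8, 8, 4, 0, 8, 3, 9, 5, 6, 9, 7, 4, 8, 2, 9, 1, 5, 9, 9, 0, 11, 11, 11, 6, 6, 0, 11, 8, 10, 1, 7, 7, 10, 10, 10]
def rw983 : List ℕ := [1, 1, 6, 9, 1, 8, 6, 10, 1, 3, 0, 2, 2, 0, 11, 7, 7, 1]
def rw984 : List ℕ := [1, 6, 11, 7, 0, 9, 3, 1, 4, 9, 6, 2, 10, 8, 10, 3, 6, 0, 10, 10, 11, 1, 7, 2, 11, 9, 11, 3, 7, 8, 5, 0, 2, 8]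
def rw985 : List ℕ := [1, 7, 2, 11, 9, 11, 3, 7, 8, 5, 0, 2, 8, 1, 6, 8, 7, 0, 9, 3, 1, 4, 9, 6, 2, 10, 8, 10, 3, 6, 0, 10, 9, 11]
def rw986 : List ℕ := [1, 8, 6, 10, 2, 1, 1, 3, 1, 3, 11, 7, 7, 1, 1, 1, 6, 9]
def rw987 : List ℕ := [1, 1, 6, 9, 1, 8, 6, 10, 2, 5, 0, 0, 5, 11, 7, 7, 1]
def rw988 : List ℕ := [1, 8, 6, 0, 5, 1, 9, 0, 4, 1, 7, 9, 0, 5, 6, 8, 11, 6, 9, 2, 9, 11, 8, 10, 8, 3, 8, 7, 10, 9, 7, 4]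
def rw989 : List ℕ := [1, 9, 3, 8, 3, 10, 2, 4, 4, 2, 2, 11, 0, 6, 4, 8, 6]
def rw990 : List ℕ := [1, 8, 7, 2, 7, 11, 0, 11, 1, 2, 5, 11, 8, 10, 4, 3, 0, 10, 1, 10, 6, 3, 6, 9, 0, 3, 7, 7, 8, 9, 9, 6, 6, 2]
def rw991 : List ℕ := [1, 8, 6, 0, 5, 1, 10, 8, 3, 8, 7, 10, 9, 11, 6, 9, 2, 9, 11, 0, 4, 1, 7, 9, 0, 5, 6, 8, 8, 9, 7, 4]
def rw992 : List ℕ := [1, 10, 8, 3, 8, 7, 10, 0, 11, 6, 9, 2, 9, 11, 0, 4, 1, 7, 9, 0, 5, 6, 8, 1, 9, 7, 4, 1, 8, 6, 0, 5]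
def rw993 : List ℕ := [1, 7, 9, 0, 5, 6, 8, 4, 9, 7, 4, 1, 8, 6, 0, 5, 1, 10, 8, 3, 8, 7, 10, 5, 11, 6, 9, 2, 9, 11, 0, 4]
def rw994 : List ℕ := [1, 10, 3, 4, 4, 2, 4, 4, 11, 2, 9, 2, 8, 0, 7, 9, 5, 7]
def rw995 : List ℕ := [1, 10, 3, 3, 5, 5, 3, 11, 2, 9, 2, 8, 0, 7, 9, 5, 7]
def rw996 : List ℕ := [1, 8, 8, 4, 0, 8, 3, 9, 5, 6, 8, 7, 4, 8, 2, 9, 1, 5, 9, 9, 0, 11, 11, 11, 6, 6, 0, 11, 9, 10, 1, 7, 7, 10, 10, 10]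
def rw997 : List ℕ := [1, 1, 10, 5, 8, 7, 5, 6, 2, 11, 7, 8, 0, 2, 0, 7, 5, 8]
def rw998 : List ℕ := [1, 6, 9, 1, 8, 6, 10, 0, 2, 0, 0, 3, 3, 11, 7, 7, 1, 1]
def rw999 : List ℕ := [1, 8, 6, 0, 5, 1, 10, 8, 3, 8, 7, 10, 8, 11, 6, 9, 2, 9, 11, 0, 4, 1, 7, 9, 0, 5, 6, 8, 9, 9, 7, 4]
def rw1000 : List ℕ := [1, 6, 9, 1, 8, 6, 10, 2, 0, 2, 0, 3, 3, 11, 7, 7, 1, 1]
def rw1001 : List ℕ := [1, 8, 8, 4, 0, 8, 3, 9, 5, 6, 11, 7, 4, 8, 2, 9, 1, 5, 9, 9, 0, 11, 11, 11, 6, 6, 0, 11, 10, 10, 1, 7, 7, 10, 10, 10]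
def rw1002 : List ℕ := [1, 6, 11, 1, 7, 2, 11, 9, 11, 5, 10, 8, 10, 3, 6, 0, 10, 7, 0, 9, 3, 1, 4, 9, 6, 2, 4, 3, 7, 8, 5, 0, 2, 8]
def rw1003 : List ℕ := [1, 5, 9, 9, 0, 11, 11, 11, 6, 6, 0, 11, 9, 10, 1, 7, 7, 10, 10, 10, 1, 8, 8, 4, 0, 8, 3, 9, 5, 6, 8, 7, 4, 8, 2, 9]
def rw1004 : List ℕ := [1, 10, 11, 11, 0, 11, 1, 2, 5, 11, 9, 6, 6, 2, 1, 8, 7, 2, 7, 10, 6, 3, 6, 9, 0, 3, 7, 7, 8, 10, 4, 3, 0, 10]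
def rw1005 : List ℕ := [1, 1, 1, 6, 9, 1, 8, 6, 10, 2, 1, 1, 2, 0, 2, 11, 7, 7]
def rw1006 : List ℕ := [1, 8, 7, 2, 7, 0, 6, 3, 6, 9, 0, 3, 7, 7, 8, 10, 4, 3, 0, 10, 1, 10, 1, 11, 0, 11, 1, 2, 5, 11, 9, 6, 6, 2]
def rw1007 : List ℕ := [1, 4, 9, 6, 2, 10, 8, 10, 3, 6, 0, 10, 11, 11, 1, 7, 2, 11, 9, 11, 3, 7, 8, 5, 0, 2, 8, 1, 6, 10, 7, 0, 9, 3]
def rw1008 : List ℕ := [1, 2, 5, 11, 9, 6, 6, 2, 1, 8, 7, 2, 7, 8, 6, 3, 6, 9, 0, 3, 7, 7, 8, 10, 4, 3, 0, 10, 1, 10, 9, 11, 0, 11]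
def rw1009 : List ℕ := [1, 10, 8, 3, 8, 7, 10, 7, 11, 6, 9, 2, 9, 11, 0, 4, 1, 7, 9, 0, 5, 6, 8, 6, 9, 7, 4, 1, 8, 6, 0, 5]
def rw1010 : List ℕ := [1, 7, 9, 0, 5, 6, 8, 9, 9, 7, 4, 1, 8, 6, 0, 5, 1, 10, 8, 3, 8, 7, 10, 8, 11, 6, 9, 2, 9, 11, 0, 4]
def rw1011 : List ℕ := [1, 2, 4, 10, 4, 1, 7, 4, 1, 7, 11, 6, 8, 2, 4, 3, 8, 7]
def rw1012 : List ℕ := [1, 10, 8, 3, 8, 7, 10, 6, 11, 6, 9, 2, 9, 11, 0, 4, 1, 7, 9, 0, 5, 6, 8, 7, 9, 7, 4, 1, 8, 6, 0, 5]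
def rw1013 : List ℕ := [1, 9, 7, 10, 0, 4, 7, 2, 7, 7, 11, 2, 1, 9, 7, 1, 9, 7]
def rw1014 : List ℕ := [1, 8, 6, 0, 5, 1, 10, 8, 3, 8, 7, 10, 0, 11, 6, 9, 2, 9, 11, 0, 4, 1, 7, 9, 0, 5, 6, 8, 1, 9, 7, 4]
def rw1015 : List ℕ := [1, 3, 0, 4, 1, 7, 9, 0, 5, 6, 8, 11, 6, 9, 2, 9, 11, 2, 10, 8, 3, 8, 7, 10, 9, 7, 4, 1, 8, 6, 0, 5]
def rw1016 : List ℕ := [1, 2, 5, 11, 9, 6, 6, 2, 1, 8, 7, 2, 7, 7, 6, 3, 6, 9, 0, 3, 7, 7, 8, 10, 4, 3, 0, 10, 1, 10, 6, 11, 0, 11]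
def rw1017 : List ℕ := [1, 8, 7, 2, 7, 11, 0, 11, 1, 2, 5, 11, 1, 10, 4, 3, 0, 10, 1, 10, 6, 3, 6, 9, 0, 3, 7, 7, 8, 0, 9, 6, 6, 2]
def rw1018 : List ℕ := [1, 7, 9, 0, 5, 6, 8, 11, 6, 9, 2, 9, 11, 9, 10, 8, 3, 8, 7, 10, 9, 7, 4, 1, 8, 6, 0, 5, 1, 8, 0, 4]
def rw1019 : List ℕ := [1, 4, 9, 6, 2, 9, 3, 7, 8, 5, 0, 2, 8, 1, 6, 11, 1, 7, 2, 11, 9, 11, 8, 10, 8, 10, 3, 6, 0, 10, 7, 0, 9, 3]
def rw1020 : List ℕ := [1, 5, 9, 9, 0, 11, 11, 11, 6, 6, 0, 11, 1, 10, 1, 7, 7, 10, 10, 10, 1, 8, 8, 4, 0, 8, 3, 9, 5, 6, 0, 7, 4, 8, 2, 9]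
def rw1021 : List ℕ := [1, 4, 9, 6, 2, 0, 3, 7, 8, 5, 0, 2, 8, 1, 6, 11, 1, 7, 2, 11, 9, 11, 1, 10, 8, 10, 3, 6, 0, 10, 7, 0, 9, 3]
def rw1022 : List ℕ := [1, 1, 1, 6, 9, 1, 8, 6, 10, 1, 3, 3, 3, 11, 7, 7]
def rw1023 : List ℕ := [1, 8, 6, 10, 1, 3, 3, 3, 11, 7, 7, 1, 1, 1, 6, 9]
def rw1024 : List ℕ := [1, 2, 8, 4, 2, 8, 11, 9, 3, 5, 9, 3, 0, 4, 9, 2, 9, 11, 5, 3, 7, 10, 1, 11, 10, 10, 0, 11, 6, 2, 4, 10, 8, 3, 8, 5]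
def rw1025 : List ℕ := [1, 2, 4, 10, 1, 5, 0, 4, 0, 5, 11, 6, 8, 2, 4, 3, 8, 7]
def rw1026 : List ℕ := [1, 6, 9, 1, 8, 6, 10, 5, 2, 0, 4, 4, 1, 11, 7, 7, 1, 1]
def rw1027 : List ℕ := [1, 10, 5, 8, 7, 5, 6, 2, 11, 7, 8, 0, 2, 0, 7, 5, 8, 1]
def rw1028 : List ℕ := [1, 1, 6, 9, 1, 8, 6, 10, 1, 2, 2, 2, 2, 11, 7, 7, 1]
def rw1029 : List ℕ := [1, 8, 6, 0, 5, 1, 10, 8, 3, 8, 7, 10, 4, 11, 6, 9, 2, 9, 11, 0, 4, 1, 7, 9, 0, 5, 6, 8, 5, 9, 7, 4]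
def rw1030 : List ℕ := [1, 7, 9, 0, 5, 6, 8, 1, 9, 7, 4, 1, 8, 6, 0, 5, 1, 10, 8, 3, 8, 7, 10, 0, 11, 6, 9, 2, 9, 11, 0, 4]
def rw1031 : List ℕ := [1, 6, 5, 7, 0, 9, 3, 1, 4, 9, 6, 2, 10, 8, 10, 3, 6, 0, 10, 4, 11, 1, 7, 2, 11, 9, 11, 3, 7, 8, 5, 0, 2, 8]
def rw1032 : List ℕ := [1, 11, 6, 9, 2, 9, 11, 0, 4, 1, 7, 9, 0, 5, 6, 8, 0, 9, 7, 4, 1, 8, 6, 0, 5, 1, 10, 8, 3, 8, 7, 10]
def rw1033 : List ℕ := [1, 8, 8, 4, 0, 8, 3, 9, 5, 6, 4, 7, 4, 8, 2, 9, 1, 5, 9, 9, 0, 11, 11, 11, 6, 6, 0, 11, 5, 10, 1, 7, 7, 10, 10, 10]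
def rw1034 : List ℕ := [1, 8, 6, 0, 5, 1, 10, 8, 3, 8, 7, 10, 6, 11, 6, 9, 2, 9, 11, 0, 4, 1, 7, 9, 0, 5, 6, 8, 7, 9, 7, 4]
def rw1035 : List ℕ := [1, 8, 6, 0, 5, 1, 11, 0, 4, 1, 7, 9, 0, 5, 6, 8, 11, 6, 9, 2, 9, 11, 10, 10, 8, 3, 8, 7, 10, 9, 7, 4]
def rw1036 : List ℕ := [1, 7, 7, 10, 10, 10, 1, 8, 8, 4, 0, 8, 3, 9, 5, 6, 10, 7, 4, 8, 2, 9, 1, 5, 9, 9, 0, 11, 11, 11, 6, 6, 0, 11, 11, 10]
def rw1037 : List ℕ := [1, 8, 8, 4, 0, 8, 3, 9, 5, 6, 0, 7, 4, 8, 2, 9, 1, 5, 9, 9, 0, 11, 11, 11, 6, 6, 0, 11, 1, 10, 1, 7, 7, 10, 10, 10]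
def rw1038 : List ℕ := [1, 8, 6, 0, 5, 1, 10, 8, 3, 8, 7, 10, 3, 11, 6, 9, 2, 9, 11, 0, 4, 1, 7, 9, 0, 5, 6, 8, 2, 9, 7, 4]
def rw1039 : List ℕ := [1, 8, 6, 0, 5, 1, 10, 8, 3, 8, 7, 10, 11, 11, 6, 9, 2, 9, 11, 0, 4, 1, 7, 9, 0, 5, 6, 8, 10, 9, 7, 4]
def rw1040 : List ℕ := [1, 6, 11, 1, 7, 2, 11, 9, 11, 1, 10, 8, 10, 3, 6, 0, 10, 7, 0, 9, 3, 1, 4, 9, 6, 2, 0, 3, 7, 8, 5, 0, 2, 8]
def rw1041 : List ℕ := [1, 7, 7, 10, 10, 10, 1, 8, 8, 4, 0, 8, 3, 9, 5, 6, 5, 7, 4, 8, 2, 9, 1, 5, 9, 9, 0, 11, 11, 11, 6, 6, 0, 11, 4, 10]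
def rw1042 : List ℕ := [1, 1, 1, 6, 9, 1, 8, 6, 10, 1, 2, 2, 2, 2, 11, 7, 7]
def rw1043 : List ℕ := [1, 8, 8, 4, 0, 8, 3, 9, 5, 6, 6, 7, 4, 8, 2, 9, 1, 5, 9, 9, 0, 11, 11, 11, 6, 6, 0, 11, 7, 10, 1, 7, 7, 10, 10, 10]
def rw1044 : List ℕ := [1, 5, 9, 9, 0, 11, 11, 11, 6, 6, 0, 11, 6, 10, 1, 7, 7, 10, 10, 10, 1, 8, 8, 4, 0, 8, 3, 9, 5, 6, 7, 7, 4, 8, 2, 9]
def rw1045 : List ℕ := [1, 2, 5, 11, 10, 10, 4, 3, 0, 10, 1, 10, 6, 3, 6, 9, 0, 3, 7, 7, 8, 11, 9, 6, 6, 2, 1, 8, 7, 2, 7, 11, 0, 11]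
def rw1046 : List ℕ := [1, 5, 9, 9, 0, 11, 11, 11, 6, 6, 0, 11, 2, 10, 1, 7, 7, 10, 10, 10, 1, 8, 8, 4, 0, 8, 3, 9, 5, 6, 3, 7, 4, 8, 2, 9]
def rw1047 : List ℕ := [1, 7, 7, 10, 10, 10, 1, 8, 8, 4, 0, 8, 3, 9, 5, 6, 9, 7, 4, 8, 2, 9, 1, 5, 9, 9, 0, 11, 11, 11, 6, 6, 0, 11, 8, 10]
def rw1048 : List ℕ := [1, 6, 11, 1, 7, 2, 11, 9, 11, 2, 10, 8, 10, 3, 6, 0, 10, 7, 0, 9, 3, 1, 4, 9, 6, 2, 3, 3, 7, 8, 5, 0, 2, 8]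
def rw1049 : List ℕ := [2, 4, 0, 5, 5, 5, 0]
def rw1050 : List ℕ := [2, 2, 4, 3, 3, 3, 4, 2, 2]
def rw1051 : List ℕ := [2, 1, 5, 0, 4, 0, 4]
def rw1052 : List ℕ := [2, 0, 2, 0, 2, 0]
def rw1053 : List ℕ := [2, 0, 3, 1, 3, 0]
def rw1054 : List ℕ := [2, 6, 4, 11, 2, 1, 9, 7, 1, 9, 7, 1, 9, 7, 10, 0, 3, 6]
def rw1055 : List ℕ := [2, 4, 3, 3, 5, 3, 3, 4, 2]
def rw1056 : List ℕ := [2, 4, 2, 2, 5, 3, 3, 5, 2]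
def rw1057 : List ℕ := [2, 7, 7, 11, 2, 1, 9, 7, 1, 9, 7, 1, 9, 7, 10, 0, 4, 7]
def rw1058 : List ℕ := [2, 5, 5, 5, 2, 5, 5, 5]
def rw1059 : List ℕ := [2, 1, 3, 1, 2, 0]
def rw1060 : List ℕ := [2, 4, 7, 2, 4, 6, 3, 7]
def rw1061 : List ℕ := [2, 2, 4, 3, 3, 5, 3, 3, 4]
def rw1062 : List ℕ := [2, 0, 2, 1, 3, 1]
def rw1063 : List ℕ := [2, 2, 2, 2, 2, 2, 2]
def rw1064 : List ℕ := [2, 5, 2, 5, 2, 5]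
def rw1065 : List ℕ := [2, 1, 3, 5, 0, 0, 5]
def rw1066 : List ℕ := [2, 2, 0, 2, 2, 0]
def rw1067 : List ℕ := [2, 2, 2, 2, 2, 2, 2]
def rw1068 : List ℕ := [2, 5, 3, 3, 5, 2, 2, 4, 2]
def rw1069 : List ℕ := [2, 6, 5, 11, 2, 7, 9, 1, 1, 3, 6, 0, 9, 3, 10, 3, 3, 9]
def rw1070 : List ℕ := [2, 7, 4, 4, 7, 3, 5, 7, 4, 7]
def rw1071 : List ℕ := [2, 2, 2, 2, 2, 2, 2]
def rw1072 : List ℕ := [2, 6, 3, 4, 3, 5, 6, 6]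
def rw1073 : List ℕ := [2, 0, 2, 2, 0, 2]
def rw1074 : List ℕ := [2, 4, 6, 3, 7, 2, 4, 7]
def rw1075 : List ℕ := [2, 2, 1, 1, 3, 3, 0, 0, 3, 0, 2, 1, 1]
def rw1076 : List ℕ := [2, 7, 3, 7, 7, 4, 2, 5]
def rw1077 : List ℕ := [2, 2, 0, 0, 3, 3, 0, 0, 3, 1, 2, 1, 1]
def rw1078 : List ℕ := [2, 0, 2, 0, 2, 0]
def rw1079 : List ℕ := [2, 5, 2, 7, 3, 7, 7, 4]
def rw1080 : List ℕ := [2, 0, 2, 2, 0, 2]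
def rw1081 : List ℕ := [2, 7, 5, 3, 6, 5, 3, 6]
def rw1082 : List ℕ := [2, 2, 2, 2, 2, 2, 2]
def rw1083 : List ℕ := [2, 5, 5, 7, 3, 7, 7, 5]
def rw1084 : List ℕ := [2, 2, 2, 2, 2, 2, 2]
def rw1085 : List ℕ := [2, 1, 1, 2, 2, 0, 0, 3, 3, 0, 0, 3, 1]
def rw1086 : List ℕ := [2, 0, 3, 4, 1, 1, 4]
def rw1087 : List ℕ := [2, 5, 2, 5, 2, 5]
def rw1088 : List ℕ := [2, 2, 2, 5, 3, 3, 3, 3, 5]
def rw1089 : List ℕ := [2, 2, 5, 3, 3, 5, 2, 2, 4]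
def rw1090 : List ℕ := [2, 1, 8, 4, 0, 2, 1, 8, 8, 8, 1]
def rw1091 : List ℕ := [2, 1, 5, 2, 1, 5, 5, 1]
def rw1092 : List ℕ := [2, 6, 0, 4, 2, 6, 0, 4]
def rw1093 : List ℕ := [2, 4, 3, 3, 3, 4, 2, 2, 2]
def rw1094 : List ℕ := [2, 2, 4, 2, 2, 5, 3, 3, 5]
def rw1095 : List ℕ := [2, 2, 2, 4, 3, 3, 3, 4, 2]
def rw1096 : List ℕ := [2, 5, 9, 2, 4, 2, 5, 8, 7, 2]
def rw1097 : List ℕ := [2, 4, 2, 5, 8, 7, 2, 2, 5, 9]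
def rw1098 : List ℕ := [2, 5, 8, 7, 2, 2, 5, 9, 2, 4]
def rw1099 : List ℕ := [2, 2, 5, 9, 2, 4, 2, 5, 8, 7]
def rw1100 : List ℕ := [2, 5, 3, 3, 3, 3, 5, 2, 2]
def rw1101 : List ℕ := [2, 5, 5, 5, 2, 5, 5, 5]
def rw1102 : List ℕ := [2, 2, 5, 3, 3, 3, 3, 5, 2]
def rw1103 : List ℕ := [2, 2, 1, 3, 1, 1, 2, 0]
def rw1104 : List ℕ := [2, 1, 5, 5, 1, 2, 1, 5]
def rw1105 : List ℕ := [2, 2, 0, 2, 2, 0]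
def rw1106 : List ℕ := [2, 1, 1, 3, 3, 0, 0, 3, 0, 2, 1, 1, 2]
def rw1107 : List ℕ := [2, 6, 4, 4, 3, 4, 6, 6]
def rw1108 : List ℕ := [2, 6, 6, 6, 2, 6, 6, 6]
def rw1109 : List ℕ := [2, 0, 2, 2, 1, 3, 1, 1]
def rw1110 : List ℕ := [2, 6, 6, 6, 2, 6, 6, 6]
def rw1111 : List ℕ := [2, 5, 2, 5, 2, 5]
def rw1112 : List ℕ := [2, 0, 0, 3, 3, 0, 0, 3, 1, 2, 1, 1, 2]
def rw1113 : List ℕ := [2, 6, 5, 5, 6, 3, 6, 5, 6, 4]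
def rw1114 : List ℕ := [2, 2, 2, 2, 2, 2, 2]
def rw1115 : List ℕ := [2, 1, 8, 8, 8, 1, 2, 1, 8, 4, 0]
def rw1116 : List ℕ := [2, 7, 2, 5, 5, 8, 10, 2, 7, 3, 8, 1, 1, 9, 2, 6, 5, 11]
def rw1117 : List ℕ := [2, 8, 10, 2, 7, 3, 8, 1, 1, 9, 2, 6, 5, 11, 7, 2, 2, 7]
def rw1118 : List ℕ := [2, 9, 10, 8, 3, 1, 11, 11, 0]
def rw1119 : List ℕ := [2, 2, 5, 5, 3, 5, 11, 2, 9, 2, 8, 0, 7, 9, 5, 7, 1, 10]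
def rw1120 : List ℕ := [2, 5, 11, 1, 10, 4, 3, 0, 10, 1, 10, 6, 3, 6, 9, 0, 3, 7, 7, 8, 0, 9, 6, 6, 2, 1, 8, 7, 2, 7, 11, 0, 11, 1]
def rw1121 : List ℕ := [2, 1, 6, 1, 3, 11, 9, 0, 3, 8, 7, 0, 7, 1, 2, 8, 10, 4]
def rw1122 : List ℕ := [2, 0, 11, 7, 7, 1, 1, 1, 6, 9, 1, 8, 6, 10, 2, 1]
def rw1123 : List ℕ := [2, 11, 0, 6, 4, 8, 6, 1, 9, 3, 8, 3, 10, 5, 5, 3, 5, 5]
def rw1124 : List ℕ := [2, 4, 4, 11, 0, 6, 4, 8, 6, 1, 9, 3, 8, 3, 10, 5, 5, 5]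
def rw1125 : List ℕ := [2, 6, 0, 4, 2, 6, 0, 4]
def rw1126 : List ℕ := [2, 5, 5, 3, 4, 11, 2, 9, 2, 8, 0, 7, 9, 5, 7, 1, 10]
def rw1127 : List ℕ := [2, 8, 1, 7, 2, 0, 0, 8, 6, 3, 10, 4, 7, 3, 8, 2, 2, 11]
def rw1128 : List ℕ := [2, 0, 11, 7, 9, 0, 8, 7, 0, 0, 0, 6, 6, 10, 1, 3, 3, 1]
def rw1129 : List ℕ := [2, 5, 11, 2, 1, 9, 7, 1, 9, 7, 1, 9, 7, 10, 0, 3, 7, 5]
def rw1130 : List ℕ := [2, 7, 11, 6, 3, 6, 9, 0, 3, 7, 7, 8, 10, 4, 3, 0, 10, 1, 10, 10, 11, 0, 11, 1, 2, 5, 11, 9, 6, 6, 2, 1, 8, 7]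
def rw1131 : List ℕ := [2, 2, 2, 2, 4, 3, 3, 3, 4]
def rw1132 : List ℕ := [2, 11, 2, 8, 1, 7, 2, 0, 0, 8, 6, 3, 10, 4, 7, 3, 8, 2]
def rw1133 : List ℕ := [2, 0, 2, 11, 7, 9, 0, 8, 7, 0, 0, 0, 6, 6, 10, 2, 2, 1]
def rw1134 : List ℕ := [2, 1, 2, 0, 11, 7, 7, 1, 1, 1, 6, 9, 1, 8, 6, 10]
def rw1135 : List ℕ := [2, 2, 1, 1, 3, 1, 11, 7, 9, 0, 8, 7, 0, 0, 0, 6, 6, 10]
def rw1136 : List ℕ := [2, 6, 5, 11, 7, 2, 2, 7, 2, 8, 10, 2, 7, 3, 8, 1, 1, 9]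
def rw1137 : List ℕ := [2, 7, 11, 0, 11, 1, 2, 5, 11, 2, 10, 4, 3, 0, 10, 1, 10, 6, 3, 6, 9, 0, 3, 7, 7, 8, 3, 9, 6, 6, 2, 1, 8, 7]
def rw1138 : List ℕ := [2, 5, 10, 6, 5, 3, 8, 0, 7, 4, 3, 7, 4, 11, 4, 3, 5, 8]
def rw1139 : List ℕ := [2, 0, 3, 3, 11, 7, 7, 1, 1, 1, 6, 9, 1, 8, 6, 10, 2, 0]
def rw1140 : List ℕ := [2, 4, 10, 4, 1, 7, 4, 1, 7, 11, 6, 8, 2, 4, 3, 8, 7, 1]
def rw1141 : List ℕ := [2, 1, 9, 7, 1, 9, 7, 1, 9, 7, 10, 0, 3, 6, 2, 6, 4, 11]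
def rw1142 : List ℕ := [2, 9, 7, 10, 9, 0, 0, 3, 5, 8, 11, 9, 5, 1, 8, 4, 0, 5]
def rw1143 : List ℕ := [2, 2, 10, 0, 9, 3, 5, 1, 4, 2, 8, 2, 1, 11, 8, 6, 4]
def rw1144 : List ℕ := [2, 11, 7, 8, 0, 2, 0, 7, 5, 8, 1, 1, 10, 5, 8, 7, 5, 6]
def rw1145 : List ℕ := [2, 7, 11, 0, 11, 1, 2, 5, 11, 5, 10, 4, 3, 0, 10, 1, 10, 6, 3, 6, 9, 0, 3, 7, 7, 8, 4, 9, 6, 6, 2, 1, 8, 7]
def rw1146 : List ℕ := [2, 0, 0, 3, 11, 7, 9, 0, 8, 7, 0, 0, 0, 6, 6, 10, 2, 0]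
def rw1147 : List ℕ := [2, 8, 1, 2, 8, 7, 3, 4, 10, 1, 5, 2, 9, 9, 5, 11, 8]
def rw1148 : List ℕ := [2, 9, 0, 6, 11, 1, 6, 9, 9, 6, 0, 10, 8, 6, 1, 9, 4]
def rw1149 : List ℕ := [2, 0, 10, 1, 6, 4, 6, 2, 6, 11, 9, 1, 4, 4, 2, 7, 9]
def rw1150 : List ℕ := [2, 5, 2, 6, 2, 1, 11, 6, 8, 0, 6, 8, 0, 6, 8, 0, 3, 10]
def rw1151 : List ℕ := [2, 0, 11, 7, 9, 0, 8, 7, 0, 0, 0, 6, 6, 10, 2, 2]
def rw1152 : List ℕ := [2, 9, 11, 7, 10, 8, 3, 8, 7, 10, 9, 7, 4, 1, 8, 6, 0, 5, 1, 6, 0, 4, 1, 7, 9, 0, 5, 6, 8, 11, 6, 9]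
def rw1153 : List ℕ := [2, 1, 4, 0, 11, 1, 9, 1, 8, 2, 2, 9, 5, 5, 8, 10, 0, 5]
def rw1154 : List ℕ := [2, 2, 0, 11, 7, 9, 0, 8, 7, 0, 0, 0, 6, 6, 10, 2]
def rw1155 : List ℕ := [2, 4, 0, 2, 11, 5, 3, 0, 6, 9, 2, 5, 3, 9, 7, 10, 5, 0]
def rw1156 : List ℕ := [2, 6, 3, 6, 6, 11, 6, 8, 2, 4, 3, 8, 7, 1, 2, 4, 10, 6]
def rw1157 : List ℕ := [2, 9, 11, 11, 10, 8, 3, 8, 7, 10, 9, 7, 4, 1, 8, 6, 0, 5, 1, 10, 0, 4, 1, 7, 9, 0, 5, 6, 8, 11, 6, 9]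
def rw1158 : List ℕ := [2, 4, 0, 11, 1, 9, 1, 8, 2, 2, 9, 5, 5, 8, 10, 1, 4]
def rw1159 : List ℕ := [2, 4, 4, 2, 5, 5, 11, 2, 9, 2, 8, 0, 7, 9, 5, 7, 1, 10]
def rw1160 : List ℕ := [2, 4, 10, 8, 3, 8, 5, 1, 2, 8, 4, 2, 8, 0, 9, 3, 5, 9, 3, 0, 4, 9, 2, 9, 11, 5, 3, 7, 10, 1, 11, 1, 10, 0, 11, 6]
def rw1161 : List ℕ := [2, 5, 5, 11, 9, 1, 4, 4, 2, 7, 9, 2, 0, 10, 1, 5, 6]
def rw1162 : List ℕ := [2, 6, 5, 2, 0, 8, 6, 1, 9, 10, 4, 7, 0, 7, 2, 2, 11, 4]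
def rw1163 : List ℕ := [2, 11, 2, 9, 2, 8, 0, 7, 9, 5, 7, 1, 10, 0, 2, 4, 0, 5]
def rw1164 : List ℕ := [2, 11, 9, 11, 4, 10, 8, 10, 3, 6, 0, 10, 7, 0, 9, 3, 1, 4, 9, 6, 2, 5, 3, 7, 8, 5, 0, 2, 8, 1, 6, 11, 1, 7]
def rw1165 : List ℕ := [2, 6, 5, 9, 11, 4, 0, 7, 4, 0, 9, 10, 1, 9, 1, 6, 9, 9]
def rw1166 : List ℕ := [2, 4, 10, 5, 2, 4, 4, 3, 11, 6, 8, 2, 4, 3, 8, 7, 1]
def rw1167 : List ℕ := [2, 1, 11, 7, 9, 0, 8, 7, 0, 0, 0, 6, 6, 10, 1, 1, 2, 1]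
def rw1168 : List ℕ := [2, 9, 2, 8, 0, 7, 9, 5, 7, 1, 10, 0, 2, 4, 0, 5, 2, 11]
def rw1169 : List ℕ := [2, 2, 2, 0, 11, 7, 9, 0, 8, 7, 0, 0, 0, 6, 6, 10]
def rw1170 : List ℕ := [2, 2, 2, 5, 11, 7, 7, 1, 1, 1, 6, 9, 1, 8, 6, 10, 1, 5]
def rw1171 : List ℕ := [2, 0, 3, 11, 7, 7, 1, 1, 1, 6, 9, 1, 8, 6, 10, 2]
def rw1172 : List ℕ := [2, 4, 4, 11, 2, 9, 2, 8, 0, 7, 9, 5, 7, 1, 10, 3, 4, 4]
def rw1173 : List ℕ := [2, 9, 5, 5, 8, 10, 1, 4, 2, 4, 0, 11, 1, 9, 1, 8, 2]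
def rw1174 : List ℕ := [2, 8, 5, 7, 1, 1, 7, 8, 10, 2, 6, 6, 0, 0, 5, 11, 8]
def rw1175 : List ℕ := [2, 5, 5, 8, 10, 2, 7, 3, 8, 1, 1, 9, 2, 6, 5, 11, 2, 7]
def rw1176 : List ℕ := [2, 11, 6, 8, 2, 4, 3, 8, 7, 1, 2, 4, 10, 2, 4, 4, 2]
def rw1177 : List ℕ := [2, 9, 2, 8, 0, 7, 9, 5, 7, 1, 10, 2, 2, 5, 5, 3, 5, 11]
def rw1178 : List ℕ := [2, 9, 11, 8, 3, 1, 10, 10, 0]
def rw1179 : List ℕ := [2, 4, 4, 3, 11, 6, 8, 2, 4, 3, 8, 7, 1, 2, 4, 10, 5]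
def rw1180 : List ℕ := [2, 7, 8, 5, 11, 6, 2, 1, 7, 9, 1, 5, 6, 6, 3, 10, 6, 5]
def rw1181 : List ℕ := [2, 0, 2, 11, 7, 7, 1, 1, 1, 6, 9, 1, 8, 6, 10, 2, 1, 1]
def rw1182 : List ℕ := [2, 0, 3, 3, 1, 3, 0, 0]
def rw1183 : List ℕ := [2, 0, 10, 1, 4, 6, 4, 2, 6, 11, 9, 1, 4, 4, 2, 7, 9]
def rw1184 : List ℕ := [2, 4, 4, 3, 11, 0, 6, 4, 8, 6, 1, 9, 3, 8, 3, 10, 5]
def rw1185 : List ℕ := [2, 1, 7, 9, 1, 5, 6, 6, 3, 10, 6, 5, 2, 7, 8, 5, 11, 6]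
def rw1186 : List ℕ := [2, 1, 8, 7, 2, 7, 11, 0, 11, 1, 2, 5, 11, 1, 10, 4, 3, 0, 10, 1, 10, 6, 3, 6, 9, 0, 3, 7, 7, 8, 0, 9, 6, 6]
def rw1187 : List ℕ := [2, 7, 9, 1, 1, 3, 6, 0, 9, 3, 10, 3, 3, 9, 2, 6, 5, 11]
def rw1188 : List ℕ := [2, 5, 11, 9, 6, 6, 2, 1, 8, 7, 2, 7, 4, 6, 3, 6, 9, 0, 3, 7, 7, 8, 10, 4, 3, 0, 10, 1, 10, 5, 11, 0, 11, 1]
def rw1189 : List ℕ := [2, 4, 10, 8, 3, 8, 5, 1, 2, 8, 4, 2, 8, 9, 9, 3, 5, 9, 3, 0, 4, 9, 2, 9, 11, 5, 3, 7, 10, 1, 11, 8, 10, 0, 11, 6]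
def rw1190 : List ℕ := [2, 2, 11, 3, 1, 6, 1, 7, 9, 4, 2, 10, 1, 5, 6]
def rw1191 : List ℕ := [2, 8, 0, 7, 9, 5, 7, 1, 10, 4, 4, 2, 11, 2, 9]
def rw1192 : List ℕ := [2, 7, 7, 4, 0, 8, 6, 0, 3, 7, 10, 4, 9, 6, 3, 4, 7, 11]
def rw1193 : List ℕ := [2, 2, 11, 4, 2, 6, 5, 2, 0, 8, 6, 1, 9, 10, 4, 7, 0, 7]
def rw1194 : List ℕ := [2, 1, 3, 3, 11, 7, 9, 0, 8, 7, 0, 0, 0, 6, 6, 10]
def rw1195 : List ℕ := [2, 4, 0, 3, 9, 4, 8, 2, 1, 11, 9, 5, 6, 9, 2, 2, 10]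
def rw1196 : List ℕ := [2, 4, 10, 8, 3, 8, 5, 1, 2, 8, 4, 2, 8, 1, 9, 3, 5, 9, 3, 0, 4, 9, 2, 9, 11, 5, 3, 7, 10, 1, 11, 0, 10, 0, 11, 6]
def rw1197 : List ℕ := [2, 10, 0, 9, 3, 5, 1, 4, 2, 8, 2, 1, 11, 8, 6, 4, 2]
def rw1198 : List ℕ := [2, 11, 9, 11, 0, 10, 8, 10, 3, 6, 0, 10, 7, 0, 9, 3, 1, 4, 9, 6, 2, 1, 3, 7, 8, 5, 0, 2, 8, 1, 6, 11, 1, 7]
def rw1199 : List ℕ := [2, 0, 2, 0, 2, 0]
def rw1200 : List ℕ := [2, 11, 5, 3, 0, 6, 9, 2, 5, 3, 9, 7, 10, 7, 5, 5, 7]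
def rw1201 : List ℕ := [2, 0, 7, 4, 2, 8, 10, 1, 2, 9, 1, 5, 8, 4, 1, 3, 0, 11]
def rw1202 : List ℕ := [2, 5, 9, 3, 5, 10, 3, 0, 7, 8, 6, 1, 8, 0, 4, 0, 11, 6]
def rw1203 : List ℕ := [2, 6, 3, 6, 11, 9, 5, 1, 9, 7, 1, 6, 1, 2, 10, 0, 7]
def rw1204 : List ℕ := [2, 8, 7, 3, 4, 10, 1, 5, 2, 9, 9, 5, 11, 8, 2, 8, 1]
def rw1205 : List ℕ := [2, 6, 11, 9, 1, 4, 4, 2, 7, 9, 2, 0, 10, 1, 6, 4, 6]
def rw1206 : List ℕ := [2, 0, 4, 4, 1, 11, 7, 7, 1, 1, 1, 6, 9, 1, 8, 6, 10, 5]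
def rw1207 : List ℕ := [2, 0, 2, 0, 0, 3, 11, 7, 9, 0, 8, 7, 0, 0, 0, 6, 6, 10]
def rw1208 : List ℕ := [2, 6, 2, 4, 3, 6, 11, 2, 9, 2, 8, 0, 7, 9, 5, 7, 1, 10]
def rw1209 : List ℕ := [2, 2, 11, 0, 6, 4, 8, 6, 1, 9, 3, 8, 3, 10, 2, 4, 4]
def rw1210 : List ℕ := [2, 5, 11, 0, 10, 4, 3, 0, 10, 1, 10, 6, 3, 6, 9, 0, 3, 7, 7, 8, 1, 9, 6, 6, 2, 1, 8, 7, 2, 7, 11, 0, 11, 1]
def rw1211 : List ℕ := [2, 2, 10, 2, 4, 0, 3, 9, 4, 8, 2, 1, 11, 9, 5, 6, 9]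
def rw1212 : List ℕ := [2, 5, 6, 6, 11, 6, 8, 2, 4, 3, 8, 7, 1, 2, 4, 10, 7, 4]
def rw1213 : List ℕ := [2, 1, 11, 8, 6, 4, 2, 2, 10, 0, 9, 3, 5, 1, 4, 2, 8]
def rw1214 : List ℕ := [2, 0, 0, 3, 3, 11, 7, 7, 1, 1, 1, 6, 9, 1, 8, 6, 10, 0]
def rw1215 : List ℕ := [2, 9, 2, 8, 0, 7, 9, 5, 7, 1, 10, 2, 5, 5, 3, 4, 11]
def rw1216 : List ℕ := [2, 10, 9, 4, 0, 4, 7, 8, 11, 3, 8, 1, 3, 1, 6, 1, 7, 9]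
def rw1217 : List ℕ := [2, 11, 2, 9, 2, 8, 0, 7, 9, 5, 7, 1, 10, 7, 5, 5, 7]
def rw1218 : List ℕ := [2, 0, 11, 7, 7, 1, 1, 1, 6, 9, 1, 8, 6, 10, 1, 3, 0, 2]
def rw1219 : List ℕ := [2, 5, 11, 7, 7, 1, 1, 1, 6, 9, 1, 8, 6, 10, 1, 5, 2, 2]
def rw1220 : List ℕ := [2, 4, 4, 2, 2, 11, 6, 8, 2, 4, 3, 8, 7, 1, 2, 4, 10]
def rw1221 : List ℕ := [2, 2, 0, 3, 11, 7, 7, 1, 1, 1, 6, 9, 1, 8, 6, 10]
def rw1222 : List ℕ := [2, 2, 4, 1, 7, 11, 4, 4, 0, 7, 7, 2, 8, 5, 1, 10, 6]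
def rw1223 : List ℕ := [2, 2, 9, 5, 5, 8, 10, 1, 4, 2, 4, 0, 11, 1, 9, 1, 8]
def rw1224 : List ℕ := [2, 0, 0, 0, 3, 11, 7, 9, 0, 8, 7, 0, 0, 0, 6, 6, 10, 0]
def rw1225 : List ℕ := [2, 8, 1, 7, 1, 1, 3, 8, 6, 3, 10, 6, 5, 3, 8, 5, 6, 11]
def rw1226 : List ℕ := [2, 8, 0, 7, 9, 5, 7, 1, 10, 3, 4, 4, 2, 4, 4, 11, 2, 9]
def rw1227 : List ℕ := [2, 8, 5, 6, 11, 1, 7, 1, 1, 1, 4, 8, 8, 0, 9, 10, 6, 4]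
def rw1228 : List ℕ := [2, 6, 5, 11, 2, 7, 2, 5, 5, 8, 10, 2, 7, 3, 8, 1, 1, 9]
def rw1229 : List ℕ := [2, 1, 11, 9, 5, 6, 9, 2, 2, 10, 2, 4, 0, 3, 9, 4, 8]
def rw1230 : List ℕ := [2, 7, 3, 7, 11, 5, 3, 0, 6, 9, 2, 5, 3, 9, 7, 10, 7, 7]
def rw1231 : List ℕ := [2, 4, 0, 5, 2, 11, 2, 9, 2, 8, 0, 7, 9, 5, 7, 1, 10, 0]
def rw1232 : List ℕ := [2, 8, 4, 3, 7, 10, 1, 5, 1, 9, 0, 7, 9, 6, 1, 2, 11, 4]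
def rw1233 : List ℕ := [2, 1, 1, 2, 2, 1, 1, 3, 3, 0, 0, 3, 0]
def rw1234 : List ℕ := [2, 11, 7, 8, 0, 2, 0, 7, 5, 8, 1, 1, 10, 5, 8, 4, 7, 5]
def rw1235 : List ℕ := [2, 2, 5, 11, 7, 7, 1, 1, 1, 6, 9, 1, 8, 6, 10, 1, 5, 2]
def rw1236 : List ℕ := [2, 11, 3, 1, 6, 1, 7, 9, 4, 2, 10, 1, 5, 6, 2]
def rw1237 : List ℕ := [2, 11, 7, 9, 0, 8, 7, 0, 0, 0, 6, 6, 10, 2, 2, 1, 2, 0]
def rw1238 : List ℕ := [2, 4, 3, 6, 11, 2, 9, 2, 8, 0, 7, 9, 5, 7, 1, 10, 2, 6]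
def rw1239 : List ℕ := [2, 9, 2, 8, 0, 7, 9, 5, 7, 1, 10, 2, 4, 4, 2, 5, 5, 11]
def rw1240 : List ℕ := [2, 9, 11, 2, 10, 8, 3, 8, 7, 10, 9, 7, 4, 1, 8, 6, 0, 5, 1, 3, 0, 4, 1, 7, 9, 0, 5, 6, 8, 11, 6, 9]
def rw1241 : List ℕ := [2, 9, 2, 8, 0, 7, 9, 5, 7, 1, 10, 7, 5, 5, 7, 2, 11]
def rw1242 : List ℕ := [2, 0, 0, 8, 6, 3, 10, 4, 7, 3, 8, 2, 2, 11, 2, 8, 1, 7]
def rw1243 : List ℕ := [2, 11, 0, 6, 4, 8, 6, 1, 9, 3, 8, 3, 10, 4, 4, 2, 4, 4]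
def rw1244 : List ℕ := [2, 6, 2, 1, 11, 6, 8, 0, 6, 8, 0, 6, 8, 0, 3, 10, 2, 5]
def rw1245 : List ℕ := [2, 2, 11, 6, 8, 2, 4, 3, 8, 7, 1, 2, 4, 10, 2, 4, 4]
def rw1246 : List ℕ := [2, 8, 0, 7, 9, 5, 7, 1, 10, 3, 5, 5, 3, 5, 5, 11, 2, 9]
def rw1247 : List ℕ := [2, 8, 4, 2, 8, 1, 9, 3, 5, 9, 3, 0, 4, 9, 2, 9, 11, 5, 3, 7, 10, 1, 11, 0, 10, 0, 11, 6, 2, 4, 10, 8, 3, 8, 5, 1]
def rw1248 : List ℕ := [2, 1, 1, 2, 0, 2, 11, 7, 7, 1, 1, 1, 6, 9, 1, 8, 6, 10]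
def rw1249 : List ℕ := [2, 2, 2, 2, 11, 7, 7, 1, 1, 1, 6, 9, 1, 8, 6, 10, 1]
def rw1250 : List ℕ := [2, 6, 11, 9, 1, 4, 4, 2, 7, 9, 2, 0, 10, 1, 4, 6, 4]
def rw1251 : List ℕ := [2, 11, 2, 9, 2, 8, 0, 7, 9, 5, 7, 1, 10, 4, 4]
def rw1252 : List ℕ := [2, 5, 11, 7, 10, 4, 3, 0, 10, 1, 10, 6, 3, 6, 9, 0, 3, 7, 7, 8, 6, 9, 6, 6, 2, 1, 8, 7, 2, 7, 11, 0, 11, 1]
def rw1253 : List ℕ := [2, 0, 10, 1, 7, 5, 7, 2, 6, 11, 9, 1, 4, 4, 2, 7, 9]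
def rw1254 : List ℕ := [2, 1, 11, 6, 8, 0, 6, 8, 0, 6, 8, 0, 3, 10, 4, 3, 4, 6]
def rw1255 : List ℕ := [2, 11, 7, 7, 1, 1, 1, 6, 9, 1, 8, 6, 10, 5, 1, 5, 0, 5]
def rw1256 : List ℕ := [2, 0, 8, 6, 1, 9, 10, 4, 7, 0, 7, 2, 2, 11, 4, 2, 6, 5]
def rw1257 : List ℕ := [2, 5, 5, 3, 5, 11, 2, 9, 2, 8, 0, 7, 9, 5, 7, 1, 10, 2]
def rw1258 : List ℕ := [2, 5, 3, 9, 7, 10, 4, 0, 0, 5, 2, 1, 11, 5, 3, 0, 6, 9]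
def rw1259 : List ℕ := [2, 11, 4, 2, 6, 5, 2, 0, 8, 6, 1, 9, 10, 4, 7, 0, 7, 2]
def rw1260 : List ℕ := [2, 1, 8, 7, 2, 7, 3, 6, 3, 6, 9, 0, 3, 7, 7, 8, 10, 4, 3, 0, 10, 1, 10, 2, 11, 0, 11, 1, 2, 5, 11, 9, 6, 6]
def rw1261 : List ℕ := [2, 5, 0, 0, 5, 11, 7, 7, 1, 1, 1, 6, 9, 1, 8, 6, 10]
def rw1262 : List ℕ := [2, 11, 9, 11, 3, 7, 8, 5, 0, 2, 8, 1, 6, 6, 7, 0, 9, 3, 1, 4, 9, 6, 2, 10, 8, 10, 3, 6, 0, 10, 7, 11, 1, 7]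
def rw1263 : List ℕ := [2, 9, 9, 5, 11, 8, 2, 8, 1, 2, 8, 7, 3, 4, 10, 1, 5]
def rw1264 : List ℕ := [2, 11, 5, 3, 0, 6, 9, 2, 5, 3, 9, 7, 10, 5, 0, 2, 4, 0]
def rw1265 : List ℕ := [2, 6, 11, 9, 1, 4, 4, 2, 7, 9, 2, 0, 10, 1, 5, 7, 5]
def rw1266 : List ℕ := [2, 5, 5, 11, 2, 9, 2, 8, 0, 7, 9, 5, 7, 1, 10, 2, 4, 4]
def rw1267 : List ℕ := [2, 1, 3, 1, 1, 2, 0, 2]
def rw1268 : List ℕ := [2, 2, 2, 11, 7, 7, 1, 1, 1, 6, 9, 1, 8, 6, 10, 1, 2]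
def rw1269 : List ℕ := [2, 8, 2, 1, 11, 8, 6, 4, 2, 2, 10, 0, 9, 3, 5, 1, 4]
def rw1270 : List ℕ := [2, 4, 10, 8, 3, 8, 5, 1, 2, 8, 4, 2, 8, 11, 9, 3, 5, 9, 3, 0, 4, 9, 2, 9, 11, 5, 3, 7, 10, 1, 11, 10, 10, 0, 11, 6]
def rw1271 : List ℕ := [2, 6, 3, 11, 9, 4, 4, 3, 6, 3, 10, 4, 7, 3, 8, 0, 0, 9]
def rw1272 : List ℕ := [2, 4, 4, 2, 2, 11, 0, 6, 4, 8, 6, 1, 9, 3, 8, 3, 10]
def rw1273 : List ℕ := [2, 9, 5, 5, 8, 10, 0, 5, 2, 1, 4, 0, 11, 1, 9, 1, 8, 2]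
def rw1274 : List ℕ := [2, 11, 4, 2, 8, 4, 3, 7, 10, 1, 5, 1, 9, 0, 7, 9, 6, 1]
def rw1275 : List ℕ := [2, 10, 8, 10, 3, 6, 0, 10, 6, 11, 1, 7, 2, 11, 9, 11, 3, 7, 8, 5, 0, 2, 8, 1, 6, 7, 7, 0, 9, 3, 1, 4, 9, 6]
def rw1276 : List ℕ := [2, 4, 10, 2, 4, 4, 2, 2, 11, 6, 8, 2, 4, 3, 8, 7, 1]
def rw1277 : List ℕ := [2, 1, 9, 7, 1, 9, 7, 1, 9, 7, 10, 0, 3, 7, 5, 2, 5, 11]
def rw1278 : List ℕ := [2, 10, 2, 4, 0, 3, 9, 4, 8, 2, 1, 11, 9, 5, 6, 9, 2]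
def rw1279 : List ℕ := [2, 4, 10, 8, 3, 8, 5, 1, 2, 8, 4, 2, 8, 2, 9, 3, 5, 9, 3, 0, 4, 9, 2, 9, 11, 5, 3, 7, 10, 1, 11, 3, 10, 0, 11, 6]
def rw1280 : List ℕ := [2, 1, 2, 1, 11, 7, 9, 0, 8, 7, 0, 0, 0, 6, 6, 10, 1, 1]
def rw1281 : List ℕ := [2, 10, 0, 7, 2, 6, 3, 6, 11, 9, 5, 1, 9, 7, 1, 6, 1]
def rw1282 : List ℕ := [2, 2, 6, 0, 5, 11, 9, 7, 0, 9, 1, 3, 9, 0, 6, 8, 10, 6]
def rw1283 : List ℕ := [2, 4, 4, 3, 3, 11, 0, 6, 4, 8, 6, 1, 9, 3, 8, 3, 10, 4]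
def rw1284 : List ℕ := [2, 11, 7, 7, 1, 1, 1, 6, 9, 1, 8, 6, 10, 1, 2, 2, 2]
def rw1285 : List ℕ := [2, 0, 8, 1, 6, 8, 10, 4, 1, 7, 3, 3, 7, 11, 9, 7, 1, 8]
def rw1286 : List ℕ := [2, 8, 1, 6, 11, 1, 7, 2, 11, 9, 11, 5, 10, 8, 10, 3, 6, 0, 10, 7, 0, 9, 3, 1, 4, 9, 6, 2, 4, 3, 7, 8, 5, 0]
def rw1287 : List ℕ := [2, 2, 3, 7, 8, 5, 0, 2, 8, 1, 6, 11, 1, 7, 2, 11, 9, 11, 3, 10, 8, 10, 3, 6, 0, 10, 7, 0, 9, 3, 1, 4, 9, 6]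
def rw1288 : List ℕ := [2, 7, 3, 6, 1, 11, 3, 0, 7, 0, 6, 8, 0, 4, 8, 10, 7]
def rw1289 : List ℕ := [2, 11, 9, 11, 1, 10, 8, 10, 3, 6, 0, 10, 7, 0, 9, 3, 1, 4, 9, 6, 2, 0, 3, 7, 8, 5, 0, 2, 8, 1, 6, 11, 1, 7]
def rw1290 : List ℕ := [2, 1, 11, 5, 3, 0, 6, 9, 2, 5, 3, 9, 7, 10, 4, 0, 0, 5]
def rw1291 : List ℕ := [2, 1, 3, 7, 8, 5, 0, 2, 8, 1, 6, 11, 1, 7, 2, 11, 9, 11, 0, 10, 8, 10, 3, 6, 0, 10, 7, 0, 9, 3, 1, 4, 9, 6]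
def rw1292 : List ℕ := [2, 4, 10, 7, 4, 2, 5, 6, 6, 11, 6, 8, 2, 4, 3, 8, 7, 1]
def rw1293 : List ℕ := [2, 1, 1, 3, 1, 11, 7, 9, 0, 8, 7, 0, 0, 0, 6, 6, 10, 2]
def rw1294 : List ℕ := [2, 2, 7, 2, 8, 10, 2, 7, 3, 8, 1, 1, 9, 2, 6, 5, 11, 7]
def rw1295 : List ℕ := [2, 8, 10, 4, 2, 1, 6, 1, 3, 11, 9, 0, 3, 8, 7, 0, 7, 1]
def rw1296 : List ℕ := [2, 0, 5, 9, 4, 0, 8, 3, 0, 11, 9, 3, 5, 6, 1, 3, 10, 1]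
def rw1297 : List ℕ := [2, 1, 11, 6, 8, 0, 6, 8, 0, 6, 8, 0, 3, 10, 2, 5, 2, 6]
def rw1298 : List ℕ := [2, 11, 5, 3, 0, 6, 9, 2, 5, 3, 9, 7, 10, 4, 4]
def rw1299 : List ℕ := [2, 0, 7, 0, 3, 5, 11, 9, 3, 0, 6, 1, 6, 9, 2, 1, 8, 10]
def rw1300 : List ℕ := [2, 9, 11, 0, 4, 1, 7, 9, 0, 5, 6, 8, 1, 9, 7, 4, 1, 8, 6, 0, 5, 1, 10, 8, 3, 8, 7, 10, 0, 11, 6, 9]
def rw1301 : List ℕ := [2, 4, 7, 11, 4, 3, 9, 4, 2, 5, 10, 5, 6, 2, 5, 6, 1, 9]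
def rw1302 : List ℕ := [2, 4, 10, 0, 3, 4, 1, 1, 5, 11, 6, 8, 2, 4, 3, 8, 7, 1]
def rw1303 : List ℕ := [2, 9, 2, 8, 0, 7, 9, 5, 7, 1, 10, 4, 4, 2, 11]
def rw1304 : List ℕ := [2, 8, 1, 6, 7, 7, 0, 9, 3, 1, 4, 9, 6, 2, 10, 8, 10, 3, 6, 0, 10, 6, 11, 1, 7, 2, 11, 9, 11, 3, 7, 8, 5, 0]
def rw1305 : List ℕ := [2, 6, 3, 11, 9, 3, 6, 3, 3, 6, 10, 4, 7, 3, 8, 0, 0, 9]
def rw1306 : List ℕ := [2, 7, 9, 6, 10, 1, 1, 4, 6, 0, 0, 11, 2, 1, 8, 8, 0, 7]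
def rw1307 : List ℕ := [2, 11, 9, 11, 6, 10, 8, 10, 3, 6, 0, 10, 7, 0, 9, 3, 1, 4, 9, 6, 2, 7, 3, 7, 8, 5, 0, 2, 8, 1, 6, 11, 1, 7]
def rw1308 : List ℕ := [2, 4, 7, 11, 2, 7, 9, 2, 0, 0, 6, 0, 9, 3, 10, 7, 4, 9]
def rw1309 : List ℕ := [2, 9, 11, 0, 4, 1, 7, 9, 0, 5, 6, 8, 8, 9, 7, 4, 1, 8, 6, 0, 5, 1, 10, 8, 3, 8, 7, 10, 9, 11, 6, 9]
def rw1310 : List ℕ := [2, 1, 9, 7, 1, 9, 7, 1, 9, 7, 10, 0, 4, 7, 2, 7, 7, 11]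
def rw1311 : List ℕ := [2, 10, 9, 6, 5, 1, 5, 8, 11, 3, 8, 6, 0, 7, 0, 2, 0, 9]
def rw1312 : List ℕ := [2, 11, 0, 6, 4, 8, 6, 1, 9, 3, 8, 3, 10, 2, 4, 4, 2]
def rw1313 : List ℕ := [2, 10, 1, 5, 6, 2, 2, 11, 3, 1, 6, 1, 7, 9, 4]
def rw1314 : List ℕ := [2, 10, 8, 10, 3, 6, 0, 10, 4, 11, 1, 7, 2, 11, 9, 11, 3, 7, 8, 5, 0, 2, 8, 1, 6, 5, 7, 0, 9, 3, 1, 4, 9, 6]
def rw1315 : List ℕ := [2, 6, 9, 3, 0, 9, 3, 9, 10, 4, 8, 8, 3, 4, 0, 11, 5]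
def rw1316 : List ℕ := [2, 8, 5, 1, 10, 6, 2, 2, 4, 1, 7, 11, 4, 4, 0, 7, 7]
def rw1317 : List ℕ := [2, 10, 3, 3, 7, 4, 0, 11, 3, 5, 8, 6, 0, 7, 0]
def rw1318 : List ℕ := [2, 8, 11, 9, 3, 5, 9, 3, 0, 4, 9, 2, 9, 11, 5, 3, 7, 10, 1, 11, 10, 10, 0, 11, 6, 2, 4, 10, 8, 3, 8, 5, 1, 2, 8, 4]
def rw1319 : List ℕ := [2, 5, 3, 9, 7, 10, 6, 0, 5, 6, 0, 5, 11, 5, 3, 0, 6, 9]
def rw1320 : List ℕ := [2, 4, 4, 2, 11, 0, 6, 4, 8, 6, 1, 9, 3, 8, 3, 10, 4, 4]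
def rw1321 : List ℕ := [2, 5, 11, 9, 6, 6, 2, 1, 8, 7, 2, 7, 6, 6, 3, 6, 9, 0, 3, 7, 7, 8, 10, 4, 3, 0, 10, 1, 10, 7, 11, 0, 11, 1]
def rw1322 : List ℕ := [2, 8, 0, 7, 9, 5, 7, 1, 10, 0, 2, 4, 0, 5, 2, 11, 2, 9]
def rw1323 : List ℕ := [2, 9, 11, 3, 10, 8, 3, 8, 7, 10, 9, 7, 4, 1, 8, 6, 0, 5, 1, 2, 0, 4, 1, 7, 9, 0, 5, 6, 8, 11, 6, 9]
def rw1324 : List ℕ := [2, 9, 1, 5, 8, 4, 1, 3, 0, 11, 2, 0, 7, 4, 2, 8, 10, 1]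
def rw1325 : List ℕ := [2, 11, 5, 3, 0, 6, 9, 2, 5, 3, 9, 7, 10, 5, 5, 5, 5, 5]
def rw1326 : List ℕ := [2, 1, 1, 8, 11, 6, 8, 3, 4, 1, 5, 9, 0, 4, 8, 10, 9, 4]
def rw1327 : List ℕ := [2, 10, 8, 10, 3, 6, 0, 10, 0, 11, 1, 7, 2, 11, 9, 11, 3, 7, 8, 5, 0, 2, 8, 1, 6, 1, 7, 0, 9, 3, 1, 4, 9, 6]
def rw1328 : List ℕ := [2, 5, 3, 9, 7, 10, 3, 3, 5, 5, 3, 11, 5, 3, 0, 6, 9]
def rw1329 : List ℕ := [2, 7, 8, 11, 5, 6, 2, 5, 8, 7, 10, 7, 0, 8, 1, 7, 0, 8]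
def rw1330 : List ℕ := [2, 11, 7, 7, 1, 1, 1, 6, 9, 1, 8, 6, 10, 2, 1, 1, 2, 0]
def rw1331 : List ℕ := [2, 9, 11, 0, 4, 1, 7, 9, 0, 5, 6, 8, 2, 9, 7, 4, 1, 8, 6, 0, 5, 1, 10, 8, 3, 8, 7, 10, 3, 11, 6, 9]
def rw1332 : List ℕ := [2, 8, 2, 9, 3, 5, 9, 3, 0, 4, 9, 2, 9, 11, 5, 3, 7, 10, 1, 11, 3, 10, 0, 11, 6, 2, 4, 10, 8, 3, 8, 5, 1, 2, 8, 4]
def rw1333 : List ℕ := [2, 10, 8, 10, 3, 6, 0, 10, 1, 11, 1, 7, 2, 11, 9, 11, 3, 7, 8, 5, 0, 2, 8, 1, 6, 0, 7, 0, 9, 3, 1, 4, 9, 6]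
def rw1334 : List ℕ := [2, 9, 11, 0, 10, 8, 3, 8, 7, 10, 9, 7, 4, 1, 8, 6, 0, 5, 1, 1, 0, 4, 1, 7, 9, 0, 5, 6, 8, 11, 6, 9]
def rw1335 : List ℕ := [2, 2, 11, 2, 8, 1, 7, 2, 0, 0, 8, 6, 3, 10, 4, 7, 3, 8]
def rw1336 : List ℕ := [2, 8, 10, 1, 2, 9, 1, 5, 8, 4, 1, 3, 0, 11, 2, 0, 7, 4]
def rw1337 : List ℕ := [2, 11, 9, 11, 3, 10, 8, 10, 3, 6, 0, 10, 7, 0, 9, 3, 1, 4, 9, 6, 2, 2, 3, 7, 8, 5, 0, 2, 8, 1, 6, 11, 1, 7]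
def rw1338 : List ℕ := [2, 5, 3, 7, 3, 11, 0, 6, 4, 8, 6, 1, 9, 3, 8, 3, 10, 7]
def rw1339 : List ℕ := [2, 11, 9, 11, 9, 10, 8, 10, 3, 6, 0, 10, 7, 0, 9, 3, 1, 4, 9, 6, 2, 8, 3, 7, 8, 5, 0, 2, 8, 1, 6, 11, 1, 7]
def rw1340 : List ℕ := [2, 6, 6, 0, 0, 5, 11, 8, 2, 8, 5, 7, 1, 1, 7, 8, 10]
def rw1341 : List ℕ := [2, 9, 11, 5, 3, 7, 10, 1, 11, 5, 10, 0, 11, 6, 2, 4, 10, 8, 3, 8, 5, 1, 2, 8, 4, 2, 8, 4, 9, 3, 5, 9, 3, 0, 4, 9]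
def rw1342 : List ℕ := [2, 1, 1, 1, 3, 1, 11, 7, 7, 1, 1, 1, 6, 9, 1, 8, 6, 10]
def rw1343 : List ℕ := [2, 5, 3, 9, 7, 10, 4, 4, 2, 11, 5, 3, 0, 6, 9]
def rw1344 : List ℕ := [2, 9, 5, 5, 8, 10, 5, 0, 5, 0, 4, 4, 11, 1, 9, 1, 8, 2]
def rw1345 : List ℕ := [2, 11, 9, 11, 3, 7, 8, 5, 0, 2, 8, 1, 6, 7, 7, 0, 9, 3, 1, 4, 9, 6, 2, 10, 8, 10, 3, 6, 0, 10, 6, 11, 1, 7]
def rw1346 : List ℕ := [2, 2, 0, 11, 7, 7, 1, 1, 1, 6, 9, 1, 8, 6, 10, 1, 3, 0]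
def rw1347 : List ℕ := [2, 9, 11, 0, 4, 1, 7, 9, 0, 5, 6, 8, 10, 9, 7, 4, 1, 8, 6, 0, 5, 1, 10, 8, 3, 8, 7, 10, 11, 11, 6, 9]
def rw1348 : List ℕ := [2, 5, 3, 9, 7, 10, 7, 7, 2, 7, 3, 7, 11, 5, 3, 0, 6, 9]
def rw1349 : List ℕ := [2, 1, 8, 8, 0, 7, 2, 7, 9, 6, 10, 1, 1, 4, 6, 0, 0, 11]
def rw1350 : List ℕ := [2, 8, 5, 9, 3, 5, 9, 3, 0, 4, 9, 2, 9, 11, 5, 3, 7, 10, 1, 11, 4, 10, 0, 11, 6, 2, 4, 10, 8, 3, 8, 5, 1, 2, 8, 4]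
def rw1351 : List ℕ := [2, 1, 5, 3, 11, 3, 3, 8, 7, 4, 8, 10, 0, 3, 9, 5, 8]
def rw1352 : List ℕ := [2, 8, 0, 7, 9, 5, 7, 1, 10, 2, 6, 2, 4, 3, 6, 11, 2, 9]
def rw1353 : List ℕ := [2, 4, 10, 8, 3, 8, 5, 1, 2, 8, 4, 2, 8, 3, 9, 3, 5, 9, 3, 0, 4, 9, 2, 9, 11, 5, 3, 7, 10, 1, 11, 2, 10, 0, 11, 6]
def rw1354 : List ℕ := [2, 9, 11, 0, 4, 1, 7, 9, 0, 5, 6, 8, 0, 9, 7, 4, 1, 8, 6, 0, 5, 1, 10, 8, 3, 8, 7, 10, 1, 11, 6, 9]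
def rw1355 : List ℕ := [2, 11, 9, 11, 5, 10, 8, 10, 3, 6, 0, 10, 7, 0, 9, 3, 1, 4, 9, 6, 2, 4, 3, 7, 8, 5, 0, 2, 8, 1, 6, 11, 1, 7]
def rw1356 : List ℕ := [2, 5, 1, 7, 11, 6, 1, 9, 4, 8, 0, 8, 1, 6, 5, 10, 6]
def rw1357 : List ℕ := [2, 5, 11, 9, 6, 6, 2, 1, 8, 7, 2, 7, 5, 6, 3, 6, 9, 0, 3, 7, 7, 8, 10, 4, 3, 0, 10, 1, 10, 4, 11, 0, 11, 1]
def rw1358 : List ℕ := [2, 5, 11, 9, 6, 6, 2, 1, 8, 7, 2, 7, 0, 6, 3, 6, 9, 0, 3, 7, 7, 8, 10, 4, 3, 0, 10, 1, 10, 1, 11, 0, 11, 1]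
def rw1359 : List ℕ := [2, 5, 6, 1, 9, 2, 4, 7, 11, 4, 3, 9, 4, 2, 5, 10, 5, 6]
def rw1360 : List ℕ := [2, 4, 3, 8, 7, 1, 2, 4, 10, 3, 1, 5, 3, 1, 4, 11, 6, 8]
def rw1361 : List ℕ := [2, 9, 11, 6, 10, 8, 3, 8, 7, 10, 9, 7, 4, 1, 8, 6, 0, 5, 1, 7, 0, 4, 1, 7, 9, 0, 5, 6, 8, 11, 6, 9]
def rw1362 : List ℕ := [2, 4, 10, 3, 5, 5, 11, 6, 8, 2, 4, 3, 8, 7, 1]
def rw1363 : List ℕ := [2, 5, 3, 9, 7, 10, 5, 0, 2, 4, 0, 2, 11, 5, 3, 0, 6, 9]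
def rw1364 : List ℕ := [2, 8, 1, 6, 5, 7, 0, 9, 3, 1, 4, 9, 6, 2, 10, 8, 10, 3, 6, 0, 10, 4, 11, 1, 7, 2, 11, 9, 11, 3, 7, 8, 5, 0]
def rw1365 : List ℕ := [2, 8, 0, 7, 9, 5, 7, 1, 10, 3, 3, 5, 5, 3, 11, 2, 9]
def rw1366 : List ℕ := [2, 8, 1, 11, 3, 3, 5, 7, 9, 10, 0, 3, 9, 3, 5, 0, 4]
def rw1367 : List ℕ := [2, 6, 11, 9, 1, 4, 4, 2, 7, 9, 2, 0, 10, 1, 7, 5, 7]
def rw1368 : List ℕ := [2, 1, 8, 10, 2, 0, 7, 0, 3, 5, 11, 9, 3, 0, 6, 1, 6, 9]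
def rw1369 : List ℕ := [2, 10, 8, 10, 3, 6, 0, 10, 2, 11, 1, 7, 2, 11, 9, 11, 3, 7, 8, 5, 0, 2, 8, 1, 6, 3, 7, 0, 9, 3, 1, 4, 9, 6]
def rw1370 : List ℕ := [2, 8, 1, 6, 9, 7, 0, 9, 3, 1, 4, 9, 6, 2, 10, 8, 10, 3, 6, 0, 10, 8, 11, 1, 7, 2, 11, 9, 11, 3, 7, 8, 5, 0]
def rw1371 : List ℕ := [2, 4, 1, 7, 11, 4, 4, 0, 7, 7, 2, 8, 5, 1, 10, 6, 2]
def rw1372 : List ℕ := [2, 7, 3, 8, 1, 1, 9, 2, 6, 5, 11, 2, 7, 2, 5, 5, 8, 10]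
def rw1373 : List ℕ := [2, 11, 9, 11, 2, 10, 8, 10, 3, 6, 0, 10, 7, 0, 9, 3, 1, 4, 9, 6, 2, 3, 3, 7, 8, 5, 0, 2, 8, 1, 6, 11, 1, 7]
def rw1374 : List ℕ := [2, 9, 11, 0, 4, 1, 7, 9, 0, 5, 6, 8, 4, 9, 7, 4, 1, 8, 6, 0, 5, 1, 10, 8, 3, 8, 7, 10, 5, 11, 6, 9]
def rw1375 : List ℕ := [2, 4, 3, 8, 7, 1, 2, 4, 10, 6, 2, 6, 3, 6, 6, 11, 6, 8]
def rw1376 : List ℕ := [2, 6, 0, 5, 11, 9, 7, 0, 9, 1, 3, 9, 0, 6, 8, 10, 6, 2]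
def rw1377 : List ℕ := [2, 2, 1, 3, 1, 3, 11, 7, 9, 0, 8, 7, 0, 0, 0, 6, 6, 10]
def rw1378 : List ℕ := [2, 4, 3, 8, 7, 1, 2, 4, 10, 2, 4, 4, 2, 2, 11, 6, 8]
def rw1379 : List ℕ := [2, 5, 3, 9, 7, 10, 2, 5, 5, 3, 4, 11, 5, 3, 0, 6, 9]
def rw1380 : List ℕ := [2, 7, 2, 8, 10, 2, 7, 3, 8, 1, 1, 9, 2, 6, 5, 11, 7, 2]
def rw1381 : List ℕ := [2, 0, 9, 2, 10, 9, 6, 5, 1, 5, 8, 11, 3, 8, 6, 0, 7, 0]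
def rw1382 : List ℕ := [2, 1, 3, 1, 3, 11, 7, 9, 0, 8, 7, 0, 0, 0, 6, 6, 10, 2]
def rw1383 : List ℕ := [2, 1, 9, 7, 1, 9, 7, 1, 9, 7, 10, 0, 3, 7, 3, 4, 3, 11]
def rw1384 : List ℕ := [2, 8, 1, 6, 11, 1, 7, 2, 11, 9, 11, 3, 10, 8, 10, 3, 6, 0, 10, 7, 0, 9, 3, 1, 4, 9, 6, 2, 2, 3, 7, 8, 5, 0]
def rw1385 : List ℕ := [2, 5, 5, 3, 4, 11, 5, 3, 0, 6, 9, 2, 5, 3, 9, 7, 10]
def rw1386 : List ℕ := [2, 7, 11, 0, 11, 1, 2, 5, 11, 10, 10, 4, 3, 0, 10, 1, 10, 6, 3, 6, 9, 0, 3, 7, 7, 8, 11, 9, 6, 6, 2, 1, 8, 7]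
def rw1387 : List ℕ := [2, 5, 10, 5, 6, 2, 5, 6, 1, 9, 2, 4, 7, 11, 4, 3, 9, 4]
def rw1388 : List ℕ := [2, 7, 9, 2, 0, 0, 6, 0, 9, 3, 10, 7, 4, 9, 2, 4, 7, 11]
def rw1389 : List ℕ := [2, 7, 9, 2, 0, 10, 1, 4, 6, 4, 2, 6, 11, 9, 1, 4, 4]
def rw1390 : List ℕ := [2, 9, 2, 8, 0, 7, 9, 5, 7, 1, 10, 3, 3, 5, 5, 3, 11]
def rw1391 : List ℕ := [2, 0, 0, 6, 0, 9, 3, 10, 7, 4, 9, 2, 4, 7, 11, 2, 7, 9]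
def rw1392 : List ℕ := [2, 0, 3, 11, 7, 9, 0, 8, 7, 0, 0, 0, 6, 6, 10, 2, 2, 0]
def rw1393 : List ℕ := [2, 2, 1, 2, 0, 2, 11, 7, 9, 0, 8, 7, 0, 0, 0, 6, 6, 10]
def rw1394 : List ℕ := [2, 9, 11, 0, 4, 1, 7, 9, 0, 5, 6, 8, 3, 9, 7, 4, 1, 8, 6, 0, 5, 1, 10, 8, 3, 8, 7, 10, 2, 11, 6, 9]
def rw1395 : List ℕ := [2, 10, 8, 10, 3, 6, 0, 10, 9, 11, 1, 7, 2, 11, 9, 11, 3, 7, 8, 5, 0, 2, 8, 1, 6, 8, 7, 0, 9, 3, 1, 4, 9, 6]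
def rw1396 : List ℕ := [2, 9, 11, 0, 4, 1, 7, 9, 0, 5, 6, 8, 7, 9, 7, 4, 1, 8, 6, 0, 5, 1, 10, 8, 3, 8, 7, 10, 6, 11, 6, 9]
def rw1397 : List ℕ := [2, 8, 4, 2, 8, 6, 9, 3, 5, 9, 3, 0, 4, 9, 2, 9, 11, 5, 3, 7, 10, 1, 11, 7, 10, 0, 11, 6, 2, 4, 10, 8, 3, 8, 5, 1]
def rw1398 : List ℕ := [2, 9, 5, 5, 8, 10, 1, 4, 1, 4, 4, 4, 11, 1, 9, 1, 8, 2]
def rw1399 : List ℕ := [2, 8, 1, 6, 11, 1, 7, 2, 11, 9, 11, 4, 10, 8, 10, 3, 6, 0, 10, 7, 0, 9, 3, 1, 4, 9, 6, 2, 5, 3, 7, 8, 5, 0]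
def rw1400 : List ℕ := [2, 9, 2, 8, 0, 7, 9, 5, 7, 1, 10, 5, 5, 3, 4, 4, 4, 11]
def rw1401 : List ℕ := [2, 0, 10, 1, 5, 6, 2, 5, 5, 11, 9, 1, 4, 4, 2, 7, 9]
def rw1402 : List ℕ := [2, 4, 10, 8, 3, 8, 5, 1, 2, 8, 4, 2, 8, 8, 9, 3, 5, 9, 3, 0, 4, 9, 2, 9, 11, 5, 3, 7, 10, 1, 11, 9, 10, 0, 11, 6]
def rw1403 : List ℕ := [2, 0, 7, 5, 8, 1, 1, 10, 5, 8, 7, 5, 6, 2, 11, 7, 8, 0]
def rw1404 : List ℕ := [2, 11, 9, 11, 8, 10, 8, 10, 3, 6, 0, 10, 7, 0, 9, 3, 1, 4, 9, 6, 2, 9, 3, 7, 8, 5, 0, 2, 8, 1, 6, 11, 1, 7]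
def rw1405 : List ℕ := [2, 4, 3, 8, 7, 1, 2, 4, 10, 3, 5, 5, 11, 6, 8]
def rw1406 : List ℕ := [2, 8, 1, 6, 11, 1, 7, 2, 11, 9, 11, 10, 10, 8, 10, 3, 6, 0, 10, 7, 0, 9, 3, 1, 4, 9, 6, 2, 11, 3, 7, 8, 5, 0]
def rw1407 : List ℕ := [2, 9, 11, 9, 10, 8, 3, 8, 7, 10, 9, 7, 4, 1, 8, 6, 0, 5, 1, 8, 0, 4, 1, 7, 9, 0, 5, 6, 8, 11, 6, 9]
def rw1408 : List ℕ := [2, 4, 3, 8, 7, 1, 2, 4, 10, 5, 2, 4, 4, 3, 11, 6, 8]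
def rw1409 : List ℕ := [2, 10, 8, 10, 3, 6, 0, 10, 10, 11, 1, 7, 2, 11, 9, 11, 3, 7, 8, 5, 0, 2, 8, 1, 6, 11, 7, 0, 9, 3, 1, 4, 9, 6]
def rw1410 : List ℕ := [2, 5, 8, 7, 10, 7, 0, 8, 1, 7, 0, 8, 2, 7, 8, 11, 5, 6]
def rw1411 : List ℕ := [2, 9, 2, 8, 0, 7, 9, 5, 7, 1, 10, 3, 5, 5, 3, 5, 5, 11]
def rw1412 : List ℕ := [2, 4, 10, 8, 3, 8, 5, 1, 2, 8, 4, 2, 8, 4, 9, 3, 5, 9, 3, 0, 4, 9, 2, 9, 11, 5, 3, 7, 10, 1, 11, 5, 10, 0, 11, 6]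
def rw1413 : List ℕ := [2, 9, 11, 5, 3, 7, 10, 1, 11, 7, 10, 0, 11, 6, 2, 4, 10, 8, 3, 8, 5, 1, 2, 8, 4, 2, 8, 6, 9, 3, 5, 9, 3, 0, 4, 9]
def rw1414 : List ℕ := [2, 5, 11, 9, 6, 6, 2, 1, 8, 7, 2, 7, 9, 6, 3, 6, 9, 0, 3, 7, 7, 8, 10, 4, 3, 0, 10, 1, 10, 8, 11, 0, 11, 1]
def rw1415 : List ℕ := [2, 9, 11, 1, 10, 8, 3, 8, 7, 10, 9, 7, 4, 1, 8, 6, 0, 5, 1, 0, 0, 4, 1, 7, 9, 0, 5, 6, 8, 11, 6, 9]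
def rw1416 : List ℕ := [2, 2, 9, 5, 5, 8, 10, 0, 5, 2, 1, 4, 0, 11, 1, 9, 1, 8]
def rw1417 : List ℕ := [2, 1, 8, 7, 2, 7, 10, 6, 3, 6, 9, 0, 3, 7, 7, 8, 10, 4, 3, 0, 10, 1, 10, 11, 11, 0, 11, 1, 2, 5, 11, 9, 6, 6]
def rw1418 : List ℕ := [2, 8, 0, 7, 9, 5, 7, 1, 10, 2, 2, 5, 5, 3, 5, 11, 2, 9]
def rw1419 : List ℕ := [2, 8, 4, 2, 8, 11, 9, 3, 5, 9, 3, 0, 4, 9, 2, 9, 11, 5, 3, 7, 10, 1, 11, 10, 10, 0, 11, 6, 2, 4, 10, 8, 3, 8, 5, 1]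
def rw1420 : List ℕ := [2, 8, 1, 6, 11, 1, 7, 2, 11, 9, 11, 8, 10, 8, 10, 3, 6, 0, 10, 7, 0, 9, 3, 1, 4, 9, 6, 2, 9, 3, 7, 8, 5, 0]
def rw1421 : List ℕ := [2, 4, 10, 3, 1, 5, 3, 1, 4, 11, 6, 8, 2, 4, 3, 8, 7, 1]
def rw1422 : List ℕ := [2, 7, 11, 0, 11, 1, 2, 5, 11, 3, 10, 4, 3, 0, 10, 1, 10, 6, 3, 6, 9, 0, 3, 7, 7, 8, 2, 9, 6, 6, 2, 1, 8, 7]
def rw1423 : List ℕ := [2, 11, 9, 11, 3, 7, 8, 5, 0, 2, 8, 1, 6, 5, 7, 0, 9, 3, 1, 4, 9, 6, 2, 10, 8, 10, 3, 6, 0, 10, 4, 11, 1, 7]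
def rw1424 : List ℕ := [2, 5, 11, 9, 6, 6, 2, 1, 8, 7, 2, 7, 1, 6, 3, 6, 9, 0, 3, 7, 7, 8, 10, 4, 3, 0, 10, 1, 10, 0, 11, 0, 11, 1]
def rw1425 : List ℕ := [2, 9, 11, 8, 10, 8, 3, 8, 7, 10, 9, 7, 4, 1, 8, 6, 0, 5, 1, 9, 0, 4, 1, 7, 9, 0, 5, 6, 8, 11, 6, 9]
def rw1426 : List ℕ := [2, 5, 11, 4, 10, 4, 3, 0, 10, 1, 10, 6, 3, 6, 9, 0, 3, 7, 7, 8, 5, 9, 6, 6, 2, 1, 8, 7, 2, 7, 11, 0, 11, 1]
def rw1427 : List ℕ := [2, 9, 11, 5, 3, 7, 10, 1, 11, 1, 10, 0, 11, 6, 2, 4, 10, 8, 3, 8, 5, 1, 2, 8, 4, 2, 8, 0, 9, 3, 5, 9, 3, 0, 4, 9]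
def rw1428 : List ℕ := [2, 5, 11, 9, 10, 4, 3, 0, 10, 1, 10, 6, 3, 6, 9, 0, 3, 7, 7, 8, 8, 9, 6, 6, 2, 1, 8, 7, 2, 7, 11, 0, 11, 1]
def rw1429 : List ℕ := [2, 4, 10, 6, 2, 6, 3, 6, 6, 11, 6, 8, 2, 4, 3, 8, 7, 1]
def rw1430 : List ℕ := [2, 4, 10, 8, 3, 8, 5, 1, 2, 8, 4, 2, 8, 6, 9, 3, 5, 9, 3, 0, 4, 9, 2, 9, 11, 5, 3, 7, 10, 1, 11, 7, 10, 0, 11, 6]
def rw1431 : List ℕ := [2, 1, 11, 6, 8, 0, 6, 8, 0, 6, 8, 0, 3, 10, 5, 7, 3, 7]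
def rw1432 : List ℕ := [2, 8, 0, 7, 9, 5, 7, 1, 10, 2, 4, 4, 2, 5, 5, 11, 2, 9]
def rw1433 : List ℕ := [2, 0, 10, 1, 5, 7, 5, 2, 6, 11, 9, 1, 4, 4, 2, 7, 9]
def rw1434 : List ℕ := [2, 5, 11, 2, 10, 4, 3, 0, 10, 1, 10, 6, 3, 6, 9, 0, 3, 7, 7, 8, 3, 9, 6, 6, 2, 1, 8, 7, 2, 7, 11, 0, 11, 1]
def rw1435 : List ℕ := [2, 11, 9, 11, 3, 7, 8, 5, 0, 2, 8, 1, 6, 0, 7, 0, 9, 3, 1, 4, 9, 6, 2, 10, 8, 10, 3, 6, 0, 10, 1, 11, 1, 7]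
def rw1436 : List ℕ := [2, 5, 11, 9, 6, 6, 2, 1, 8, 7, 2, 7, 3, 6, 3, 6, 9, 0, 3, 7, 7, 8, 10, 4, 3, 0, 10, 1, 10, 2, 11, 0, 11, 1]
def rw1437 : List ℕ := [2, 5, 11, 9, 6, 6, 2, 1, 8, 7, 2, 7, 11, 6, 3, 6, 9, 0, 3, 7, 7, 8, 10, 4, 3, 0, 10, 1, 10, 10, 11, 0, 11, 1]
def rw1438 : List ℕ := [2, 4, 10, 8, 3, 8, 5, 1, 2, 8, 4, 2, 8, 5, 9, 3, 5, 9, 3, 0, 4, 9, 2, 9, 11, 5, 3, 7, 10, 1, 11, 4, 10, 0, 11, 6]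
def rw1439 : List ℕ := [2, 8, 0, 7, 9, 5, 7, 1, 10, 5, 5, 3, 4, 4, 4, 11, 2, 9]
def rw1440 : List ℕ := [2, 9, 11, 5, 10, 8, 3, 8, 7, 10, 9, 7, 4, 1, 8, 6, 0, 5, 1, 4, 0, 4, 1, 7, 9, 0, 5, 6, 8, 11, 6, 9]
def rw1441 : List ℕ := [2, 0, 2, 0, 3, 11, 7, 9, 0, 8, 7, 0, 0, 0, 6, 6, 10, 2]
def rw1442 : List ℕ := [2, 0, 2, 0, 3, 3, 11, 7, 7, 1, 1, 1, 6, 9, 1, 8, 6, 10]
def rw1443 : List ℕ := [2, 7, 11, 0, 11, 1, 2, 5, 11, 1, 10, 4, 3, 0, 10, 1, 10, 6, 3, 6, 9, 0, 3, 7, 7, 8, 0, 9, 6, 6, 2, 1, 8, 7]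
def rw1444 : List ℕ := [2, 4, 3, 8, 7, 1, 2, 4, 10, 1, 5, 0, 4, 0, 5, 11, 6, 8]
def rw1445 : List ℕ := [2, 1, 8, 7, 2, 7, 9, 6, 3, 6, 9, 0, 3, 7, 7, 8, 10, 4, 3, 0, 10, 1, 10, 8, 11, 0, 11, 1, 2, 5, 11, 9, 6, 6]
def rw1446 : List ℕ := [2, 1, 1, 3, 1, 3, 11, 7, 7, 1, 1, 1, 6, 9, 1, 8, 6, 10]
def rw1447 : List ℕ := [2, 11, 9, 11, 10, 10, 8, 10, 3, 6, 0, 10, 7, 0, 9, 3, 1, 4, 9, 6, 2, 11, 3, 7, 8, 5, 0, 2, 8, 1, 6, 11, 1, 7]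
def rw1448 : List ℕ := [2, 10, 8, 10, 3, 6, 0, 10, 11, 11, 1, 7, 2, 11, 9, 11, 3, 7, 8, 5, 0, 2, 8, 1, 6, 10, 7, 0, 9, 3, 1, 4, 9, 6]
def rw1449 : List ℕ := [2, 0, 7, 5, 8, 1, 1, 10, 5, 8, 4, 7, 5, 2, 11, 7, 8, 0]
def rw1450 : List ℕ := [2, 2, 9, 5, 5, 8, 10, 5, 0, 5, 0, 4, 4, 11, 1, 9, 1, 8]
def rw1451 : List ℕ := [2, 1, 8, 7, 2, 7, 11, 6, 3, 6, 9, 0, 3, 7, 7, 8, 10, 4, 3, 0, 10, 1, 10, 10, 11, 0, 11, 1, 2, 5, 11, 9, 6, 6]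
def rw1452 : List ℕ := [2, 8, 4, 2, 8, 10, 9, 3, 5, 9, 3, 0, 4, 9, 2, 9, 11, 5, 3, 7, 10, 1, 11, 11, 10, 0, 11, 6, 2, 4, 10, 8, 3, 8, 5, 1]
def rw1453 : List ℕ := [2, 8, 1, 6, 11, 1, 7, 2, 11, 9, 11, 2, 10, 8, 10, 3, 6, 0, 10, 7, 0, 9, 3, 1, 4, 9, 6, 2, 3, 3, 7, 8, 5, 0]
def rw1454 : List ℕ := [2, 1, 8, 7, 2, 7, 11, 0, 11, 1, 2, 5, 11, 6, 10, 4, 3, 0, 10, 1, 10, 6, 3, 6, 9, 0, 3, 7, 7, 8, 7, 9, 6, 6]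
def rw1455 : List ℕ := [2, 9, 11, 0, 4, 1, 7, 9, 0, 5, 6, 8, 9, 9, 7, 4, 1, 8, 6, 0, 5, 1, 10, 8, 3, 8, 7, 10, 8, 11, 6, 9]
def rw1456 : List ℕ := [2, 8, 1, 6, 11, 1, 7, 2, 11, 9, 11, 7, 10, 8, 10, 3, 6, 0, 10, 7, 0, 9, 3, 1, 4, 9, 6, 2, 6, 3, 7, 8, 5, 0]
def rw1457 : List ℕ := [2, 5, 11, 5, 10, 4, 3, 0, 10, 1, 10, 6, 3, 6, 9, 0, 3, 7, 7, 8, 4, 9, 6, 6, 2, 1, 8, 7, 2, 7, 11, 0, 11, 1]
def rw1458 : List ℕ := [2, 2, 11, 7, 7, 1, 1, 1, 6, 9, 1, 8, 6, 10, 1, 2, 2]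
def rw1459 : List ℕ := [2, 5, 3, 9, 7, 10, 4, 1, 5, 1, 4, 0, 11, 5, 3, 0, 6, 9]
def rw1460 : List ℕ := [2, 8, 1, 6, 11, 1, 7, 2, 11, 9, 11, 6, 10, 8, 10, 3, 6, 0, 10, 7, 0, 9, 3, 1, 4, 9, 6, 2, 7, 3, 7, 8, 5, 0]
def rw1461 : List ℕ := [2, 1, 2, 0, 2, 11, 7, 9, 0, 8, 7, 0, 0, 0, 6, 6, 10, 2]
def rw1462 : List ℕ := [2, 1, 3, 1, 3, 3, 11, 7, 7, 1, 1, 1, 6, 9, 1, 8, 6, 10]
def rw1463 : List ℕ := [2, 8, 0, 9, 3, 5, 9, 3, 0, 4, 9, 2, 9, 11, 5, 3, 7, 10, 1, 11, 1, 10, 0, 11, 6, 2, 4, 10, 8, 3, 8, 5, 1, 2, 8, 4]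
def rw1464 : List ℕ := [2, 5, 11, 3, 10, 4, 3, 0, 10, 1, 10, 6, 3, 6, 9, 0, 3, 7, 7, 8, 2, 9, 6, 6, 2, 1, 8, 7, 2, 7, 11, 0, 11, 1]
def rw1465 : List ℕ := [2, 8, 10, 9, 3, 5, 9, 3, 0, 4, 9, 2, 9, 11, 5, 3, 7, 10, 1, 11, 11, 10, 0, 11, 6, 2, 4, 10, 8, 3, 8, 5, 1, 2, 8, 4]
def rw1466 : List ℕ := [2, 5, 11, 9, 6, 6, 2, 1, 8, 7, 2, 7, 7, 6, 3, 6, 9, 0, 3, 7, 7, 8, 10, 4, 3, 0, 10, 1, 10, 6, 11, 0, 11, 1]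
def rw1467 : List ℕ := [2, 8, 0, 7, 9, 5, 7, 1, 10, 7, 5, 5, 7, 2, 11, 2, 9]
def rw1468 : List ℕ := [2, 4, 10, 8, 3, 8, 5, 1, 2, 8, 4, 2, 8, 10, 9, 3, 5, 9, 3, 0, 4, 9, 2, 9, 11, 5, 3, 7, 10, 1, 11, 11, 10, 0, 11, 6]
def rw1469 : List ℕ := [2, 1, 8, 7, 2, 7, 11, 0, 11, 1, 2, 5, 11, 11, 10, 4, 3, 0, 10, 1, 10, 6, 3, 6, 9, 0, 3, 7, 7, 8, 10, 9, 6, 6]
def rw1470 : List ℕ := [2, 5, 11, 6, 10, 4, 3, 0, 10, 1, 10, 6, 3, 6, 9, 0, 3, 7, 7, 8, 7, 9, 6, 6, 2, 1, 8, 7, 2, 7, 11, 0, 11, 1]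
def rw1471 : List ℕ := [2, 4, 3, 8, 7, 1, 2, 4, 10, 3, 6, 4, 4, 6, 11, 6, 8]
def rw1472 : List ℕ := [2, 5, 11, 9, 6, 6, 2, 1, 8, 7, 2, 7, 2, 6, 3, 6, 9, 0, 3, 7, 7, 8, 10, 4, 3, 0, 10, 1, 10, 3, 11, 0, 11, 1]
def rw1473 : List ℕ := [2, 4, 10, 3, 6, 4, 4, 6, 11, 6, 8, 2, 4, 3, 8, 7, 1]
def rw1474 : List ℕ := [2, 9, 11, 0, 4, 1, 7, 9, 0, 5, 6, 8, 6, 9, 7, 4, 1, 8, 6, 0, 5, 1, 10, 8, 3, 8, 7, 10, 7, 11, 6, 9]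
def rw1475 : List ℕ := [2, 7, 11, 0, 11, 1, 2, 5, 11, 0, 10, 4, 3, 0, 10, 1, 10, 6, 3, 6, 9, 0, 3, 7, 7, 8, 1, 9, 6, 6, 2, 1, 8, 7]
def rw1476 : List ℕ := [2, 1, 8, 7, 2, 7, 11, 0, 11, 1, 2, 5, 11, 4, 10, 4, 3, 0, 10, 1, 10, 6, 3, 6, 9, 0, 3, 7, 7, 8, 5, 9, 6, 6]
def rw1477 : List ℕ := [2, 8, 1, 6, 2, 7, 0, 9, 3, 1, 4, 9, 6, 2, 10, 8, 10, 3, 6, 0, 10, 3, 11, 1, 7, 2, 11, 9, 11, 3, 7, 8, 5, 0]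
def rw1478 : List ℕ := [2, 11, 9, 11, 3, 7, 8, 5, 0, 2, 8, 1, 6, 2, 7, 0, 9, 3, 1, 4, 9, 6, 2, 10, 8, 10, 3, 6, 0, 10, 3, 11, 1, 7]
def rw1479 : List ℕ := [2, 8, 1, 6, 11, 7, 0, 9, 3, 1, 4, 9, 6, 2, 10, 8, 10, 3, 6, 0, 10, 10, 11, 1, 7, 2, 11, 9, 11, 3, 7, 8, 5, 0]
def rw1480 : List ℕ := [2, 11, 9, 11, 3, 7, 8, 5, 0, 2, 8, 1, 6, 1, 7, 0, 9, 3, 1, 4, 9, 6, 2, 10, 8, 10, 3, 6, 0, 10, 0, 11, 1, 7]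
def rw1481 : List ℕ := [2, 5, 11, 11, 10, 4, 3, 0, 10, 1, 10, 6, 3, 6, 9, 0, 3, 7, 7, 8, 10, 9, 6, 6, 2, 1, 8, 7, 2, 7, 11, 0, 11, 1]
def rw1482 : List ℕ := [2, 8, 0, 7, 9, 5, 7, 1, 10, 2, 5, 5, 3, 4, 11, 2, 9]
def rw1483 : List ℕ := [2, 9, 11, 10, 10, 8, 3, 8, 7, 10, 9, 7, 4, 1, 8, 6, 0, 5, 1, 11, 0, 4, 1, 7, 9, 0, 5, 6, 8, 11, 6, 9]
def rw1484 : List ℕ := [2, 1, 8, 7, 2, 7, 4, 6, 3, 6, 9, 0, 3, 7, 7, 8, 10, 4, 3, 0, 10, 1, 10, 5, 11, 0, 11, 1, 2, 5, 11, 9, 6, 6]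
def rw1485 : List ℕ := [2, 9, 11, 5, 3, 7, 10, 1, 11, 3, 10, 0, 11, 6, 2, 4, 10, 8, 3, 8, 5, 1, 2, 8, 4, 2, 8, 2, 9, 3, 5, 9, 3, 0, 4, 9]
def rw1486 : List ℕ := [2, 4, 3, 8, 7, 1, 2, 4, 10, 7, 4, 2, 5, 6, 6, 11, 6, 8]
def rw1487 : List ℕ := [2, 9, 11, 5, 3, 7, 10, 1, 11, 10, 10, 0, 11, 6, 2, 4, 10, 8, 3, 8, 5, 1, 2, 8, 4, 2, 8, 11, 9, 3, 5, 9, 3, 0, 4, 9]
def rw1488 : List ℕ := [2, 8, 1, 6, 11, 1, 7, 2, 11, 9, 11, 1, 10, 8, 10, 3, 6, 0, 10, 7, 0, 9, 3, 1, 4, 9, 6, 2, 0, 3, 7, 8, 5, 0]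
def rw1489 : List ℕ := [2, 5, 11, 9, 6, 6, 2, 1, 8, 7, 2, 7, 8, 6, 3, 6, 9, 0, 3, 7, 7, 8, 10, 4, 3, 0, 10, 1, 10, 9, 11, 0, 11, 1]
def rw1490 : List ℕ := [2, 7, 3, 8, 1, 1, 9, 2, 6, 5, 11, 7, 2, 2, 7, 2, 8, 10]
def rw1491 : List ℕ := [2, 11, 9, 11, 3, 7, 8, 5, 0, 2, 8, 1, 6, 4, 7, 0, 9, 3, 1, 4, 9, 6, 2, 10, 8, 10, 3, 6, 0, 10, 5, 11, 1, 7]
def rw1492 : List ℕ := [2, 11, 9, 11, 3, 7, 8, 5, 0, 2, 8, 1, 6, 10, 7, 0, 9, 3, 1, 4, 9, 6, 2, 10, 8, 10, 3, 6, 0, 10, 11, 11, 1, 7]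
def rw1493 : List ℕ := [2, 9, 11, 0, 4, 1, 7, 9, 0, 5, 6, 8, 5, 9, 7, 4, 1, 8, 6, 0, 5, 1, 10, 8, 3, 8, 7, 10, 4, 11, 6, 9]
def rw1494 : List ℕ := [2, 5, 3, 9, 7, 10, 7, 5, 5, 7, 2, 11, 5, 3, 0, 6, 9]
def rw1495 : List ℕ := [2, 9, 1, 5, 9, 9, 0, 11, 11, 11, 6, 6, 0, 11, 10, 10, 1, 7, 7, 10, 10, 10, 1, 8, 8, 4, 0, 8, 3, 9, 5, 6, 11, 7, 4, 8]
def rw1496 : List ℕ := [2, 1, 8, 7, 2, 7, 11, 0, 11, 1, 2, 5, 11, 8, 10, 4, 3, 0, 10, 1, 10, 6, 3, 6, 9, 0, 3, 7, 7, 8, 9, 9, 6, 6]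
def rw1497 : List ℕ := [2, 4, 3, 8, 7, 1, 2, 4, 10, 4, 1, 7, 4, 1, 7, 11, 6, 8]
def rw1498 : List ℕ := [2, 8, 4, 2, 8, 8, 9, 3, 5, 9, 3, 0, 4, 9, 2, 9, 11, 5, 3, 7, 10, 1, 11, 9, 10, 0, 11, 6, 2, 4, 10, 8, 3, 8, 5, 1]
def rw1499 : List ℕ := [2, 4, 10, 8, 3, 8, 5, 1, 2, 8, 4, 2, 8, 7, 9, 3, 5, 9, 3, 0, 4, 9, 2, 9, 11, 5, 3, 7, 10, 1, 11, 6, 10, 0, 11, 6]
def rw1500 : List ℕ := [2, 4, 10, 3, 4, 4, 4, 4, 4, 11, 6, 8, 2, 4, 3, 8, 7, 1]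
def rw1501 : List ℕ := [2, 9, 11, 4, 10, 8, 3, 8, 7, 10, 9, 7, 4, 1, 8, 6, 0, 5, 1, 5, 0, 4, 1, 7, 9, 0, 5, 6, 8, 11, 6, 9]
def rw1502 : List ℕ := [2, 8, 1, 6, 0, 7, 0, 9, 3, 1, 4, 9, 6, 2, 10, 8, 10, 3, 6, 0, 10, 1, 11, 1, 7, 2, 11, 9, 11, 3, 7, 8, 5, 0]
def rw1503 : List ℕ := [2, 8, 1, 6, 11, 1, 7, 2, 11, 9, 11, 9, 10, 8, 10, 3, 6, 0, 10, 7, 0, 9, 3, 1, 4, 9, 6, 2, 8, 3, 7, 8, 5, 0]
def rw1504 : List ℕ := [2, 8, 1, 6, 8, 7, 0, 9, 3, 1, 4, 9, 6, 2, 10, 8, 10, 3, 6, 0, 10, 9, 11, 1, 7, 2, 11, 9, 11, 3, 7, 8, 5, 0]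
def rw1505 : List ℕ := [2, 1, 8, 7, 2, 7, 2, 6, 3, 6, 9, 0, 3, 7, 7, 8, 10, 4, 3, 0, 10, 1, 10, 3, 11, 0, 11, 1, 2, 5, 11, 9, 6, 6]
def rw1506 : List ℕ := [2, 7, 11, 0, 11, 1, 2, 5, 11, 4, 10, 4, 3, 0, 10, 1, 10, 6, 3, 6, 9, 0, 3, 7, 7, 8, 5, 9, 6, 6, 2, 1, 8, 7]
def rw1507 : List ℕ := [2, 9, 1, 5, 9, 9, 0, 11, 11, 11, 6, 6, 0, 11, 11, 10, 1, 7, 7, 10, 10, 10, 1, 8, 8, 4, 0, 8, 3, 9, 5, 6, 10, 7, 4, 8]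
def rw1508 : List ℕ := [2, 10, 3, 7, 8, 5, 0, 2, 8, 1, 6, 11, 1, 7, 2, 11, 9, 11, 11, 10, 8, 10, 3, 6, 0, 10, 7, 0, 9, 3, 1, 4, 9, 6]
def rw1509 : List ℕ := [2, 5, 11, 8, 10, 4, 3, 0, 10, 1, 10, 6, 3, 6, 9, 0, 3, 7, 7, 8, 9, 9, 6, 6, 2, 1, 8, 7, 2, 7, 11, 0, 11, 1]
def rw1510 : List ℕ := [2, 9, 11, 5, 3, 7, 10, 1, 11, 2, 10, 0, 11, 6, 2, 4, 10, 8, 3, 8, 5, 1, 2, 8, 4, 2, 8, 3, 9, 3, 5, 9, 3, 0, 4, 9]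
def rw1511 : List ℕ := [2, 9, 11, 5, 3, 7, 10, 1, 11, 4, 10, 0, 11, 6, 2, 4, 10, 8, 3, 8, 5, 1, 2, 8, 4, 2, 8, 5, 9, 3, 5, 9, 3, 0, 4, 9]
def rw1512 : List ℕ := [2, 9, 1, 5, 9, 9, 0, 11, 11, 11, 6, 6, 0, 11, 4, 10, 1, 7, 7, 10, 10, 10, 1, 8, 8, 4, 0, 8, 3, 9, 5, 6, 5, 7, 4, 8]
def rw1513 : List ℕ := [2, 4, 10, 1, 5, 0, 4, 0, 5, 11, 6, 8, 2, 4, 3, 8, 7, 1]
def rw1514 : List ℕ := [2, 4, 3, 8, 7, 1, 2, 4, 10, 0, 3, 4, 1, 1, 5, 11, 6, 8]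
def rw1515 : List ℕ := [2, 1, 8, 7, 2, 7, 11, 0, 11, 1, 2, 5, 11, 5, 10, 4, 3, 0, 10, 1, 10, 6, 3, 6, 9, 0, 3, 7, 7, 8, 4, 9, 6, 6]
def rw1516 : List ℕ := [2, 8, 1, 6, 11, 1, 7, 2, 11, 9, 11, 11, 10, 8, 10, 3, 6, 0, 10, 7, 0, 9, 3, 1, 4, 9, 6, 2, 10, 3, 7, 8, 5, 0]
def rw1517 : List ℕ := [2, 7, 9, 2, 0, 10, 1, 5, 7, 5, 2, 6, 11, 9, 1, 4, 4]
def rw1518 : List ℕ := [2, 9, 3, 7, 8, 5, 0, 2, 8, 1, 6, 11, 1, 7, 2, 11, 9, 11, 8, 10, 8, 10, 3, 6, 0, 10, 7, 0, 9, 3, 1, 4, 9, 6]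
def rw1519 : List ℕ := [2, 5, 3, 9, 7, 10, 7, 7, 4, 3, 5, 6, 11, 5, 3, 0, 6, 9]
def rw1520 : List ℕ := [2, 7, 11, 0, 11, 1, 2, 5, 11, 11, 10, 4, 3, 0, 10, 1, 10, 6, 3, 6, 9, 0, 3, 7, 7, 8, 10, 9, 6, 6, 2, 1, 8, 7]
def rw1521 : List ℕ := [2, 8, 9, 9, 3, 5, 9, 3, 0, 4, 9, 2, 9, 11, 5, 3, 7, 10, 1, 11, 8, 10, 0, 11, 6, 2, 4, 10, 8, 3, 8, 5, 1, 2, 8, 4]
def rw1522 : List ℕ := [2, 8, 3, 7, 8, 5, 0, 2, 8, 1, 6, 11, 1, 7, 2, 11, 9, 11, 9, 10, 8, 10, 3, 6, 0, 10, 7, 0, 9, 3, 1, 4, 9, 6]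
def rw1523 : List ℕ := [2, 7, 9, 6, 3, 6, 9, 0, 3, 7, 7, 8, 10, 4, 3, 0, 10, 1, 10, 8, 11, 0, 11, 1, 2, 5, 11, 9, 6, 6, 2, 1, 8, 7]
def rw1524 : List ℕ := [2, 9, 1, 5, 9, 9, 0, 11, 11, 11, 6, 6, 0, 11, 6, 10, 1, 7, 7, 10, 10, 10, 1, 8, 8, 4, 0, 8, 3, 9, 5, 6, 7, 7, 4, 8]
def rw1525 : List ℕ := [2, 9, 2, 8, 0, 7, 9, 5, 7, 1, 10, 3, 4, 4, 2, 4, 4, 11]
def rw1526 : List ℕ := [2, 8, 4, 2, 8, 0, 9, 3, 5, 9, 3, 0, 4, 9, 2, 9, 11, 5, 3, 7, 10, 1, 11, 1, 10, 0, 11, 6, 2, 4, 10, 8, 3, 8, 5, 1]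
def rw1527 : List ℕ := [2, 1, 8, 7, 2, 7, 11, 0, 11, 1, 2, 5, 11, 10, 10, 4, 3, 0, 10, 1, 10, 6, 3, 6, 9, 0, 3, 7, 7, 8, 11, 9, 6, 6]
def rw1528 : List ℕ := [2, 9, 11, 5, 3, 7, 10, 1, 11, 0, 10, 0, 11, 6, 2, 4, 10, 8, 3, 8, 5, 1, 2, 8, 4, 2, 8, 1, 9, 3, 5, 9, 3, 0, 4, 9]
def rw1529 : List ℕ := [2, 8, 4, 2, 8, 2, 9, 3, 5, 9, 3, 0, 4, 9, 2, 9, 11, 5, 3, 7, 10, 1, 11, 3, 10, 0, 11, 6, 2, 4, 10, 8, 3, 8, 5, 1]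
def rw1530 : List ℕ := [2, 9, 1, 5, 9, 9, 0, 11, 11, 11, 6, 6, 0, 11, 0, 10, 1, 7, 7, 10, 10, 10, 1, 8, 8, 4, 0, 8, 3, 9, 5, 6, 1, 7, 4, 8]
def rw1531 : List ℕ := [2, 9, 11, 5, 3, 7, 10, 1, 11, 11, 10, 0, 11, 6, 2, 4, 10, 8, 3, 8, 5, 1, 2, 8, 4, 2, 8, 10, 9, 3, 5, 9, 3, 0, 4, 9]
def rw1532 : List ℕ := [2, 2, 9, 5, 5, 8, 10, 1, 4, 1, 4, 4, 4, 11, 1, 9, 1, 8]
def rw1533 : List ℕ := [2, 9, 1, 5, 9, 9, 0, 11, 11, 11, 6, 6, 0, 11, 7, 10, 1, 7, 7, 10, 10, 10, 1, 8, 8, 4, 0, 8, 3, 9, 5, 6, 6, 7, 4, 8]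
def rw1534 : List ℕ := [2, 9, 1, 5, 9, 9, 0, 11, 11, 11, 6, 6, 0, 11, 1, 10, 1, 7, 7, 10, 10, 10, 1, 8, 8, 4, 0, 8, 3, 9, 5, 6, 0, 7, 4, 8]
def rw1535 : List ℕ := [2, 8, 7, 9, 3, 5, 9, 3, 0, 4, 9, 2, 9, 11, 5, 3, 7, 10, 1, 11, 6, 10, 0, 11, 6, 2, 4, 10, 8, 3, 8, 5, 1, 2, 8, 4]
def rw1536 : List ℕ := [2, 6, 3, 7, 8, 5, 0, 2, 8, 1, 6, 11, 1, 7, 2, 11, 9, 11, 7, 10, 8, 10, 3, 6, 0, 10, 7, 0, 9, 3, 1, 4, 9, 6]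
def rw1537 : List ℕ := [3, 3, 11, 7, 7, 1, 1, 1, 6, 9, 1, 8, 6, 10, 1, 3]
def rw1538 : List ℕ := [3, 5, 0, 11, 9, 4, 4, 8, 3, 3, 9, 0, 8, 0, 10, 1, 5]
def rw1539 : List ℕ := [3, 1, 3, 0, 2, 0]
def rw1540 : List ℕ := [3, 3, 3, 3, 3, 3, 3]
def rw1541 : List ℕ := [3, 0, 2, 0, 3, 1]
def rw1542 : List ℕ := [3, 8, 5, 6, 11, 2, 8, 1, 7, 1, 1, 3, 8, 6, 3, 10, 6, 5]
def rw1543 : List ℕ := [3, 1, 2, 0, 2, 1]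
def rw1544 : List ℕ := [3, 0, 0, 11, 7, 7, 1, 1, 1, 6, 9, 1, 8, 6, 10, 0, 3, 0]
def rw1545 : List ℕ := [3, 3, 4, 2, 2, 2, 2, 4, 3]
def rw1546 : List ℕ := [3, 4, 3, 11, 2, 1, 9, 7, 1, 9, 7, 1, 9, 7, 10, 0, 3, 7]
def rw1547 : List ℕ := [3, 4, 4, 4, 3, 4, 4, 4]
def rw1548 : List ℕ := [3, 4, 2, 2, 4, 3, 3, 5, 3]
def rw1549 : List ℕ := [3, 3, 3, 3, 3, 3, 3]
def rw1550 : List ℕ := [3, 4, 3, 4, 3, 4]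
def rw1551 : List ℕ := [3, 6, 5, 6, 4, 2, 6, 5, 5, 6]
def rw1552 : List ℕ := [3, 1, 4, 4, 4, 1, 5]
def rw1553 : List ℕ := [3, 5, 7, 4, 7, 2, 7, 4, 4, 7]
def rw1554 : List ℕ := [3, 5, 3, 3, 4, 2, 2, 4, 3]
def rw1555 : List ℕ := [3, 3, 4, 2, 2, 4, 3, 3, 5]
def rw1556 : List ℕ := [3, 5, 6, 6, 2, 6, 3, 4]
def rw1557 : List ℕ := [3, 7, 7, 7, 3, 7, 7, 7]
def rw1558 : List ℕ := [3, 4, 1, 1, 4, 2, 0]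
def rw1559 : List ℕ := [3, 7, 7, 4, 2, 5, 2, 7]
def rw1560 : List ℕ := [3, 5, 2, 2, 4, 2, 2, 5, 3]
def rw1561 : List ℕ := [3, 6, 5, 3, 6, 2, 7, 5]
def rw1562 : List ℕ := [3, 0, 4, 4, 0, 3, 4, 0]
def rw1563 : List ℕ := [3, 5, 1, 7, 3, 5, 1, 7]
def rw1564 : List ℕ := [3, 4, 2, 2, 2, 2, 4, 3, 3]
def rw1565 : List ℕ := [3, 5, 2, 2, 2, 5, 3, 3, 3]
def rw1566 : List ℕ := [3, 7, 2, 4, 7, 2, 4, 6]
def rw1567 : List ℕ := [3, 3, 3, 3, 3, 3, 3]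
def rw1568 : List ℕ := [3, 4, 7, 11, 2, 7, 7, 4, 0, 8, 6, 0, 3, 7, 10, 4, 9, 6]
def rw1569 : List ℕ := [3, 3, 0, 0, 3, 1, 2, 1, 1, 2, 2, 0, 0]
def rw1570 : List ℕ := [3, 6, 2, 7, 5, 3, 6, 5]
def rw1571 : List ℕ := [3, 5, 1, 5, 1, 4, 0]
def rw1572 : List ℕ := [3, 6, 6, 11, 6, 8, 2, 4, 3, 8, 7, 1, 2, 4, 10, 6, 2, 6]
def rw1573 : List ℕ := [3, 3, 5, 2, 2, 4, 2, 2, 5]
def rw1574 : List ℕ := [3, 1, 3, 1, 3, 1]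
def rw1575 : List ℕ := [3, 3, 5, 2, 2, 2, 5, 3, 3]
def rw1576 : List ℕ := [3, 3, 3, 5, 2, 2, 2, 5, 3]
def rw1577 : List ℕ := [3, 7, 7, 7, 3, 7, 7, 7]
def rw1578 : List ℕ := [3, 5, 8, 11, 9, 5, 1, 8, 4, 0, 5, 2, 9, 7, 10, 9, 0, 0]
def rw1579 : List ℕ := [3, 6, 9, 4, 3, 5, 3, 8, 4, 3]
def rw1580 : List ℕ := [3, 4, 3, 4, 3, 4]
def rw1581 : List ℕ := [3, 5, 0, 0, 5, 2, 1]
def rw1582 : List ℕ := [3, 4, 3, 4, 3, 4]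
def rw1583 : List ℕ := [3, 1, 3, 1, 3, 1]
def rw1584 : List ℕ := [3, 4, 3, 5, 6, 6, 2, 6]
def rw1585 : List ℕ := [3, 3, 6, 9, 4, 3, 5, 3, 8, 4]
def rw1586 : List ℕ := [3, 5, 3, 8, 4, 3, 3, 6, 9, 4]
def rw1587 : List ℕ := [3, 3, 0, 0, 3, 0, 2, 1, 1, 2, 2, 1, 1]
def rw1588 : List ℕ := [3, 1, 3, 3, 1, 3]
def rw1589 : List ℕ := [3, 4, 0, 3, 0, 4, 4, 0]
def rw1590 : List ℕ := [3, 4, 4, 4, 3, 4, 4, 4]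
def rw1591 : List ℕ := [3, 3, 1, 3, 3, 1]
def rw1592 : List ℕ := [3, 1, 3, 3, 1, 3]
def rw1593 : List ℕ := [3, 3, 5, 3, 3, 4, 2, 2, 4]
def rw1594 : List ℕ := [3, 1, 3, 0, 0, 2, 0, 3]
def rw1595 : List ℕ := [3, 0, 0, 3, 1, 2, 1, 1, 2, 2, 0, 0, 3]
def rw1596 : List ℕ := [3, 8, 4, 3, 3, 6, 9, 4, 3, 5]
def rw1597 : List ℕ := [3, 3, 3, 3, 5, 2, 2, 2, 5]
def rw1598 : List ℕ := [3, 7, 7, 5, 2, 5, 5, 7]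
def rw1599 : List ℕ := [3, 4, 6, 6, 2, 6, 4, 4]
def rw1600 : List ℕ := [3, 1, 11, 11, 0, 2, 9, 10, 8]
def rw1601 : List ℕ := [3, 1, 10, 10, 0, 2, 9, 11, 8]
def rw1602 : List ℕ := [3, 0, 0, 3, 0, 2, 1, 1, 2, 2, 1, 1, 3]
def rw1603 : List ℕ := [3, 0, 0, 2, 0, 3, 3, 1]
def rw1604 : List ℕ := [3, 0, 9, 9, 9, 0, 3, 1, 5, 9, 0]
def rw1605 : List ℕ := [3, 0, 2, 1, 1, 2, 2, 1, 1, 3, 3, 0, 0]
def rw1606 : List ℕ := [3, 5, 1, 7, 3, 5, 1, 7]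
def rw1607 : List ℕ := [3, 3, 1, 3, 0, 0, 2, 0]
def rw1608 : List ℕ := [3, 3, 1, 3, 3, 1]
def rw1609 : List ℕ := [3, 3, 3, 4, 2, 2, 2, 2, 4]
def rw1610 : List ℕ := [3, 3, 3, 3, 3, 3, 3]
def rw1611 : List ℕ := [3, 3, 3, 3, 3, 3, 3]
def rw1612 : List ℕ := [3, 6, 0, 10, 8, 11, 1, 7, 2, 11, 9, 11, 3, 7, 8, 5, 0, 2, 8, 1, 6, 9, 7, 0, 9, 3, 1, 4, 9, 6, 2, 10, 8, 10]
def rw1613 : List ℕ := [3, 5, 1, 4, 2, 8, 2, 1, 11, 8, 6, 4, 2, 2, 10, 0, 9]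
def rw1614 : List ℕ := [3, 11, 6, 8, 2, 4, 3, 8, 7, 1, 2, 4, 10, 5, 2, 4, 4]
def rw1615 : List ℕ := [3, 7, 10, 1, 11, 9, 10, 0, 11, 6, 2, 4, 10, 8, 3, 8, 5, 1, 2, 8, 4, 2, 8, 8, 9, 3, 5, 9, 3, 0, 4, 9, 2, 9, 11, 5]
def rw1616 : List ℕ := [3, 9, 2, 6, 5, 11, 2, 7, 9, 1, 1, 3, 6, 0, 9, 3, 10, 3]
def rw1617 : List ℕ := [3, 3, 9, 2, 6, 5, 11, 2, 7, 9, 1, 1, 3, 6, 0, 9, 3, 10]
def rw1618 : List ℕ := [3, 1, 9, 6, 10, 3, 7, 4, 6, 9, 4, 11, 0, 0, 9, 4, 6, 1]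
def rw1619 : List ℕ := [3, 3, 11, 0, 6, 4, 8, 6, 1, 9, 3, 8, 3, 10, 4, 2, 4, 4]
def rw1620 : List ℕ := [3, 11, 2, 1, 9, 7, 1, 9, 7, 1, 9, 7, 10, 0, 3, 7, 3, 4]
def rw1621 : List ℕ := [3, 0, 10, 1, 10, 5, 11, 0, 11, 1, 2, 5, 11, 9, 6, 6, 2, 1, 8, 7, 2, 7, 4, 6, 3, 6, 9, 0, 3, 7, 7, 8, 10, 4]
def rw1622 : List ℕ := [3, 5, 5, 3, 11, 0, 6, 4, 8, 6, 1, 9, 3, 8, 3, 10, 4, 4]
def rw1623 : List ℕ := [3, 1, 1, 2, 0, 2, 2, 1]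
def rw1624 : List ℕ := [3, 0, 10, 1, 10, 4, 11, 0, 11, 1, 2, 5, 11, 9, 6, 6, 2, 1, 8, 7, 2, 7, 5, 6, 3, 6, 9, 0, 3, 7, 7, 8, 10, 4]
def rw1625 : List ℕ := [3, 5, 5, 11, 0, 6, 4, 8, 6, 1, 9, 3, 8, 3, 10]
def rw1626 : List ℕ := [3, 3, 3, 11, 7, 7, 1, 1, 1, 6, 9, 1, 8, 6, 10, 1]
def rw1627 : List ℕ := [3, 8, 1, 3, 1, 6, 1, 7, 9, 2, 10, 9, 4, 0, 4, 7, 8, 11]
def rw1628 : List ℕ := [3, 1, 2, 1, 1, 2, 2, 0, 0, 3, 3, 0, 0]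
def rw1629 : List ℕ := [3, 10, 3, 3, 9, 2, 6, 5, 11, 2, 7, 9, 1, 1, 3, 6, 0, 9]
def rw1630 : List ℕ := [3, 3, 11, 7, 7, 1, 1, 1, 6, 9, 1, 8, 6, 10, 0, 2, 0, 0]
def rw1631 : List ℕ := [3, 8, 7, 10, 9, 7, 4, 1, 8, 6, 0, 5, 1, 3, 0, 4, 1, 7, 9, 0, 5, 6, 8, 11, 6, 9, 2, 9, 11, 2, 10, 8]
def rw1632 : List ℕ := [3, 1, 3, 1, 3, 1]
def rw1633 : List ℕ := [3, 7, 4, 0, 11, 1, 3, 8, 6, 3, 5, 5, 0, 8, 10, 4, 4]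
def rw1634 : List ℕ := [3, 5, 8, 6, 0, 7, 0, 2, 10, 3, 3, 7, 4, 0, 11]
def rw1635 : List ℕ := [3, 0, 3, 3, 11, 7, 7, 1, 1, 1, 6, 9, 1, 8, 6, 10, 3, 1]
def rw1636 : List ℕ := [3, 4, 6, 2, 1, 11, 6, 8, 0, 6, 8, 0, 6, 8, 0, 3, 10, 4]
def rw1637 : List ℕ := [3, 1, 6, 1, 7, 9, 4, 2, 10, 1, 5, 6, 2, 2, 11]
def rw1638 : List ℕ := [3, 6, 1, 6, 5, 11, 8, 0, 7, 9, 1, 3, 4, 7, 3, 5, 10, 3]
def rw1639 : List ℕ := [3, 4, 10, 1, 5, 2, 9, 9, 5, 11, 8, 2, 8, 1, 2, 8, 7]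
def rw1640 : List ℕ := [3, 4, 4, 4, 4, 4, 11, 6, 8, 2, 4, 3, 8, 7, 1, 2, 4, 10]
def rw1641 : List ℕ := [3, 4, 11, 2, 9, 2, 8, 0, 7, 9, 5, 7, 1, 10, 2, 5, 5]
def rw1642 : List ℕ := [3, 3, 11, 7, 7, 1, 1, 1, 6, 9, 1, 8, 6, 10, 2, 1, 3, 1]
def rw1643 : List ℕ := [3, 10, 6, 5, 2, 7, 8, 5, 11, 6, 2, 1, 7, 9, 1, 5, 6, 6]
def rw1644 : List ℕ := [3, 6, 9, 0, 3, 7, 7, 8, 0, 9, 6, 6, 2, 1, 8, 7, 2, 7, 11, 0, 11, 1, 2, 5, 11, 1, 10, 4, 3, 0, 10, 1, 10, 6]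
def rw1645 : List ℕ := [3, 3, 3, 0, 11, 7, 9, 0, 8, 7, 0, 0, 0, 6, 6, 10, 3]
def rw1646 : List ℕ := [3, 0, 6, 1, 6, 9, 2, 1, 8, 10, 2, 0, 7, 0, 3, 5, 11, 9]
def rw1647 : List ℕ := [3, 11, 3, 3, 8, 7, 4, 8, 10, 0, 3, 9, 5, 8, 2, 1, 5]
def rw1648 : List ℕ := [3, 4, 6, 4, 0, 11, 1, 3, 8, 6, 3, 5, 5, 0, 8, 10, 7]
def rw1649 : List ℕ := [3, 5, 5, 3, 11, 2, 9, 2, 8, 0, 7, 9, 5, 7, 1, 10, 3]
def rw1650 : List ℕ := [3, 6, 11, 9, 5, 1, 9, 7, 1, 6, 1, 2, 10, 0, 7, 2, 6]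
def rw1651 : List ℕ := [3, 0, 10, 1, 10, 11, 11, 0, 11, 1, 2, 5, 11, 9, 6, 6, 2, 1, 8, 7, 2, 7, 10, 6, 3, 6, 9, 0, 3, 7, 7, 8, 10, 4]
def rw1652 : List ℕ := [3, 0, 6, 9, 2, 5, 3, 9, 7, 10, 4, 0, 0, 5, 2, 1, 11, 5]
def rw1653 : List ℕ := [3, 7, 11, 4, 7, 0, 9, 1, 9, 5, 8, 0, 7, 10, 6, 0, 4]
def rw1654 : List ℕ := [3, 5, 11, 2, 9, 2, 8, 0, 7, 9, 5, 7, 1, 10, 2, 2, 5, 5]
def rw1655 : List ℕ := [3, 3, 9, 0, 8, 0, 10, 1, 5, 0, 3, 4, 1, 11, 9, 4, 4, 8]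
def rw1656 : List ℕ := [3, 5, 10, 3, 0, 7, 8, 6, 1, 8, 0, 4, 0, 11, 6, 2, 5, 9]
def rw1657 : List ℕ := [3, 8, 0, 0, 9, 2, 6, 3, 11, 9, 3, 6, 3, 3, 6, 10, 4, 7]
def rw1658 : List ℕ := [3, 5, 6, 1, 3, 10, 1, 2, 0, 5, 9, 4, 0, 8, 3, 0, 11, 9]
def rw1659 : List ℕ := [3, 3, 7, 4, 0, 11, 3, 5, 8, 6, 0, 7, 0, 2, 10]
def rw1660 : List ℕ := [3, 9, 0, 6, 8, 10, 6, 2, 2, 6, 0, 5, 11, 9, 7, 0, 9, 1]
def rw1661 : List ℕ := [3, 9, 7, 10, 6, 0, 5, 6, 0, 5, 11, 5, 3, 0, 6, 9, 2, 5]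
def rw1662 : List ℕ := [3, 6, 9, 0, 3, 7, 7, 8, 6, 9, 6, 6, 2, 1, 8, 7, 2, 7, 11, 0, 11, 1, 2, 5, 11, 7, 10, 4, 3, 0, 10, 1, 10, 6]
def rw1663 : List ℕ := [3, 10, 1, 2, 0, 5, 9, 4, 0, 8, 3, 0, 11, 9, 3, 5, 6, 1]
def rw1664 : List ℕ := [3, 7, 10, 1, 11, 2, 10, 0, 11, 6, 2, 4, 10, 8, 3, 8, 5, 1, 2, 8, 4, 2, 8, 3, 9, 3, 5, 9, 3, 0, 4, 9, 2, 9, 11, 5]
def rw1665 : List ℕ := [3, 1, 6, 1, 7, 9, 2, 10, 9, 4, 0, 4, 7, 8, 11, 3, 8, 1]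
def rw1666 : List ℕ := [3, 6, 0, 10, 7, 0, 9, 3, 1, 4, 9, 6, 2, 7, 3, 7, 8, 5, 0, 2, 8, 1, 6, 11, 1, 7, 2, 11, 9, 11, 6, 10, 8, 10]
def rw1667 : List ℕ := [3, 7, 11, 5, 3, 0, 6, 9, 2, 5, 3, 9, 7, 10, 7, 7, 2, 7]
def rw1668 : List ℕ := [3, 3, 9, 0, 8, 0, 10, 1, 5, 3, 5, 0, 11, 9, 4, 4, 8]
def rw1669 : List ℕ := [3, 11, 7, 7, 1, 1, 1, 6, 9, 1, 8, 6, 10, 1, 3, 3]
def rw1670 : List ℕ := [3, 10, 5, 2, 4, 4, 3, 11, 0, 6, 4, 8, 6, 1, 9, 3, 8]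
def rw1671 : List ℕ := [3, 7, 10, 1, 11, 11, 10, 0, 11, 6, 2, 4, 10, 8, 3, 8, 5, 1, 2, 8, 4, 2, 8, 10, 9, 3, 5, 9, 3, 0, 4, 9, 2, 9, 11, 5]
def rw1672 : List ℕ := [3, 11, 7, 9, 0, 8, 7, 0, 0, 0, 6, 6, 10, 2, 2, 0, 2, 0]
def rw1673 : List ℕ := [3, 1, 3, 11, 7, 7, 1, 1, 1, 6, 9, 1, 8, 6, 10, 2, 1, 1]
def rw1674 : List ℕ := [3, 8, 6, 3, 10, 6, 5, 3, 8, 5, 6, 11, 2, 8, 1, 7, 1, 1]
def rw1675 : List ℕ := [3, 1, 2, 0, 11, 7, 9, 0, 8, 7, 0, 0, 0, 6, 6, 10, 1, 3]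
def rw1676 : List ℕ := [3, 8, 6, 0, 7, 0, 2, 0, 9, 2, 10, 9, 6, 5, 1, 5, 8, 11]
def rw1677 : List ℕ := [3, 11, 0, 6, 4, 8, 6, 1, 9, 3, 8, 3, 10, 7, 2, 5, 3, 7]
def rw1678 : List ℕ := [3, 9, 10, 4, 8, 8, 3, 4, 0, 11, 5, 2, 6, 9, 3, 0, 9]
def rw1679 : List ℕ := [3, 4, 4, 2, 4, 4, 11, 2, 9, 2, 8, 0, 7, 9, 5, 7, 1, 10]
def rw1680 : List ℕ := [3, 8, 3, 10, 3, 5, 5, 11, 0, 6, 4, 8, 6, 1, 9]
def rw1681 : List ℕ := [3, 8, 7, 10, 9, 7, 4, 1, 8, 6, 0, 5, 1, 5, 0, 4, 1, 7, 9, 0, 5, 6, 8, 11, 6, 9, 2, 9, 11, 4, 10, 8]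
def rw1682 : List ℕ := [3, 10, 4, 2, 4, 4, 3, 3, 11, 0, 6, 4, 8, 6, 1, 9, 3, 8]
def rw1683 : List ℕ := [3, 3, 9, 0, 8, 0, 10, 5, 5, 5, 0, 5, 0, 11, 9, 4, 4, 8]
def rw1684 : List ℕ := [3, 8, 1, 1, 9, 2, 6, 5, 11, 2, 7, 2, 5, 5, 8, 10, 2, 7]
def rw1685 : List ℕ := [3, 7, 11, 9, 7, 1, 8, 2, 0, 8, 1, 6, 8, 10, 4, 1, 7, 3]
def rw1686 : List ℕ := [3, 1, 5, 3, 1, 4, 11, 6, 8, 2, 4, 3, 8, 7, 1, 2, 4, 10]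
def rw1687 : List ℕ := [3, 5, 5, 11, 6, 8, 2, 4, 3, 8, 7, 1, 2, 4, 10]
def rw1688 : List ℕ := [3, 5, 5, 11, 2, 9, 2, 8, 0, 7, 9, 5, 7, 1, 10, 3, 5, 5]
def rw1689 : List ℕ := [3, 3, 5, 5, 3, 11, 5, 3, 0, 6, 9, 2, 5, 3, 9, 7, 10]
def rw1690 : List ℕ := [3, 9, 5, 6, 0, 7, 4, 8, 2, 9, 1, 5, 9, 9, 0, 11, 11, 11, 6, 6, 0, 11, 1, 10, 1, 7, 7, 10, 10, 10, 1, 8, 8, 4, 0, 8]
def rw1691 : List ℕ := [3, 3, 11, 7, 9, 0, 8, 7, 0, 0, 0, 6, 6, 10, 2, 1]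
def rw1692 : List ℕ := [3, 3, 5, 5, 3, 11, 2, 9, 2, 8, 0, 7, 9, 5, 7, 1, 10]
def rw1693 : List ℕ := [3, 5, 6, 11, 5, 3, 0, 6, 9, 2, 5, 3, 9, 7, 10, 7, 7, 4]
def rw1694 : List ℕ := [3, 8, 8, 7, 0, 8, 0, 11, 8, 1, 5, 6, 1, 5, 10, 8, 4, 7]
def rw1695 : List ℕ := [3, 11, 7, 9, 0, 8, 7, 0, 0, 0, 6, 6, 10, 0, 2, 0, 0, 0]
def rw1696 : List ℕ := [3, 6, 0, 10, 1, 11, 1, 7, 2, 11, 9, 11, 3, 7, 8, 5, 0, 2, 8, 1, 6, 0, 7, 0, 9, 3, 1, 4, 9, 6, 2, 10, 8, 10]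
def rw1697 : List ℕ := [3, 4, 1, 1, 5, 11, 6, 8, 2, 4, 3, 8, 7, 1, 2, 4, 10, 0]
def rw1698 : List ℕ := [3, 6, 2, 6, 4, 11, 2, 1, 9, 7, 1, 9, 7, 1, 9, 7, 10, 0]
def rw1699 : List ℕ := [3, 6, 6, 1, 5, 5, 10, 6, 0, 5, 3, 3, 7, 11, 0, 4, 9]
def rw1700 : List ℕ := [3, 11, 9, 3, 6, 3, 3, 6, 10, 4, 7, 3, 8, 0, 0, 9, 2, 6]
def rw1701 : List ℕ := [3, 6, 0, 10, 3, 11, 1, 7, 2, 11, 9, 11, 3, 7, 8, 5, 0, 2, 8, 1, 6, 2, 7, 0, 9, 3, 1, 4, 9, 6, 2, 10, 8, 10]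
def rw1702 : List ℕ := [3, 3, 3, 3, 0, 11, 7, 9, 0, 8, 7, 0, 0, 0, 6, 6, 10]
def rw1703 : List ℕ := [3, 11, 9, 6, 0, 0, 6, 4, 9, 3, 9, 10, 4, 1, 1, 7, 7]
def rw1704 : List ℕ := [3, 8, 0, 7, 4, 3, 7, 4, 11, 4, 3, 5, 8, 2, 5, 10, 6, 5]
def rw1705 : List ℕ := [3, 0, 6, 9, 2, 5, 3, 9, 7, 10, 4, 1, 5, 1, 4, 0, 11, 5]
def rw1706 : List ℕ := [3, 3, 5, 7, 9, 10, 0, 3, 9, 3, 5, 0, 4, 2, 8, 1, 11]
def rw1707 : List ℕ := [3, 6, 3, 10, 4, 7, 3, 8, 0, 0, 9, 2, 6, 3, 11, 9, 4, 4]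
def rw1708 : List ℕ := [3, 0, 7, 8, 6, 1, 8, 0, 4, 0, 11, 6, 2, 5, 9, 3, 5, 10]
def rw1709 : List ℕ := [3, 9, 0, 8, 0, 10, 5, 5, 1, 4, 1, 4, 11, 9, 4, 4, 8, 3]
def rw1710 : List ℕ := [3, 1, 11, 7, 9, 0, 8, 7, 0, 0, 0, 6, 6, 10, 2, 2, 1, 1]
def rw1711 : List ℕ := [3, 4, 1, 4, 0, 4, 11, 7, 9, 0, 8, 7, 0, 0, 0, 6, 6, 10]
def rw1712 : List ℕ := [3, 9, 5, 6, 10, 7, 4, 8, 2, 9, 1, 5, 9, 9, 0, 11, 11, 11, 6, 6, 0, 11, 11, 10, 1, 7, 7, 10, 10, 10, 1, 8, 8, 4, 0, 8]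
def rw1713 : List ℕ := [3, 7, 11, 0, 4, 9, 3, 6, 6, 1, 5, 5, 10, 6, 0, 5, 3]
def rw1714 : List ℕ := [3, 0, 6, 9, 2, 5, 3, 9, 7, 10, 7, 5, 5, 7, 2, 11, 5]
def rw1715 : List ℕ := [3, 7, 4, 6, 9, 4, 11, 0, 0, 9, 4, 6, 1, 3, 1, 9, 6, 10]
def rw1716 : List ℕ := [3, 3, 0, 11, 7, 9, 0, 8, 7, 0, 0, 0, 6, 6, 10, 3, 3]
def rw1717 : List ℕ := [3, 0, 10, 1, 10, 6, 3, 6, 9, 0, 3, 7, 7, 8, 6, 9, 6, 6, 2, 1, 8, 7, 2, 7, 11, 0, 11, 1, 2, 5, 11, 7, 10, 4]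
def rw1718 : List ℕ := [3, 0, 6, 9, 2, 5, 3, 9, 7, 10, 5, 5, 5, 5, 5, 2, 11, 5]
def rw1719 : List ℕ := [3, 5, 7, 9, 10, 0, 3, 9, 3, 5, 0, 4, 2, 8, 1, 11, 3]
def rw1720 : List ℕ := [3, 10, 5, 7, 3, 7, 2, 1, 11, 6, 8, 0, 6, 8, 0, 6, 8, 0]
def rw1721 : List ℕ := [3, 7, 10, 1, 5, 1, 9, 0, 7, 9, 6, 1, 2, 11, 4, 2, 8, 4]
def rw1722 : List ℕ := [3, 8, 6, 3, 5, 5, 0, 8, 10, 7, 3, 5, 7, 5, 0, 11, 1]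
def rw1723 : List ℕ := [3, 6, 9, 0, 3, 7, 7, 8, 10, 4, 3, 0, 10, 1, 10, 10, 11, 0, 11, 1, 2, 5, 11, 9, 6, 6, 2, 1, 8, 7, 2, 7, 11, 6]
def rw1724 : List ℕ := [3, 6, 4, 4, 6, 11, 0, 6, 4, 8, 6, 1, 9, 3, 8, 3, 10]
def rw1725 : List ℕ := [3, 3, 9, 0, 8, 0, 10, 5, 5, 1, 4, 1, 4, 11, 9, 4, 4, 8]
def rw1726 : List ℕ := [3, 5, 5, 0, 8, 10, 7, 3, 6, 4, 6, 0, 11, 1, 3, 8, 6]
def rw1727 : List ℕ := [3, 1, 3, 11, 7, 9, 0, 8, 7, 0, 0, 0, 6, 6, 10, 2, 2, 1]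
def rw1728 : List ℕ := [3, 1, 9, 6, 10, 3, 4, 6, 5, 9, 4, 11, 0, 0, 9, 4, 6, 1]
def rw1729 : List ℕ := [3, 5, 8, 2, 5, 10, 6, 5, 3, 8, 0, 7, 4, 3, 7, 4, 11, 4]
def rw1730 : List ℕ := [3, 11, 0, 6, 4, 8, 6, 1, 9, 3, 8, 3, 10, 5, 2, 4, 4]
def rw1731 : List ℕ := [3, 9, 4, 2, 5, 10, 5, 6, 2, 5, 6, 1, 9, 2, 4, 7, 11, 4]
def rw1732 : List ℕ := [3, 11, 9, 4, 4, 3, 6, 3, 10, 4, 7, 3, 8, 0, 0, 9, 2, 6]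
def rw1733 : List ℕ := [3, 0, 11, 2, 0, 7, 4, 2, 8, 10, 1, 2, 9, 1, 5, 8, 4, 1]
def rw1734 : List ℕ := [3, 0, 7, 0, 6, 8, 0, 4, 8, 10, 7, 2, 7, 3, 6, 1, 11]
def rw1735 : List ℕ := [3, 5, 7, 11, 8, 1, 9, 9, 5, 0, 0, 0, 6, 0, 10, 7, 4, 9]
def rw1736 : List ℕ := [3, 3, 1, 2, 0, 11, 7, 9, 0, 8, 7, 0, 0, 0, 6, 6, 10, 1]
def rw1737 : List ℕ := [3, 6, 3, 3, 6, 10, 4, 7, 3, 8, 0, 0, 9, 2, 6, 3, 11, 9]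
def rw1738 : List ℕ := [3, 0, 6, 9, 2, 5, 3, 9, 7, 10, 4, 4, 2, 11, 5]
def rw1739 : List ℕ := [3, 6, 11, 2, 9, 2, 8, 0, 7, 9, 5, 7, 1, 10, 2, 6, 2, 4]
def rw1740 : List ℕ := [3, 4, 11, 7, 9, 0, 8, 7, 0, 0, 0, 6, 6, 10, 0, 5, 5, 1]
def rw1741 : List ℕ := [3, 8, 7, 1, 2, 4, 10, 6, 2, 6, 3, 6, 6, 11, 6, 8, 2, 4]
def rw1742 : List ℕ := [3, 8, 6, 3, 5, 5, 0, 8, 10, 4, 4, 3, 7, 4, 0, 11, 1]
def rw1743 : List ℕ := [3, 3, 3, 4, 0, 11, 7, 9, 0, 8, 7, 0, 0, 0, 6, 6, 10, 4]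
def rw1744 : List ℕ := [3, 9, 1, 6, 0, 9, 1, 6, 11, 6, 9, 4, 3, 7, 4, 10, 9, 6]
def rw1745 : List ℕ := [3, 0, 10, 1, 10, 2, 11, 0, 11, 1, 2, 5, 11, 9, 6, 6, 2, 1, 8, 7, 2, 7, 3, 6, 3, 6, 9, 0, 3, 7, 7, 8, 10, 4]
def rw1746 : List ℕ := [3, 11, 7, 9, 0, 8, 7, 0, 0, 0, 6, 6, 10, 1, 3, 0]
def rw1747 : List ℕ := [3, 11, 7, 9, 0, 8, 7, 0, 0, 0, 6, 6, 10, 2, 2, 1, 3, 1]
def rw1748 : List ℕ := [3, 9, 10, 4, 1, 1, 7, 7, 3, 11, 9, 6, 0, 0, 6, 4, 9]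
def rw1749 : List ℕ := [3, 11, 0, 6, 4, 8, 6, 1, 9, 3, 8, 3, 10, 4, 4, 3, 5, 5]
def rw1750 : List ℕ := [3, 11, 7, 9, 0, 8, 7, 0, 0, 0, 6, 6, 10, 2, 0, 2, 0, 0]
def rw1751 : List ℕ := [3, 5, 7, 5, 0, 11, 1, 3, 8, 6, 3, 5, 5, 0, 8, 10, 7]
def rw1752 : List ℕ := [3, 3, 4, 0, 11, 7, 9, 0, 8, 7, 0, 0, 0, 6, 6, 10, 4, 3]
def rw1753 : List ℕ := [3, 9, 5, 8, 2, 1, 5, 3, 11, 3, 3, 8, 7, 4, 8, 10, 0]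
def rw1754 : List ℕ := [3, 8, 6, 3, 5, 5, 0, 8, 10, 7, 3, 6, 4, 6, 0, 11, 1]
def rw1755 : List ℕ := [3, 8, 3, 10, 5, 5, 3, 5, 5, 2, 11, 0, 6, 4, 8, 6, 1, 9]
def rw1756 : List ℕ := [3, 1, 4, 11, 6, 8, 2, 4, 3, 8, 7, 1, 2, 4, 10, 3, 1, 5]
def rw1757 : List ℕ := [3, 11, 2, 9, 2, 8, 0, 7, 9, 5, 7, 1, 10, 3, 3, 5, 5]
def rw1758 : List ℕ := [3, 7, 10, 1, 11, 10, 10, 0, 11, 6, 2, 4, 10, 8, 3, 8, 5, 1, 2, 8, 4, 2, 8, 11, 9, 3, 5, 9, 3, 0, 4, 9, 2, 9, 11, 5]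
def rw1759 : List ℕ := [3, 3, 6, 1, 6, 5, 11, 8, 0, 7, 9, 1, 3, 4, 7, 3, 5, 10]
def rw1760 : List ℕ := [3, 6, 0, 9, 3, 10, 3, 3, 9, 2, 6, 5, 11, 2, 7, 9, 1, 1]
def rw1761 : List ℕ := [3, 5, 5, 3, 11, 5, 3, 0, 6, 9, 2, 5, 3, 9, 7, 10, 3]
def rw1762 : List ℕ := [3, 8, 2, 2, 11, 2, 8, 1, 7, 2, 0, 0, 8, 6, 3, 10, 4, 7]
def rw1763 : List ℕ := [3, 6, 4, 6, 0, 11, 1, 3, 8, 6, 3, 5, 5, 0, 8, 10, 7]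
def rw1764 : List ℕ := [3, 4, 1, 11, 9, 4, 4, 8, 3, 3, 9, 0, 8, 0, 10, 1, 5, 0]
def rw1765 : List ℕ := [3, 7, 10, 1, 11, 5, 10, 0, 11, 6, 2, 4, 10, 8, 3, 8, 5, 1, 2, 8, 4, 2, 8, 4, 9, 3, 5, 9, 3, 0, 4, 9, 2, 9, 11, 5]
def rw1766 : List ℕ := [3, 8, 3, 10, 5, 5, 5, 2, 4, 4, 11, 0, 6, 4, 8, 6, 1, 9]
def rw1767 : List ℕ := [3, 11, 7, 9, 0, 8, 7, 0, 0, 0, 6, 6, 10, 2, 1, 3]
def rw1768 : List ℕ := [3, 10, 3, 5, 5, 11, 0, 6, 4, 8, 6, 1, 9, 3, 8]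
def rw1769 : List ℕ := [3, 9, 0, 8, 0, 10, 1, 5, 3, 5, 0, 11, 9, 4, 4, 8, 3]
def rw1770 : List ℕ := [3, 8, 7, 10, 8, 11, 6, 9, 2, 9, 11, 0, 4, 1, 7, 9, 0, 5, 6, 8, 9, 9, 7, 4, 1, 8, 6, 0, 5, 1, 10, 8]
def rw1771 : List ℕ := [3, 6, 1, 11, 3, 0, 7, 0, 6, 8, 0, 4, 8, 10, 7, 2, 7]
def rw1772 : List ℕ := [3, 10, 6, 5, 3, 8, 5, 6, 11, 2, 8, 1, 7, 1, 1, 3, 8, 6]
def rw1773 : List ℕ := [3, 10, 4, 7, 3, 8, 0, 0, 9, 2, 6, 3, 11, 9, 4, 4, 3, 6]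
def rw1774 : List ℕ := [3, 6, 9, 0, 3, 7, 7, 8, 10, 4, 3, 0, 10, 1, 10, 11, 11, 0, 11, 1, 2, 5, 11, 9, 6, 6, 2, 1, 8, 7, 2, 7, 10, 6]
def rw1775 : List ℕ := [3, 6, 5, 1, 11, 6, 8, 0, 6, 8, 0, 6, 8, 0, 3, 10, 6, 6]
def rw1776 : List ℕ := [3, 6, 4, 4, 6, 11, 6, 8, 2, 4, 3, 8, 7, 1, 2, 4, 10]
def rw1777 : List ℕ := [3, 11, 5, 3, 0, 6, 9, 2, 5, 3, 9, 7, 10, 3, 3, 5, 5]
def rw1778 : List ℕ := [3, 0, 10, 1, 10, 1, 11, 0, 11, 1, 2, 5, 11, 9, 6, 6, 2, 1, 8, 7, 2, 7, 0, 6, 3, 6, 9, 0, 3, 7, 7, 8, 10, 4]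
def rw1779 : List ℕ := [3, 0, 10, 1, 10, 6, 3, 6, 9, 0, 3, 7, 7, 8, 11, 9, 6, 6, 2, 1, 8, 7, 2, 7, 11, 0, 11, 1, 2, 5, 11, 10, 10, 4]
def rw1780 : List ℕ := [3, 7, 8, 5, 0, 2, 8, 1, 6, 4, 7, 0, 9, 3, 1, 4, 9, 6, 2, 10, 8, 10, 3, 6, 0, 10, 5, 11, 1, 7, 2, 11, 9, 11]
def rw1781 : List ℕ := [3, 10, 4, 4, 3, 5, 5, 3, 11, 0, 6, 4, 8, 6, 1, 9, 3, 8]
def rw1782 : List ℕ := [3, 1, 5, 9, 0, 3, 0, 9, 9, 9, 0]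
def rw1783 : List ℕ := [3, 7, 10, 4, 9, 6, 3, 4, 7, 11, 2, 7, 7, 4, 0, 8, 6, 0]
def rw1784 : List ℕ := [3, 0, 3, 0, 0, 11, 7, 7, 1, 1, 1, 6, 9, 1, 8, 6, 10, 0]
def rw1785 : List ℕ := [3, 0, 3, 11, 7, 9, 0, 8, 7, 0, 0, 0, 6, 6, 10, 1]
def rw1786 : List ℕ := [3, 8, 7, 10, 0, 11, 6, 9, 2, 9, 11, 0, 4, 1, 7, 9, 0, 5, 6, 8, 1, 9, 7, 4, 1, 8, 6, 0, 5, 1, 10, 8]
def rw1787 : List ℕ := [3, 8, 7, 0, 7, 1, 2, 8, 10, 4, 2, 1, 6, 1, 3, 11, 9, 0]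
def rw1788 : List ℕ := [3, 11, 7, 9, 0, 8, 7, 0, 0, 0, 6, 6, 10, 3, 1, 3, 0, 0]
def rw1789 : List ℕ := [3, 0, 2, 2, 0, 11, 7, 7, 1, 1, 1, 6, 9, 1, 8, 6, 10, 1]
def rw1790 : List ℕ := [3, 0, 0, 3, 11, 7, 9, 0, 8, 7, 0, 0, 0, 6, 6, 10, 3, 1]
def rw1791 : List ℕ := [3, 3, 7, 11, 9, 7, 1, 8, 2, 0, 8, 1, 6, 8, 10, 4, 1, 7]
def rw1792 : List ℕ := [3, 11, 7, 7, 1, 1, 1, 6, 9, 1, 8, 6, 10, 2, 0, 2, 0, 3]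
def rw1793 : List ℕ := [3, 6, 0, 10, 7, 0, 9, 3, 1, 4, 9, 6, 2, 1, 3, 7, 8, 5, 0, 2, 8, 1, 6, 11, 1, 7, 2, 11, 9, 11, 0, 10, 8, 10]
def rw1794 : List ℕ := [3, 10, 5, 5, 5, 2, 4, 4, 11, 0, 6, 4, 8, 6, 1, 9, 3, 8]
def rw1795 : List ℕ := [3, 10, 1, 1, 7, 5, 0, 0, 11, 7, 8, 6, 3, 6, 1, 9, 9, 0]
def rw1796 : List ℕ := [3, 4, 11, 5, 3, 0, 6, 9, 2, 5, 3, 9, 7, 10, 2, 5, 5]
def rw1797 : List ℕ := [3, 7, 7, 8, 0, 9, 6, 6, 2, 1, 8, 7, 2, 7, 11, 0, 11, 1, 2, 5, 11, 1, 10, 4, 3, 0, 10, 1, 10, 6, 3, 6, 9, 0]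
def rw1798 : List ℕ := [3, 8, 1, 1, 9, 2, 6, 5, 11, 7, 2, 2, 7, 2, 8, 10, 2, 7]
def rw1799 : List ℕ := [3, 7, 4, 10, 9, 6, 3, 9, 1, 6, 0, 9, 1, 6, 11, 6, 9, 4]
def rw1800 : List ℕ := [3, 9, 7, 10, 4, 4, 2, 11, 5, 3, 0, 6, 9, 2, 5]
def rw1801 : List ℕ := [3, 6, 9, 0, 3, 7, 7, 8, 10, 4, 3, 0, 10, 1, 10, 7, 11, 0, 11, 1, 2, 5, 11, 9, 6, 6, 2, 1, 8, 7, 2, 7, 6, 6]
def rw1802 : List ℕ := [3, 6, 9, 0, 3, 7, 7, 8, 10, 4, 3, 0, 10, 1, 10, 8, 11, 0, 11, 1, 2, 5, 11, 9, 6, 6, 2, 1, 8, 7, 2, 7, 9, 6]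
def rw1803 : List ℕ := [3, 10, 3, 6, 4, 4, 6, 11, 0, 6, 4, 8, 6, 1, 9, 3, 8]
def rw1804 : List ℕ := [3, 1, 4, 9, 6, 2, 9, 3, 7, 8, 5, 0, 2, 8, 1, 6, 11, 1, 7, 2, 11, 9, 11, 8, 10, 8, 10, 3, 6, 0, 10, 7, 0, 9]
def rw1805 : List ℕ := [3, 8, 7, 10, 9, 7, 4, 1, 8, 6, 0, 5, 1, 0, 0, 4, 1, 7, 9, 0, 5, 6, 8, 11, 6, 9, 2, 9, 11, 1, 10, 8]
def rw1806 : List ℕ := [3, 3, 8, 7, 4, 8, 10, 0, 3, 9, 5, 8, 2, 1, 5, 3, 11]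
def rw1807 : List ℕ := [3, 8, 7, 10, 4, 11, 6, 9, 2, 9, 11, 0, 4, 1, 7, 9, 0, 5, 6, 8, 5, 9, 7, 4, 1, 8, 6, 0, 5, 1, 10, 8]
def rw1808 : List ℕ := [3, 8, 3, 10, 5, 2, 4, 4, 3, 11, 0, 6, 4, 8, 6, 1, 9]
def rw1809 : List ℕ := [3, 3, 11, 7, 7, 1, 1, 1, 6, 9, 1, 8, 6, 10, 3, 1, 3, 0]
def rw1810 : List ℕ := [3, 8, 7, 10, 9, 7, 4, 1, 8, 6, 0, 5, 1, 9, 0, 4, 1, 7, 9, 0, 5, 6, 8, 11, 6, 9, 2, 9, 11, 8, 10, 8]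
def rw1811 : List ℕ := [3, 6, 0, 10, 10, 11, 1, 7, 2, 11, 9, 11, 3, 7, 8, 5, 0, 2, 8, 1, 6, 11, 7, 0, 9, 3, 1, 4, 9, 6, 2, 10, 8, 10]
def rw1812 : List ℕ := [3, 9, 4, 8, 2, 1, 11, 9, 5, 6, 9, 2, 2, 10, 2, 4, 0]
def rw1813 : List ℕ := [3, 3, 7, 11, 0, 4, 9, 3, 6, 6, 1, 5, 5, 10, 6, 0, 5]
def rw1814 : List ℕ := [3, 11, 7, 9, 0, 8, 7, 0, 0, 0, 6, 6, 10, 4, 1, 1, 4]
def rw1815 : List ℕ := [3, 6, 0, 10, 7, 0, 9, 3, 1, 4, 9, 6, 2, 2, 3, 7, 8, 5, 0, 2, 8, 1, 6, 11, 1, 7, 2, 11, 9, 11, 3, 10, 8, 10]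
def rw1816 : List ℕ := [3, 11, 9, 0, 3, 8, 7, 0, 7, 1, 2, 8, 10, 4, 2, 1, 6, 1]
def rw1817 : List ℕ := [3, 7, 3, 11, 0, 6, 4, 8, 6, 1, 9, 3, 8, 3, 10, 7, 2, 5]
def rw1818 : List ℕ := [3, 6, 1, 9, 9, 0, 3, 10, 1, 1, 7, 5, 0, 0, 11, 7, 8, 6]
def rw1819 : List ℕ := [3, 10, 4, 7, 3, 8, 2, 2, 11, 2, 8, 1, 7, 2, 0, 0, 8, 6]
def rw1820 : List ℕ := [3, 8, 7, 10, 1, 11, 6, 9, 2, 9, 11, 0, 4, 1, 7, 9, 0, 5, 6, 8, 0, 9, 7, 4, 1, 8, 6, 0, 5, 1, 10, 8]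
def rw1821 : List ℕ := [3, 6, 9, 0, 3, 7, 7, 8, 1, 9, 6, 6, 2, 1, 8, 7, 2, 7, 11, 0, 11, 1, 2, 5, 11, 0, 10, 4, 3, 0, 10, 1, 10, 6]
def rw1822 : List ℕ := [3, 10, 2, 4, 4, 2, 2, 11, 0, 6, 4, 8, 6, 1, 9, 3, 8]
def rw1823 : List ℕ := [3, 4, 7, 3, 5, 10, 3, 3, 6, 1, 6, 5, 11, 8, 0, 7, 9, 1]
def rw1824 : List ℕ := [3, 5, 10, 3, 3, 6, 1, 6, 5, 11, 8, 0, 7, 9, 1, 3, 4, 7]
def rw1825 : List ℕ := [3, 8, 5, 1, 2, 8, 4, 2, 8, 9, 9, 3, 5, 9, 3, 0, 4, 9, 2, 9, 11, 5, 3, 7, 10, 1, 11, 8, 10, 0, 11, 6, 2, 4, 10, 8]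
def rw1826 : List ℕ := [3, 3, 6, 10, 4, 7, 3, 8, 0, 0, 9, 2, 6, 3, 11, 9, 3, 6]
def rw1827 : List ℕ := [3, 8, 7, 1, 2, 4, 10, 7, 4, 2, 5, 6, 6, 11, 6, 8, 2, 4]
def rw1828 : List ℕ := [3, 0, 11, 9, 3, 5, 6, 1, 3, 10, 1, 2, 0, 5, 9, 4, 0, 8]
def rw1829 : List ℕ := [3, 0, 4, 9, 2, 9, 11, 5, 3, 7, 10, 1, 11, 10, 10, 0, 11, 6, 2, 4, 10, 8, 3, 8, 5, 1, 2, 8, 4, 2, 8, 11, 9, 3, 5, 9]
def rw1830 : List ℕ := [3, 8, 7, 10, 9, 7, 4, 1, 8, 6, 0, 5, 1, 11, 0, 4, 1, 7, 9, 0, 5, 6, 8, 11, 6, 9, 2, 9, 11, 10, 10, 8]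
def rw1831 : List ℕ := [3, 8, 7, 10, 3, 11, 6, 9, 2, 9, 11, 0, 4, 1, 7, 9, 0, 5, 6, 8, 2, 9, 7, 4, 1, 8, 6, 0, 5, 1, 10, 8]
def rw1832 : List ℕ := [3, 8, 3, 10, 2, 4, 4, 2, 2, 11, 0, 6, 4, 8, 6, 1, 9]
def rw1833 : List ℕ := [3, 6, 0, 10, 7, 0, 9, 3, 1, 4, 9, 6, 2, 11, 3, 7, 8, 5, 0, 2, 8, 1, 6, 11, 1, 7, 2, 11, 9, 11, 10, 10, 8, 10]
def rw1834 : List ℕ := [3, 5, 9, 3, 0, 4, 9, 2, 9, 11, 5, 3, 7, 10, 1, 11, 5, 10, 0, 11, 6, 2, 4, 10, 8, 3, 8, 5, 1, 2, 8, 4, 2, 8, 4, 9]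
def rw1835 : List ℕ := [3, 10, 5, 5, 3, 5, 5, 2, 11, 0, 6, 4, 8, 6, 1, 9, 3, 8]
def rw1836 : List ℕ := [3, 1, 11, 7, 7, 1, 1, 1, 6, 9, 1, 8, 6, 10, 2, 1, 1, 1]
def rw1837 : List ℕ := [3, 4, 4, 4, 11, 2, 9, 2, 8, 0, 7, 9, 5, 7, 1, 10, 5, 5]
def rw1838 : List ℕ := [3, 1, 11, 0, 6, 4, 8, 6, 1, 9, 3, 8, 3, 10, 3, 4, 1, 5]
def rw1839 : List ℕ := [3, 0, 10, 1, 10, 6, 3, 6, 9, 0, 3, 7, 7, 8, 5, 9, 6, 6, 2, 1, 8, 7, 2, 7, 11, 0, 11, 1, 2, 5, 11, 4, 10, 4]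
def rw1840 : List ℕ := [3, 11, 7, 7, 1, 1, 1, 6, 9, 1, 8, 6, 10, 2, 2, 0]
def rw1841 : List ℕ := [3, 8, 7, 10, 7, 11, 6, 9, 2, 9, 11, 0, 4, 1, 7, 9, 0, 5, 6, 8, 6, 9, 7, 4, 1, 8, 6, 0, 5, 1, 10, 8]
def rw1842 : List ℕ := [3, 0, 9, 3, 9, 10, 4, 8, 8, 3, 4, 0, 11, 5, 2, 6, 9]
def rw1843 : List ℕ := [3, 7, 7, 8, 1, 9, 6, 6, 2, 1, 8, 7, 2, 7, 11, 0, 11, 1, 2, 5, 11, 0, 10, 4, 3, 0, 10, 1, 10, 6, 3, 6, 9, 0]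
def rw1844 : List ℕ := [3, 7, 10, 1, 11, 3, 10, 0, 11, 6, 2, 4, 10, 8, 3, 8, 5, 1, 2, 8, 4, 2, 8, 2, 9, 3, 5, 9, 3, 0, 4, 9, 2, 9, 11, 5]
def rw1845 : List ℕ := [3, 3, 3, 3, 3, 3, 3]
def rw1846 : List ℕ := [3, 7, 5, 2, 5, 11, 2, 1, 9, 7, 1, 9, 7, 1, 9, 7, 10, 0]
def rw1847 : List ℕ := [3, 8, 7, 1, 2, 4, 10, 2, 4, 4, 2, 2, 11, 6, 8, 2, 4]
def rw1848 : List ℕ := [3, 4, 1, 5, 9, 0, 4, 8, 10, 9, 4, 2, 1, 1, 8, 11, 6, 8]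
def rw1849 : List ℕ := [3, 4, 0, 11, 7, 9, 0, 8, 7, 0, 0, 0, 6, 6, 10, 4, 3, 3]
def rw1850 : List ℕ := [3, 11, 7, 7, 1, 1, 1, 6, 9, 1, 8, 6, 10, 3, 1, 3, 0, 3]
def rw1851 : List ℕ := [3, 8, 7, 10, 9, 7, 4, 1, 8, 6, 0, 5, 1, 1, 0, 4, 1, 7, 9, 0, 5, 6, 8, 11, 6, 9, 2, 9, 11, 0, 10, 8]
def rw1852 : List ℕ := [3, 4, 0, 11, 5, 2, 6, 9, 3, 0, 9, 3, 9, 10, 4, 8, 8]
def rw1853 : List ℕ := [3, 0, 6, 9, 2, 5, 3, 9, 7, 10, 5, 0, 2, 4, 0, 2, 11, 5]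
def rw1854 : List ℕ := [3, 1, 4, 9, 6, 2, 10, 8, 10, 3, 6, 0, 10, 4, 11, 1, 7, 2, 11, 9, 11, 3, 7, 8, 5, 0, 2, 8, 1, 6, 5, 7, 0, 9]
def rw1855 : List ℕ := [3, 6, 0, 10, 7, 0, 9, 3, 1, 4, 9, 6, 2, 5, 3, 7, 8, 5, 0, 2, 8, 1, 6, 11, 1, 7, 2, 11, 9, 11, 4, 10, 8, 10]
def rw1856 : List ℕ := [3, 4, 1, 5, 3, 1, 11, 0, 6, 4, 8, 6, 1, 9, 3, 8, 3, 10]
def rw1857 : List ℕ := [3, 6, 0, 10, 9, 11, 1, 7, 2, 11, 9, 11, 3, 7, 8, 5, 0, 2, 8, 1, 6, 8, 7, 0, 9, 3, 1, 4, 9, 6, 2, 10, 8, 10]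
def rw1858 : List ℕ := [3, 5, 8, 0, 7, 9, 11, 1, 7, 8, 8, 7, 0, 10, 7, 1, 8]
def rw1859 : List ℕ := [3, 0, 4, 9, 2, 9, 11, 5, 3, 7, 10, 1, 11, 11, 10, 0, 11, 6, 2, 4, 10, 8, 3, 8, 5, 1, 2, 8, 4, 2, 8, 10, 9, 3, 5, 9]
def rw1860 : List ℕ := [3, 8, 0, 0, 9, 2, 6, 3, 11, 9, 4, 4, 3, 6, 3, 10, 4, 7]
def rw1861 : List ℕ := [3, 8, 6, 3, 5, 5, 0, 8, 10, 7, 3, 7, 5, 7, 0, 11, 1]
def rw1862 : List ℕ := [3, 10, 6, 6, 3, 6, 5, 1, 11, 6, 8, 0, 6, 8, 0, 6, 8, 0]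
def rw1863 : List ℕ := [3, 8, 7, 4, 8, 10, 0, 3, 9, 5, 8, 2, 1, 5, 3, 11, 3]
def rw1864 : List ℕ := [3, 4, 6, 5, 9, 4, 11, 0, 0, 9, 4, 6, 1, 3, 1, 9, 6, 10]
def rw1865 : List ℕ := [3, 8, 5, 1, 2, 8, 4, 2, 8, 5, 9, 3, 5, 9, 3, 0, 4, 9, 2, 9, 11, 5, 3, 7, 10, 1, 11, 4, 10, 0, 11, 6, 2, 4, 10, 8]
def rw1866 : List ℕ := [3, 0, 6, 9, 2, 5, 3, 9, 7, 10, 2, 5, 5, 3, 4, 11, 5]
def rw1867 : List ℕ := [3, 10, 7, 4, 9, 2, 4, 7, 11, 2, 7, 9, 2, 0, 0, 6, 0, 9]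
def rw1868 : List ℕ := [3, 0, 6, 9, 2, 5, 3, 9, 7, 10, 7, 7, 4, 3, 5, 6, 11, 5]
def rw1869 : List ℕ := [3, 7, 4, 0, 11, 3, 5, 8, 6, 0, 7, 0, 2, 10, 3]
def rw1870 : List ℕ := [3, 7, 7, 8, 10, 4, 3, 0, 10, 1, 10, 7, 11, 0, 11, 1, 2, 5, 11, 9, 6, 6, 2, 1, 8, 7, 2, 7, 6, 6, 3, 6, 9, 0]
def rw1871 : List ℕ := [3, 7, 10, 1, 11, 0, 10, 0, 11, 6, 2, 4, 10, 8, 3, 8, 5, 1, 2, 8, 4, 2, 8, 1, 9, 3, 5, 9, 3, 0, 4, 9, 2, 9, 11, 5]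
def rw1872 : List ℕ := [3, 7, 3, 4, 3, 11, 2, 1, 9, 7, 1, 9, 7, 1, 9, 7, 10, 0]
def rw1873 : List ℕ := [3, 8, 7, 10, 10, 11, 6, 9, 2, 9, 11, 0, 4, 1, 7, 9, 0, 5, 6, 8, 11, 9, 7, 4, 1, 8, 6, 0, 5, 1, 10, 8]
def rw1874 : List ℕ := [3, 5, 0, 4, 2, 8, 1, 11, 3, 3, 5, 7, 9, 10, 0, 3, 9]
def rw1875 : List ℕ := [3, 0, 10, 1, 10, 6, 3, 6, 9, 0, 3, 7, 7, 8, 1, 9, 6, 6, 2, 1, 8, 7, 2, 7, 11, 0, 11, 1, 2, 5, 11, 0, 10, 4]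
def rw1876 : List ℕ := [3, 7, 5, 7, 0, 11, 1, 3, 8, 6, 3, 5, 5, 0, 8, 10, 7]
def rw1877 : List ℕ := [3, 0, 10, 1, 10, 0, 11, 0, 11, 1, 2, 5, 11, 9, 6, 6, 2, 1, 8, 7, 2, 7, 1, 6, 3, 6, 9, 0, 3, 7, 7, 8, 10, 4]
def rw1878 : List ℕ := [3, 7, 2, 1, 11, 6, 8, 0, 6, 8, 0, 6, 8, 0, 3, 10, 5, 7]
def rw1879 : List ℕ := [3, 9, 7, 10, 2, 5, 5, 3, 4, 11, 5, 3, 0, 6, 9, 2, 5]
def rw1880 : List ℕ := [3, 8, 3, 10, 3, 4, 1, 5, 3, 1, 11, 0, 6, 4, 8, 6, 1, 9]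
def rw1881 : List ℕ := [3, 10, 2, 5, 2, 6, 2, 1, 11, 6, 8, 0, 6, 8, 0, 6, 8, 0]
def rw1882 : List ℕ := [3, 0, 11, 7, 9, 0, 8, 7, 0, 0, 0, 6, 6, 10, 3, 3, 3]
def rw1883 : List ℕ := [3, 11, 0, 6, 4, 8, 6, 1, 9, 3, 8, 3, 10, 4, 2, 4, 4, 3]
def rw1884 : List ℕ := [3, 8, 7, 10, 9, 7, 4, 1, 8, 6, 0, 5, 1, 6, 0, 4, 1, 7, 9, 0, 5, 6, 8, 11, 6, 9, 2, 9, 11, 7, 10, 8]
def rw1885 : List ℕ := [3, 7, 7, 8, 11, 9, 6, 6, 2, 1, 8, 7, 2, 7, 11, 0, 11, 1, 2, 5, 11, 10, 10, 4, 3, 0, 10, 1, 10, 6, 3, 6, 9, 0]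
def rw1886 : List ℕ := [3, 6, 0, 10, 5, 11, 1, 7, 2, 11, 9, 11, 3, 7, 8, 5, 0, 2, 8, 1, 6, 4, 7, 0, 9, 3, 1, 4, 9, 6, 2, 10, 8, 10]
def rw1887 : List ℕ := [3, 0, 10, 1, 10, 6, 3, 6, 9, 0, 3, 7, 7, 8, 8, 9, 6, 6, 2, 1, 8, 7, 2, 7, 11, 0, 11, 1, 2, 5, 11, 9, 10, 4]
def rw1888 : List ℕ := [3, 1, 3, 0, 0, 3, 11, 7, 9, 0, 8, 7, 0, 0, 0, 6, 6, 10]
def rw1889 : List ℕ := [3, 9, 3, 5, 0, 4, 2, 8, 1, 11, 3, 3, 5, 7, 9, 10, 0]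
def rw1890 : List ℕ := [3, 7, 4, 11, 4, 3, 5, 8, 2, 5, 10, 6, 5, 3, 8, 0, 7, 4]
def rw1891 : List ℕ := [3, 8, 7, 1, 2, 4, 10, 4, 1, 7, 4, 1, 7, 11, 6, 8, 2, 4]
def rw1892 : List ℕ := [3, 8, 7, 10, 6, 11, 6, 9, 2, 9, 11, 0, 4, 1, 7, 9, 0, 5, 6, 8, 7, 9, 7, 4, 1, 8, 6, 0, 5, 1, 10, 8]
def rw1893 : List ℕ := [3, 10, 4, 4, 2, 4, 4, 2, 11, 0, 6, 4, 8, 6, 1, 9, 3, 8]
def rw1894 : List ℕ := [3, 5, 11, 9, 3, 0, 6, 1, 6, 9, 2, 1, 8, 10, 2, 0, 7, 0]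
def rw1895 : List ℕ := [3, 7, 7, 8, 10, 4, 3, 0, 10, 1, 10, 0, 11, 0, 11, 1, 2, 5, 11, 9, 6, 6, 2, 1, 8, 7, 2, 7, 1, 6, 3, 6, 9, 0]
def rw1896 : List ℕ := [3, 8, 7, 1, 2, 4, 10, 3, 1, 5, 3, 1, 4, 11, 6, 8, 2, 4]
def rw1897 : List ℕ := [3, 0, 6, 9, 2, 5, 3, 9, 7, 10, 3, 3, 5, 5, 3, 11, 5]
def rw1898 : List ℕ := [3, 7, 10, 1, 11, 8, 10, 0, 11, 6, 2, 4, 10, 8, 3, 8, 5, 1, 2, 8, 4, 2, 8, 9, 9, 3, 5, 9, 3, 0, 4, 9, 2, 9, 11, 5]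
def rw1899 : List ℕ := [3, 7, 7, 8, 4, 9, 6, 6, 2, 1, 8, 7, 2, 7, 11, 0, 11, 1, 2, 5, 11, 5, 10, 4, 3, 0, 10, 1, 10, 6, 3, 6, 9, 0]
def rw1900 : List ℕ := [3, 7, 10, 1, 11, 1, 10, 0, 11, 6, 2, 4, 10, 8, 3, 8, 5, 1, 2, 8, 4, 2, 8, 0, 9, 3, 5, 9, 3, 0, 4, 9, 2, 9, 11, 5]
def rw1901 : List ℕ := [3, 7, 8, 5, 0, 2, 8, 1, 6, 3, 7, 0, 9, 3, 1, 4, 9, 6, 2, 10, 8, 10, 3, 6, 0, 10, 2, 11, 1, 7, 2, 11, 9, 11]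
def rw1902 : List ℕ := [3, 8, 7, 10, 9, 7, 4, 1, 8, 6, 0, 5, 1, 10, 0, 4, 1, 7, 9, 0, 5, 6, 8, 11, 6, 9, 2, 9, 11, 11, 10, 8]
def rw1903 : List ℕ := [3, 6, 0, 10, 2, 11, 1, 7, 2, 11, 9, 11, 3, 7, 8, 5, 0, 2, 8, 1, 6, 3, 7, 0, 9, 3, 1, 4, 9, 6, 2, 10, 8, 10]
def rw1904 : List ℕ := [3, 8, 3, 10, 4, 2, 4, 4, 3, 3, 11, 0, 6, 4, 8, 6, 1, 9]
def rw1905 : List ℕ := [3, 6, 0, 10, 7, 0, 9, 3, 1, 4, 9, 6, 2, 3, 3, 7, 8, 5, 0, 2, 8, 1, 6, 11, 1, 7, 2, 11, 9, 11, 2, 10, 8, 10]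
def rw1906 : List ℕ := [3, 0, 10, 1, 10, 6, 3, 6, 9, 0, 3, 7, 7, 8, 7, 9, 6, 6, 2, 1, 8, 7, 2, 7, 11, 0, 11, 1, 2, 5, 11, 6, 10, 4]
def rw1907 : List ℕ := [3, 11, 7, 7, 1, 1, 1, 6, 9, 1, 8, 6, 10, 2, 1, 3, 1, 3]
def rw1908 : List ℕ := [3, 7, 10, 1, 11, 4, 10, 0, 11, 6, 2, 4, 10, 8, 3, 8, 5, 1, 2, 8, 4, 2, 8, 5, 9, 3, 5, 9, 3, 0, 4, 9, 2, 9, 11, 5]
def rw1909 : List ℕ := [3, 5, 9, 3, 0, 4, 9, 2, 9, 11, 5, 3, 7, 10, 1, 11, 3, 10, 0, 11, 6, 2, 4, 10, 8, 3, 8, 5, 1, 2, 8, 4, 2, 8, 2, 9]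
def rw1910 : List ℕ := [3, 6, 10, 4, 7, 3, 8, 0, 0, 9, 2, 6, 3, 11, 9, 3, 6, 3]
def rw1911 : List ℕ := [3, 6, 9, 0, 3, 7, 7, 8, 2, 9, 6, 6, 2, 1, 8, 7, 2, 7, 11, 0, 11, 1, 2, 5, 11, 3, 10, 4, 3, 0, 10, 1, 10, 6]
def rw1912 : List ℕ := [3, 1, 3, 0, 3, 3, 11, 7, 7, 1, 1, 1, 6, 9, 1, 8, 6, 10]
def rw1913 : List ℕ := [3, 8, 5, 1, 2, 8, 4, 2, 8, 10, 9, 3, 5, 9, 3, 0, 4, 9, 2, 9, 11, 5, 3, 7, 10, 1, 11, 11, 10, 0, 11, 6, 2, 4, 10, 8]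
def rw1914 : List ℕ := [3, 10, 4, 3, 4, 6, 2, 1, 11, 6, 8, 0, 6, 8, 0, 6, 8, 0]
def rw1915 : List ℕ := [3, 1, 3, 3, 11, 7, 7, 1, 1, 1, 6, 9, 1, 8, 6, 10, 2, 1]
def rw1916 : List ℕ := [3, 8, 5, 1, 2, 8, 4, 2, 8, 8, 9, 3, 5, 9, 3, 0, 4, 9, 2, 9, 11, 5, 3, 7, 10, 1, 11, 9, 10, 0, 11, 6, 2, 4, 10, 8]
def rw1917 : List ℕ := [3, 8, 7, 10, 9, 7, 4, 1, 8, 6, 0, 5, 1, 2, 0, 4, 1, 7, 9, 0, 5, 6, 8, 11, 6, 9, 2, 9, 11, 3, 10, 8]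
def rw1918 : List ℕ := [3, 6, 0, 10, 6, 11, 1, 7, 2, 11, 9, 11, 3, 7, 8, 5, 0, 2, 8, 1, 6, 7, 7, 0, 9, 3, 1, 4, 9, 6, 2, 10, 8, 10]
def rw1919 : List ℕ := [3, 7, 8, 5, 0, 2, 8, 1, 6, 8, 7, 0, 9, 3, 1, 4, 9, 6, 2, 10, 8, 10, 3, 6, 0, 10, 9, 11, 1, 7, 2, 11, 9, 11]
def rw1920 : List ℕ := [3, 0, 10, 1, 10, 9, 11, 0, 11, 1, 2, 5, 11, 9, 6, 6, 2, 1, 8, 7, 2, 7, 8, 6, 3, 6, 9, 0, 3, 7, 7, 8, 10, 4]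
def rw1921 : List ℕ := [3, 0, 10, 1, 10, 6, 11, 0, 11, 1, 2, 5, 11, 9, 6, 6, 2, 1, 8, 7, 2, 7, 7, 6, 3, 6, 9, 0, 3, 7, 7, 8, 10, 4]
def rw1922 : List ℕ := [3, 7, 8, 5, 0, 2, 8, 1, 6, 0, 7, 0, 9, 3, 1, 4, 9, 6, 2, 10, 8, 10, 3, 6, 0, 10, 1, 11, 1, 7, 2, 11, 9, 11]
def rw1923 : List ℕ := [3, 9, 5, 6, 1, 7, 4, 8, 2, 9, 1, 5, 9, 9, 0, 11, 11, 11, 6, 6, 0, 11, 0, 10, 1, 7, 7, 10, 10, 10, 1, 8, 8, 4, 0, 8]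
def rw1924 : List ℕ := [3, 5, 5, 0, 8, 10, 7, 3, 5, 7, 5, 0, 11, 1, 3, 8, 6]
def rw1925 : List ℕ := [3, 8, 7, 10, 9, 11, 6, 9, 2, 9, 11, 0, 4, 1, 7, 9, 0, 5, 6, 8, 8, 9, 7, 4, 1, 8, 6, 0, 5, 1, 10, 8]
def rw1926 : List ℕ := [3, 1, 4, 9, 6, 2, 10, 3, 7, 8, 5, 0, 2, 8, 1, 6, 11, 1, 7, 2, 11, 9, 11, 11, 10, 8, 10, 3, 6, 0, 10, 7, 0, 9]
def rw1927 : List ℕ := [3, 5, 5, 2, 11, 0, 6, 4, 8, 6, 1, 9, 3, 8, 3, 10, 5, 5]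
def rw1928 : List ℕ := [3, 9, 5, 6, 4, 7, 4, 8, 2, 9, 1, 5, 9, 9, 0, 11, 11, 11, 6, 6, 0, 11, 5, 10, 1, 7, 7, 10, 10, 10, 1, 8, 8, 4, 0, 8]
def rw1929 : List ℕ := [3, 6, 9, 0, 3, 7, 7, 8, 10, 4, 3, 0, 10, 1, 10, 1, 11, 0, 11, 1, 2, 5, 11, 9, 6, 6, 2, 1, 8, 7, 2, 7, 0, 6]
def rw1930 : List ℕ := [3, 9, 7, 10, 7, 7, 2, 7, 3, 7, 11, 5, 3, 0, 6, 9, 2, 5]
def rw1931 : List ℕ := [3, 5, 5, 3, 5, 5, 11, 2, 9, 2, 8, 0, 7, 9, 5, 7, 1, 10]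
def rw1932 : List ℕ := [3, 8, 7, 10, 9, 7, 4, 1, 8, 6, 0, 5, 1, 7, 0, 4, 1, 7, 9, 0, 5, 6, 8, 11, 6, 9, 2, 9, 11, 6, 10, 8]
def rw1933 : List ℕ := [3, 0, 10, 1, 10, 6, 3, 6, 9, 0, 3, 7, 7, 8, 3, 9, 6, 6, 2, 1, 8, 7, 2, 7, 11, 0, 11, 1, 2, 5, 11, 2, 10, 4]
def rw1934 : List ℕ := [3, 6, 0, 10, 7, 0, 9, 3, 1, 4, 9, 6, 2, 10, 3, 7, 8, 5, 0, 2, 8, 1, 6, 11, 1, 7, 2, 11, 9, 11, 11, 10, 8, 10]
def rw1935 : List ℕ := [3, 0, 6, 9, 2, 5, 3, 9, 7, 10, 6, 0, 5, 6, 0, 5, 11, 5]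
def rw1936 : List ℕ := [3, 9, 7, 10, 4, 1, 5, 1, 4, 0, 11, 5, 3, 0, 6, 9, 2, 5]
def rw1937 : List ℕ := [3, 7, 8, 5, 0, 2, 8, 1, 6, 6, 7, 0, 9, 3, 1, 4, 9, 6, 2, 10, 8, 10, 3, 6, 0, 10, 7, 11, 1, 7, 2, 11, 9, 11]
def rw1938 : List ℕ := [3, 8, 3, 10, 7, 2, 5, 3, 7, 3, 11, 0, 6, 4, 8, 6, 1, 9]
def rw1939 : List ℕ := [3, 11, 7, 7, 1, 1, 1, 6, 9, 1, 8, 6, 10, 0, 2, 0, 0, 3]
def rw1940 : List ℕ := [3, 8, 3, 10, 4, 4, 2, 4, 4, 2, 11, 0, 6, 4, 8, 6, 1, 9]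
def rw1941 : List ℕ := [3, 6, 9, 0, 3, 7, 7, 8, 11, 9, 6, 6, 2, 1, 8, 7, 2, 7, 11, 0, 11, 1, 2, 5, 11, 10, 10, 4, 3, 0, 10, 1, 10, 6]
def rw1942 : List ℕ := [3, 8, 3, 10, 3, 6, 4, 4, 6, 11, 0, 6, 4, 8, 6, 1, 9]
def rw1943 : List ℕ := [3, 6, 0, 10, 7, 0, 9, 3, 1, 4, 9, 6, 2, 8, 3, 7, 8, 5, 0, 2, 8, 1, 6, 11, 1, 7, 2, 11, 9, 11, 9, 10, 8, 10]
def rw1944 : List ℕ := [3, 0, 10, 1, 10, 6, 3, 6, 9, 0, 3, 7, 7, 8, 2, 9, 6, 6, 2, 1, 8, 7, 2, 7, 11, 0, 11, 1, 2, 5, 11, 3, 10, 4]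
def rw1945 : List ℕ := [3, 1, 4, 9, 6, 2, 10, 8, 10, 3, 6, 0, 10, 8, 11, 1, 7, 2, 11, 9, 11, 3, 7, 8, 5, 0, 2, 8, 1, 6, 9, 7, 0, 9]
def rw1946 : List ℕ := [3, 7, 8, 5, 0, 2, 8, 1, 6, 9, 7, 0, 9, 3, 1, 4, 9, 6, 2, 10, 8, 10, 3, 6, 0, 10, 8, 11, 1, 7, 2, 11, 9, 11]
def rw1947 : List ℕ := [3, 8, 7, 10, 5, 11, 6, 9, 2, 9, 11, 0, 4, 1, 7, 9, 0, 5, 6, 8, 4, 9, 7, 4, 1, 8, 6, 0, 5, 1, 10, 8]
def rw1948 : List ℕ := [3, 6, 0, 10, 7, 11, 1, 7, 2, 11, 9, 11, 3, 7, 8, 5, 0, 2, 8, 1, 6, 6, 7, 0, 9, 3, 1, 4, 9, 6, 2, 10, 8, 10]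
def rw1949 : List ℕ := [3, 9, 7, 10, 5, 0, 2, 4, 0, 2, 11, 5, 3, 0, 6, 9, 2, 5]
def rw1950 : List ℕ := [3, 0, 10, 1, 10, 7, 11, 0, 11, 1, 2, 5, 11, 9, 6, 6, 2, 1, 8, 7, 2, 7, 6, 6, 3, 6, 9, 0, 3, 7, 7, 8, 10, 4]
def rw1951 : List ℕ := [3, 8, 7, 10, 9, 7, 4, 1, 8, 6, 0, 5, 1, 4, 0, 4, 1, 7, 9, 0, 5, 6, 8, 11, 6, 9, 2, 9, 11, 5, 10, 8]
def rw1952 : List ℕ := [3, 8, 7, 10, 2, 11, 6, 9, 2, 9, 11, 0, 4, 1, 7, 9, 0, 5, 6, 8, 3, 9, 7, 4, 1, 8, 6, 0, 5, 1, 10, 8]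
def rw1953 : List ℕ := [3, 5, 5, 0, 8, 10, 4, 4, 3, 7, 4, 0, 11, 1, 3, 8, 6]
def rw1954 : List ℕ := [3, 6, 0, 10, 7, 0, 9, 3, 1, 4, 9, 6, 2, 0, 3, 7, 8, 5, 0, 2, 8, 1, 6, 11, 1, 7, 2, 11, 9, 11, 1, 10, 8, 10]
def rw1955 : List ℕ := [3, 9, 0, 8, 0, 10, 5, 5, 5, 0, 5, 0, 11, 9, 4, 4, 8, 3]
def rw1956 : List ℕ := [3, 0, 10, 1, 10, 10, 11, 0, 11, 1, 2, 5, 11, 9, 6, 6, 2, 1, 8, 7, 2, 7, 11, 6, 3, 6, 9, 0, 3, 7, 7, 8, 10, 4]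
def rw1957 : List ℕ := [3, 6, 0, 10, 0, 11, 1, 7, 2, 11, 9, 11, 3, 7, 8, 5, 0, 2, 8, 1, 6, 1, 7, 0, 9, 3, 1, 4, 9, 6, 2, 10, 8, 10]
def rw1958 : List ℕ := [3, 9, 7, 10, 7, 7, 4, 3, 5, 6, 11, 5, 3, 0, 6, 9, 2, 5]
def rw1959 : List ℕ := [3, 5, 9, 3, 0, 4, 9, 2, 9, 11, 5, 3, 7, 10, 1, 11, 9, 10, 0, 11, 6, 2, 4, 10, 8, 3, 8, 5, 1, 2, 8, 4, 2, 8, 8, 9]
def rw1960 : List ℕ := [3, 0, 10, 1, 10, 6, 3, 6, 9, 0, 3, 7, 7, 8, 9, 9, 6, 6, 2, 1, 8, 7, 2, 7, 11, 0, 11, 1, 2, 5, 11, 8, 10, 4]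
def rw1961 : List ℕ := [3, 6, 0, 10, 7, 0, 9, 3, 1, 4, 9, 6, 2, 6, 3, 7, 8, 5, 0, 2, 8, 1, 6, 11, 1, 7, 2, 11, 9, 11, 7, 10, 8, 10]
def rw1962 : List ℕ := [3, 8, 5, 1, 2, 8, 4, 2, 8, 11, 9, 3, 5, 9, 3, 0, 4, 9, 2, 9, 11, 5, 3, 7, 10, 1, 11, 10, 10, 0, 11, 6, 2, 4, 10, 8]
def rw1963 : List ℕ := [3, 8, 7, 1, 2, 4, 10, 3, 4, 4, 4, 4, 4, 11, 6, 8, 2, 4]
def rw1964 : List ℕ := [3, 6, 9, 0, 3, 7, 7, 8, 10, 4, 3, 0, 10, 1, 10, 3, 11, 0, 11, 1, 2, 5, 11, 9, 6, 6, 2, 1, 8, 7, 2, 7, 2, 6]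
def rw1965 : List ℕ := [3, 6, 9, 0, 3, 7, 7, 8, 10, 9, 6, 6, 2, 1, 8, 7, 2, 7, 11, 0, 11, 1, 2, 5, 11, 11, 10, 4, 3, 0, 10, 1, 10, 6]
def rw1966 : List ℕ := [3, 0, 10, 1, 10, 6, 3, 6, 9, 0, 3, 7, 7, 8, 4, 9, 6, 6, 2, 1, 8, 7, 2, 7, 11, 0, 11, 1, 2, 5, 11, 5, 10, 4]
def rw1967 : List ℕ := [3, 9, 7, 10, 4, 0, 0, 5, 2, 1, 11, 5, 3, 0, 6, 9, 2, 5]
def rw1968 : List ℕ := [3, 9, 5, 6, 3, 7, 4, 8, 2, 9, 1, 5, 9, 9, 0, 11, 11, 11, 6, 6, 0, 11, 2, 10, 1, 7, 7, 10, 10, 10, 1, 8, 8, 4, 0, 8]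
def rw1969 : List ℕ := [3, 8, 7, 1, 2, 4, 10, 3, 5, 5, 11, 6, 8, 2, 4]
def rw1970 : List ℕ := [3, 11, 7, 7, 1, 1, 1, 6, 9, 1, 8, 6, 10, 2, 1, 1, 3, 1]
def rw1971 : List ℕ := [3, 1, 4, 9, 6, 2, 0, 3, 7, 8, 5, 0, 2, 8, 1, 6, 11, 1, 7, 2, 11, 9, 11, 1, 10, 8, 10, 3, 6, 0, 10, 7, 0, 9]
def rw1972 : List ℕ := [3, 7, 8, 5, 0, 2, 8, 1, 6, 2, 7, 0, 9, 3, 1, 4, 9, 6, 2, 10, 8, 10, 3, 6, 0, 10, 3, 11, 1, 7, 2, 11, 9, 11]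
def rw1973 : List ℕ := [3, 0, 10, 1, 10, 8, 11, 0, 11, 1, 2, 5, 11, 9, 6, 6, 2, 1, 8, 7, 2, 7, 9, 6, 3, 6, 9, 0, 3, 7, 7, 8, 10, 4]
def rw1974 : List ℕ := [3, 6, 9, 0, 3, 7, 7, 8, 3, 9, 6, 6, 2, 1, 8, 7, 2, 7, 11, 0, 11, 1, 2, 5, 11, 2, 10, 4, 3, 0, 10, 1, 10, 6]
def rw1975 : List ℕ := [3, 8, 7, 10, 11, 11, 6, 9, 2, 9, 11, 0, 4, 1, 7, 9, 0, 5, 6, 8, 10, 9, 7, 4, 1, 8, 6, 0, 5, 1, 10, 8]
def rw1976 : List ℕ := [3, 7, 7, 8, 10, 9, 6, 6, 2, 1, 8, 7, 2, 7, 11, 0, 11, 1, 2, 5, 11, 11, 10, 4, 3, 0, 10, 1, 10, 6, 3, 6, 9, 0]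
def rw1977 : List ℕ := [3, 0, 10, 1, 10, 3, 11, 0, 11, 1, 2, 5, 11, 9, 6, 6, 2, 1, 8, 7, 2, 7, 2, 6, 3, 6, 9, 0, 3, 7, 7, 8, 10, 4]
def rw1978 : List ℕ := [3, 7, 7, 8, 2, 9, 6, 6, 2, 1, 8, 7, 2, 7, 11, 0, 11, 1, 2, 5, 11, 3, 10, 4, 3, 0, 10, 1, 10, 6, 3, 6, 9, 0]
def rw1979 : List ℕ := [3, 1, 4, 9, 6, 2, 10, 8, 10, 3, 6, 0, 10, 5, 11, 1, 7, 2, 11, 9, 11, 3, 7, 8, 5, 0, 2, 8, 1, 6, 4, 7, 0, 9]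
def rw1980 : List ℕ := [3, 7, 10, 1, 11, 6, 10, 0, 11, 6, 2, 4, 10, 8, 3, 8, 5, 1, 2, 8, 4, 2, 8, 7, 9, 3, 5, 9, 3, 0, 4, 9, 2, 9, 11, 5]
def rw1981 : List ℕ := [3, 8, 5, 1, 2, 8, 4, 2, 8, 2, 9, 3, 5, 9, 3, 0, 4, 9, 2, 9, 11, 5, 3, 7, 10, 1, 11, 3, 10, 0, 11, 6, 2, 4, 10, 8]
def rw1982 : List ℕ := [3, 8, 5, 1, 2, 8, 4, 2, 8, 1, 9, 3, 5, 9, 3, 0, 4, 9, 2, 9, 11, 5, 3, 7, 10, 1, 11, 0, 10, 0, 11, 6, 2, 4, 10, 8]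
def rw1983 : List ℕ := [3, 0, 10, 1, 10, 6, 3, 6, 9, 0, 3, 7, 7, 8, 0, 9, 6, 6, 2, 1, 8, 7, 2, 7, 11, 0, 11, 1, 2, 5, 11, 1, 10, 4]
def rw1984 : List ℕ := [3, 10, 7, 2, 5, 3, 7, 3, 11, 0, 6, 4, 8, 6, 1, 9, 3, 8]
def rw1985 : List ℕ := [3, 9, 7, 10, 3, 3, 5, 5, 3, 11, 5, 3, 0, 6, 9, 2, 5]
def rw1986 : List ℕ := [3, 6, 0, 10, 7, 0, 9, 3, 1, 4, 9, 6, 2, 4, 3, 7, 8, 5, 0, 2, 8, 1, 6, 11, 1, 7, 2, 11, 9, 11, 5, 10, 8, 10]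
def rw1987 : List ℕ := [3, 7, 8, 5, 0, 2, 8, 1, 6, 10, 7, 0, 9, 3, 1, 4, 9, 6, 2, 10, 8, 10, 3, 6, 0, 10, 11, 11, 1, 7, 2, 11, 9, 11]
def rw1988 : List ℕ := [3, 7, 10, 1, 11, 7, 10, 0, 11, 6, 2, 4, 10, 8, 3, 8, 5, 1, 2, 8, 4, 2, 8, 6, 9, 3, 5, 9, 3, 0, 4, 9, 2, 9, 11, 5]
def rw1989 : List ℕ := [3, 0, 6, 9, 2, 5, 3, 9, 7, 10, 7, 7, 2, 7, 3, 7, 11, 5]
def rw1990 : List ℕ := [3, 7, 8, 5, 0, 2, 8, 1, 6, 11, 7, 0, 9, 3, 1, 4, 9, 6, 2, 10, 8, 10, 3, 6, 0, 10, 10, 11, 1, 7, 2, 11, 9, 11]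
def rw1991 : List ℕ := [3, 1, 4, 9, 6, 2, 4, 3, 7, 8, 5, 0, 2, 8, 1, 6, 11, 1, 7, 2, 11, 9, 11, 5, 10, 8, 10, 3, 6, 0, 10, 7, 0, 9]
def rw1992 : List ℕ := [3, 8, 7, 1, 2, 4, 10, 3, 6, 4, 4, 6, 11, 6, 8, 2, 4]
def rw1993 : List ℕ := [3, 1, 4, 9, 6, 2, 11, 3, 7, 8, 5, 0, 2, 8, 1, 6, 11, 1, 7, 2, 11, 9, 11, 10, 10, 8, 10, 3, 6, 0, 10, 7, 0, 9]
def rw1994 : List ℕ := [3, 0, 4, 9, 2, 9, 11, 5, 3, 7, 10, 1, 11, 7, 10, 0, 11, 6, 2, 4, 10, 8, 3, 8, 5, 1, 2, 8, 4, 2, 8, 6, 9, 3, 5, 9]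
def rw1995 : List ℕ := [3, 1, 4, 9, 6, 2, 10, 8, 10, 3, 6, 0, 10, 6, 11, 1, 7, 2, 11, 9, 11, 3, 7, 8, 5, 0, 2, 8, 1, 6, 7, 7, 0, 9]
def rw1996 : List ℕ := [3, 1, 4, 9, 6, 2, 8, 3, 7, 8, 5, 0, 2, 8, 1, 6, 11, 1, 7, 2, 11, 9, 11, 9, 10, 8, 10, 3, 6, 0, 10, 7, 0, 9]
def rw1997 : List ℕ := [3, 8, 5, 1, 2, 8, 4, 2, 8, 7, 9, 3, 5, 9, 3, 0, 4, 9, 2, 9, 11, 5, 3, 7, 10, 1, 11, 6, 10, 0, 11, 6, 2, 4, 10, 8]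
def rw1998 : List ℕ := [3, 7, 8, 5, 0, 2, 8, 1, 6, 1, 7, 0, 9, 3, 1, 4, 9, 6, 2, 10, 8, 10, 3, 6, 0, 10, 0, 11, 1, 7, 2, 11, 9, 11]
def rw1999 : List ℕ := [3, 1, 4, 9, 6, 2, 5, 3, 7, 8, 5, 0, 2, 8, 1, 6, 11, 1, 7, 2, 11, 9, 11, 4, 10, 8, 10, 3, 6, 0, 10, 7, 0, 9]
def rw2000 : List ℕ := [3, 1, 4, 9, 6, 2, 1, 3, 7, 8, 5, 0, 2, 8, 1, 6, 11, 1, 7, 2, 11, 9, 11, 0, 10, 8, 10, 3, 6, 0, 10, 7, 0, 9]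
def rw2001 : List ℕ := [3, 1, 4, 9, 6, 2, 10, 8, 10, 3, 6, 0, 10, 9, 11, 1, 7, 2, 11, 9, 11, 3, 7, 8, 5, 0, 2, 8, 1, 6, 8, 7, 0, 9]
def rw2002 : List ℕ := [3, 6, 0, 10, 7, 0, 9, 3, 1, 4, 9, 6, 2, 9, 3, 7, 8, 5, 0, 2, 8, 1, 6, 11, 1, 7, 2, 11, 9, 11, 8, 10, 8, 10]
def rw2003 : List ℕ := [3, 8, 3, 10, 4, 4, 3, 5, 5, 3, 11, 0, 6, 4, 8, 6, 1, 9]
def rw2004 : List ℕ := [3, 6, 9, 0, 3, 7, 7, 8, 10, 4, 3, 0, 10, 1, 10, 9, 11, 0, 11, 1, 2, 5, 11, 9, 6, 6, 2, 1, 8, 7, 2, 7, 8, 6]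
def rw2005 : List ℕ := [3, 1, 4, 9, 6, 2, 10, 8, 10, 3, 6, 0, 10, 11, 11, 1, 7, 2, 11, 9, 11, 3, 7, 8, 5, 0, 2, 8, 1, 6, 10, 7, 0, 9]
def rw2006 : List ℕ := [3, 8, 6, 3, 5, 5, 0, 8, 10, 7, 3, 4, 6, 4, 0, 11, 1]
def rw2007 : List ℕ := [3, 0, 4, 9, 2, 9, 11, 5, 3, 7, 10, 1, 11, 1, 10, 0, 11, 6, 2, 4, 10, 8, 3, 8, 5, 1, 2, 8, 4, 2, 8, 0, 9, 3, 5, 9]
def rw2008 : List ℕ := [3, 7, 8, 5, 0, 2, 8, 1, 6, 11, 1, 7, 2, 11, 9, 11, 10, 10, 8, 10, 3, 6, 0, 10, 7, 0, 9, 3, 1, 4, 9, 6, 2, 11]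
def rw2009 : List ℕ := [3, 7, 8, 5, 0, 2, 8, 1, 6, 11, 1, 7, 2, 11, 9, 11, 11, 10, 8, 10, 3, 6, 0, 10, 7, 0, 9, 3, 1, 4, 9, 6, 2, 10]
def rw2010 : List ℕ := [3, 0, 10, 1, 10, 6, 3, 6, 9, 0, 3, 7, 7, 8, 10, 9, 6, 6, 2, 1, 8, 7, 2, 7, 11, 0, 11, 1, 2, 5, 11, 11, 10, 4]
def rw2011 : List ℕ := [3, 7, 7, 8, 10, 4, 3, 0, 10, 1, 10, 9, 11, 0, 11, 1, 2, 5, 11, 9, 6, 6, 2, 1, 8, 7, 2, 7, 8, 6, 3, 6, 9, 0]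
def rw2012 : List ℕ := [3, 9, 5, 6, 7, 7, 4, 8, 2, 9, 1, 5, 9, 9, 0, 11, 11, 11, 6, 6, 0, 11, 6, 10, 1, 7, 7, 10, 10, 10, 1, 8, 8, 4, 0, 8]
def rw2013 : List ℕ := [3, 9, 0, 8, 0, 10, 1, 5, 0, 3, 4, 1, 11, 9, 4, 4, 8, 3]
def rw2014 : List ℕ := [3, 10, 3, 4, 1, 5, 3, 1, 11, 0, 6, 4, 8, 6, 1, 9, 3, 8]
def rw2015 : List ℕ := [3, 8, 7, 1, 2, 4, 10, 5, 2, 4, 4, 3, 11, 6, 8, 2, 4]
def rw2016 : List ℕ := [3, 1, 4, 9, 6, 2, 6, 3, 7, 8, 5, 0, 2, 8, 1, 6, 11, 1, 7, 2, 11, 9, 11, 7, 10, 8, 10, 3, 6, 0, 10, 7, 0, 9]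
def rw2017 : List ℕ := [3, 11, 6, 9, 2, 9, 11, 0, 4, 1, 7, 9, 0, 5, 6, 8, 2, 9, 7, 4, 1, 8, 6, 0, 5, 1, 10, 8, 3, 8, 7, 10]
def rw2018 : List ℕ := [3, 1, 4, 9, 6, 2, 10, 8, 10, 3, 6, 0, 10, 10, 11, 1, 7, 2, 11, 9, 11, 3, 7, 8, 5, 0, 2, 8, 1, 6, 11, 7, 0, 9]
def rw2019 : List ℕ := [3, 6, 0, 10, 4, 11, 1, 7, 2, 11, 9, 11, 3, 7, 8, 5, 0, 2, 8, 1, 6, 5, 7, 0, 9, 3, 1, 4, 9, 6, 2, 10, 8, 10]
def rw2020 : List ℕ := [3, 5, 9, 3, 0, 4, 9, 2, 9, 11, 5, 3, 7, 10, 1, 11, 11, 10, 0, 11, 6, 2, 4, 10, 8, 3, 8, 5, 1, 2, 8, 4, 2, 8, 10, 9]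
def rw2021 : List ℕ := [3, 1, 4, 9, 6, 2, 7, 3, 7, 8, 5, 0, 2, 8, 1, 6, 11, 1, 7, 2, 11, 9, 11, 6, 10, 8, 10, 3, 6, 0, 10, 7, 0, 9]
def rw2022 : List ℕ := [3, 8, 5, 1, 2, 8, 4, 2, 8, 6, 9, 3, 5, 9, 3, 0, 4, 9, 2, 9, 11, 5, 3, 7, 10, 1, 11, 7, 10, 0, 11, 6, 2, 4, 10, 8]
def rw2023 : List ℕ := [3, 7, 8, 5, 0, 2, 8, 1, 6, 11, 1, 7, 2, 11, 9, 11, 7, 10, 8, 10, 3, 6, 0, 10, 7, 0, 9, 3, 1, 4, 9, 6, 2, 6]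
def rw2024 : List ℕ := [3, 8, 5, 1, 2, 8, 4, 2, 8, 0, 9, 3, 5, 9, 3, 0, 4, 9, 2, 9, 11, 5, 3, 7, 10, 1, 11, 1, 10, 0, 11, 6, 2, 4, 10, 8]
def rw2025 : List ℕ := [3, 6, 9, 0, 3, 7, 7, 8, 4, 9, 6, 6, 2, 1, 8, 7, 2, 7, 11, 0, 11, 1, 2, 5, 11, 5, 10, 4, 3, 0, 10, 1, 10, 6]
def rw2026 : List ℕ := [3, 7, 8, 5, 0, 2, 8, 1, 6, 11, 1, 7, 2, 11, 9, 11, 9, 10, 8, 10, 3, 6, 0, 10, 7, 0, 9, 3, 1, 4, 9, 6, 2, 8]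
def rw2027 : List ℕ := [3, 7, 8, 5, 0, 2, 8, 1, 6, 11, 1, 7, 2, 11, 9, 11, 1, 10, 8, 10, 3, 6, 0, 10, 7, 0, 9, 3, 1, 4, 9, 6, 2, 0]
def rw2028 : List ℕ := [3, 7, 8, 5, 0, 2, 8, 1, 6, 11, 1, 7, 2, 11, 9, 11, 2, 10, 8, 10, 3, 6, 0, 10, 7, 0, 9, 3, 1, 4, 9, 6, 2, 3]
def rw2029 : List ℕ := [3, 7, 8, 5, 0, 2, 8, 1, 6, 11, 1, 7, 2, 11, 9, 11, 0, 10, 8, 10, 3, 6, 0, 10, 7, 0, 9, 3, 1, 4, 9, 6, 2, 1]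
def rw2030 : List ℕ := [4, 2, 11, 5, 3, 0, 6, 9, 2, 5, 3, 9, 7, 10, 4]
def rw2031 : List ℕ := [4, 0, 3, 4, 0, 3, 0, 4]
def rw2032 : List ℕ := [4, 0, 3, 5, 1, 5, 1]
def rw2033 : List ℕ := [4, 4, 3, 11, 0, 6, 4, 8, 6, 1, 9, 3, 8, 3, 10, 5, 2]
def rw2034 : List ℕ := [4, 2, 2, 10, 0, 9, 3, 5, 1, 4, 2, 8, 2, 1, 11, 8, 6]
def rw2035 : List ℕ := [4, 3, 4, 3, 4, 3]
def rw2036 : List ℕ := [4, 2, 2, 4, 3, 3, 5, 3, 3]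
def rw2037 : List ℕ := [4, 1, 1, 4, 2, 0, 3]
def rw2038 : List ℕ := [4, 2, 1, 5, 0, 4, 0]
def rw2039 : List ℕ := [4, 3, 4, 3, 4, 3]
def rw2040 : List ℕ := [4, 6, 4, 7, 5, 7]
def rw2041 : List ℕ := [4, 7, 4, 7, 4, 7, 4, 7]
def rw2042 : List ℕ := [4, 2, 0, 3, 4, 1, 1]
def rw2043 : List ℕ := [4, 4, 1, 5, 3, 1, 4]
def rw2044 : List ℕ := [4, 3, 3, 3, 4, 2, 2, 2, 2]
def rw2045 : List ℕ := [4, 2, 6, 11, 9, 1, 4, 4, 2, 7, 9, 2, 0, 10, 1, 4, 6]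
def rw2046 : List ℕ := [4, 3, 3, 5, 3, 3, 4, 2, 2]
def rw2047 : List ℕ := [4, 2, 6, 0, 4, 2, 6, 0]
def rw2048 : List ℕ := [4, 2, 6, 5, 5, 6, 3, 6, 5, 6]
def rw2049 : List ℕ := [4, 0, 3, 0, 4, 4, 0, 3]
def rw2050 : List ℕ := [4, 7, 5, 7, 4, 6]
def rw2051 : List ℕ := [4, 3, 6, 11, 2, 9, 2, 8, 0, 7, 9, 5, 7, 1, 10, 2, 6, 2]
def rw2052 : List ℕ := [4, 0, 4, 2, 1, 5, 0]
def rw2053 : List ℕ := [4, 7, 4, 7, 4, 7, 4, 7]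
def rw2054 : List ℕ := [4, 4, 3, 4, 4, 4, 3, 4]
def rw2055 : List ℕ := [4, 1, 7, 11, 6, 8, 2, 4, 3, 8, 7, 1, 2, 4, 10, 4, 1, 7]
def rw2056 : List ℕ := [4, 6, 4, 4, 6, 4]
def rw2057 : List ℕ := [4, 6, 5, 7, 5, 6]
def rw2058 : List ℕ := [4, 4, 4, 4, 4, 4, 4]
def rw2059 : List ℕ := [4, 3, 4, 4, 4, 3, 4, 4]
def rw2060 : List ℕ := [4, 7, 5, 7, 7, 7, 5, 7]
def rw2061 : List ℕ := [4, 0, 5, 5, 5, 0, 2]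
def rw2062 : List ℕ := [4, 7, 4, 7, 4, 7, 4, 7]
def rw2063 : List ℕ := [4, 4, 4, 3, 4, 4, 4, 3]
def rw2064 : List ℕ := [4, 2, 5, 2, 7, 3, 7, 7]
def rw2065 : List ℕ := [4, 7, 8, 11, 3, 8, 1, 3, 1, 6, 1, 7, 9, 2, 10, 9, 4, 0]
def rw2066 : List ℕ := [4, 4, 4, 4, 4, 4, 4]
def rw2067 : List ℕ := [4, 1, 5, 3, 1, 4, 4]
def rw2068 : List ℕ := [4, 2, 8, 10, 1, 2, 9, 1, 5, 8, 4, 1, 3, 0, 11, 2, 0, 7]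
def rw2069 : List ℕ := [4, 0, 9, 10, 1, 9, 1, 6, 9, 9, 2, 6, 5, 9, 11, 4, 0, 7]
def rw2070 : List ℕ := [4, 3, 7, 10, 1, 5, 1, 9, 0, 7, 9, 6, 1, 2, 11, 4, 2, 8]
def rw2071 : List ℕ := [4, 4, 6, 4, 4, 6]
def rw2072 : List ℕ := [4, 2, 2, 5, 3, 3, 5, 2, 2]
def rw2073 : List ℕ := [4, 4, 4, 1, 5, 3, 1]
def rw2074 : List ℕ := [4, 9, 6, 6, 9, 9, 4, 4, 7, 7]
def rw2075 : List ℕ := [4, 4, 4, 4, 4, 4, 4]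
def rw2076 : List ℕ := [4, 4, 6, 4, 4, 6]
def rw2077 : List ℕ := [4, 9, 4, 4, 9, 4, 4, 9, 4]
def rw2078 : List ℕ := [4, 7, 2, 7, 4, 4, 7, 3, 5, 7]
def rw2079 : List ℕ := [4, 7, 2, 4, 6, 3, 7, 2]
def rw2080 : List ℕ := [4, 6, 3, 7, 2, 4, 7, 2]
def rw2081 : List ℕ := [4, 3, 4, 3, 4, 3]
def rw2082 : List ℕ := [4, 4, 7, 3, 5, 7, 4, 7, 2, 7]
def rw2083 : List ℕ := [4, 3, 5, 6, 6, 2, 6, 3]
def rw2084 : List ℕ := [4, 7, 7, 4, 9, 6, 6, 9, 9, 4]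
def rw2085 : List ℕ := [4, 4, 9, 4, 4, 9, 4, 4, 9]
def rw2086 : List ℕ := [4, 3, 5, 3, 8, 4, 3, 3, 6, 9]
def rw2087 : List ℕ := [4, 4, 0, 3, 4, 0, 3, 0]
def rw2088 : List ℕ := [4, 4, 3, 4, 6, 6, 2, 6]
def rw2089 : List ℕ := [4, 7, 3, 5, 7, 4, 7, 2, 7, 4]
def rw2090 : List ℕ := [4, 6, 4, 4, 6, 4]
def rw2091 : List ℕ := [4, 2, 5, 8, 7, 2, 2, 5, 9, 2]
def rw2092 : List ℕ := [4, 6, 4, 6, 4, 6]
def rw2093 : List ℕ := [4, 4, 4, 4, 4, 4, 4]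
def rw2094 : List ℕ := [4, 6, 4, 6, 4, 6]
def rw2095 : List ℕ := [4, 3, 3, 6, 9, 4, 3, 5, 3, 8]
def rw2096 : List ℕ := [4, 6, 5, 6, 4, 6, 6, 6]
def rw2097 : List ℕ := [4, 4, 4, 4, 4, 4, 4]
def rw2098 : List ℕ := [4, 9, 4, 4, 9, 4, 4, 9, 4]
def rw2099 : List ℕ := [4, 4, 4, 4, 4, 4, 4]
def rw2100 : List ℕ := [4, 6, 6, 2, 6, 4, 4, 3]
def rw2101 : List ℕ := [4, 2, 2, 2, 2, 4, 3, 3, 3]
def rw2102 : List ℕ := [4, 0, 2, 1, 8, 8, 8, 1, 2, 1, 8]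
def rw2103 : List ℕ := [4, 3, 4, 4, 4, 3, 4, 4]
def rw2104 : List ℕ := [4, 4, 7, 7, 4, 9, 6, 6, 9, 9]
def rw2105 : List ℕ := [4, 2, 6, 0, 4, 2, 6, 0]
def rw2106 : List ℕ := [4, 6, 6, 6, 4, 6, 5, 6]
def rw2107 : List ℕ := [4, 4, 2, 11, 2, 9, 2, 8, 0, 7, 9, 5, 7, 1, 10]
def rw2108 : List ℕ := [4, 4, 3, 4, 4, 4, 3, 4]
def rw2109 : List ℕ := [4, 3, 4, 6, 6, 2, 6, 4]
def rw2110 : List ℕ := [4, 2, 9, 0, 6, 11, 1, 6, 9, 9, 6, 0, 10, 8, 6, 1, 9]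
def rw2111 : List ℕ := [4, 1, 11, 9, 4, 4, 8, 3, 3, 9, 0, 8, 0, 10, 1, 5, 0, 3]
def rw2112 : List ℕ := [4, 6, 0, 0, 11, 2, 1, 8, 8, 0, 7, 2, 7, 9, 6, 10, 1, 1]
def rw2113 : List ℕ := [4, 8, 8, 3, 4, 0, 11, 5, 2, 6, 9, 3, 0, 9, 3, 9, 10]
def rw2114 : List ℕ := [4, 4, 11, 1, 9, 1, 8, 2, 2, 9, 5, 5, 8, 10, 1, 4, 1, 4]
def rw2115 : List ℕ := [4, 6, 0, 11, 1, 3, 8, 6, 3, 5, 5, 0, 8, 10, 7, 3, 6]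
def rw2116 : List ℕ := [4, 3, 0, 10, 1, 10, 0, 11, 0, 11, 1, 2, 5, 11, 9, 6, 6, 2, 1, 8, 7, 2, 7, 1, 6, 3, 6, 9, 0, 3, 7, 7, 8, 10]
def rw2117 : List ℕ := [4, 6, 4, 0, 11, 1, 3, 8, 6, 3, 5, 5, 0, 8, 10, 7, 3]
def rw2118 : List ℕ := [4, 8, 6, 1, 9, 3, 8, 3, 10, 7, 2, 5, 3, 7, 3, 11, 0, 6]
def rw2119 : List ℕ := [4, 2, 11, 2, 9, 2, 8, 0, 7, 9, 5, 7, 1, 10, 4]
def rw2120 : List ℕ := [4, 10, 9, 6, 3, 9, 1, 6, 0, 9, 1, 6, 11, 6, 9, 4, 3, 7]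
def rw2121 : List ℕ := [4, 1, 7, 3, 3, 7, 11, 9, 7, 1, 8, 2, 0, 8, 1, 6, 8, 10]
def rw2122 : List ℕ := [4, 1, 5, 3, 1, 11, 0, 6, 4, 8, 6, 1, 9, 3, 8, 3, 10, 3]
def rw2123 : List ℕ := [4, 6, 4, 2, 6, 11, 9, 1, 4, 4, 2, 7, 9, 2, 0, 10, 1]
def rw2124 : List ℕ := [4, 4, 2, 11, 5, 3, 0, 6, 9, 2, 5, 3, 9, 7, 10]
def rw2125 : List ℕ := [4, 2, 2, 11, 0, 6, 4, 8, 6, 1, 9, 3, 8, 3, 10, 2, 4]
def rw2126 : List ℕ := [4, 4, 4, 3, 4, 4, 4, 3]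
def rw2127 : List ℕ := [4, 0, 11, 3, 5, 8, 6, 0, 7, 0, 2, 10, 3, 3, 7]
def rw2128 : List ℕ := [4, 1, 7, 11, 4, 4, 0, 7, 7, 2, 8, 5, 1, 10, 6, 2, 2]
def rw2129 : List ℕ := [4, 0, 0, 5, 2, 1, 11, 5, 3, 0, 6, 9, 2, 5, 3, 9, 7, 10]
def rw2130 : List ℕ := [4, 3, 7, 11, 4, 7, 0, 9, 1, 9, 5, 8, 0, 7, 10, 6, 0]
def rw2131 : List ℕ := [4, 3, 6, 3, 10, 4, 7, 3, 8, 0, 0, 9, 2, 6, 3, 11, 9, 4]
def rw2132 : List ℕ := [4, 1, 8, 6, 0, 5, 1, 10, 0, 4, 1, 7, 9, 0, 5, 6, 8, 11, 6, 9, 2, 9, 11, 11, 10, 8, 3, 8, 7, 10, 9, 7]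
def rw2133 : List ℕ := [4, 7, 5, 2, 11, 7, 8, 0, 2, 0, 7, 5, 8, 1, 1, 10, 5, 8]
def rw2134 : List ℕ := [4, 0, 11, 5, 3, 0, 6, 9, 2, 5, 3, 9, 7, 10, 4, 1, 5, 1]
def rw2135 : List ℕ := [4, 9, 3, 5, 7, 11, 8, 1, 9, 9, 5, 0, 0, 0, 6, 0, 10, 7]
def rw2136 : List ℕ := [4, 1, 1, 5, 11, 6, 8, 2, 4, 3, 8, 7, 1, 2, 4, 10, 0, 3]
def rw2137 : List ℕ := [4, 0, 11, 1, 9, 1, 8, 2, 2, 9, 5, 5, 8, 10, 1, 4, 2]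
def rw2138 : List ℕ := [4, 6, 11, 6, 8, 2, 4, 3, 8, 7, 1, 2, 4, 10, 3, 6, 4]
def rw2139 : List ℕ := [4, 2, 8, 5, 6, 11, 1, 7, 1, 1, 1, 4, 8, 8, 0, 9, 10, 6]
def rw2140 : List ℕ := [4, 8, 10, 7, 2, 7, 3, 6, 1, 11, 3, 0, 7, 0, 6, 8, 0]
def rw2141 : List ℕ := [4, 4, 3, 5, 5, 3, 11, 0, 6, 4, 8, 6, 1, 9, 3, 8, 3, 10]
def rw2142 : List ℕ := [4, 9, 6, 2, 10, 8, 10, 3, 6, 0, 10, 5, 11, 1, 7, 2, 11, 9, 11, 3, 7, 8, 5, 0, 2, 8, 1, 6, 4, 7, 0, 9, 3, 1]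
def rw2143 : List ℕ := [4, 9, 6, 3, 4, 7, 11, 2, 7, 7, 4, 0, 8, 6, 0, 3, 7, 10]
def rw2144 : List ℕ := [4, 7, 3, 8, 2, 2, 11, 2, 8, 1, 7, 2, 0, 0, 8, 6, 3, 10]
def rw2145 : List ℕ := [4, 11, 0, 6, 4, 8, 6, 1, 9, 3, 8, 3, 10, 5, 5, 5, 2, 4]
def rw2146 : List ℕ := [4, 8, 3, 3, 9, 0, 8, 0, 10, 5, 5, 1, 4, 1, 4, 11, 9, 4]
def rw2147 : List ℕ := [4, 0, 2, 11, 5, 3, 0, 6, 9, 2, 5, 3, 9, 7, 10, 5, 0, 2]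
def rw2148 : List ℕ := [4, 4, 2, 2, 11, 6, 8, 2, 4, 3, 8, 7, 1, 2, 4, 10, 2]
def rw2149 : List ℕ := [4, 4, 4, 11, 1, 9, 1, 8, 2, 2, 9, 5, 5, 8, 10, 1, 4, 1]
def rw2150 : List ℕ := [4, 7, 11, 2, 7, 7, 4, 0, 8, 6, 0, 3, 7, 10, 4, 9, 6, 3]
def rw2151 : List ℕ := [4, 1, 7, 9, 0, 5, 6, 8, 9, 9, 7, 4, 1, 8, 6, 0, 5, 1, 10, 8, 3, 8, 7, 10, 8, 11, 6, 9, 2, 9, 11, 0]
def rw2152 : List ℕ := [4, 10, 3, 5, 5, 11, 6, 8, 2, 4, 3, 8, 7, 1, 2]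
def rw2153 : List ℕ := [4, 6, 2, 6, 11, 9, 1, 4, 4, 2, 7, 9, 2, 0, 10, 1, 6]
def rw2154 : List ℕ := [4, 8, 10, 0, 3, 9, 5, 8, 2, 1, 5, 3, 11, 3, 3, 8, 7]
def rw2155 : List ℕ := [4, 3, 9, 4, 2, 5, 10, 5, 6, 2, 5, 6, 1, 9, 2, 4, 7, 11]
def rw2156 : List ℕ := [4, 7, 2, 7, 7, 11, 2, 1, 9, 7, 1, 9, 7, 1, 9, 7, 10, 0]
def rw2157 : List ℕ := [4, 1, 3, 0, 11, 2, 0, 7, 4, 2, 8, 10, 1, 2, 9, 1, 5, 8]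
def rw2158 : List ℕ := [4, 7, 0, 9, 1, 9, 5, 8, 0, 7, 10, 6, 0, 4, 3, 7, 11]
def rw2159 : List ℕ := [4, 3, 0, 10, 1, 10, 1, 11, 0, 11, 1, 2, 5, 11, 9, 6, 6, 2, 1, 8, 7, 2, 7, 0, 6, 3, 6, 9, 0, 3, 7, 7, 8, 10]
def rw2160 : List ℕ := [4, 1, 5, 1, 4, 0, 11, 5, 3, 0, 6, 9, 2, 5, 3, 9, 7, 10]
def rw2161 : List ℕ := [4, 3, 3, 3, 4, 0, 11, 7, 9, 0, 8, 7, 0, 0, 0, 6, 6, 10]
def rw2162 : List ℕ := [4, 2, 4, 0, 11, 1, 9, 1, 8, 2, 2, 9, 5, 5, 8, 10, 1]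
def rw2163 : List ℕ := [4, 0, 11, 7, 9, 0, 8, 7, 0, 0, 0, 6, 6, 10, 4, 3, 3, 3]
def rw2164 : List ℕ := [4, 1, 7, 9, 0, 5, 6, 8, 3, 9, 7, 4, 1, 8, 6, 0, 5, 1, 10, 8, 3, 8, 7, 10, 2, 11, 6, 9, 2, 9, 11, 0]
def rw2165 : List ℕ := [4, 1, 7, 9, 0, 5, 6, 8, 8, 9, 7, 4, 1, 8, 6, 0, 5, 1, 10, 8, 3, 8, 7, 10, 9, 11, 6, 9, 2, 9, 11, 0]
def rw2166 : List ℕ := [4, 4, 11, 6, 8, 2, 4, 3, 8, 7, 1, 2, 4, 10, 3, 4, 4, 4]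
def rw2167 : List ℕ := [4, 4, 2, 4, 4, 11, 2, 9, 2, 8, 0, 7, 9, 5, 7, 1, 10, 3]
def rw2168 : List ℕ := [4, 3, 11, 2, 1, 9, 7, 1, 9, 7, 1, 9, 7, 10, 0, 3, 7, 3]
def rw2169 : List ℕ := [4, 1, 1, 4, 3, 11, 7, 9, 0, 8, 7, 0, 0, 0, 6, 6, 10]
def rw2170 : List ℕ := [4, 0, 4, 11, 7, 9, 0, 8, 7, 0, 0, 0, 6, 6, 10, 3, 4, 1]
def rw2171 : List ℕ := [4, 0, 11, 1, 9, 1, 8, 2, 2, 9, 5, 5, 8, 10, 0, 5, 2, 1]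
def rw2172 : List ℕ := [4, 3, 3, 11, 0, 6, 4, 8, 6, 1, 9, 3, 8, 3, 10, 4, 2, 4]
def rw2173 : List ℕ := [4, 9, 3, 6, 6, 1, 5, 5, 10, 6, 0, 5, 3, 3, 7, 11, 0]
def rw2174 : List ℕ := [4, 9, 3, 9, 10, 4, 1, 1, 7, 7, 3, 11, 9, 6, 0, 0, 6]
def rw2175 : List ℕ := [4, 1, 7, 9, 0, 5, 6, 8, 0, 9, 7, 4, 1, 8, 6, 0, 5, 1, 10, 8, 3, 8, 7, 10, 1, 11, 6, 9, 2, 9, 11, 0]
def rw2176 : List ℕ := [4, 8, 3, 3, 9, 0, 8, 0, 10, 1, 5, 3, 5, 0, 11, 9, 4]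
def rw2177 : List ℕ := [4, 2, 7, 9, 2, 0, 10, 1, 5, 6, 2, 5, 5, 11, 9, 1, 4]
def rw2178 : List ℕ := [4, 9, 4, 4, 9, 4, 4, 9, 4]
def rw2179 : List ℕ := [4, 9, 6, 2, 11, 3, 7, 8, 5, 0, 2, 8, 1, 6, 11, 1, 7, 2, 11, 9, 11, 10, 10, 8, 10, 3, 6, 0, 10, 7, 0, 9, 3, 1]
def rw2180 : List ℕ := [4, 11, 2, 9, 2, 8, 0, 7, 9, 5, 7, 1, 10, 2, 5, 5, 3]
def rw2181 : List ℕ := [4, 4, 2, 4, 4, 2, 11, 0, 6, 4, 8, 6, 1, 9, 3, 8, 3, 10]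
def rw2182 : List ℕ := [4, 3, 8, 7, 1, 2, 4, 10, 3, 5, 5, 11, 6, 8, 2]
def rw2183 : List ℕ := [4, 6, 1, 3, 1, 9, 6, 10, 3, 7, 4, 6, 9, 4, 11, 0, 0, 9]
def rw2184 : List ℕ := [4, 1, 7, 4, 1, 7, 11, 6, 8, 2, 4, 3, 8, 7, 1, 2, 4, 10]
def rw2185 : List ℕ := [4, 2, 1, 1, 8, 11, 6, 8, 3, 4, 1, 5, 9, 0, 4, 8, 10, 9]
def rw2186 : List ℕ := [4, 1, 4, 11, 9, 4, 4, 8, 3, 3, 9, 0, 8, 0, 10, 5, 5, 1]
def rw2187 : List ℕ := [4, 1, 8, 6, 0, 5, 1, 10, 8, 3, 8, 7, 10, 6, 11, 6, 9, 2, 9, 11, 0, 4, 1, 7, 9, 0, 5, 6, 8, 7, 9, 7]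
def rw2188 : List ℕ := [4, 4, 0, 7, 7, 2, 8, 5, 1, 10, 6, 2, 2, 4, 1, 7, 11]
def rw2189 : List ℕ := [4, 10, 3, 6, 4, 4, 6, 11, 6, 8, 2, 4, 3, 8, 7, 1, 2]
def rw2190 : List ℕ := [4, 2, 10, 1, 5, 6, 2, 2, 11, 3, 1, 6, 1, 7, 9]
def rw2191 : List ℕ := [4, 8, 10, 9, 4, 2, 1, 1, 8, 11, 6, 8, 3, 4, 1, 5, 9, 0]
def rw2192 : List ℕ := [4, 0, 11, 5, 2, 6, 9, 3, 0, 9, 3, 9, 10, 4, 8, 8, 3]
def rw2193 : List ℕ := [4, 8, 2, 1, 11, 9, 5, 6, 9, 2, 2, 10, 2, 4, 0, 3, 9]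
def rw2194 : List ℕ := [4, 8, 6, 1, 9, 3, 8, 3, 10, 4, 4, 3, 5, 5, 3, 11, 0, 6]
def rw2195 : List ℕ := [4, 0, 7, 4, 0, 9, 10, 1, 9, 1, 6, 9, 9, 2, 6, 5, 9, 11]
def rw2196 : List ℕ := [4, 11, 1, 9, 1, 8, 2, 2, 9, 5, 5, 8, 10, 5, 0, 5, 0, 4]
def rw2197 : List ℕ := [4, 2, 4, 4, 11, 2, 9, 2, 8, 0, 7, 9, 5, 7, 1, 10, 3, 4]
def rw2198 : List ℕ := [4, 7, 3, 8, 8, 7, 0, 8, 0, 11, 8, 1, 5, 6, 1, 5, 10, 8]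
def rw2199 : List ℕ := [4, 0, 8, 3, 0, 11, 9, 3, 5, 6, 1, 3, 10, 1, 2, 0, 5, 9]
def rw2200 : List ℕ := [4, 3, 7, 4, 11, 4, 3, 5, 8, 2, 5, 10, 6, 5, 3, 8, 0, 7]
def rw2201 : List ℕ := [4, 6, 11, 0, 6, 4, 8, 6, 1, 9, 3, 8, 3, 10, 3, 6, 4]
def rw2202 : List ℕ := [4, 9, 6, 2, 10, 8, 10, 3, 6, 0, 10, 6, 11, 1, 7, 2, 11, 9, 11, 3, 7, 8, 5, 0, 2, 8, 1, 6, 7, 7, 0, 9, 3, 1]
def rw2203 : List ℕ := [4, 0, 4, 7, 8, 11, 3, 8, 1, 3, 1, 6, 1, 7, 9, 2, 10, 9]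
def rw2204 : List ℕ := [4, 0, 11, 1, 3, 8, 6, 3, 5, 5, 0, 8, 10, 4, 4, 3, 7]
def rw2205 : List ℕ := [4, 11, 0, 0, 9, 4, 6, 1, 3, 1, 9, 6, 10, 3, 4, 6, 5, 9]
def rw2206 : List ℕ := [4, 7, 11, 4, 3, 9, 4, 2, 5, 10, 5, 6, 2, 5, 6, 1, 9, 2]
def rw2207 : List ℕ := [4, 4, 3, 7, 4, 0, 11, 1, 3, 8, 6, 3, 5, 5, 0, 8, 10]
def rw2208 : List ℕ := [4, 10, 8, 3, 8, 5, 1, 2, 8, 4, 2, 8, 0, 9, 3, 5, 9, 3, 0, 4, 9, 2, 9, 11, 5, 3, 7, 10, 1, 11, 1, 10, 0, 11, 6, 2]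
def rw2209 : List ℕ := [4, 4, 9, 4, 4, 9, 4, 4, 9]
def rw2210 : List ℕ := [4, 3, 11, 6, 8, 2, 4, 3, 8, 7, 1, 2, 4, 10, 5, 2, 4]
def rw2211 : List ℕ := [4, 0, 8, 6, 0, 3, 7, 10, 4, 9, 6, 3, 4, 7, 11, 2, 7, 7]
def rw2212 : List ℕ := [4, 7, 11, 2, 7, 9, 2, 0, 0, 6, 0, 9, 3, 10, 7, 4, 9, 2]
def rw2213 : List ℕ := [4, 10, 8, 3, 8, 5, 1, 2, 8, 4, 2, 8, 2, 9, 3, 5, 9, 3, 0, 4, 9, 2, 9, 11, 5, 3, 7, 10, 1, 11, 3, 10, 0, 11, 6, 2]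
def rw2214 : List ℕ := [4, 11, 5, 3, 0, 6, 9, 2, 5, 3, 9, 7, 10, 2, 5, 5, 3]
def rw2215 : List ℕ := [4, 11, 7, 9, 0, 8, 7, 0, 0, 0, 6, 6, 10, 3, 4, 1, 4, 0]
def rw2216 : List ℕ := [4, 4, 6, 11, 0, 6, 4, 8, 6, 1, 9, 3, 8, 3, 10, 3, 6]
def rw2217 : List ℕ := [4, 6, 11, 0, 0, 9, 0, 9, 0, 5, 8, 8, 8, 10, 7, 7, 0, 0]
def rw2218 : List ℕ := [4, 8, 8, 0, 9, 10, 6, 4, 2, 8, 5, 6, 11, 1, 7, 1, 1, 1]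
def rw2219 : List ℕ := [4, 2, 2, 11, 6, 8, 2, 4, 3, 8, 7, 1, 2, 4, 10, 2, 4]
def rw2220 : List ℕ := [4, 4, 4, 4, 4, 11, 6, 8, 2, 4, 3, 8, 7, 1, 2, 4, 10, 3]
def rw2221 : List ℕ := [4, 11, 0, 0, 9, 4, 6, 1, 3, 1, 9, 6, 10, 3, 7, 4, 6, 9]
def rw2222 : List ℕ := [4, 9, 2, 4, 7, 11, 2, 7, 9, 2, 0, 0, 6, 0, 9, 3, 10, 7]
def rw2223 : List ℕ := [4, 6, 2, 1, 11, 6, 8, 0, 6, 8, 0, 6, 8, 0, 3, 10, 4, 3]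
def rw2224 : List ℕ := [4, 4, 2, 11, 0, 6, 4, 8, 6, 1, 9, 3, 8, 3, 10, 4, 4, 2]
def rw2225 : List ℕ := [4, 1, 11, 7, 7, 1, 1, 1, 6, 9, 1, 8, 6, 10, 5, 2, 0, 4]
def rw2226 : List ℕ := [4, 3, 11, 7, 9, 0, 8, 7, 0, 0, 0, 6, 6, 10, 4, 1, 1]
def rw2227 : List ℕ := [4, 4, 4, 4, 11, 6, 8, 2, 4, 3, 8, 7, 1, 2, 4, 10, 3, 4]
def rw2228 : List ℕ := [4, 6, 9, 4, 11, 0, 0, 9, 4, 6, 1, 3, 1, 9, 6, 10, 3, 7]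
def rw2229 : List ℕ := [4, 11, 2, 9, 2, 8, 0, 7, 9, 5, 7, 1, 10, 3, 4, 4, 2, 4]
def rw2230 : List ℕ := [4, 4, 3, 11, 6, 8, 2, 4, 3, 8, 7, 1, 2, 4, 10, 5, 2]
def rw2231 : List ℕ := [4, 4, 3, 6, 3, 10, 4, 7, 3, 8, 0, 0, 9, 2, 6, 3, 11, 9]
def rw2232 : List ℕ := [4, 0, 8, 3, 9, 5, 6, 4, 7, 4, 8, 2, 9, 1, 5, 9, 9, 0, 11, 11, 11, 6, 6, 0, 11, 5, 10, 1, 7, 7, 10, 10, 10, 1, 8, 8]
def rw2233 : List ℕ := [4, 4, 4, 11, 2, 9, 2, 8, 0, 7, 9, 5, 7, 1, 10, 5, 5, 3]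
def rw2234 : List ℕ := [4, 8, 0, 8, 1, 6, 5, 10, 6, 2, 5, 1, 7, 11, 6, 1, 9]
def rw2235 : List ℕ := [4, 2, 4, 4, 2, 11, 0, 6, 4, 8, 6, 1, 9, 3, 8, 3, 10, 4]
def rw2236 : List ℕ := [4, 11, 7, 9, 0, 8, 7, 0, 0, 0, 6, 6, 10, 0, 5, 5, 1, 3]
def rw2237 : List ℕ := [4, 3, 0, 10, 1, 10, 6, 3, 6, 9, 0, 3, 7, 7, 8, 7, 9, 6, 6, 2, 1, 8, 7, 2, 7, 11, 0, 11, 1, 2, 5, 11, 6, 10]
def rw2238 : List ℕ := [4, 10, 8, 3, 8, 5, 1, 2, 8, 4, 2, 8, 8, 9, 3, 5, 9, 3, 0, 4, 9, 2, 9, 11, 5, 3, 7, 10, 1, 11, 9, 10, 0, 11, 6, 2]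
def rw2239 : List ℕ := [4, 0, 5, 2, 9, 7, 10, 9, 0, 0, 3, 5, 8, 11, 9, 5, 1, 8]
def rw2240 : List ℕ := [4, 7, 0, 7, 2, 2, 11, 4, 2, 6, 5, 2, 0, 8, 6, 1, 9, 10]
def rw2241 : List ℕ := [4, 9, 2, 9, 11, 5, 3, 7, 10, 1, 11, 4, 10, 0, 11, 6, 2, 4, 10, 8, 3, 8, 5, 1, 2, 8, 4, 2, 8, 5, 9, 3, 5, 9, 3, 0]
def rw2242 : List ℕ := [4, 2, 1, 6, 1, 3, 11, 9, 0, 3, 8, 7, 0, 7, 1, 2, 8, 10]
def rw2243 : List ℕ := [4, 11, 9, 4, 4, 8, 3, 3, 9, 0, 8, 0, 10, 5, 5, 1, 4, 1]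
def rw2244 : List ℕ := [4, 4, 2, 7, 9, 2, 0, 10, 1, 6, 4, 6, 2, 6, 11, 9, 1]
def rw2245 : List ℕ := [4, 4, 1, 11, 7, 7, 1, 1, 1, 6, 9, 1, 8, 6, 10, 5, 2, 0]
def rw2246 : List ℕ := [4, 11, 2, 1, 9, 7, 1, 9, 7, 1, 9, 7, 10, 0, 3, 6, 2, 6]
def rw2247 : List ℕ := [4, 2, 11, 0, 6, 4, 8, 6, 1, 9, 3, 8, 3, 10, 4, 4, 2, 4]
def rw2248 : List ℕ := [4, 3, 5, 8, 2, 5, 10, 6, 5, 3, 8, 0, 7, 4, 3, 7, 4, 11]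
def rw2249 : List ℕ := [4, 9, 2, 9, 11, 5, 3, 7, 10, 1, 11, 5, 10, 0, 11, 6, 2, 4, 10, 8, 3, 8, 5, 1, 2, 8, 4, 2, 8, 4, 9, 3, 5, 9, 3, 0]
def rw2250 : List ℕ := [4, 10, 8, 3, 8, 5, 1, 2, 8, 4, 2, 8, 1, 9, 3, 5, 9, 3, 0, 4, 9, 2, 9, 11, 5, 3, 7, 10, 1, 11, 0, 10, 0, 11, 6, 2]
def rw2251 : List ℕ := [4, 2, 8, 2, 1, 11, 8, 6, 4, 2, 2, 10, 0, 9, 3, 5, 1]
def rw2252 : List ℕ := [4, 3, 0, 10, 1, 10, 6, 11, 0, 11, 1, 2, 5, 11, 9, 6, 6, 2, 1, 8, 7, 2, 7, 7, 6, 3, 6, 9, 0, 3, 7, 7, 8, 10]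
def rw2253 : List ℕ := [4, 8, 6, 1, 9, 3, 8, 3, 10, 3, 4, 1, 5, 3, 1, 11, 0, 6]
def rw2254 : List ℕ := [4, 1, 7, 9, 0, 5, 6, 8, 11, 9, 7, 4, 1, 8, 6, 0, 5, 1, 10, 8, 3, 8, 7, 10, 10, 11, 6, 9, 2, 9, 11, 0]
def rw2255 : List ℕ := [4, 11, 1, 9, 1, 8, 2, 2, 9, 5, 5, 8, 10, 1, 4, 1, 4, 4]
def rw2256 : List ℕ := [4, 8, 2, 9, 1, 5, 9, 9, 0, 11, 11, 11, 6, 6, 0, 11, 10, 10, 1, 7, 7, 10, 10, 10, 1, 8, 8, 4, 0, 8, 3, 9, 5, 6, 11, 7]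
def rw2257 : List ℕ := [4, 1, 5, 9, 0, 4, 8, 10, 9, 4, 2, 1, 1, 8, 11, 6, 8, 3]
def rw2258 : List ℕ := [4, 3, 0, 10, 1, 10, 6, 3, 6, 9, 0, 3, 7, 7, 8, 1, 9, 6, 6, 2, 1, 8, 7, 2, 7, 11, 0, 11, 1, 2, 5, 11, 0, 10]
def rw2259 : List ℕ := [4, 2, 4, 4, 3, 3, 11, 0, 6, 4, 8, 6, 1, 9, 3, 8, 3, 10]
def rw2260 : List ℕ := [4, 1, 7, 9, 0, 5, 6, 8, 2, 9, 7, 4, 1, 8, 6, 0, 5, 1, 10, 8, 3, 8, 7, 10, 3, 11, 6, 9, 2, 9, 11, 0]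
def rw2261 : List ℕ := [4, 3, 8, 7, 1, 2, 4, 10, 6, 2, 6, 3, 6, 6, 11, 6, 8, 2]
def rw2262 : List ℕ := [4, 4, 11, 2, 9, 2, 8, 0, 7, 9, 5, 7, 1, 10, 5, 5, 3, 4]
def rw2263 : List ℕ := [4, 1, 8, 6, 0, 5, 1, 10, 8, 3, 8, 7, 10, 11, 11, 6, 9, 2, 9, 11, 0, 4, 1, 7, 9, 0, 5, 6, 8, 10, 9, 7]
def rw2264 : List ℕ := [4, 11, 6, 8, 2, 4, 3, 8, 7, 1, 2, 4, 10, 3, 4, 4, 4, 4]
def rw2265 : List ℕ := [4, 1, 8, 1, 8, 1, 1, 10, 7, 5, 1, 1, 6, 6, 11, 9, 9, 9]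
def rw2266 : List ℕ := [4, 9, 6, 2, 10, 8, 10, 3, 6, 0, 10, 3, 11, 1, 7, 2, 11, 9, 11, 3, 7, 8, 5, 0, 2, 8, 1, 6, 2, 7, 0, 9, 3, 1]
def rw2267 : List ℕ := [4, 4, 11, 0, 6, 4, 8, 6, 1, 9, 3, 8, 3, 10, 5, 5, 5, 2]
def rw2268 : List ℕ := [4, 1, 7, 9, 0, 5, 6, 8, 6, 9, 7, 4, 1, 8, 6, 0, 5, 1, 10, 8, 3, 8, 7, 10, 7, 11, 6, 9, 2, 9, 11, 0]
def rw2269 : List ℕ := [4, 4, 4, 11, 6, 8, 2, 4, 3, 8, 7, 1, 2, 4, 10, 3, 4, 4]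
def rw2270 : List ℕ := [4, 1, 1, 7, 7, 3, 11, 9, 6, 0, 0, 6, 4, 9, 3, 9, 10]
def rw2271 : List ℕ := [4, 3, 0, 10, 1, 10, 8, 11, 0, 11, 1, 2, 5, 11, 9, 6, 6, 2, 1, 8, 7, 2, 7, 9, 6, 3, 6, 9, 0, 3, 7, 7, 8, 10]
def rw2272 : List ℕ := [4, 10, 8, 3, 8, 5, 1, 2, 8, 4, 2, 8, 10, 9, 3, 5, 9, 3, 0, 4, 9, 2, 9, 11, 5, 3, 7, 10, 1, 11, 11, 10, 0, 11, 6, 2]
def rw2273 : List ℕ := [4, 4, 2, 2, 11, 0, 6, 4, 8, 6, 1, 9, 3, 8, 3, 10, 2]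
def rw2274 : List ℕ := [4, 2, 8, 4, 3, 7, 10, 1, 5, 1, 9, 0, 7, 9, 6, 1, 2, 11]
def rw2275 : List ℕ := [4, 3, 4, 6, 2, 1, 11, 6, 8, 0, 6, 8, 0, 6, 8, 0, 3, 10]
def rw2276 : List ℕ := [4, 3, 5, 5, 3, 11, 0, 6, 4, 8, 6, 1, 9, 3, 8, 3, 10, 4]
def rw2277 : List ℕ := [4, 4, 6, 11, 6, 8, 2, 4, 3, 8, 7, 1, 2, 4, 10, 3, 6]
def rw2278 : List ℕ := [4, 0, 7, 7, 2, 8, 5, 1, 10, 6, 2, 2, 4, 1, 7, 11, 4]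
def rw2279 : List ℕ := [4, 7, 3, 8, 0, 0, 9, 2, 6, 3, 11, 9, 3, 6, 3, 3, 6, 10]
def rw2280 : List ℕ := [4, 10, 8, 3, 8, 5, 1, 2, 8, 4, 2, 8, 3, 9, 3, 5, 9, 3, 0, 4, 9, 2, 9, 11, 5, 3, 7, 10, 1, 11, 2, 10, 0, 11, 6, 2]
def rw2281 : List ℕ := [4, 6, 5, 9, 4, 11, 0, 0, 9, 4, 6, 1, 3, 1, 9, 6, 10, 3]
def rw2282 : List ℕ := [4, 4, 11, 2, 9, 2, 8, 0, 7, 9, 5, 7, 1, 10, 3, 4, 4, 2]
def rw2283 : List ℕ := [4, 3, 8, 7, 1, 2, 4, 10, 5, 2, 4, 4, 3, 11, 6, 8, 2]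
def rw2284 : List ℕ := [4, 1, 7, 9, 0, 5, 6, 8, 11, 6, 9, 2, 9, 11, 10, 10, 8, 3, 8, 7, 10, 9, 7, 4, 1, 8, 6, 0, 5, 1, 11, 0]
def rw2285 : List ℕ := [4, 0, 3, 9, 4, 8, 2, 1, 11, 9, 5, 6, 9, 2, 2, 10, 2]
def rw2286 : List ℕ := [4, 9, 2, 9, 11, 5, 3, 7, 10, 1, 11, 0, 10, 0, 11, 6, 2, 4, 10, 8, 3, 8, 5, 1, 2, 8, 4, 2, 8, 1, 9, 3, 5, 9, 3, 0]
def rw2287 : List ℕ := [4, 4, 8, 3, 3, 9, 0, 8, 0, 10, 1, 5, 3, 5, 0, 11, 9]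
def rw2288 : List ℕ := [4, 10, 8, 3, 8, 5, 1, 2, 8, 4, 2, 8, 4, 9, 3, 5, 9, 3, 0, 4, 9, 2, 9, 11, 5, 3, 7, 10, 1, 11, 5, 10, 0, 11, 6, 2]
def rw2289 : List ℕ := [4, 8, 6, 1, 9, 3, 8, 3, 10, 3, 5, 5, 11, 0, 6]
def rw2290 : List ℕ := [4, 1, 8, 6, 0, 5, 1, 10, 8, 3, 8, 7, 10, 8, 11, 6, 9, 2, 9, 11, 0, 4, 1, 7, 9, 0, 5, 6, 8, 9, 9, 7]
def rw2291 : List ℕ := [4, 1, 4, 4, 4, 11, 1, 9, 1, 8, 2, 2, 9, 5, 5, 8, 10, 1]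
def rw2292 : List ℕ := [4, 4, 2, 7, 9, 2, 0, 10, 1, 4, 6, 4, 2, 6, 11, 9, 1]
def rw2293 : List ℕ := [4, 8, 6, 1, 9, 3, 8, 3, 10, 5, 2, 4, 4, 3, 11, 0, 6]
def rw2294 : List ℕ := [4, 3, 8, 7, 1, 2, 4, 10, 2, 4, 4, 2, 2, 11, 6, 8, 2]
def rw2295 : List ℕ := [4, 7, 4, 7, 4, 7, 4, 7]
def rw2296 : List ℕ := [4, 10, 0, 3, 4, 1, 1, 5, 11, 6, 8, 2, 4, 3, 8, 7, 1, 2]
def rw2297 : List ℕ := [4, 3, 11, 0, 6, 4, 8, 6, 1, 9, 3, 8, 3, 10, 5, 2, 4]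
def rw2298 : List ℕ := [4, 3, 0, 10, 1, 10, 5, 11, 0, 11, 1, 2, 5, 11, 9, 6, 6, 2, 1, 8, 7, 2, 7, 4, 6, 3, 6, 9, 0, 3, 7, 7, 8, 10]
def rw2299 : List ℕ := [4, 9, 6, 2, 6, 3, 7, 8, 5, 0, 2, 8, 1, 6, 11, 1, 7, 2, 11, 9, 11, 7, 10, 8, 10, 3, 6, 0, 10, 7, 0, 9, 3, 1]
def rw2300 : List ℕ := [4, 10, 3, 1, 5, 3, 1, 4, 11, 6, 8, 2, 4, 3, 8, 7, 1, 2]
def rw2301 : List ℕ := [4, 3, 5, 6, 11, 5, 3, 0, 6, 9, 2, 5, 3, 9, 7, 10, 7, 7]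
def rw2302 : List ℕ := [4, 10, 8, 3, 8, 5, 1, 2, 8, 4, 2, 8, 11, 9, 3, 5, 9, 3, 0, 4, 9, 2, 9, 11, 5, 3, 7, 10, 1, 11, 10, 10, 0, 11, 6, 2]
def rw2303 : List ℕ := [4, 4, 2, 7, 9, 2, 0, 10, 1, 5, 7, 5, 2, 6, 11, 9, 1]
def rw2304 : List ℕ := [4, 2, 5, 10, 5, 6, 2, 5, 6, 1, 9, 2, 4, 7, 11, 4, 3, 9]
def rw2305 : List ℕ := [4, 0, 5, 2, 11, 2, 9, 2, 8, 0, 7, 9, 5, 7, 1, 10, 0, 2]
def rw2306 : List ℕ := [4, 3, 0, 10, 1, 10, 9, 11, 0, 11, 1, 2, 5, 11, 9, 6, 6, 2, 1, 8, 7, 2, 7, 8, 6, 3, 6, 9, 0, 3, 7, 7, 8, 10]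
def rw2307 : List ℕ := [4, 1, 4, 0, 4, 11, 7, 9, 0, 8, 7, 0, 0, 0, 6, 6, 10, 3]
def rw2308 : List ℕ := [4, 3, 7, 4, 10, 9, 6, 3, 9, 1, 6, 0, 9, 1, 6, 11, 6, 9]
def rw2309 : List ℕ := [4, 6, 1, 3, 1, 9, 6, 10, 3, 4, 6, 5, 9, 4, 11, 0, 0, 9]
def rw2310 : List ℕ := [4, 3, 0, 10, 1, 10, 2, 11, 0, 11, 1, 2, 5, 11, 9, 6, 6, 2, 1, 8, 7, 2, 7, 3, 6, 3, 6, 9, 0, 3, 7, 7, 8, 10]
def rw2311 : List ℕ := [4, 6, 4, 6, 4, 6]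
def rw2312 : List ℕ := [4, 2, 8, 1, 11, 3, 3, 5, 7, 9, 10, 0, 3, 9, 3, 5, 0]
def rw2313 : List ℕ := [4, 0, 11, 6, 2, 5, 9, 3, 5, 10, 3, 0, 7, 8, 6, 1, 8, 0]
def rw2314 : List ℕ := [4, 4, 9, 4, 4, 9, 4, 4, 9]
def rw2315 : List ℕ := [4, 10, 8, 3, 8, 5, 1, 2, 8, 4, 2, 8, 5, 9, 3, 5, 9, 3, 0, 4, 9, 2, 9, 11, 5, 3, 7, 10, 1, 11, 4, 10, 0, 11, 6, 2]
def rw2316 : List ℕ := [4, 2, 6, 5, 2, 0, 8, 6, 1, 9, 10, 4, 7, 0, 7, 2, 2, 11]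
def rw2317 : List ℕ := [4, 0, 11, 1, 3, 8, 6, 3, 5, 5, 0, 8, 10, 7, 3, 4, 6]
def rw2318 : List ℕ := [4, 1, 7, 9, 0, 5, 6, 8, 11, 6, 9, 2, 9, 11, 6, 10, 8, 3, 8, 7, 10, 9, 7, 4, 1, 8, 6, 0, 5, 1, 7, 0]
def rw2319 : List ℕ := [4, 7, 3, 8, 0, 0, 9, 2, 6, 3, 11, 9, 4, 4, 3, 6, 3, 10]
def rw2320 : List ℕ := [4, 2, 5, 5, 11, 2, 9, 2, 8, 0, 7, 9, 5, 7, 1, 10, 2, 4]
def rw2321 : List ℕ := [4, 4, 2, 5, 5, 11, 2, 9, 2, 8, 0, 7, 9, 5, 7, 1, 10, 2]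
def rw2322 : List ℕ := [4, 4, 3, 3, 11, 0, 6, 4, 8, 6, 1, 9, 3, 8, 3, 10, 4, 2]
def rw2323 : List ℕ := [4, 3, 8, 7, 1, 2, 4, 10, 3, 1, 5, 3, 1, 4, 11, 6, 8, 2]
def rw2324 : List ℕ := [4, 3, 8, 7, 1, 2, 4, 10, 1, 5, 0, 4, 0, 5, 11, 6, 8, 2]
def rw2325 : List ℕ := [4, 9, 2, 9, 11, 5, 3, 7, 10, 1, 11, 10, 10, 0, 11, 6, 2, 4, 10, 8, 3, 8, 5, 1, 2, 8, 4, 2, 8, 11, 9, 3, 5, 9, 3, 0]
def rw2326 : List ℕ := [4, 0, 8, 3, 9, 5, 6, 11, 7, 4, 8, 2, 9, 1, 5, 9, 9, 0, 11, 11, 11, 6, 6, 0, 11, 10, 10, 1, 7, 7, 10, 10, 10, 1, 8, 8]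
def rw2327 : List ℕ := [4, 8, 6, 1, 9, 3, 8, 3, 10, 4, 2, 4, 4, 3, 3, 11, 0, 6]
def rw2328 : List ℕ := [4, 9, 6, 2, 10, 8, 10, 3, 6, 0, 10, 9, 11, 1, 7, 2, 11, 9, 11, 3, 7, 8, 5, 0, 2, 8, 1, 6, 8, 7, 0, 9, 3, 1]
def rw2329 : List ℕ := [4, 9, 6, 2, 5, 3, 7, 8, 5, 0, 2, 8, 1, 6, 11, 1, 7, 2, 11, 9, 11, 4, 10, 8, 10, 3, 6, 0, 10, 7, 0, 9, 3, 1]
def rw2330 : List ℕ := [4, 10, 3, 4, 4, 4, 4, 4, 11, 6, 8, 2, 4, 3, 8, 7, 1, 2]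
def rw2331 : List ℕ := [4, 8, 2, 9, 1, 5, 9, 9, 0, 11, 11, 11, 6, 6, 0, 11, 11, 10, 1, 7, 7, 10, 10, 10, 1, 8, 8, 4, 0, 8, 3, 9, 5, 6, 10, 7]
def rw2332 : List ℕ := [4, 2, 8, 0, 9, 3, 5, 9, 3, 0, 4, 9, 2, 9, 11, 5, 3, 7, 10, 1, 11, 1, 10, 0, 11, 6, 2, 4, 10, 8, 3, 8, 5, 1, 2, 8]
def rw2333 : List ℕ := [4, 1, 7, 9, 0, 5, 6, 8, 11, 6, 9, 2, 9, 11, 9, 10, 8, 3, 8, 7, 10, 9, 7, 4, 1, 8, 6, 0, 5, 1, 8, 0]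
def rw2334 : List ℕ := [4, 2, 5, 6, 6, 11, 6, 8, 2, 4, 3, 8, 7, 1, 2, 4, 10, 7]
def rw2335 : List ℕ := [4, 8, 2, 9, 1, 5, 9, 9, 0, 11, 11, 11, 6, 6, 0, 11, 1, 10, 1, 7, 7, 10, 10, 10, 1, 8, 8, 4, 0, 8, 3, 9, 5, 6, 0, 7]
def rw2336 : List ℕ := [4, 1, 7, 9, 0, 5, 6, 8, 4, 9, 7, 4, 1, 8, 6, 0, 5, 1, 10, 8, 3, 8, 7, 10, 5, 11, 6, 9, 2, 9, 11, 0]
def rw2337 : List ℕ := [4, 9, 6, 2, 3, 3, 7, 8, 5, 0, 2, 8, 1, 6, 11, 1, 7, 2, 11, 9, 11, 2, 10, 8, 10, 3, 6, 0, 10, 7, 0, 9, 3, 1]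
def rw2338 : List ℕ := [4, 9, 6, 2, 10, 3, 7, 8, 5, 0, 2, 8, 1, 6, 11, 1, 7, 2, 11, 9, 11, 11, 10, 8, 10, 3, 6, 0, 10, 7, 0, 9, 3, 1]
def rw2339 : List ℕ := [4, 1, 7, 9, 0, 5, 6, 8, 11, 6, 9, 2, 9, 11, 2, 10, 8, 3, 8, 7, 10, 9, 7, 4, 1, 8, 6, 0, 5, 1, 3, 0]
def rw2340 : List ℕ := [4, 1, 8, 6, 0, 5, 1, 10, 8, 3, 8, 7, 10, 0, 11, 6, 9, 2, 9, 11, 0, 4, 1, 7, 9, 0, 5, 6, 8, 1, 9, 7]
def rw2341 : List ℕ := [4, 4, 2, 7, 9, 2, 0, 10, 1, 5, 6, 2, 5, 5, 11, 9, 1]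
def rw2342 : List ℕ := [4, 11, 4, 3, 5, 8, 2, 5, 10, 6, 5, 3, 8, 0, 7, 4, 3, 7]
def rw2343 : List ℕ := [4, 8, 6, 1, 9, 3, 8, 3, 10, 5, 5, 5, 2, 4, 4, 11, 0, 6]
def rw2344 : List ℕ := [4, 1, 7, 9, 0, 5, 6, 8, 7, 9, 7, 4, 1, 8, 6, 0, 5, 1, 10, 8, 3, 8, 7, 10, 6, 11, 6, 9, 2, 9, 11, 0]
def rw2345 : List ℕ := [4, 1, 7, 9, 0, 5, 6, 8, 10, 9, 7, 4, 1, 8, 6, 0, 5, 1, 10, 8, 3, 8, 7, 10, 11, 11, 6, 9, 2, 9, 11, 0]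
def rw2346 : List ℕ := [4, 8, 2, 9, 1, 5, 9, 9, 0, 11, 11, 11, 6, 6, 0, 11, 5, 10, 1, 7, 7, 10, 10, 10, 1, 8, 8, 4, 0, 8, 3, 9, 5, 6, 4, 7]
def rw2347 : List ℕ := [4, 1, 7, 9, 0, 5, 6, 8, 11, 6, 9, 2, 9, 11, 5, 10, 8, 3, 8, 7, 10, 9, 7, 4, 1, 8, 6, 0, 5, 1, 4, 0]
def rw2348 : List ℕ := [4, 3, 0, 10, 1, 10, 11, 11, 0, 11, 1, 2, 5, 11, 9, 6, 6, 2, 1, 8, 7, 2, 7, 10, 6, 3, 6, 9, 0, 3, 7, 7, 8, 10]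
def rw2349 : List ℕ := [4, 8, 6, 1, 9, 3, 8, 3, 10, 3, 6, 4, 4, 6, 11, 0, 6]
def rw2350 : List ℕ := [4, 10, 8, 3, 8, 5, 1, 2, 8, 4, 2, 8, 9, 9, 3, 5, 9, 3, 0, 4, 9, 2, 9, 11, 5, 3, 7, 10, 1, 11, 8, 10, 0, 11, 6, 2]
def rw2351 : List ℕ := [4, 8, 6, 1, 9, 3, 8, 3, 10, 4, 4, 2, 4, 4, 2, 11, 0, 6]
def rw2352 : List ℕ := [4, 3, 8, 7, 1, 2, 4, 10, 3, 4, 4, 4, 4, 4, 11, 6, 8, 2]
def rw2353 : List ℕ := [4, 1, 8, 6, 0, 5, 1, 10, 8, 3, 8, 7, 10, 10, 11, 6, 9, 2, 9, 11, 0, 4, 1, 7, 9, 0, 5, 6, 8, 11, 9, 7]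
def rw2354 : List ℕ := [4, 0, 5, 11, 6, 8, 2, 4, 3, 8, 7, 1, 2, 4, 10, 1, 5, 0]
def rw2355 : List ℕ := [4, 3, 0, 10, 1, 10, 7, 11, 0, 11, 1, 2, 5, 11, 9, 6, 6, 2, 1, 8, 7, 2, 7, 6, 6, 3, 6, 9, 0, 3, 7, 7, 8, 10]
def rw2356 : List ℕ := [4, 10, 8, 3, 8, 5, 1, 2, 8, 4, 2, 8, 6, 9, 3, 5, 9, 3, 0, 4, 9, 2, 9, 11, 5, 3, 7, 10, 1, 11, 7, 10, 0, 11, 6, 2]
def rw2357 : List ℕ := [4, 10, 5, 2, 4, 4, 3, 11, 6, 8, 2, 4, 3, 8, 7, 1, 2]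
def rw2358 : List ℕ := [4, 3, 0, 10, 1, 10, 4, 11, 0, 11, 1, 2, 5, 11, 9, 6, 6, 2, 1, 8, 7, 2, 7, 5, 6, 3, 6, 9, 0, 3, 7, 7, 8, 10]
def rw2359 : List ℕ := [4, 3, 0, 10, 1, 10, 6, 3, 6, 9, 0, 3, 7, 7, 8, 11, 9, 6, 6, 2, 1, 8, 7, 2, 7, 11, 0, 11, 1, 2, 5, 11, 10, 10]
def rw2360 : List ℕ := [4, 2, 8, 1, 9, 3, 5, 9, 3, 0, 4, 9, 2, 9, 11, 5, 3, 7, 10, 1, 11, 0, 10, 0, 11, 6, 2, 4, 10, 8, 3, 8, 5, 1, 2, 8]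
def rw2361 : List ℕ := [4, 10, 1, 5, 2, 9, 9, 5, 11, 8, 2, 8, 1, 2, 8, 7, 3]
def rw2362 : List ℕ := [4, 3, 0, 10, 1, 10, 6, 3, 6, 9, 0, 3, 7, 7, 8, 8, 9, 6, 6, 2, 1, 8, 7, 2, 7, 11, 0, 11, 1, 2, 5, 11, 9, 10]
def rw2363 : List ℕ := [4, 3, 7, 4, 0, 11, 1, 3, 8, 6, 3, 5, 5, 0, 8, 10, 4]
def rw2364 : List ℕ := [4, 10, 7, 4, 2, 5, 6, 6, 11, 6, 8, 2, 4, 3, 8, 7, 1, 2]
def rw2365 : List ℕ := [4, 3, 8, 7, 1, 2, 4, 10, 7, 4, 2, 5, 6, 6, 11, 6, 8, 2]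
def rw2366 : List ℕ := [4, 3, 0, 10, 1, 10, 6, 3, 6, 9, 0, 3, 7, 7, 8, 9, 9, 6, 6, 2, 1, 8, 7, 2, 7, 11, 0, 11, 1, 2, 5, 11, 8, 10]
def rw2367 : List ℕ := [4, 10, 4, 1, 7, 4, 1, 7, 11, 6, 8, 2, 4, 3, 8, 7, 1, 2]
def rw2368 : List ℕ := [4, 2, 8, 10, 9, 3, 5, 9, 3, 0, 4, 9, 2, 9, 11, 5, 3, 7, 10, 1, 11, 11, 10, 0, 11, 6, 2, 4, 10, 8, 3, 8, 5, 1, 2, 8]
def rw2369 : List ℕ := [4, 4, 11, 1, 9, 1, 8, 2, 2, 9, 5, 5, 8, 10, 5, 0, 5, 0]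
def rw2370 : List ℕ := [4, 3, 0, 10, 1, 10, 6, 3, 6, 9, 0, 3, 7, 7, 8, 2, 9, 6, 6, 2, 1, 8, 7, 2, 7, 11, 0, 11, 1, 2, 5, 11, 3, 10]
def rw2371 : List ℕ := [4, 3, 8, 7, 1, 2, 4, 10, 4, 1, 7, 4, 1, 7, 11, 6, 8, 2]
def rw2372 : List ℕ := [4, 3, 0, 10, 1, 10, 6, 3, 6, 9, 0, 3, 7, 7, 8, 0, 9, 6, 6, 2, 1, 8, 7, 2, 7, 11, 0, 11, 1, 2, 5, 11, 1, 10]
def rw2373 : List ℕ := [4, 3, 0, 10, 1, 10, 10, 11, 0, 11, 1, 2, 5, 11, 9, 6, 6, 2, 1, 8, 7, 2, 7, 11, 6, 3, 6, 9, 0, 3, 7, 7, 8, 10]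
def rw2374 : List ℕ := [4, 8, 2, 9, 1, 5, 9, 9, 0, 11, 11, 11, 6, 6, 0, 11, 0, 10, 1, 7, 7, 10, 10, 10, 1, 8, 8, 4, 0, 8, 3, 9, 5, 6, 1, 7]
def rw2375 : List ℕ := [4, 1, 8, 6, 0, 5, 1, 8, 0, 4, 1, 7, 9, 0, 5, 6, 8, 11, 6, 9, 2, 9, 11, 9, 10, 8, 3, 8, 7, 10, 9, 7]
def rw2376 : List ℕ := [4, 11, 2, 9, 2, 8, 0, 7, 9, 5, 7, 1, 10, 5, 5, 3, 4, 4]
def rw2377 : List ℕ := [4, 11, 6, 8, 2, 4, 3, 8, 7, 1, 2, 4, 10, 3, 1, 5, 3, 1]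
def rw2378 : List ℕ := [4, 9, 2, 9, 11, 5, 3, 7, 10, 1, 11, 7, 10, 0, 11, 6, 2, 4, 10, 8, 3, 8, 5, 1, 2, 8, 4, 2, 8, 6, 9, 3, 5, 9, 3, 0]
def rw2379 : List ℕ := [4, 9, 6, 2, 2, 3, 7, 8, 5, 0, 2, 8, 1, 6, 11, 1, 7, 2, 11, 9, 11, 3, 10, 8, 10, 3, 6, 0, 10, 7, 0, 9, 3, 1]
def rw2380 : List ℕ := [4, 3, 0, 10, 1, 10, 6, 3, 6, 9, 0, 3, 7, 7, 8, 3, 9, 6, 6, 2, 1, 8, 7, 2, 7, 11, 0, 11, 1, 2, 5, 11, 2, 10]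
def rw2381 : List ℕ := [4, 2, 7, 9, 2, 0, 10, 1, 4, 6, 4, 2, 6, 11, 9, 1, 4]
def rw2382 : List ℕ := [4, 7, 3, 5, 10, 3, 3, 6, 1, 6, 5, 11, 8, 0, 7, 9, 1, 3]
def rw2383 : List ℕ := [4, 1, 8, 6, 0, 5, 1, 7, 0, 4, 1, 7, 9, 0, 5, 6, 8, 11, 6, 9, 2, 9, 11, 6, 10, 8, 3, 8, 7, 10, 9, 7]
def rw2384 : List ℕ := [4, 8, 6, 1, 9, 3, 8, 3, 10, 2, 4, 4, 2, 2, 11, 0, 6]
def rw2385 : List ℕ := [4, 1, 7, 9, 0, 5, 6, 8, 1, 9, 7, 4, 1, 8, 6, 0, 5, 1, 10, 8, 3, 8, 7, 10, 0, 11, 6, 9, 2, 9, 11, 0]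
def rw2386 : List ℕ := [4, 8, 6, 1, 9, 3, 8, 3, 10, 5, 5, 3, 5, 5, 2, 11, 0, 6]
def rw2387 : List ℕ := [4, 10, 6, 2, 6, 3, 6, 6, 11, 6, 8, 2, 4, 3, 8, 7, 1, 2]
def rw2388 : List ℕ := [4, 3, 0, 10, 1, 10, 6, 3, 6, 9, 0, 3, 7, 7, 8, 5, 9, 6, 6, 2, 1, 8, 7, 2, 7, 11, 0, 11, 1, 2, 5, 11, 4, 10]
def rw2389 : List ℕ := [4, 9, 2, 9, 11, 5, 3, 7, 10, 1, 11, 2, 10, 0, 11, 6, 2, 4, 10, 8, 3, 8, 5, 1, 2, 8, 4, 2, 8, 3, 9, 3, 5, 9, 3, 0]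
def rw2390 : List ℕ := [4, 8, 3, 3, 9, 0, 8, 0, 10, 1, 5, 0, 3, 4, 1, 11, 9, 4]
def rw2391 : List ℕ := [4, 10, 2, 4, 4, 2, 2, 11, 6, 8, 2, 4, 3, 8, 7, 1, 2]
def rw2392 : List ℕ := [4, 0, 8, 3, 9, 5, 6, 10, 7, 4, 8, 2, 9, 1, 5, 9, 9, 0, 11, 11, 11, 6, 6, 0, 11, 11, 10, 1, 7, 7, 10, 10, 10, 1, 8, 8]
def rw2393 : List ℕ := [4, 8, 2, 9, 1, 5, 9, 9, 0, 11, 11, 11, 6, 6, 0, 11, 2, 10, 1, 7, 7, 10, 10, 10, 1, 8, 8, 4, 0, 8, 3, 9, 5, 6, 3, 7]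
def rw2394 : List ℕ := [4, 4, 8, 3, 3, 9, 0, 8, 0, 10, 5, 5, 5, 0, 5, 0, 11, 9]
def rw2395 : List ℕ := [4, 1, 8, 6, 0, 5, 1, 4, 0, 4, 1, 7, 9, 0, 5, 6, 8, 11, 6, 9, 2, 9, 11, 5, 10, 8, 3, 8, 7, 10, 9, 7]
def rw2396 : List ℕ := [4, 10, 1, 5, 0, 4, 0, 5, 11, 6, 8, 2, 4, 3, 8, 7, 1, 2]
def rw2397 : List ℕ := [4, 3, 0, 10, 1, 10, 3, 11, 0, 11, 1, 2, 5, 11, 9, 6, 6, 2, 1, 8, 7, 2, 7, 2, 6, 3, 6, 9, 0, 3, 7, 7, 8, 10]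
def rw2398 : List ℕ := [4, 3, 8, 7, 1, 2, 4, 10, 0, 3, 4, 1, 1, 5, 11, 6, 8, 2]
def rw2399 : List ℕ := [4, 3, 0, 10, 1, 10, 6, 3, 6, 9, 0, 3, 7, 7, 8, 6, 9, 6, 6, 2, 1, 8, 7, 2, 7, 11, 0, 11, 1, 2, 5, 11, 7, 10]
def rw2400 : List ℕ := [4, 1, 8, 6, 0, 5, 1, 5, 0, 4, 1, 7, 9, 0, 5, 6, 8, 11, 6, 9, 2, 9, 11, 4, 10, 8, 3, 8, 7, 10, 9, 7]
def rw2401 : List ℕ := [4, 9, 2, 9, 11, 5, 3, 7, 10, 1, 11, 11, 10, 0, 11, 6, 2, 4, 10, 8, 3, 8, 5, 1, 2, 8, 4, 2, 8, 10, 9, 3, 5, 9, 3, 0]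
def rw2402 : List ℕ := [4, 2, 7, 9, 2, 0, 10, 1, 5, 7, 5, 2, 6, 11, 9, 1, 4]
def rw2403 : List ℕ := [4, 1, 8, 6, 0, 5, 1, 10, 8, 3, 8, 7, 10, 3, 11, 6, 9, 2, 9, 11, 0, 4, 1, 7, 9, 0, 5, 6, 8, 2, 9, 7]
def rw2404 : List ℕ := [4, 9, 2, 9, 11, 5, 3, 7, 10, 1, 11, 1, 10, 0, 11, 6, 2, 4, 10, 8, 3, 8, 5, 1, 2, 8, 4, 2, 8, 0, 9, 3, 5, 9, 3, 0]
def rw2405 : List ℕ := [4, 4, 8, 3, 3, 9, 0, 8, 0, 10, 5, 5, 1, 4, 1, 4, 11, 9]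
def rw2406 : List ℕ := [4, 4, 8, 3, 3, 9, 0, 8, 0, 10, 1, 5, 0, 3, 4, 1, 11, 9]
def rw2407 : List ℕ := [4, 0, 8, 3, 9, 5, 6, 1, 7, 4, 8, 2, 9, 1, 5, 9, 9, 0, 11, 11, 11, 6, 6, 0, 11, 0, 10, 1, 7, 7, 10, 10, 10, 1, 8, 8]
def rw2408 : List ℕ := [4, 9, 2, 9, 11, 5, 3, 7, 10, 1, 11, 8, 10, 0, 11, 6, 2, 4, 10, 8, 3, 8, 5, 1, 2, 8, 4, 2, 8, 9, 9, 3, 5, 9, 3, 0]
def rw2409 : List ℕ := [4, 2, 8, 2, 9, 3, 5, 9, 3, 0, 4, 9, 2, 9, 11, 5, 3, 7, 10, 1, 11, 3, 10, 0, 11, 6, 2, 4, 10, 8, 3, 8, 5, 1, 2, 8]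
def rw2410 : List ℕ := [4, 3, 0, 10, 1, 10, 6, 3, 6, 9, 0, 3, 7, 7, 8, 4, 9, 6, 6, 2, 1, 8, 7, 2, 7, 11, 0, 11, 1, 2, 5, 11, 5, 10]
def rw2411 : List ℕ := [4, 9, 6, 2, 9, 3, 7, 8, 5, 0, 2, 8, 1, 6, 11, 1, 7, 2, 11, 9, 11, 8, 10, 8, 10, 3, 6, 0, 10, 7, 0, 9, 3, 1]
def rw2412 : List ℕ := [4, 1, 8, 6, 0, 5, 1, 10, 8, 3, 8, 7, 10, 5, 11, 6, 9, 2, 9, 11, 0, 4, 1, 7, 9, 0, 5, 6, 8, 4, 9, 7]
def rw2413 : List ℕ := [4, 2, 7, 9, 2, 0, 10, 1, 6, 4, 6, 2, 6, 11, 9, 1, 4]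
def rw2414 : List ℕ := [4, 0, 8, 3, 9, 5, 6, 3, 7, 4, 8, 2, 9, 1, 5, 9, 9, 0, 11, 11, 11, 6, 6, 0, 11, 2, 10, 1, 7, 7, 10, 10, 10, 1, 8, 8]
def rw2415 : List ℕ := [4, 2, 8, 11, 9, 3, 5, 9, 3, 0, 4, 9, 2, 9, 11, 5, 3, 7, 10, 1, 11, 10, 10, 0, 11, 6, 2, 4, 10, 8, 3, 8, 5, 1, 2, 8]
def rw2416 : List ℕ := [4, 1, 7, 9, 0, 5, 6, 8, 11, 6, 9, 2, 9, 11, 11, 10, 8, 3, 8, 7, 10, 9, 7, 4, 1, 8, 6, 0, 5, 1, 10, 0]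
def rw2417 : List ℕ := [4, 1, 8, 6, 0, 5, 1, 1, 0, 4, 1, 7, 9, 0, 5, 6, 8, 11, 6, 9, 2, 9, 11, 0, 10, 8, 3, 8, 7, 10, 9, 7]
def rw2418 : List ℕ := [4, 2, 8, 5, 9, 3, 5, 9, 3, 0, 4, 9, 2, 9, 11, 5, 3, 7, 10, 1, 11, 4, 10, 0, 11, 6, 2, 4, 10, 8, 3, 8, 5, 1, 2, 8]
def rw2419 : List ℕ := [4, 1, 8, 6, 0, 5, 1, 3, 0, 4, 1, 7, 9, 0, 5, 6, 8, 11, 6, 9, 2, 9, 11, 2, 10, 8, 3, 8, 7, 10, 9, 7]
def rw2420 : List ℕ := [4, 0, 8, 3, 9, 5, 6, 5, 7, 4, 8, 2, 9, 1, 5, 9, 9, 0, 11, 11, 11, 6, 6, 0, 11, 4, 10, 1, 7, 7, 10, 10, 10, 1, 8, 8]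
def rw2421 : List ℕ := [4, 0, 8, 3, 9, 5, 6, 0, 7, 4, 8, 2, 9, 1, 5, 9, 9, 0, 11, 11, 11, 6, 6, 0, 11, 1, 10, 1, 7, 7, 10, 10, 10, 1, 8, 8]
def rw2422 : List ℕ := [4, 9, 2, 9, 11, 5, 3, 7, 10, 1, 11, 6, 10, 0, 11, 6, 2, 4, 10, 8, 3, 8, 5, 1, 2, 8, 4, 2, 8, 7, 9, 3, 5, 9, 3, 0]
def rw2423 : List ℕ := [4, 2, 8, 7, 9, 3, 5, 9, 3, 0, 4, 9, 2, 9, 11, 5, 3, 7, 10, 1, 11, 6, 10, 0, 11, 6, 2, 4, 10, 8, 3, 8, 5, 1, 2, 8]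
def rw2424 : List ℕ := [4, 9, 6, 2, 1, 3, 7, 8, 5, 0, 2, 8, 1, 6, 11, 1, 7, 2, 11, 9, 11, 0, 10, 8, 10, 3, 6, 0, 10, 7, 0, 9, 3, 1]
def rw2425 : List ℕ := [4, 3, 0, 10, 1, 10, 6, 3, 6, 9, 0, 3, 7, 7, 8, 10, 9, 6, 6, 2, 1, 8, 7, 2, 7, 11, 0, 11, 1, 2, 5, 11, 11, 10]
def rw2426 : List ℕ := [4, 3, 8, 7, 1, 2, 4, 10, 3, 6, 4, 4, 6, 11, 6, 8, 2]
def rw2427 : List ℕ := [4, 9, 6, 2, 10, 8, 10, 3, 6, 0, 10, 1, 11, 1, 7, 2, 11, 9, 11, 3, 7, 8, 5, 0, 2, 8, 1, 6, 0, 7, 0, 9, 3, 1]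
def rw2428 : List ℕ := [4, 1, 7, 9, 0, 5, 6, 8, 5, 9, 7, 4, 1, 8, 6, 0, 5, 1, 10, 8, 3, 8, 7, 10, 4, 11, 6, 9, 2, 9, 11, 0]
def rw2429 : List ℕ := [4, 1, 8, 6, 0, 5, 1, 11, 0, 4, 1, 7, 9, 0, 5, 6, 8, 11, 6, 9, 2, 9, 11, 10, 10, 8, 3, 8, 7, 10, 9, 7]
def rw2430 : List ℕ := [4, 9, 6, 2, 10, 8, 10, 3, 6, 0, 10, 11, 11, 1, 7, 2, 11, 9, 11, 3, 7, 8, 5, 0, 2, 8, 1, 6, 10, 7, 0, 9, 3, 1]
def rw2431 : List ℕ := [4, 1, 8, 6, 0, 5, 1, 10, 8, 3, 8, 7, 10, 4, 11, 6, 9, 2, 9, 11, 0, 4, 1, 7, 9, 0, 5, 6, 8, 5, 9, 7]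
def rw2432 : List ℕ := [4, 2, 8, 6, 9, 3, 5, 9, 3, 0, 4, 9, 2, 9, 11, 5, 3, 7, 10, 1, 11, 7, 10, 0, 11, 6, 2, 4, 10, 8, 3, 8, 5, 1, 2, 8]
def rw2433 : List ℕ := [4, 9, 2, 9, 11, 5, 3, 7, 10, 1, 11, 3, 10, 0, 11, 6, 2, 4, 10, 8, 3, 8, 5, 1, 2, 8, 4, 2, 8, 2, 9, 3, 5, 9, 3, 0]
def rw2434 : List ℕ := [4, 2, 8, 3, 9, 3, 5, 9, 3, 0, 4, 9, 2, 9, 11, 5, 3, 7, 10, 1, 11, 2, 10, 0, 11, 6, 2, 4, 10, 8, 3, 8, 5, 1, 2, 8]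
def rw2435 : List ℕ := [4, 2, 8, 8, 9, 3, 5, 9, 3, 0, 4, 9, 2, 9, 11, 5, 3, 7, 10, 1, 11, 9, 10, 0, 11, 6, 2, 4, 10, 8, 3, 8, 5, 1, 2, 8]
def rw2436 : List ℕ := [4, 8, 2, 9, 1, 5, 9, 9, 0, 11, 11, 11, 6, 6, 0, 11, 4, 10, 1, 7, 7, 10, 10, 10, 1, 8, 8, 4, 0, 8, 3, 9, 5, 6, 5, 7]
def rw2437 : List ℕ := [5, 3, 1, 4, 4, 4, 1]
def rw2438 : List ℕ := [5, 5, 3, 11, 5, 3, 0, 6, 9, 2, 5, 3, 9, 7, 10, 3, 3]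
def rw2439 : List ℕ := [5, 1, 4, 0, 3, 5, 1]
def rw2440 : List ℕ := [5, 0, 5, 2, 11, 7, 7, 1, 1, 1, 6, 9, 1, 8, 6, 10, 5, 1]
def rw2441 : List ℕ := [5, 1, 7, 11, 6, 1, 9, 4, 8, 0, 8, 1, 6, 5, 10, 6, 2]
def rw2442 : List ℕ := [5, 7, 5, 5, 7, 5]
def rw2443 : List ℕ := [5, 0, 0, 5, 2, 1, 3]
def rw2444 : List ℕ := [5, 2, 5, 5, 7, 3, 7, 7]
def rw2445 : List ℕ := [5, 8, 2, 1, 5, 3, 11, 3, 3, 8, 7, 4, 8, 10, 0, 3, 9]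
def rw2446 : List ℕ := [5, 2, 5, 2, 5, 2]
def rw2447 : List ℕ := [5, 5, 5, 0, 2, 4, 0]
def rw2448 : List ℕ := [5, 2, 2, 4, 2, 2, 5, 3, 3]
def rw2449 : List ℕ := [5, 7, 3, 7, 7, 5, 2, 5]
def rw2450 : List ℕ := [5, 6, 4, 6, 5, 7]
def rw2451 : List ℕ := [5, 5, 5, 5, 5, 5, 5]
def rw2452 : List ℕ := [5, 1, 5, 1, 4, 0, 3]
def rw2453 : List ℕ := [5, 5, 2, 5, 5, 5, 2, 5]
def rw2454 : List ℕ := [5, 5, 5, 2, 5, 5, 5, 2]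
def rw2455 : List ℕ := [5, 5, 7, 5, 5, 7]
def rw2456 : List ℕ := [5, 2, 5, 2, 5, 2]
def rw2457 : List ℕ := [5, 6, 5, 6, 5, 6, 5, 6]
def rw2458 : List ℕ := [5, 3, 3, 4, 2, 2, 4, 3, 3]
def rw2459 : List ℕ := [5, 6, 4, 2, 6, 5, 5, 6, 3, 6]
def rw2460 : List ℕ := [5, 8, 5, 5, 8, 5, 5, 8, 5]
def rw2461 : List ℕ := [5, 9, 4, 11, 0, 0, 9, 4, 6, 1, 3, 1, 9, 6, 10, 3, 4, 6]
def rw2462 : List ℕ := [5, 2, 2, 2, 5, 3, 3, 3, 3]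
def rw2463 : List ℕ := [5, 7, 4, 6, 4, 7]
def rw2464 : List ℕ := [5, 2, 5, 2, 5, 2]
def rw2465 : List ℕ := [5, 2, 1, 3, 5, 0, 0]
def rw2466 : List ℕ := [5, 0, 2, 4, 0, 5, 5]
def rw2467 : List ℕ := [5, 5, 6, 3, 6, 5, 6, 4, 2, 6]
def rw2468 : List ℕ := [5, 7, 4, 7, 2, 7, 4, 4, 7, 3]
def rw2469 : List ℕ := [5, 7, 5, 6, 4, 6]
def rw2470 : List ℕ := [5, 5, 7, 5, 5, 7]
def rw2471 : List ℕ := [5, 2, 7, 3, 7, 7, 4, 2]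
def rw2472 : List ℕ := [5, 1, 2, 1, 5, 2, 1, 5]
def rw2473 : List ℕ := [5, 0, 4, 0, 4, 2, 1]
def rw2474 : List ℕ := [5, 7, 5, 5, 7, 5]
def rw2475 : List ℕ := [5, 5, 8, 10, 2, 7, 3, 8, 1, 1, 9, 2, 6, 5, 11, 2, 7, 2]
def rw2476 : List ℕ := [5, 5, 0, 2, 4, 0, 5]
def rw2477 : List ℕ := [5, 8, 7, 10, 7, 0, 8, 1, 7, 0, 8, 2, 7, 8, 11, 5, 6, 2]
def rw2478 : List ℕ := [5, 7, 7, 7, 5, 7, 4, 7]
def rw2479 : List ℕ := [5, 5, 1, 2, 1, 5, 2, 1]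
def rw2480 : List ℕ := [5, 3, 6, 2, 7, 5, 3, 6]
def rw2481 : List ℕ := [5, 3, 3, 3, 3, 5, 2, 2, 2]
def rw2482 : List ℕ := [5, 3, 3, 5, 2, 2, 4, 2, 2]
def rw2483 : List ℕ := [5, 8, 8, 7, 7, 8, 5, 6, 6, 5]
def rw2484 : List ℕ := [5, 3, 8, 4, 3, 3, 6, 9, 4, 3]
def rw2485 : List ℕ := [5, 6, 3, 6, 5, 6, 4, 2, 6, 5]
def rw2486 : List ℕ := [5, 2, 1, 5, 5, 1, 2, 1]
def rw2487 : List ℕ := [5, 5, 8, 5, 5, 8, 5, 5, 8]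
def rw2488 : List ℕ := [5, 8, 4, 1, 3, 0, 11, 2, 0, 7, 4, 2, 8, 10, 1, 2, 9, 1]
def rw2489 : List ℕ := [5, 6, 4, 6, 6, 6, 4, 6]
def rw2490 : List ℕ := [5, 5, 5, 5, 5, 5, 5]
def rw2491 : List ℕ := [5, 1, 7, 3, 5, 1, 7, 3]
def rw2492 : List ℕ := [5, 5, 11, 6, 8, 2, 4, 3, 8, 7, 1, 2, 4, 10, 3]
def rw2493 : List ℕ := [5, 6, 6, 2, 6, 3, 4, 3]
def rw2494 : List ℕ := [5, 6, 5, 6, 5, 6, 5, 6]
def rw2495 : List ℕ := [5, 6, 6, 5, 5, 8, 8, 7, 7, 8]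
def rw2496 : List ℕ := [5, 5, 2, 5, 5, 5, 2, 5]
def rw2497 : List ℕ := [5, 5, 8, 5, 5, 8, 5, 5, 8]
def rw2498 : List ℕ := [5, 7, 5, 7, 5, 7]
def rw2499 : List ℕ := [5, 5, 8, 8, 7, 7, 8, 5, 6, 6]
def rw2500 : List ℕ := [5, 6, 5, 6, 5, 6, 5, 6]
def rw2501 : List ℕ := [5, 7, 5, 7, 5, 7]
def rw2502 : List ℕ := [5, 8, 5, 5, 8, 5, 5, 8, 5]
def rw2503 : List ℕ := [5, 8, 5, 5, 8, 5, 5, 8, 5]
def rw2504 : List ℕ := [5, 5, 5, 5, 5, 5, 5]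
def rw2505 : List ℕ := [5, 2, 5, 5, 5, 2, 5, 5]
def rw2506 : List ℕ := [5, 3, 6, 5, 3, 6, 2, 7]
def rw2507 : List ℕ := [5, 7, 5, 7, 5, 7]
def rw2508 : List ℕ := [5, 2, 5, 5, 5, 2, 5, 5]
def rw2509 : List ℕ := [5, 7, 4, 7, 5, 7, 7, 7]
def rw2510 : List ℕ := [5, 8, 7, 2, 2, 5, 9, 2, 4, 2]
def rw2511 : List ℕ := [5, 5, 7, 3, 7, 7, 5, 2]
def rw2512 : List ℕ := [5, 5, 5, 5, 5, 5, 5]
def rw2513 : List ℕ := [5, 9, 2, 4, 2, 5, 8, 7, 2, 2]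
def rw2514 : List ℕ := [5, 5, 5, 5, 5, 5, 5]
def rw2515 : List ℕ := [5, 2, 9, 9, 5, 11, 8, 2, 8, 1, 2, 8, 7, 3, 4, 10, 1]
def rw2516 : List ℕ := [5, 5, 5, 0, 5, 0, 11, 9, 4, 4, 8, 3, 3, 9, 0, 8, 0, 10]
def rw2517 : List ℕ := [5, 11, 6, 2, 1, 7, 9, 1, 5, 6, 6, 3, 10, 6, 5, 2, 7, 8]
def rw2518 : List ℕ := [5, 0, 11, 1, 3, 8, 6, 3, 5, 5, 0, 8, 10, 7, 3, 5, 7]
def rw2519 : List ℕ := [5, 11, 9, 3, 0, 6, 1, 6, 9, 2, 1, 8, 10, 2, 0, 7, 0, 3]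
def rw2520 : List ℕ := [5, 5, 3, 11, 0, 6, 4, 8, 6, 1, 9, 3, 8, 3, 10, 4, 4, 3]
def rw2521 : List ℕ := [5, 5, 5, 2, 5, 5, 5, 2]
def rw2522 : List ℕ := [5, 6, 2, 5, 5, 11, 9, 1, 4, 4, 2, 7, 9, 2, 0, 10, 1]
def rw2523 : List ℕ := [5, 3, 7, 10, 1, 11, 10, 10, 0, 11, 6, 2, 4, 10, 8, 3, 8, 5, 1, 2, 8, 4, 2, 8, 11, 9, 3, 5, 9, 3, 0, 4, 9, 2, 9, 11]
def rw2524 : List ℕ := [5, 5, 8, 5, 5, 8, 5, 5, 8]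
def rw2525 : List ℕ := [5, 5, 0, 8, 10, 7, 3, 6, 4, 6, 0, 11, 1, 3, 8, 6, 3]
def rw2526 : List ℕ := [5, 5, 2, 11, 5, 3, 0, 6, 9, 2, 5, 3, 9, 7, 10, 5, 5, 5]
def rw2527 : List ℕ := [5, 0, 11, 9, 4, 4, 8, 3, 3, 9, 0, 8, 0, 10, 1, 5, 3]
def rw2528 : List ℕ := [5, 6, 2, 5, 6, 1, 9, 2, 4, 7, 11, 4, 3, 9, 4, 2, 5, 10]
def rw2529 : List ℕ := [5, 8, 2, 5, 10, 6, 5, 3, 8, 0, 7, 4, 3, 7, 4, 11, 4, 3]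
def rw2530 : List ℕ := [5, 1, 10, 6, 2, 2, 4, 1, 7, 11, 4, 4, 0, 7, 7, 2, 8]
def rw2531 : List ℕ := [5, 7, 2, 6, 11, 9, 1, 4, 4, 2, 7, 9, 2, 0, 10, 1, 7]
def rw2532 : List ℕ := [5, 3, 4, 11, 5, 3, 0, 6, 9, 2, 5, 3, 9, 7, 10, 2, 5]
def rw2533 : List ℕ := [5, 2, 4, 4, 3, 11, 0, 6, 4, 8, 6, 1, 9, 3, 8, 3, 10]
def rw2534 : List ℕ := [5, 1, 4, 1, 4, 11, 9, 4, 4, 8, 3, 3, 9, 0, 8, 0, 10, 5]
def rw2535 : List ℕ := [5, 8, 0, 7, 10, 6, 0, 4, 3, 7, 11, 4, 7, 0, 9, 1, 9]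
def rw2536 : List ℕ := [5, 10, 3, 0, 7, 8, 6, 1, 8, 0, 4, 0, 11, 6, 2, 5, 9, 3]
def rw2537 : List ℕ := [5, 5, 11, 9, 1, 4, 4, 2, 7, 9, 2, 0, 10, 1, 5, 6, 2]
def rw2538 : List ℕ := [5, 11, 0, 6, 4, 8, 6, 1, 9, 3, 8, 3, 10, 3, 5]
def rw2539 : List ℕ := [5, 8, 11, 9, 5, 1, 8, 4, 0, 5, 2, 9, 7, 10, 9, 0, 0, 3]
def rw2540 : List ℕ := [5, 6, 2, 11, 7, 8, 0, 2, 0, 7, 5, 8, 1, 1, 10, 5, 8, 7]
def rw2541 : List ℕ := [5, 1, 10, 8, 3, 8, 7, 10, 11, 11, 6, 9, 2, 9, 11, 0, 4, 1, 7, 9, 0, 5, 6, 8, 10, 9, 7, 4, 1, 8, 6, 0]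
def rw2542 : List ℕ := [5, 5, 5, 2, 4, 4, 11, 0, 6, 4, 8, 6, 1, 9, 3, 8, 3, 10]
def rw2543 : List ℕ := [5, 10, 6, 0, 5, 3, 3, 7, 11, 0, 4, 9, 3, 6, 6, 1, 5]
def rw2544 : List ℕ := [5, 6, 6, 11, 6, 8, 2, 4, 3, 8, 7, 1, 2, 4, 10, 7, 4, 2]
def rw2545 : List ℕ := [5, 11, 6, 8, 2, 4, 3, 8, 7, 1, 2, 4, 10, 3, 5]
def rw2546 : List ℕ := [5, 6, 11, 2, 8, 1, 7, 1, 1, 3, 8, 6, 3, 10, 6, 5, 3, 8]
def rw2547 : List ℕ := [5, 6, 8, 11, 6, 9, 2, 9, 11, 10, 10, 8, 3, 8, 7, 10, 9, 7, 4, 1, 8, 6, 0, 5, 1, 11, 0, 4, 1, 7, 9, 0]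
def rw2548 : List ℕ := [5, 5, 11, 0, 6, 4, 8, 6, 1, 9, 3, 8, 3, 10, 3]
def rw2549 : List ℕ := [5, 5, 5, 5, 2, 11, 5, 3, 0, 6, 9, 2, 5, 3, 9, 7, 10, 5]
def rw2550 : List ℕ := [5, 7, 1, 10, 4, 4, 2, 11, 2, 9, 2, 8, 0, 7, 9]
def rw2551 : List ℕ := [5, 3, 7, 3, 11, 0, 6, 4, 8, 6, 1, 9, 3, 8, 3, 10, 7, 2]
def rw2552 : List ℕ := [5, 1, 10, 8, 3, 8, 7, 10, 1, 11, 6, 9, 2, 9, 11, 0, 4, 1, 7, 9, 0, 5, 6, 8, 0, 9, 7, 4, 1, 8, 6, 0]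
def rw2553 : List ℕ := [5, 2, 5, 11, 2, 1, 9, 7, 1, 9, 7, 1, 9, 7, 10, 0, 3, 7]
def rw2554 : List ℕ := [5, 0, 0, 0, 6, 0, 10, 7, 4, 9, 3, 5, 7, 11, 8, 1, 9, 9]
def rw2555 : List ℕ := [5, 6, 2, 2, 11, 3, 1, 6, 1, 7, 9, 4, 2, 10, 1]
def rw2556 : List ℕ := [5, 5, 3, 4, 11, 2, 9, 2, 8, 0, 7, 9, 5, 7, 1, 10, 2]
def rw2557 : List ℕ := [5, 0, 0, 5, 11, 7, 7, 1, 1, 1, 6, 9, 1, 8, 6, 10, 2]
def rw2558 : List ℕ := [5, 10, 6, 5, 3, 8, 0, 7, 4, 3, 7, 4, 11, 4, 3, 5, 8, 2]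
def rw2559 : List ℕ := [5, 8, 0, 7, 9, 11, 1, 7, 8, 8, 7, 0, 10, 7, 1, 8, 3]
def rw2560 : List ℕ := [5, 5, 3, 4, 4, 4, 11, 2, 9, 2, 8, 0, 7, 9, 5, 7, 1, 10]
def rw2561 : List ℕ := [5, 1, 7, 3, 5, 1, 7, 3]
def rw2562 : List ℕ := [5, 3, 0, 6, 9, 2, 5, 3, 9, 7, 10, 4, 1, 5, 1, 4, 0, 11]
def rw2563 : List ℕ := [5, 9, 11, 4, 0, 7, 4, 0, 9, 10, 1, 9, 1, 6, 9, 9, 2, 6]
def rw2564 : List ℕ := [5, 6, 11, 5, 3, 0, 6, 9, 2, 5, 3, 9, 7, 10, 7, 7, 4, 3]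
def rw2565 : List ℕ := [5, 11, 8, 2, 8, 1, 2, 8, 7, 3, 4, 10, 1, 5, 2, 9, 9]
def rw2566 : List ℕ := [5, 0, 0, 11, 7, 8, 6, 3, 6, 1, 9, 9, 0, 3, 10, 1, 1, 7]
def rw2567 : List ℕ := [5, 8, 4, 7, 5, 2, 11, 7, 8, 0, 2, 0, 7, 5, 8, 1, 1, 10]
def rw2568 : List ℕ := [5, 3, 4, 4, 4, 11, 2, 9, 2, 8, 0, 7, 9, 5, 7, 1, 10, 5]
def rw2569 : List ℕ := [5, 0, 5, 0, 11, 9, 4, 4, 8, 3, 3, 9, 0, 8, 0, 10, 5, 5]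
def rw2570 : List ℕ := [5, 3, 9, 7, 10, 3, 3, 5, 5, 3, 11, 5, 3, 0, 6, 9, 2]
def rw2571 : List ℕ := [5, 6, 8, 11, 9, 7, 4, 1, 8, 6, 0, 5, 1, 10, 8, 3, 8, 7, 10, 10, 11, 6, 9, 2, 9, 11, 0, 4, 1, 7, 9, 0]
def rw2572 : List ℕ := [5, 2, 11, 7, 7, 1, 1, 1, 6, 9, 1, 8, 6, 10, 5, 1, 5, 0]
def rw2573 : List ℕ := [5, 11, 6, 8, 2, 4, 3, 8, 7, 1, 2, 4, 10, 0, 3, 4, 1, 1]
def rw2574 : List ℕ := [5, 0, 4, 4, 11, 1, 9, 1, 8, 2, 2, 9, 5, 5, 8, 10, 5, 0]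
def rw2575 : List ℕ := [5, 2, 0, 8, 6, 1, 9, 10, 4, 7, 0, 7, 2, 2, 11, 4, 2, 6]
def rw2576 : List ℕ := [5, 7, 11, 8, 1, 9, 9, 5, 0, 0, 0, 6, 0, 10, 7, 4, 9, 3]
def rw2577 : List ℕ := [5, 6, 7, 7, 4, 8, 2, 9, 1, 5, 9, 9, 0, 11, 11, 11, 6, 6, 0, 11, 6, 10, 1, 7, 7, 10, 10, 10, 1, 8, 8, 4, 0, 8, 3, 9]
def rw2578 : List ℕ := [5, 2, 2, 2, 5, 11, 7, 7, 1, 1, 1, 6, 9, 1, 8, 6, 10, 1]
def rw2579 : List ℕ := [5, 1, 3, 4, 11, 7, 9, 0, 8, 7, 0, 0, 0, 6, 6, 10, 0, 5]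
def rw2580 : List ℕ := [5, 10, 8, 4, 7, 3, 8, 8, 7, 0, 8, 0, 11, 8, 1, 5, 6, 1]
def rw2581 : List ℕ := [5, 3, 0, 6, 9, 2, 5, 3, 9, 7, 10, 4, 4, 2, 11]
def rw2582 : List ℕ := [5, 3, 0, 6, 9, 2, 5, 3, 9, 7, 10, 2, 5, 5, 3, 4, 11]
def rw2583 : List ℕ := [5, 11, 5, 3, 0, 6, 9, 2, 5, 3, 9, 7, 10, 6, 0, 5, 6, 0]
def rw2584 : List ℕ := [5, 6, 2, 5, 8, 7, 10, 7, 0, 8, 1, 7, 0, 8, 2, 7, 8, 11]
def rw2585 : List ℕ := [5, 11, 9, 1, 4, 4, 2, 7, 9, 2, 0, 10, 1, 5, 6, 2, 5]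
def rw2586 : List ℕ := [5, 6, 8, 11, 6, 9, 2, 9, 11, 7, 10, 8, 3, 8, 7, 10, 9, 7, 4, 1, 8, 6, 0, 5, 1, 6, 0, 4, 1, 7, 9, 0]
def rw2587 : List ℕ := [5, 7, 0, 11, 1, 3, 8, 6, 3, 5, 5, 0, 8, 10, 7, 3, 7]
def rw2588 : List ℕ := [5, 9, 0, 3, 0, 9, 9, 9, 0, 3, 1]
def rw2589 : List ℕ := [5, 2, 11, 2, 9, 2, 8, 0, 7, 9, 5, 7, 1, 10, 0, 2, 4, 0]
def rw2590 : List ℕ := [5, 11, 9, 7, 0, 9, 1, 3, 9, 0, 6, 8, 10, 6, 2, 2, 6, 0]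
def rw2591 : List ℕ := [5, 3, 11, 5, 3, 0, 6, 9, 2, 5, 3, 9, 7, 10, 3, 3, 5]
def rw2592 : List ℕ := [5, 7, 5, 2, 6, 11, 9, 1, 4, 4, 2, 7, 9, 2, 0, 10, 1]
def rw2593 : List ℕ := [5, 1, 4, 0, 11, 5, 3, 0, 6, 9, 2, 5, 3, 9, 7, 10, 4, 1]
def rw2594 : List ℕ := [5, 9, 3, 5, 10, 3, 0, 7, 8, 6, 1, 8, 0, 4, 0, 11, 6, 2]
def rw2595 : List ℕ := [5, 11, 3, 10, 4, 3, 0, 10, 1, 10, 6, 3, 6, 9, 0, 3, 7, 7, 8, 2, 9, 6, 6, 2, 1, 8, 7, 2, 7, 11, 0, 11, 1, 2]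
def rw2596 : List ℕ := [5, 8, 10, 2, 7, 3, 8, 1, 1, 9, 2, 6, 5, 11, 2, 7, 2, 5]
def rw2597 : List ℕ := [5, 1, 9, 0, 7, 9, 6, 1, 2, 11, 4, 2, 8, 4, 3, 7, 10, 1]
def rw2598 : List ℕ := [5, 1, 5, 0, 4, 1, 7, 9, 0, 5, 6, 8, 11, 6, 9, 2, 9, 11, 4, 10, 8, 3, 8, 7, 10, 9, 7, 4, 1, 8, 6, 0]
def rw2599 : List ℕ := [5, 8, 6, 0, 7, 0, 2, 10, 3, 3, 7, 4, 0, 11, 3]
def rw2600 : List ℕ := [5, 3, 0, 6, 9, 2, 5, 3, 9, 7, 10, 7, 7, 2, 7, 3, 7, 11]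
def rw2601 : List ℕ := [5, 11, 2, 9, 2, 8, 0, 7, 9, 5, 7, 1, 10, 2, 2, 5, 5, 3]
def rw2602 : List ℕ := [5, 5, 3, 4, 11, 5, 3, 0, 6, 9, 2, 5, 3, 9, 7, 10, 2]
def rw2603 : List ℕ := [5, 6, 1, 9, 2, 4, 7, 11, 4, 3, 9, 4, 2, 5, 10, 5, 6, 2]
def rw2604 : List ℕ := [5, 6, 1, 3, 10, 1, 2, 0, 5, 9, 4, 0, 8, 3, 0, 11, 9, 3]
def rw2605 : List ℕ := [5, 3, 8, 5, 6, 11, 2, 8, 1, 7, 1, 1, 3, 8, 6, 3, 10, 6]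
def rw2606 : List ℕ := [5, 1, 9, 7, 1, 6, 1, 2, 10, 0, 7, 2, 6, 3, 6, 11, 9]
def rw2607 : List ℕ := [5, 3, 7, 10, 1, 11, 6, 10, 0, 11, 6, 2, 4, 10, 8, 3, 8, 5, 1, 2, 8, 4, 2, 8, 7, 9, 3, 5, 9, 3, 0, 4, 9, 2, 9, 11]
def rw2608 : List ℕ := [5, 10, 6, 2, 5, 1, 7, 11, 6, 1, 9, 4, 8, 0, 8, 1, 6]
def rw2609 : List ℕ := [5, 10, 5, 6, 2, 5, 6, 1, 9, 2, 4, 7, 11, 4, 3, 9, 4, 2]
def rw2610 : List ℕ := [5, 8, 7, 5, 6, 2, 11, 7, 8, 0, 2, 0, 7, 5, 8, 1, 1, 10]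
def rw2611 : List ℕ := [5, 0, 4, 2, 8, 1, 11, 3, 3, 5, 7, 9, 10, 0, 3, 9, 3]
def rw2612 : List ℕ := [5, 1, 11, 6, 8, 0, 6, 8, 0, 6, 8, 0, 3, 10, 6, 6, 3, 6]
def rw2613 : List ℕ := [5, 6, 8, 3, 9, 7, 4, 1, 8, 6, 0, 5, 1, 10, 8, 3, 8, 7, 10, 2, 11, 6, 9, 2, 9, 11, 0, 4, 1, 7, 9, 0]
def rw2614 : List ℕ := [5, 3, 9, 7, 10, 4, 4, 2, 11, 5, 3, 0, 6, 9, 2]
def rw2615 : List ℕ := [5, 6, 8, 11, 6, 9, 2, 9, 11, 3, 10, 8, 3, 8, 7, 10, 9, 7, 4, 1, 8, 6, 0, 5, 1, 2, 0, 4, 1, 7, 9, 0]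
def rw2616 : List ℕ := [5, 2, 7, 8, 5, 11, 6, 2, 1, 7, 9, 1, 5, 6, 6, 3, 10, 6]
def rw2617 : List ℕ := [5, 3, 7, 10, 1, 11, 0, 10, 0, 11, 6, 2, 4, 10, 8, 3, 8, 5, 1, 2, 8, 4, 2, 8, 1, 9, 3, 5, 9, 3, 0, 4, 9, 2, 9, 11]
def rw2618 : List ℕ := [5, 5, 7, 2, 11, 5, 3, 0, 6, 9, 2, 5, 3, 9, 7, 10, 7]
def rw2619 : List ℕ := [5, 2, 0, 4, 4, 1, 11, 7, 7, 1, 1, 1, 6, 9, 1, 8, 6, 10]
def rw2620 : List ℕ := [5, 5, 0, 5, 0, 11, 9, 4, 4, 8, 3, 3, 9, 0, 8, 0, 10, 5]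
def rw2621 : List ℕ := [5, 5, 11, 2, 9, 2, 8, 0, 7, 9, 5, 7, 1, 10, 3, 5, 5, 3]
def rw2622 : List ℕ := [5, 3, 3, 7, 11, 0, 4, 9, 3, 6, 6, 1, 5, 5, 10, 6, 0]
def rw2623 : List ℕ := [5, 6, 8, 11, 6, 9, 2, 9, 11, 1, 10, 8, 3, 8, 7, 10, 9, 7, 4, 1, 8, 6, 0, 5, 1, 0, 0, 4, 1, 7, 9, 0]
def rw2624 : List ℕ := [5, 8, 11, 3, 8, 6, 0, 7, 0, 2, 0, 9, 2, 10, 9, 6, 5, 1]
def rw2625 : List ℕ := [5, 5, 2, 11, 0, 6, 4, 8, 6, 1, 9, 3, 8, 3, 10, 5, 5, 3]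
def rw2626 : List ℕ := [5, 6, 6, 3, 10, 6, 5, 2, 7, 8, 5, 11, 6, 2, 1, 7, 9, 1]
def rw2627 : List ℕ := [5, 3, 5, 0, 11, 9, 4, 4, 8, 3, 3, 9, 0, 8, 0, 10, 1]
def rw2628 : List ℕ := [5, 7, 1, 10, 2, 4, 4, 2, 5, 5, 11, 2, 9, 2, 8, 0, 7, 9]
def rw2629 : List ℕ := [5, 0, 2, 8, 1, 6, 11, 1, 7, 2, 11, 9, 11, 10, 10, 8, 10, 3, 6, 0, 10, 7, 0, 9, 3, 1, 4, 9, 6, 2, 11, 3, 7, 8]
def rw2630 : List ℕ := [5, 6, 1, 5, 10, 8, 4, 7, 3, 8, 8, 7, 0, 8, 0, 11, 8, 1]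
def rw2631 : List ℕ := [5, 2, 6, 11, 9, 1, 4, 4, 2, 7, 9, 2, 0, 10, 1, 5, 7]
def rw2632 : List ℕ := [5, 11, 6, 8, 2, 4, 3, 8, 7, 1, 2, 4, 10, 1, 5, 0, 4, 0]
def rw2633 : List ℕ := [5, 1, 5, 8, 11, 3, 8, 6, 0, 7, 0, 2, 0, 9, 2, 10, 9, 6]
def rw2634 : List ℕ := [5, 9, 9, 0, 11, 11, 11, 6, 6, 0, 11, 10, 10, 1, 7, 7, 10, 10, 10, 1, 8, 8, 4, 0, 8, 3, 9, 5, 6, 11, 7, 4, 8, 2, 9, 1]
def rw2635 : List ℕ := [5, 9, 9, 0, 11, 11, 11, 6, 6, 0, 11, 2, 10, 1, 7, 7, 10, 10, 10, 1, 8, 8, 4, 0, 8, 3, 9, 5, 6, 3, 7, 4, 8, 2, 9, 1]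
def rw2636 : List ℕ := [5, 2, 11, 5, 3, 0, 6, 9, 2, 5, 3, 9, 7, 10, 5, 5, 5, 5]
def rw2637 : List ℕ := [5, 3, 4, 11, 2, 9, 2, 8, 0, 7, 9, 5, 7, 1, 10, 2, 5]
def rw2638 : List ℕ := [5, 2, 4, 4, 11, 0, 6, 4, 8, 6, 1, 9, 3, 8, 3, 10, 5, 5]
def rw2639 : List ℕ := [5, 3, 8, 0, 7, 4, 3, 7, 4, 11, 4, 3, 5, 8, 2, 5, 10, 6]
def rw2640 : List ℕ := [5, 3, 11, 0, 6, 4, 8, 6, 1, 9, 3, 8, 3, 10, 4, 4, 3, 5]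
def rw2641 : List ℕ := [5, 7, 1, 1, 7, 8, 10, 2, 6, 6, 0, 0, 5, 11, 8, 2, 8]
def rw2642 : List ℕ := [5, 6, 0, 5, 11, 5, 3, 0, 6, 9, 2, 5, 3, 9, 7, 10, 6, 0]
def rw2643 : List ℕ := [5, 6, 11, 1, 7, 1, 1, 1, 4, 8, 8, 0, 9, 10, 6, 4, 2, 8]
def rw2644 : List ℕ := [5, 7, 9, 10, 0, 3, 9, 3, 5, 0, 4, 2, 8, 1, 11, 3, 3]
def rw2645 : List ℕ := [5, 2, 1, 4, 0, 11, 1, 9, 1, 8, 2, 2, 9, 5, 5, 8, 10, 0]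
def rw2646 : List ℕ := [5, 0, 11, 9, 4, 4, 8, 3, 3, 9, 0, 8, 0, 10, 5, 5, 5, 0]
def rw2647 : List ℕ := [5, 5, 11, 2, 9, 2, 8, 0, 7, 9, 5, 7, 1, 10, 2, 4, 4, 2]
def rw2648 : List ℕ := [5, 11, 7, 7, 1, 1, 1, 6, 9, 1, 8, 6, 10, 2, 5, 0, 0]
def rw2649 : List ℕ := [5, 3, 11, 3, 3, 8, 7, 4, 8, 10, 0, 3, 9, 5, 8, 2, 1]
def rw2650 : List ℕ := [5, 6, 8, 0, 9, 7, 4, 1, 8, 6, 0, 5, 1, 10, 8, 3, 8, 7, 10, 1, 11, 6, 9, 2, 9, 11, 0, 4, 1, 7, 9, 0]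
def rw2651 : List ℕ := [5, 8, 8, 8, 10, 7, 7, 0, 0, 4, 6, 11, 0, 0, 9, 0, 9, 0]
def rw2652 : List ℕ := [5, 3, 7, 10, 1, 11, 7, 10, 0, 11, 6, 2, 4, 10, 8, 3, 8, 5, 1, 2, 8, 4, 2, 8, 6, 9, 3, 5, 9, 3, 0, 4, 9, 2, 9, 11]
def rw2653 : List ℕ := [5, 0, 2, 4, 0, 2, 11, 5, 3, 0, 6, 9, 2, 5, 3, 9, 7, 10]
def rw2654 : List ℕ := [5, 1, 5, 0, 5, 2, 11, 7, 7, 1, 1, 1, 6, 9, 1, 8, 6, 10]
def rw2655 : List ℕ := [5, 1, 8, 4, 0, 5, 2, 9, 7, 10, 9, 0, 0, 3, 5, 8, 11, 9]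
def rw2656 : List ℕ := [5, 11, 2, 9, 2, 8, 0, 7, 9, 5, 7, 1, 10, 3, 5, 5, 3, 5]
def rw2657 : List ℕ := [5, 7, 1, 10, 5, 5, 3, 4, 4, 4, 11, 2, 9, 2, 8, 0, 7, 9]
def rw2658 : List ℕ := [5, 5, 3, 5, 11, 2, 9, 2, 8, 0, 7, 9, 5, 7, 1, 10, 2, 2]
def rw2659 : List ℕ := [5, 11, 2, 1, 9, 7, 1, 9, 7, 1, 9, 7, 10, 0, 3, 7, 5, 2]
def rw2660 : List ℕ := [5, 11, 8, 0, 7, 9, 1, 3, 4, 7, 3, 5, 10, 3, 3, 6, 1, 6]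
def rw2661 : List ℕ := [5, 9, 0, 4, 8, 10, 9, 4, 2, 1, 1, 8, 11, 6, 8, 3, 4, 1]
def rw2662 : List ℕ := [5, 7, 1, 10, 3, 4, 4, 2, 4, 4, 11, 2, 9, 2, 8, 0, 7, 9]
def rw2663 : List ℕ := [5, 9, 9, 0, 11, 11, 11, 6, 6, 0, 11, 11, 10, 1, 7, 7, 10, 10, 10, 1, 8, 8, 4, 0, 8, 3, 9, 5, 6, 10, 7, 4, 8, 2, 9, 1]
def rw2664 : List ℕ := [5, 1, 10, 8, 3, 8, 7, 10, 6, 11, 6, 9, 2, 9, 11, 0, 4, 1, 7, 9, 0, 5, 6, 8, 7, 9, 7, 4, 1, 8, 6, 0]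
def rw2665 : List ℕ := [5, 5, 3, 5, 5, 2, 11, 0, 6, 4, 8, 6, 1, 9, 3, 8, 3, 10]
def rw2666 : List ℕ := [5, 2, 6, 9, 3, 0, 9, 3, 9, 10, 4, 8, 8, 3, 4, 0, 11]
def rw2667 : List ℕ := [5, 3, 0, 6, 9, 2, 5, 3, 9, 7, 10, 4, 0, 0, 5, 2, 1, 11]
def rw2668 : List ℕ := [5, 3, 11, 2, 9, 2, 8, 0, 7, 9, 5, 7, 1, 10, 3, 3, 5]
def rw2669 : List ℕ := [5, 7, 1, 10, 2, 2, 5, 5, 3, 5, 11, 2, 9, 2, 8, 0, 7, 9]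
def rw2670 : List ℕ := [5, 11, 2, 7, 9, 1, 1, 3, 6, 0, 9, 3, 10, 3, 3, 9, 2, 6]
def rw2671 : List ℕ := [5, 3, 5, 11, 2, 9, 2, 8, 0, 7, 9, 5, 7, 1, 10, 2, 2, 5]
def rw2672 : List ℕ := [5, 0, 3, 4, 1, 11, 9, 4, 4, 8, 3, 3, 9, 0, 8, 0, 10, 1]
def rw2673 : List ℕ := [5, 5, 1, 3, 4, 11, 7, 9, 0, 8, 7, 0, 0, 0, 6, 6, 10, 0]
def rw2674 : List ℕ := [5, 3, 1, 4, 11, 6, 8, 2, 4, 3, 8, 7, 1, 2, 4, 10, 3, 1]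
def rw2675 : List ℕ := [5, 2, 11, 7, 8, 0, 2, 0, 7, 5, 8, 1, 1, 10, 5, 8, 4, 7]
def rw2676 : List ℕ := [5, 8, 10, 1, 4, 1, 4, 4, 4, 11, 1, 9, 1, 8, 2, 2, 9, 5]
def rw2677 : List ℕ := [5, 3, 9, 7, 10, 7, 7, 2, 7, 3, 7, 11, 5, 3, 0, 6, 9, 2]
def rw2678 : List ℕ := [5, 2, 4, 4, 3, 11, 6, 8, 2, 4, 3, 8, 7, 1, 2, 4, 10]
def rw2679 : List ℕ := [5, 5, 5, 5, 5, 5, 5]
def rw2680 : List ℕ := [5, 10, 3, 3, 6, 1, 6, 5, 11, 8, 0, 7, 9, 1, 3, 4, 7, 3]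
def rw2681 : List ℕ := [5, 1, 1, 6, 6, 11, 9, 9, 9, 4, 1, 8, 1, 8, 1, 1, 10, 7]
def rw2682 : List ℕ := [5, 7, 2, 11, 5, 3, 0, 6, 9, 2, 5, 3, 9, 7, 10, 7, 5]
def rw2683 : List ℕ := [5, 8, 10, 1, 4, 2, 4, 0, 11, 1, 9, 1, 8, 2, 2, 9, 5]
def rw2684 : List ℕ := [5, 3, 9, 7, 10, 2, 5, 5, 3, 4, 11, 5, 3, 0, 6, 9, 2]
def rw2685 : List ℕ := [5, 5, 1, 4, 1, 4, 11, 9, 4, 4, 8, 3, 3, 9, 0, 8, 0, 10]
def rw2686 : List ℕ := [5, 0, 4, 0, 5, 11, 6, 8, 2, 4, 3, 8, 7, 1, 2, 4, 10, 1]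
def rw2687 : List ℕ := [5, 6, 9, 2, 2, 10, 2, 4, 0, 3, 9, 4, 8, 2, 1, 11, 9]
def rw2688 : List ℕ := [5, 3, 7, 10, 1, 11, 1, 10, 0, 11, 6, 2, 4, 10, 8, 3, 8, 5, 1, 2, 8, 4, 2, 8, 0, 9, 3, 5, 9, 3, 0, 4, 9, 2, 9, 11]
def rw2689 : List ℕ := [5, 5, 3, 5, 5, 11, 2, 9, 2, 8, 0, 7, 9, 5, 7, 1, 10, 3]
def rw2690 : List ℕ := [5, 3, 7, 10, 1, 11, 5, 10, 0, 11, 6, 2, 4, 10, 8, 3, 8, 5, 1, 2, 8, 4, 2, 8, 4, 9, 3, 5, 9, 3, 0, 4, 9, 2, 9, 11]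
def rw2691 : List ℕ := [5, 3, 7, 10, 1, 11, 3, 10, 0, 11, 6, 2, 4, 10, 8, 3, 8, 5, 1, 2, 8, 4, 2, 8, 2, 9, 3, 5, 9, 3, 0, 4, 9, 2, 9, 11]
def rw2692 : List ℕ := [5, 3, 5, 5, 11, 2, 9, 2, 8, 0, 7, 9, 5, 7, 1, 10, 3, 5]
def rw2693 : List ℕ := [5, 0, 5, 0, 4, 4, 11, 1, 9, 1, 8, 2, 2, 9, 5, 5, 8, 10]
def rw2694 : List ℕ := [5, 6, 8, 11, 6, 9, 2, 9, 11, 4, 10, 8, 3, 8, 7, 10, 9, 7, 4, 1, 8, 6, 0, 5, 1, 5, 0, 4, 1, 7, 9, 0]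
def rw2695 : List ℕ := [5, 3, 7, 10, 1, 11, 11, 10, 0, 11, 6, 2, 4, 10, 8, 3, 8, 5, 1, 2, 8, 4, 2, 8, 10, 9, 3, 5, 9, 3, 0, 4, 9, 2, 9, 11]
def rw2696 : List ℕ := [5, 5, 3, 11, 2, 9, 2, 8, 0, 7, 9, 5, 7, 1, 10, 3, 3]
def rw2697 : List ℕ := [5, 11, 1, 10, 4, 3, 0, 10, 1, 10, 6, 3, 6, 9, 0, 3, 7, 7, 8, 0, 9, 6, 6, 2, 1, 8, 7, 2, 7, 11, 0, 11, 1, 2]
def rw2698 : List ℕ := [5, 2, 1, 11, 5, 3, 0, 6, 9, 2, 5, 3, 9, 7, 10, 4, 0, 0]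
def rw2699 : List ℕ := [5, 11, 8, 2, 8, 5, 7, 1, 1, 7, 8, 10, 2, 6, 6, 0, 0]
def rw2700 : List ℕ := [5, 6, 5, 6, 5, 6, 5, 6]
def rw2701 : List ℕ := [5, 7, 5, 0, 11, 1, 3, 8, 6, 3, 5, 5, 0, 8, 10, 7, 3]
def rw2702 : List ℕ := [5, 2, 6, 2, 1, 11, 6, 8, 0, 6, 8, 0, 6, 8, 0, 3, 10, 2]
def rw2703 : List ℕ := [5, 8, 1, 1, 10, 5, 8, 7, 5, 6, 2, 11, 7, 8, 0, 2, 0, 7]
def rw2704 : List ℕ := [5, 5, 7, 2, 11, 2, 9, 2, 8, 0, 7, 9, 5, 7, 1, 10, 7]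
def rw2705 : List ℕ := [5, 7, 2, 11, 2, 9, 2, 8, 0, 7, 9, 5, 7, 1, 10, 7, 5]
def rw2706 : List ℕ := [5, 2, 11, 0, 6, 4, 8, 6, 1, 9, 3, 8, 3, 10, 5, 5, 3, 5]
def rw2707 : List ℕ := [5, 11, 9, 6, 6, 2, 1, 8, 7, 2, 7, 11, 6, 3, 6, 9, 0, 3, 7, 7, 8, 10, 4, 3, 0, 10, 1, 10, 10, 11, 0, 11, 1, 2]
def rw2708 : List ℕ := [5, 11, 7, 7, 1, 1, 1, 6, 9, 1, 8, 6, 10, 1, 5, 2, 2, 2]
def rw2709 : List ℕ := [5, 7, 3, 7, 2, 1, 11, 6, 8, 0, 6, 8, 0, 6, 8, 0, 3, 10]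
def rw2710 : List ℕ := [5, 8, 1, 1, 10, 5, 8, 4, 7, 5, 2, 11, 7, 8, 0, 2, 0, 7]
def rw2711 : List ℕ := [5, 7, 1, 10, 2, 5, 5, 3, 4, 11, 2, 9, 2, 8, 0, 7, 9]
def rw2712 : List ℕ := [5, 3, 1, 11, 0, 6, 4, 8, 6, 1, 9, 3, 8, 3, 10, 3, 4, 1]
def rw2713 : List ℕ := [5, 5, 5, 2, 11, 5, 3, 0, 6, 9, 2, 5, 3, 9, 7, 10, 5, 5]
def rw2714 : List ℕ := [5, 0, 8, 10, 4, 4, 3, 7, 4, 0, 11, 1, 3, 8, 6, 3, 5]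
def rw2715 : List ℕ := [5, 6, 10, 7, 4, 8, 2, 9, 1, 5, 9, 9, 0, 11, 11, 11, 6, 6, 0, 11, 11, 10, 1, 7, 7, 10, 10, 10, 1, 8, 8, 4, 0, 8, 3, 9]
def rw2716 : List ℕ := [5, 3, 7, 10, 1, 11, 2, 10, 0, 11, 6, 2, 4, 10, 8, 3, 8, 5, 1, 2, 8, 4, 2, 8, 3, 9, 3, 5, 9, 3, 0, 4, 9, 2, 9, 11]
def rw2717 : List ℕ := [5, 2, 9, 7, 10, 9, 0, 0, 3, 5, 8, 11, 9, 5, 1, 8, 4, 0]
def rw2718 : List ℕ := [5, 3, 9, 7, 10, 5, 0, 2, 4, 0, 2, 11, 5, 3, 0, 6, 9, 2]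
def rw2719 : List ℕ := [5, 6, 8, 7, 9, 7, 4, 1, 8, 6, 0, 5, 1, 10, 8, 3, 8, 7, 10, 6, 11, 6, 9, 2, 9, 11, 0, 4, 1, 7, 9, 0]
def rw2720 : List ℕ := [5, 6, 8, 10, 9, 7, 4, 1, 8, 6, 0, 5, 1, 10, 8, 3, 8, 7, 10, 11, 11, 6, 9, 2, 9, 11, 0, 4, 1, 7, 9, 0]
def rw2721 : List ℕ := [5, 1, 2, 8, 4, 2, 8, 11, 9, 3, 5, 9, 3, 0, 4, 9, 2, 9, 11, 5, 3, 7, 10, 1, 11, 10, 10, 0, 11, 6, 2, 4, 10, 8, 3, 8]
def rw2722 : List ℕ := [5, 1, 10, 8, 3, 8, 7, 10, 5, 11, 6, 9, 2, 9, 11, 0, 4, 1, 7, 9, 0, 5, 6, 8, 4, 9, 7, 4, 1, 8, 6, 0]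
def rw2723 : List ℕ := [5, 1, 4, 2, 8, 2, 1, 11, 8, 6, 4, 2, 2, 10, 0, 9, 3]
def rw2724 : List ℕ := [5, 11, 6, 10, 4, 3, 0, 10, 1, 10, 6, 3, 6, 9, 0, 3, 7, 7, 8, 7, 9, 6, 6, 2, 1, 8, 7, 2, 7, 11, 0, 11, 1, 2]
def rw2725 : List ℕ := [5, 11, 7, 10, 4, 3, 0, 10, 1, 10, 6, 3, 6, 9, 0, 3, 7, 7, 8, 6, 9, 6, 6, 2, 1, 8, 7, 2, 7, 11, 0, 11, 1, 2]
def rw2726 : List ℕ := [5, 11, 0, 10, 4, 3, 0, 10, 1, 10, 6, 3, 6, 9, 0, 3, 7, 7, 8, 1, 9, 6, 6, 2, 1, 8, 7, 2, 7, 11, 0, 11, 1, 2]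
def rw2727 : List ℕ := [5, 9, 4, 0, 8, 3, 0, 11, 9, 3, 5, 6, 1, 3, 10, 1, 2, 0]
def rw2728 : List ℕ := [5, 9, 3, 0, 4, 9, 2, 9, 11, 5, 3, 7, 10, 1, 11, 5, 10, 0, 11, 6, 2, 4, 10, 8, 3, 8, 5, 1, 2, 8, 4, 2, 8, 4, 9, 3]
def rw2729 : List ℕ := [5, 7, 1, 10, 0, 2, 4, 0, 5, 2, 11, 2, 9, 2, 8, 0, 7, 9]
def rw2730 : List ℕ := [5, 11, 9, 6, 6, 2, 1, 8, 7, 2, 7, 9, 6, 3, 6, 9, 0, 3, 7, 7, 8, 10, 4, 3, 0, 10, 1, 10, 8, 11, 0, 11, 1, 2]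
def rw2731 : List ℕ := [5, 0, 2, 8, 1, 6, 11, 1, 7, 2, 11, 9, 11, 4, 10, 8, 10, 3, 6, 0, 10, 7, 0, 9, 3, 1, 4, 9, 6, 2, 5, 3, 7, 8]
def rw2732 : List ℕ := [5, 1, 1, 0, 4, 1, 7, 9, 0, 5, 6, 8, 11, 6, 9, 2, 9, 11, 0, 10, 8, 3, 8, 7, 10, 9, 7, 4, 1, 8, 6, 0]
def rw2733 : List ℕ := [5, 9, 3, 0, 4, 9, 2, 9, 11, 5, 3, 7, 10, 1, 11, 1, 10, 0, 11, 6, 2, 4, 10, 8, 3, 8, 5, 1, 2, 8, 4, 2, 8, 0, 9, 3]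
def rw2734 : List ℕ := [5, 3, 7, 10, 1, 11, 4, 10, 0, 11, 6, 2, 4, 10, 8, 3, 8, 5, 1, 2, 8, 4, 2, 8, 5, 9, 3, 5, 9, 3, 0, 4, 9, 2, 9, 11]
def rw2735 : List ℕ := [5, 9, 3, 0, 4, 9, 2, 9, 11, 5, 3, 7, 10, 1, 11, 0, 10, 0, 11, 6, 2, 4, 10, 8, 3, 8, 5, 1, 2, 8, 4, 2, 8, 1, 9, 3]
def rw2736 : List ℕ := [5, 5, 8, 10, 1, 4, 2, 4, 0, 11, 1, 9, 1, 8, 2, 2, 9]
def rw2737 : List ℕ := [5, 5, 0, 8, 10, 4, 4, 3, 7, 4, 0, 11, 1, 3, 8, 6, 3]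
def rw2738 : List ℕ := [5, 3, 0, 6, 9, 2, 5, 3, 9, 7, 10, 5, 0, 2, 4, 0, 2, 11]
def rw2739 : List ℕ := [5, 3, 5, 5, 2, 11, 0, 6, 4, 8, 6, 1, 9, 3, 8, 3, 10, 5]
def rw2740 : List ℕ := [5, 1, 2, 8, 4, 2, 8, 7, 9, 3, 5, 9, 3, 0, 4, 9, 2, 9, 11, 5, 3, 7, 10, 1, 11, 6, 10, 0, 11, 6, 2, 4, 10, 8, 3, 8]
def rw2741 : List ℕ := [5, 11, 9, 6, 6, 2, 1, 8, 7, 2, 7, 3, 6, 3, 6, 9, 0, 3, 7, 7, 8, 10, 4, 3, 0, 10, 1, 10, 2, 11, 0, 11, 1, 2]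
def rw2742 : List ℕ := [5, 6, 11, 7, 4, 8, 2, 9, 1, 5, 9, 9, 0, 11, 11, 11, 6, 6, 0, 11, 10, 10, 1, 7, 7, 10, 10, 10, 1, 8, 8, 4, 0, 8, 3, 9]
def rw2743 : List ℕ := [5, 3, 0, 6, 9, 2, 5, 3, 9, 7, 10, 7, 7, 4, 3, 5, 6, 11]
def rw2744 : List ℕ := [5, 6, 8, 11, 6, 9, 2, 9, 11, 8, 10, 8, 3, 8, 7, 10, 9, 7, 4, 1, 8, 6, 0, 5, 1, 9, 0, 4, 1, 7, 9, 0]
def rw2745 : List ℕ := [5, 1, 10, 0, 4, 1, 7, 9, 0, 5, 6, 8, 11, 6, 9, 2, 9, 11, 11, 10, 8, 3, 8, 7, 10, 9, 7, 4, 1, 8, 6, 0]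
def rw2746 : List ℕ := [5, 3, 0, 6, 9, 2, 5, 3, 9, 7, 10, 3, 3, 5, 5, 3, 11]
def rw2747 : List ℕ := [5, 0, 2, 8, 1, 6, 5, 7, 0, 9, 3, 1, 4, 9, 6, 2, 10, 8, 10, 3, 6, 0, 10, 4, 11, 1, 7, 2, 11, 9, 11, 3, 7, 8]
def rw2748 : List ℕ := [5, 1, 10, 8, 3, 8, 7, 10, 0, 11, 6, 9, 2, 9, 11, 0, 4, 1, 7, 9, 0, 5, 6, 8, 1, 9, 7, 4, 1, 8, 6, 0]
def rw2749 : List ℕ := [5, 11, 7, 2, 2, 7, 2, 8, 10, 2, 7, 3, 8, 1, 1, 9, 2, 6]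
def rw2750 : List ℕ := [5, 1, 10, 8, 3, 8, 7, 10, 10, 11, 6, 9, 2, 9, 11, 0, 4, 1, 7, 9, 0, 5, 6, 8, 11, 9, 7, 4, 1, 8, 6, 0]
def rw2751 : List ℕ := [5, 1, 2, 0, 4, 1, 7, 9, 0, 5, 6, 8, 11, 6, 9, 2, 9, 11, 3, 10, 8, 3, 8, 7, 10, 9, 7, 4, 1, 8, 6, 0]
def rw2752 : List ℕ := [5, 11, 9, 6, 6, 2, 1, 8, 7, 2, 7, 6, 6, 3, 6, 9, 0, 3, 7, 7, 8, 10, 4, 3, 0, 10, 1, 10, 7, 11, 0, 11, 1, 2]
def rw2753 : List ℕ := [5, 7, 1, 10, 2, 6, 2, 4, 3, 6, 11, 2, 9, 2, 8, 0, 7, 9]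
def rw2754 : List ℕ := [5, 5, 5, 5, 5, 2, 11, 5, 3, 0, 6, 9, 2, 5, 3, 9, 7, 10]
def rw2755 : List ℕ := [5, 6, 1, 7, 4, 8, 2, 9, 1, 5, 9, 9, 0, 11, 11, 11, 6, 6, 0, 11, 0, 10, 1, 7, 7, 10, 10, 10, 1, 8, 8, 4, 0, 8, 3, 9]
def rw2756 : List ℕ := [5, 3, 0, 6, 9, 2, 5, 3, 9, 7, 10, 5, 5, 5, 5, 5, 2, 11]
def rw2757 : List ℕ := [5, 7, 1, 10, 7, 5, 5, 7, 2, 11, 2, 9, 2, 8, 0, 7, 9]
def rw2758 : List ℕ := [5, 11, 9, 10, 4, 3, 0, 10, 1, 10, 6, 3, 6, 9, 0, 3, 7, 7, 8, 8, 9, 6, 6, 2, 1, 8, 7, 2, 7, 11, 0, 11, 1, 2]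
def rw2759 : List ℕ := [5, 6, 8, 5, 9, 7, 4, 1, 8, 6, 0, 5, 1, 10, 8, 3, 8, 7, 10, 4, 11, 6, 9, 2, 9, 11, 0, 4, 1, 7, 9, 0]
def rw2760 : List ℕ := [5, 11, 9, 6, 6, 2, 1, 8, 7, 2, 7, 7, 6, 3, 6, 9, 0, 3, 7, 7, 8, 10, 4, 3, 0, 10, 1, 10, 6, 11, 0, 11, 1, 2]
def rw2761 : List ℕ := [5, 5, 10, 6, 0, 5, 3, 3, 7, 11, 0, 4, 9, 3, 6, 6, 1]
def rw2762 : List ℕ := [5, 11, 2, 9, 2, 8, 0, 7, 9, 5, 7, 1, 10, 2, 4, 4, 2, 5]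
def rw2763 : List ℕ := [5, 11, 2, 7, 2, 5, 5, 8, 10, 2, 7, 3, 8, 1, 1, 9, 2, 6]
def rw2764 : List ℕ := [5, 3, 7, 10, 1, 11, 8, 10, 0, 11, 6, 2, 4, 10, 8, 3, 8, 5, 1, 2, 8, 4, 2, 8, 9, 9, 3, 5, 9, 3, 0, 4, 9, 2, 9, 11]
def rw2765 : List ℕ := [5, 3, 0, 6, 9, 2, 5, 3, 9, 7, 10, 7, 5, 5, 7, 2, 11]
def rw2766 : List ℕ := [5, 0, 2, 8, 1, 6, 6, 7, 0, 9, 3, 1, 4, 9, 6, 2, 10, 8, 10, 3, 6, 0, 10, 7, 11, 1, 7, 2, 11, 9, 11, 3, 7, 8]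
def rw2767 : List ℕ := [5, 11, 9, 6, 6, 2, 1, 8, 7, 2, 7, 0, 6, 3, 6, 9, 0, 3, 7, 7, 8, 10, 4, 3, 0, 10, 1, 10, 1, 11, 0, 11, 1, 2]
def rw2768 : List ℕ := [5, 11, 5, 10, 4, 3, 0, 10, 1, 10, 6, 3, 6, 9, 0, 3, 7, 7, 8, 4, 9, 6, 6, 2, 1, 8, 7, 2, 7, 11, 0, 11, 1, 2]
def rw2769 : List ℕ := [5, 1, 7, 0, 4, 1, 7, 9, 0, 5, 6, 8, 11, 6, 9, 2, 9, 11, 6, 10, 8, 3, 8, 7, 10, 9, 7, 4, 1, 8, 6, 0]
def rw2770 : List ℕ := [5, 0, 2, 8, 1, 6, 11, 7, 0, 9, 3, 1, 4, 9, 6, 2, 10, 8, 10, 3, 6, 0, 10, 10, 11, 1, 7, 2, 11, 9, 11, 3, 7, 8]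
def rw2771 : List ℕ := [5, 5, 2, 4, 4, 11, 0, 6, 4, 8, 6, 1, 9, 3, 8, 3, 10, 5]
def rw2772 : List ℕ := [5, 1, 10, 8, 3, 8, 7, 10, 3, 11, 6, 9, 2, 9, 11, 0, 4, 1, 7, 9, 0, 5, 6, 8, 2, 9, 7, 4, 1, 8, 6, 0]
def rw2773 : List ℕ := [5, 11, 4, 10, 4, 3, 0, 10, 1, 10, 6, 3, 6, 9, 0, 3, 7, 7, 8, 5, 9, 6, 6, 2, 1, 8, 7, 2, 7, 11, 0, 11, 1, 2]
def rw2774 : List ℕ := [5, 1, 2, 8, 4, 2, 8, 9, 9, 3, 5, 9, 3, 0, 4, 9, 2, 9, 11, 5, 3, 7, 10, 1, 11, 8, 10, 0, 11, 6, 2, 4, 10, 8, 3, 8]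
def rw2775 : List ℕ := [5, 6, 9, 7, 4, 8, 2, 9, 1, 5, 9, 9, 0, 11, 11, 11, 6, 6, 0, 11, 8, 10, 1, 7, 7, 10, 10, 10, 1, 8, 8, 4, 0, 8, 3, 9]
def rw2776 : List ℕ := [5, 11, 11, 10, 4, 3, 0, 10, 1, 10, 6, 3, 6, 9, 0, 3, 7, 7, 8, 10, 9, 6, 6, 2, 1, 8, 7, 2, 7, 11, 0, 11, 1, 2]
def rw2777 : List ℕ := [5, 3, 7, 10, 1, 11, 9, 10, 0, 11, 6, 2, 4, 10, 8, 3, 8, 5, 1, 2, 8, 4, 2, 8, 8, 9, 3, 5, 9, 3, 0, 4, 9, 2, 9, 11]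
def rw2778 : List ℕ := [5, 0, 8, 10, 7, 3, 5, 7, 5, 0, 11, 1, 3, 8, 6, 3, 5]
def rw2779 : List ℕ := [5, 9, 9, 0, 11, 11, 11, 6, 6, 0, 11, 8, 10, 1, 7, 7, 10, 10, 10, 1, 8, 8, 4, 0, 8, 3, 9, 5, 6, 9, 7, 4, 8, 2, 9, 1]
def rw2780 : List ℕ := [5, 6, 8, 11, 6, 9, 2, 9, 11, 5, 10, 8, 3, 8, 7, 10, 9, 7, 4, 1, 8, 6, 0, 5, 1, 4, 0, 4, 1, 7, 9, 0]
def rw2781 : List ℕ := [5, 6, 8, 9, 9, 7, 4, 1, 8, 6, 0, 5, 1, 10, 8, 3, 8, 7, 10, 8, 11, 6, 9, 2, 9, 11, 0, 4, 1, 7, 9, 0]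
def rw2782 : List ℕ := [5, 0, 8, 10, 7, 3, 4, 6, 4, 0, 11, 1, 3, 8, 6, 3, 5]
def rw2783 : List ℕ := [5, 6, 8, 6, 9, 7, 4, 1, 8, 6, 0, 5, 1, 10, 8, 3, 8, 7, 10, 7, 11, 6, 9, 2, 9, 11, 0, 4, 1, 7, 9, 0]
def rw2784 : List ℕ := [5, 3, 9, 7, 10, 6, 0, 5, 6, 0, 5, 11, 5, 3, 0, 6, 9, 2]
def rw2785 : List ℕ := [5, 8, 10, 0, 5, 2, 1, 4, 0, 11, 1, 9, 1, 8, 2, 2, 9, 5]
def rw2786 : List ℕ := [5, 5, 0, 8, 10, 7, 3, 5, 7, 5, 0, 11, 1, 3, 8, 6, 3]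
def rw2787 : List ℕ := [5, 6, 8, 11, 6, 9, 2, 9, 11, 11, 10, 8, 3, 8, 7, 10, 9, 7, 4, 1, 8, 6, 0, 5, 1, 10, 0, 4, 1, 7, 9, 0]
def rw2788 : List ℕ := [5, 11, 2, 10, 4, 3, 0, 10, 1, 10, 6, 3, 6, 9, 0, 3, 7, 7, 8, 3, 9, 6, 6, 2, 1, 8, 7, 2, 7, 11, 0, 11, 1, 2]
def rw2789 : List ℕ := [5, 11, 9, 6, 6, 2, 1, 8, 7, 2, 7, 1, 6, 3, 6, 9, 0, 3, 7, 7, 8, 10, 4, 3, 0, 10, 1, 10, 0, 11, 0, 11, 1, 2]
def rw2790 : List ℕ := [5, 0, 2, 8, 1, 6, 11, 1, 7, 2, 11, 9, 11, 11, 10, 8, 10, 3, 6, 0, 10, 7, 0, 9, 3, 1, 4, 9, 6, 2, 10, 3, 7, 8]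
def rw2791 : List ℕ := [5, 1, 10, 8, 3, 8, 7, 10, 8, 11, 6, 9, 2, 9, 11, 0, 4, 1, 7, 9, 0, 5, 6, 8, 9, 9, 7, 4, 1, 8, 6, 0]
def rw2792 : List ℕ := [5, 5, 0, 8, 10, 7, 3, 7, 5, 7, 0, 11, 1, 3, 8, 6, 3]
def rw2793 : List ℕ := [5, 0, 2, 8, 1, 6, 9, 7, 0, 9, 3, 1, 4, 9, 6, 2, 10, 8, 10, 3, 6, 0, 10, 8, 11, 1, 7, 2, 11, 9, 11, 3, 7, 8]
def rw2794 : List ℕ := [5, 0, 2, 8, 1, 6, 11, 1, 7, 2, 11, 9, 11, 0, 10, 8, 10, 3, 6, 0, 10, 7, 0, 9, 3, 1, 4, 9, 6, 2, 1, 3, 7, 8]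
def rw2795 : List ℕ := [5, 9, 9, 0, 11, 11, 11, 6, 6, 0, 11, 1, 10, 1, 7, 7, 10, 10, 10, 1, 8, 8, 4, 0, 8, 3, 9, 5, 6, 0, 7, 4, 8, 2, 9, 1]
def rw2796 : List ℕ := [5, 6, 4, 7, 4, 8, 2, 9, 1, 5, 9, 9, 0, 11, 11, 11, 6, 6, 0, 11, 5, 10, 1, 7, 7, 10, 10, 10, 1, 8, 8, 4, 0, 8, 3, 9]
def rw2797 : List ℕ := [5, 0, 2, 8, 1, 6, 3, 7, 0, 9, 3, 1, 4, 9, 6, 2, 10, 8, 10, 3, 6, 0, 10, 2, 11, 1, 7, 2, 11, 9, 11, 3, 7, 8]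
def rw2798 : List ℕ := [5, 6, 2, 7, 4, 8, 2, 9, 1, 5, 9, 9, 0, 11, 11, 11, 6, 6, 0, 11, 3, 10, 1, 7, 7, 10, 10, 10, 1, 8, 8, 4, 0, 8, 3, 9]
def rw2799 : List ℕ := [5, 1, 10, 8, 3, 8, 7, 10, 2, 11, 6, 9, 2, 9, 11, 0, 4, 1, 7, 9, 0, 5, 6, 8, 3, 9, 7, 4, 1, 8, 6, 0]
def rw2800 : List ℕ := [5, 1, 10, 8, 3, 8, 7, 10, 7, 11, 6, 9, 2, 9, 11, 0, 4, 1, 7, 9, 0, 5, 6, 8, 6, 9, 7, 4, 1, 8, 6, 0]
def rw2801 : List ℕ := [5, 6, 8, 11, 6, 9, 2, 9, 11, 2, 10, 8, 3, 8, 7, 10, 9, 7, 4, 1, 8, 6, 0, 5, 1, 3, 0, 4, 1, 7, 9, 0]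
def rw2802 : List ℕ := [5, 6, 8, 11, 6, 9, 2, 9, 11, 9, 10, 8, 3, 8, 7, 10, 9, 7, 4, 1, 8, 6, 0, 5, 1, 8, 0, 4, 1, 7, 9, 0]
def rw2803 : List ℕ := [5, 11, 9, 6, 6, 2, 1, 8, 7, 2, 7, 10, 6, 3, 6, 9, 0, 3, 7, 7, 8, 10, 4, 3, 0, 10, 1, 10, 11, 11, 0, 11, 1, 2]
def rw2804 : List ℕ := [5, 3, 9, 7, 10, 4, 1, 5, 1, 4, 0, 11, 5, 3, 0, 6, 9, 2]
def rw2805 : List ℕ := [5, 1, 2, 8, 4, 2, 8, 10, 9, 3, 5, 9, 3, 0, 4, 9, 2, 9, 11, 5, 3, 7, 10, 1, 11, 11, 10, 0, 11, 6, 2, 4, 10, 8, 3, 8]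
def rw2806 : List ℕ := [5, 3, 9, 7, 10, 4, 0, 0, 5, 2, 1, 11, 5, 3, 0, 6, 9, 2]
def rw2807 : List ℕ := [5, 9, 9, 0, 11, 11, 11, 6, 6, 0, 11, 7, 10, 1, 7, 7, 10, 10, 10, 1, 8, 8, 4, 0, 8, 3, 9, 5, 6, 6, 7, 4, 8, 2, 9, 1]
def rw2808 : List ℕ := [5, 5, 8, 10, 0, 5, 2, 1, 4, 0, 11, 1, 9, 1, 8, 2, 2, 9]
def rw2809 : List ℕ := [5, 6, 8, 11, 6, 9, 2, 9, 11, 0, 10, 8, 3, 8, 7, 10, 9, 7, 4, 1, 8, 6, 0, 5, 1, 1, 0, 4, 1, 7, 9, 0]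
def rw2810 : List ℕ := [5, 0, 2, 8, 1, 6, 10, 7, 0, 9, 3, 1, 4, 9, 6, 2, 10, 8, 10, 3, 6, 0, 10, 11, 11, 1, 7, 2, 11, 9, 11, 3, 7, 8]
def rw2811 : List ℕ := [5, 11, 9, 6, 6, 2, 1, 8, 7, 2, 7, 2, 6, 3, 6, 9, 0, 3, 7, 7, 8, 10, 4, 3, 0, 10, 1, 10, 3, 11, 0, 11, 1, 2]
def rw2812 : List ℕ := [5, 9, 9, 0, 11, 11, 11, 6, 6, 0, 11, 3, 10, 1, 7, 7, 10, 10, 10, 1, 8, 8, 4, 0, 8, 3, 9, 5, 6, 2, 7, 4, 8, 2, 9, 1]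
def rw2813 : List ℕ := [5, 6, 8, 2, 9, 7, 4, 1, 8, 6, 0, 5, 1, 10, 8, 3, 8, 7, 10, 3, 11, 6, 9, 2, 9, 11, 0, 4, 1, 7, 9, 0]
def rw2814 : List ℕ := [5, 9, 3, 0, 4, 9, 2, 9, 11, 5, 3, 7, 10, 1, 11, 10, 10, 0, 11, 6, 2, 4, 10, 8, 3, 8, 5, 1, 2, 8, 4, 2, 8, 11, 9, 3]
def rw2815 : List ℕ := [5, 3, 0, 6, 9, 2, 5, 3, 9, 7, 10, 6, 0, 5, 6, 0, 5, 11]
def rw2816 : List ℕ := [5, 1, 9, 0, 4, 1, 7, 9, 0, 5, 6, 8, 11, 6, 9, 2, 9, 11, 8, 10, 8, 3, 8, 7, 10, 9, 7, 4, 1, 8, 6, 0]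
def rw2817 : List ℕ := [5, 6, 8, 1, 9, 7, 4, 1, 8, 6, 0, 5, 1, 10, 8, 3, 8, 7, 10, 0, 11, 6, 9, 2, 9, 11, 0, 4, 1, 7, 9, 0]
def rw2818 : List ℕ := [5, 11, 9, 6, 6, 2, 1, 8, 7, 2, 7, 8, 6, 3, 6, 9, 0, 3, 7, 7, 8, 10, 4, 3, 0, 10, 1, 10, 9, 11, 0, 11, 1, 2]
def rw2819 : List ℕ := [5, 11, 9, 6, 6, 2, 1, 8, 7, 2, 7, 4, 6, 3, 6, 9, 0, 3, 7, 7, 8, 10, 4, 3, 0, 10, 1, 10, 5, 11, 0, 11, 1, 2]
def rw2820 : List ℕ := [5, 11, 10, 10, 4, 3, 0, 10, 1, 10, 6, 3, 6, 9, 0, 3, 7, 7, 8, 11, 9, 6, 6, 2, 1, 8, 7, 2, 7, 11, 0, 11, 1, 2]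
def rw2821 : List ℕ := [5, 1, 2, 8, 4, 2, 8, 3, 9, 3, 5, 9, 3, 0, 4, 9, 2, 9, 11, 5, 3, 7, 10, 1, 11, 2, 10, 0, 11, 6, 2, 4, 10, 8, 3, 8]
def rw2822 : List ℕ := [5, 11, 8, 10, 4, 3, 0, 10, 1, 10, 6, 3, 6, 9, 0, 3, 7, 7, 8, 9, 9, 6, 6, 2, 1, 8, 7, 2, 7, 11, 0, 11, 1, 2]
def rw2823 : List ℕ := [5, 3, 9, 7, 10, 7, 5, 5, 7, 2, 11, 5, 3, 0, 6, 9, 2]
def rw2824 : List ℕ := [5, 1, 2, 8, 4, 2, 8, 6, 9, 3, 5, 9, 3, 0, 4, 9, 2, 9, 11, 5, 3, 7, 10, 1, 11, 7, 10, 0, 11, 6, 2, 4, 10, 8, 3, 8]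
def rw2825 : List ℕ := [5, 1, 6, 0, 4, 1, 7, 9, 0, 5, 6, 8, 11, 6, 9, 2, 9, 11, 7, 10, 8, 3, 8, 7, 10, 9, 7, 4, 1, 8, 6, 0]
def rw2826 : List ℕ := [5, 1, 2, 8, 4, 2, 8, 4, 9, 3, 5, 9, 3, 0, 4, 9, 2, 9, 11, 5, 3, 7, 10, 1, 11, 5, 10, 0, 11, 6, 2, 4, 10, 8, 3, 8]
def rw2827 : List ℕ := [5, 6, 8, 4, 9, 7, 4, 1, 8, 6, 0, 5, 1, 10, 8, 3, 8, 7, 10, 5, 11, 6, 9, 2, 9, 11, 0, 4, 1, 7, 9, 0]
def rw2828 : List ℕ := [5, 7, 1, 10, 3, 3, 5, 5, 3, 11, 2, 9, 2, 8, 0, 7, 9]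
def rw2829 : List ℕ := [5, 0, 8, 10, 7, 3, 7, 5, 7, 0, 11, 1, 3, 8, 6, 3, 5]
def rw2830 : List ℕ := [5, 7, 1, 10, 3, 5, 5, 3, 5, 5, 11, 2, 9, 2, 8, 0, 7, 9]
def rw2831 : List ℕ := [5, 1, 0, 0, 4, 1, 7, 9, 0, 5, 6, 8, 11, 6, 9, 2, 9, 11, 1, 10, 8, 3, 8, 7, 10, 9, 7, 4, 1, 8, 6, 0]
def rw2832 : List ℕ := [5, 11, 6, 9, 2, 9, 11, 0, 4, 1, 7, 9, 0, 5, 6, 8, 4, 9, 7, 4, 1, 8, 6, 0, 5, 1, 10, 8, 3, 8, 7, 10]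
def rw2833 : List ℕ := [5, 9, 3, 0, 4, 9, 2, 9, 11, 5, 3, 7, 10, 1, 11, 6, 10, 0, 11, 6, 2, 4, 10, 8, 3, 8, 5, 1, 2, 8, 4, 2, 8, 7, 9, 3]
def rw2834 : List ℕ := [5, 5, 8, 10, 1, 4, 1, 4, 4, 4, 11, 1, 9, 1, 8, 2, 2, 9]
def rw2835 : List ℕ := [5, 0, 2, 8, 1, 6, 11, 1, 7, 2, 11, 9, 11, 1, 10, 8, 10, 3, 6, 0, 10, 7, 0, 9, 3, 1, 4, 9, 6, 2, 0, 3, 7, 8]
def rw2836 : List ℕ := [5, 6, 3, 7, 4, 8, 2, 9, 1, 5, 9, 9, 0, 11, 11, 11, 6, 6, 0, 11, 2, 10, 1, 7, 7, 10, 10, 10, 1, 8, 8, 4, 0, 8, 3, 9]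
def rw2837 : List ℕ := [5, 1, 2, 8, 4, 2, 8, 1, 9, 3, 5, 9, 3, 0, 4, 9, 2, 9, 11, 5, 3, 7, 10, 1, 11, 0, 10, 0, 11, 6, 2, 4, 10, 8, 3, 8]
def rw2838 : List ℕ := [5, 6, 8, 11, 6, 9, 2, 9, 11, 6, 10, 8, 3, 8, 7, 10, 9, 7, 4, 1, 8, 6, 0, 5, 1, 7, 0, 4, 1, 7, 9, 0]
def rw2839 : List ℕ := [5, 0, 2, 8, 1, 6, 11, 1, 7, 2, 11, 9, 11, 9, 10, 8, 10, 3, 6, 0, 10, 7, 0, 9, 3, 1, 4, 9, 6, 2, 8, 3, 7, 8]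
def rw2840 : List ℕ := [5, 0, 2, 8, 1, 6, 11, 1, 7, 2, 11, 9, 11, 5, 10, 8, 10, 3, 6, 0, 10, 7, 0, 9, 3, 1, 4, 9, 6, 2, 4, 3, 7, 8]
def rw2841 : List ℕ := [5, 6, 0, 7, 4, 8, 2, 9, 1, 5, 9, 9, 0, 11, 11, 11, 6, 6, 0, 11, 1, 10, 1, 7, 7, 10, 10, 10, 1, 8, 8, 4, 0, 8, 3, 9]
def rw2842 : List ℕ := [5, 5, 8, 10, 5, 0, 5, 0, 4, 4, 11, 1, 9, 1, 8, 2, 2, 9]
def rw2843 : List ℕ := [5, 0, 2, 8, 1, 6, 1, 7, 0, 9, 3, 1, 4, 9, 6, 2, 10, 8, 10, 3, 6, 0, 10, 0, 11, 1, 7, 2, 11, 9, 11, 3, 7, 8]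
def rw2844 : List ℕ := [5, 0, 2, 8, 1, 6, 11, 1, 7, 2, 11, 9, 11, 2, 10, 8, 10, 3, 6, 0, 10, 7, 0, 9, 3, 1, 4, 9, 6, 2, 3, 3, 7, 8]
def rw2845 : List ℕ := [5, 0, 2, 8, 1, 6, 11, 1, 7, 2, 11, 9, 11, 3, 10, 8, 10, 3, 6, 0, 10, 7, 0, 9, 3, 1, 4, 9, 6, 2, 2, 3, 7, 8]
def rw2846 : List ℕ := [5, 6, 6, 7, 4, 8, 2, 9, 1, 5, 9, 9, 0, 11, 11, 11, 6, 6, 0, 11, 7, 10, 1, 7, 7, 10, 10, 10, 1, 8, 8, 4, 0, 8, 3, 9]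
def rw2847 : List ℕ := [5, 0, 2, 8, 1, 6, 4, 7, 0, 9, 3, 1, 4, 9, 6, 2, 10, 8, 10, 3, 6, 0, 10, 5, 11, 1, 7, 2, 11, 9, 11, 3, 7, 8]
def rw2848 : List ℕ := [5, 0, 2, 8, 1, 6, 11, 1, 7, 2, 11, 9, 11, 8, 10, 8, 10, 3, 6, 0, 10, 7, 0, 9, 3, 1, 4, 9, 6, 2, 9, 3, 7, 8]
def rw2849 : List ℕ := [5, 0, 2, 8, 1, 6, 11, 1, 7, 2, 11, 9, 11, 7, 10, 8, 10, 3, 6, 0, 10, 7, 0, 9, 3, 1, 4, 9, 6, 2, 6, 3, 7, 8]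
def rw2850 : List ℕ := [6, 2, 6, 4, 4, 3, 4, 6]
def rw2851 : List ℕ := [6, 3, 6, 11, 9, 5, 1, 9, 7, 1, 6, 1, 2, 10, 0, 7, 2]
def rw2852 : List ℕ := [6, 5, 5, 6, 3, 6, 5, 6, 4, 2]
def rw2853 : List ℕ := [6, 0, 0, 11, 2, 1, 8, 8, 0, 7, 2, 7, 9, 6, 10, 1, 1, 4]
def rw2854 : List ℕ := [6, 2, 6, 3, 4, 3, 5, 6]
def rw2855 : List ℕ := [6, 5, 6, 5, 6, 5, 6, 5]
def rw2856 : List ℕ := [6, 3, 7, 2, 4, 7, 2, 4]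
def rw2857 : List ℕ := [6, 3, 6, 5, 6, 4, 2, 6, 5, 5]
def rw2858 : List ℕ := [6, 5, 7, 5, 6, 4]
def rw2859 : List ℕ := [6, 6, 2, 6, 3, 4, 3, 5]
def rw2860 : List ℕ := [6, 4, 6, 5, 7, 5]
def rw2861 : List ℕ := [6, 3, 4, 3, 5, 6, 6, 2]
def rw2862 : List ℕ := [6, 5, 6, 4, 2, 6, 5, 5, 6, 3]
def rw2863 : List ℕ := [6, 4, 7, 5, 7, 4]
def rw2864 : List ℕ := [6, 4, 4, 6, 4, 4]
def rw2865 : List ℕ := [6, 0, 4, 2, 6, 0, 4, 2]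
def rw2866 : List ℕ := [6, 8, 7, 9, 7, 8]
def rw2867 : List ℕ := [6, 4, 4, 6, 4, 4]
def rw2868 : List ℕ := [6, 5, 3, 6, 2, 7, 5, 3]
def rw2869 : List ℕ := [6, 0, 4, 2, 6, 0, 4, 2]
def rw2870 : List ℕ := [6, 4, 2, 6, 5, 5, 6, 3, 6, 5]
def rw2871 : List ℕ := [6, 4, 4, 3, 4, 6, 6, 2]
def rw2872 : List ℕ := [6, 2, 7, 5, 3, 6, 5, 3]
def rw2873 : List ℕ := [6, 9, 7, 9, 6, 8]
def rw2874 : List ℕ := [6, 6, 6, 6, 6, 6, 6]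
def rw2875 : List ℕ := [6, 6, 6, 6, 6, 6, 6]
def rw2876 : List ℕ := [6, 6, 2, 6, 6, 6, 2, 6]
def rw2877 : List ℕ := [6, 6, 4, 6, 5, 6, 4, 6]
def rw2878 : List ℕ := [6, 4, 6, 4, 6, 4]
def rw2879 : List ℕ := [6, 5, 6, 4, 6, 6, 6, 4]
def rw2880 : List ℕ := [6, 6, 6, 6, 6, 6, 6]
def rw2881 : List ℕ := [6, 9, 9, 4, 4, 7, 7, 4, 9, 6]
def rw2882 : List ℕ := [6, 6, 9, 9, 4, 4, 7, 7, 4, 9]
def rw2883 : List ℕ := [6, 8, 6, 9, 7, 9]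
def rw2884 : List ℕ := [6, 9, 6, 9, 6, 9, 6, 9]
def rw2885 : List ℕ := [6, 6, 2, 6, 4, 4, 3, 4]
def rw2886 : List ℕ := [6, 6, 6, 6, 6, 6, 6]
def rw2887 : List ℕ := [6, 6, 6, 6, 6, 6, 6]
def rw2888 : List ℕ := [6, 9, 6, 9, 6, 9, 6, 9]
def rw2889 : List ℕ := [6, 4, 6, 4, 6, 4]
def rw2890 : List ℕ := [6, 6, 6, 6, 6, 6, 6]
def rw2891 : List ℕ := [6, 9, 4, 3, 5, 3, 8, 4, 3, 3]
def rw2892 : List ℕ := [6, 1, 9, 2, 4, 7, 11, 4, 3, 9, 4, 2, 5, 10, 5, 6, 2, 5]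
def rw2893 : List ℕ := [6, 6, 6, 2, 6, 6, 6, 2]
def rw2894 : List ℕ := [6, 5, 6, 5, 6, 5, 6, 5]
def rw2895 : List ℕ := [6, 4, 6, 5, 6, 4, 6, 6]
def rw2896 : List ℕ := [6, 5, 5, 8, 8, 7, 7, 8, 5, 6]
def rw2897 : List ℕ := [6, 2, 6, 6, 6, 2, 6, 6]
def rw2898 : List ℕ := [6, 6, 5, 5, 8, 8, 7, 7, 8, 5]
def rw2899 : List ℕ := [6, 4, 6, 6, 6, 4, 6, 5]
def rw2900 : List ℕ := [6, 5, 6, 5, 6, 5, 6, 5]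
def rw2901 : List ℕ := [6, 9, 6, 9, 6, 9, 6, 9]
def rw2902 : List ℕ := [6, 2, 6, 6, 6, 2, 6, 6]
def rw2903 : List ℕ := [6, 6, 2, 6, 6, 6, 2, 6]
def rw2904 : List ℕ := [6, 11, 2, 8, 1, 7, 1, 1, 3, 8, 6, 3, 10, 6, 5, 3, 8, 5]
def rw2905 : List ℕ := [6, 11, 9, 1, 4, 4, 2, 7, 9, 2, 0, 10, 1, 4, 6, 4, 2]
def rw2906 : List ℕ := [6, 10, 2, 1, 1, 1, 3, 1, 11, 7, 7, 1, 1, 1, 6, 9, 1, 8]
def rw2907 : List ℕ := [6, 5, 2, 7, 8, 5, 11, 6, 2, 1, 7, 9, 1, 5, 6, 6, 3, 10]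
def rw2908 : List ℕ := [6, 6, 0, 11, 11, 10, 1, 7, 7, 10, 10, 10, 1, 8, 8, 4, 0, 8, 3, 9, 5, 6, 10, 7, 4, 8, 2, 9, 1, 5, 9, 9, 0, 11, 11, 11]
def rw2909 : List ℕ := [6, 6, 6, 2, 6, 6, 6, 2]
def rw2910 : List ℕ := [6, 11, 9, 5, 1, 9, 7, 1, 6, 1, 2, 10, 0, 7, 2, 6, 3]
def rw2911 : List ℕ := [6, 4, 2, 6, 11, 9, 1, 4, 4, 2, 7, 9, 2, 0, 10, 1, 4]
def rw2912 : List ℕ := [6, 9, 4, 11, 0, 0, 9, 4, 6, 1, 3, 1, 9, 6, 10, 3, 7, 4]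
def rw2913 : List ℕ := [6, 5, 11, 8, 0, 7, 9, 1, 3, 4, 7, 3, 5, 10, 3, 3, 6, 1]
def rw2914 : List ℕ := [6, 11, 0, 6, 4, 8, 6, 1, 9, 3, 8, 3, 10, 3, 6, 4, 4]
def rw2915 : List ℕ := [6, 11, 6, 8, 2, 4, 3, 8, 7, 1, 2, 4, 10, 3, 6, 4, 4]
def rw2916 : List ℕ := [6, 0, 10, 7, 0, 9, 3, 1, 4, 9, 6, 2, 8, 3, 7, 8, 5, 0, 2, 8, 1, 6, 11, 1, 7, 2, 11, 9, 11, 9, 10, 8, 10, 3]
def rw2917 : List ℕ := [6, 9, 2, 9, 11, 4, 10, 8, 3, 8, 7, 10, 9, 7, 4, 1, 8, 6, 0, 5, 1, 5, 0, 4, 1, 7, 9, 0, 5, 6, 8, 11]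
def rw2918 : List ℕ := [6, 3, 6, 9, 0, 3, 7, 7, 8, 11, 9, 6, 6, 2, 1, 8, 7, 2, 7, 11, 0, 11, 1, 2, 5, 11, 10, 10, 4, 3, 0, 10, 1, 10]
def rw2919 : List ℕ := [6, 11, 9, 9, 9, 4, 1, 8, 1, 8, 1, 1, 10, 7, 5, 1, 1, 6]
def rw2920 : List ℕ := [6, 2, 10, 8, 10, 3, 6, 0, 10, 5, 11, 1, 7, 2, 11, 9, 11, 3, 7, 8, 5, 0, 2, 8, 1, 6, 4, 7, 0, 9, 3, 1, 4, 9]
def rw2921 : List ℕ := [6, 9, 2, 2, 10, 2, 4, 0, 3, 9, 4, 8, 2, 1, 11, 9, 5]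
def rw2922 : List ℕ := [6, 4, 2, 8, 5, 6, 11, 1, 7, 1, 1, 1, 4, 8, 8, 0, 9, 10]
def rw2923 : List ℕ := [6, 0, 5, 6, 0, 5, 11, 5, 3, 0, 6, 9, 2, 5, 3, 9, 7, 10]
def rw2924 : List ℕ := [6, 9, 2, 9, 11, 0, 4, 1, 7, 9, 0, 5, 6, 8, 0, 9, 7, 4, 1, 8, 6, 0, 5, 1, 10, 8, 3, 8, 7, 10, 1, 11]
def rw2925 : List ℕ := [6, 2, 10, 8, 10, 3, 6, 0, 10, 11, 11, 1, 7, 2, 11, 9, 11, 3, 7, 8, 5, 0, 2, 8, 1, 6, 10, 7, 0, 9, 3, 1, 4, 9]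
def rw2926 : List ℕ := [6, 1, 9, 3, 8, 3, 10, 3, 6, 4, 4, 6, 11, 0, 6, 4, 8]
def rw2927 : List ℕ := [6, 8, 11, 9, 7, 4, 1, 8, 6, 0, 5, 1, 10, 8, 3, 8, 7, 10, 10, 11, 6, 9, 2, 9, 11, 0, 4, 1, 7, 9, 0, 5]
def rw2928 : List ℕ := [6, 9, 4, 3, 7, 4, 10, 9, 6, 3, 9, 1, 6, 0, 9, 1, 6, 11]
def rw2929 : List ℕ := [6, 6, 10, 3, 1, 3, 0, 0, 3, 11, 7, 9, 0, 8, 7, 0, 0, 0]
def rw2930 : List ℕ := [6, 0, 9, 1, 6, 11, 6, 9, 4, 3, 7, 4, 10, 9, 6, 3, 9, 1]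
def rw2931 : List ℕ := [6, 1, 11, 3, 0, 7, 0, 6, 8, 0, 4, 8, 10, 7, 2, 7, 3]
def rw2932 : List ℕ := [6, 0, 5, 11, 5, 3, 0, 6, 9, 2, 5, 3, 9, 7, 10, 6, 0, 5]
def rw2933 : List ℕ := [6, 0, 5, 1, 10, 8, 3, 8, 7, 10, 0, 11, 6, 9, 2, 9, 11, 0, 4, 1, 7, 9, 0, 5, 6, 8, 1, 9, 7, 4, 1, 8]
def rw2934 : List ℕ := [6, 4, 0, 11, 1, 3, 8, 6, 3, 5, 5, 0, 8, 10, 7, 3, 4]
def rw2935 : List ℕ := [6, 0, 4, 3, 7, 11, 4, 7, 0, 9, 1, 9, 5, 8, 0, 7, 10]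
def rw2936 : List ℕ := [6, 10, 2, 1, 2, 0, 11, 7, 7, 1, 1, 1, 6, 9, 1, 8]
def rw2937 : List ℕ := [6, 2, 4, 3, 6, 11, 2, 9, 2, 8, 0, 7, 9, 5, 7, 1, 10, 2]
def rw2938 : List ℕ := [6, 6, 0, 11, 3, 10, 1, 7, 7, 10, 10, 10, 1, 8, 8, 4, 0, 8, 3, 9, 5, 6, 2, 7, 4, 8, 2, 9, 1, 5, 9, 9, 0, 11, 11, 11]
def rw2939 : List ℕ := [6, 3, 3, 6, 10, 4, 7, 3, 8, 0, 0, 9, 2, 6, 3, 11, 9, 3]
def rw2940 : List ℕ := [6, 2, 5, 6, 1, 9, 2, 4, 7, 11, 4, 3, 9, 4, 2, 5, 10, 5]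
def rw2941 : List ℕ := [6, 4, 6, 2, 6, 11, 9, 1, 4, 4, 2, 7, 9, 2, 0, 10, 1]
def rw2942 : List ℕ := [6, 1, 3, 1, 9, 6, 10, 3, 7, 4, 6, 9, 4, 11, 0, 0, 9, 4]
def rw2943 : List ℕ := [6, 5, 9, 4, 11, 0, 0, 9, 4, 6, 1, 3, 1, 9, 6, 10, 3, 4]
def rw2944 : List ℕ := [6, 1, 6, 9, 2, 1, 8, 10, 2, 0, 7, 0, 3, 5, 11, 9, 3, 0]
def rw2945 : List ℕ := [6, 2, 2, 6, 0, 5, 11, 9, 7, 0, 9, 1, 3, 9, 0, 6, 8, 10]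
def rw2946 : List ℕ := [6, 0, 9, 3, 10, 7, 4, 9, 2, 4, 7, 11, 2, 7, 9, 2, 0, 0]
def rw2947 : List ℕ := [6, 9, 1, 8, 6, 10, 1, 2, 2, 2, 2, 11, 7, 7, 1, 1, 1]
def rw2948 : List ℕ := [6, 4, 8, 6, 1, 9, 3, 8, 3, 10, 4, 2, 4, 4, 3, 3, 11, 0]
def rw2949 : List ℕ := [6, 10, 3, 4, 6, 5, 9, 4, 11, 0, 0, 9, 4, 6, 1, 3, 1, 9]
def rw2950 : List ℕ := [6, 11, 5, 3, 0, 6, 9, 2, 5, 3, 9, 7, 10, 7, 7, 4, 3, 5]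
def rw2951 : List ℕ := [6, 0, 10, 2, 11, 1, 7, 2, 11, 9, 11, 3, 7, 8, 5, 0, 2, 8, 1, 6, 3, 7, 0, 9, 3, 1, 4, 9, 6, 2, 10, 8, 10, 3]
def rw2952 : List ℕ := [6, 1, 5, 5, 10, 6, 0, 5, 3, 3, 7, 11, 0, 4, 9, 3, 6]
def rw2953 : List ℕ := [6, 8, 0, 3, 10, 5, 7, 3, 7, 2, 1, 11, 6, 8, 0, 6, 8, 0]
def rw2954 : List ℕ := [6, 1, 6, 5, 11, 8, 0, 7, 9, 1, 3, 4, 7, 3, 5, 10, 3, 3]
def rw2955 : List ℕ := [6, 5, 2, 0, 8, 6, 1, 9, 10, 4, 7, 0, 7, 2, 2, 11, 4, 2]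
def rw2956 : List ℕ := [6, 1, 9, 3, 8, 3, 10, 5, 2, 4, 4, 3, 11, 0, 6, 4, 8]
def rw2957 : List ℕ := [6, 2, 1, 11, 6, 8, 0, 6, 8, 0, 6, 8, 0, 3, 10, 4, 3, 4]
def rw2958 : List ℕ := [6, 1, 7, 9, 4, 2, 10, 1, 5, 6, 2, 2, 11, 3, 1]
def rw2959 : List ℕ := [6, 8, 0, 3, 10, 6, 6, 3, 6, 5, 1, 11, 6, 8, 0, 6, 8, 0]
def rw2960 : List ℕ := [6, 11, 6, 9, 4, 3, 7, 4, 10, 9, 6, 3, 9, 1, 6, 0, 9, 1]
def rw2961 : List ℕ := [6, 11, 1, 6, 9, 9, 6, 0, 10, 8, 6, 1, 9, 4, 2, 9, 0]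
def rw2962 : List ℕ := [6, 1, 9, 4, 2, 9, 0, 6, 11, 1, 6, 9, 9, 6, 0, 10, 8]
def rw2963 : List ℕ := [6, 11, 0, 0, 9, 0, 9, 0, 5, 8, 8, 8, 10, 7, 7, 0, 0, 4]
def rw2964 : List ℕ := [6, 3, 11, 9, 4, 4, 3, 6, 3, 10, 4, 7, 3, 8, 0, 0, 9, 2]
def rw2965 : List ℕ := [6, 2, 5, 5, 11, 9, 1, 4, 4, 2, 7, 9, 2, 0, 10, 1, 5]
def rw2966 : List ℕ := [6, 0, 5, 3, 3, 7, 11, 0, 4, 9, 3, 6, 6, 1, 5, 5, 10]
def rw2967 : List ℕ := [6, 2, 1, 8, 7, 2, 7, 2, 6, 3, 6, 9, 0, 3, 7, 7, 8, 10, 4, 3, 0, 10, 1, 10, 3, 11, 0, 11, 1, 2, 5, 11, 9, 6]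
def rw2968 : List ℕ := [6, 8, 3, 4, 1, 5, 9, 0, 4, 8, 10, 9, 4, 2, 1, 1, 8, 11]
def rw2969 : List ℕ := [6, 6, 10, 2, 2, 1, 1, 3, 1, 11, 7, 9, 0, 8, 7, 0, 0, 0]
def rw2970 : List ℕ := [6, 4, 8, 6, 1, 9, 3, 8, 3, 10, 5, 2, 4, 4, 3, 11, 0]
def rw2971 : List ℕ := [6, 9, 1, 8, 6, 10, 2, 1, 2, 0, 11, 7, 7, 1, 1, 1]
def rw2972 : List ℕ := [6, 2, 6, 3, 6, 6, 11, 6, 8, 2, 4, 3, 8, 7, 1, 2, 4, 10]
def rw2973 : List ℕ := [6, 8, 2, 4, 3, 8, 7, 1, 2, 4, 10, 7, 4, 2, 5, 6, 6, 11]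
def rw2974 : List ℕ := [6, 1, 3, 11, 9, 0, 3, 8, 7, 0, 7, 1, 2, 8, 10, 4, 2, 1]
def rw2975 : List ℕ := [6, 2, 4, 10, 8, 3, 8, 5, 1, 2, 8, 4, 2, 8, 6, 9, 3, 5, 9, 3, 0, 4, 9, 2, 9, 11, 5, 3, 7, 10, 1, 11, 7, 10, 0, 11]
def rw2976 : List ℕ := [6, 6, 6, 4, 6, 5, 6, 4]
def rw2977 : List ℕ := [6, 4, 4, 6, 11, 6, 8, 2, 4, 3, 8, 7, 1, 2, 4, 10, 3]
def rw2978 : List ℕ := [6, 9, 2, 9, 11, 8, 10, 8, 3, 8, 7, 10, 9, 7, 4, 1, 8, 6, 0, 5, 1, 9, 0, 4, 1, 7, 9, 0, 5, 6, 8, 11]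
def rw2979 : List ℕ := [6, 2, 5, 1, 7, 11, 6, 1, 9, 4, 8, 0, 8, 1, 6, 5, 10]
def rw2980 : List ℕ := [6, 5, 1, 5, 8, 11, 3, 8, 6, 0, 7, 0, 2, 0, 9, 2, 10, 9]
def rw2981 : List ℕ := [6, 2, 2, 11, 3, 1, 6, 1, 7, 9, 4, 2, 10, 1, 5]
def rw2982 : List ℕ := [6, 6, 0, 11, 1, 10, 1, 7, 7, 10, 10, 10, 1, 8, 8, 4, 0, 8, 3, 9, 5, 6, 0, 7, 4, 8, 2, 9, 1, 5, 9, 9, 0, 11, 11, 11]
def rw2983 : List ℕ := [6, 8, 2, 4, 3, 8, 7, 1, 2, 4, 10, 3, 6, 4, 4, 6, 11]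
def rw2984 : List ℕ := [6, 5, 6, 5, 6, 5, 6, 5]
def rw2985 : List ℕ := [6, 8, 0, 6, 8, 0, 3, 10, 5, 7, 3, 7, 2, 1, 11, 6, 8, 0]
def rw2986 : List ℕ := [6, 4, 11, 2, 1, 9, 7, 1, 9, 7, 1, 9, 7, 10, 0, 3, 6, 2]
def rw2987 : List ℕ := [6, 8, 6, 9, 7, 4, 1, 8, 6, 0, 5, 1, 10, 8, 3, 8, 7, 10, 7, 11, 6, 9, 2, 9, 11, 0, 4, 1, 7, 9, 0, 5]
def rw2988 : List ℕ := [6, 6, 11, 9, 9, 9, 4, 1, 8, 1, 8, 1, 1, 10, 7, 5, 1, 1]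
def rw2989 : List ℕ := [6, 11, 6, 8, 2, 4, 3, 8, 7, 1, 2, 4, 10, 6, 2, 6, 3, 6]
def rw2990 : List ℕ := [6, 2, 5, 9, 3, 5, 10, 3, 0, 7, 8, 6, 1, 8, 0, 4, 0, 11]
def rw2991 : List ℕ := [6, 6, 0, 11, 7, 10, 1, 7, 7, 10, 10, 10, 1, 8, 8, 4, 0, 8, 3, 9, 5, 6, 6, 7, 4, 8, 2, 9, 1, 5, 9, 9, 0, 11, 11, 11]
def rw2992 : List ℕ := [6, 8, 3, 9, 7, 4, 1, 8, 6, 0, 5, 1, 10, 8, 3, 8, 7, 10, 2, 11, 6, 9, 2, 9, 11, 0, 4, 1, 7, 9, 0, 5]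
def rw2993 : List ℕ := [6, 6, 10, 1, 3, 0, 3, 11, 7, 9, 0, 8, 7, 0, 0, 0]
def rw2994 : List ℕ := [6, 8, 0, 6, 8, 0, 6, 8, 0, 3, 10, 2, 5, 2, 6, 2, 1, 11]
def rw2995 : List ℕ := [6, 6, 11, 6, 8, 2, 4, 3, 8, 7, 1, 2, 4, 10, 6, 2, 6, 3]
def rw2996 : List ℕ := [6, 1, 9, 3, 8, 3, 10, 5, 5, 5, 2, 4, 4, 11, 0, 6, 4, 8]
def rw2997 : List ℕ := [6, 4, 4, 6, 11, 0, 6, 4, 8, 6, 1, 9, 3, 8, 3, 10, 3]
def rw2998 : List ℕ := [6, 0, 10, 7, 4, 9, 3, 5, 7, 11, 8, 1, 9, 9, 5, 0, 0, 0]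
def rw2999 : List ℕ := [6, 2, 6, 4, 11, 2, 1, 9, 7, 1, 9, 7, 1, 9, 7, 10, 0, 3]
def rw3000 : List ℕ := [6, 3, 10, 4, 7, 3, 8, 0, 0, 9, 2, 6, 3, 11, 9, 4, 4, 3]
def rw3001 : List ℕ := [6, 1, 2, 10, 0, 7, 2, 6, 3, 6, 11, 9, 5, 1, 9, 7, 1]
def rw3002 : List ℕ := [6, 5, 3, 8, 0, 7, 4, 3, 7, 4, 11, 4, 3, 5, 8, 2, 5, 10]
def rw3003 : List ℕ := [6, 1, 9, 9, 0, 3, 10, 1, 1, 7, 5, 0, 0, 11, 7, 8, 6, 3]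
def rw3004 : List ℕ := [6, 9, 2, 9, 11, 7, 10, 8, 3, 8, 7, 10, 9, 7, 4, 1, 8, 6, 0, 5, 1, 6, 0, 4, 1, 7, 9, 0, 5, 6, 8, 11]
def rw3005 : List ℕ := [6, 8, 0, 4, 8, 10, 7, 2, 7, 3, 6, 1, 11, 3, 0, 7, 0]
def rw3006 : List ℕ := [6, 1, 7, 9, 2, 10, 9, 4, 0, 4, 7, 8, 11, 3, 8, 1, 3, 1]
def rw3007 : List ℕ := [6, 9, 2, 9, 11, 0, 4, 1, 7, 9, 0, 5, 6, 8, 4, 9, 7, 4, 1, 8, 6, 0, 5, 1, 10, 8, 3, 8, 7, 10, 5, 11]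
def rw3008 : List ℕ := [6, 3, 6, 1, 9, 9, 0, 3, 10, 1, 1, 7, 5, 0, 0, 11, 7, 8]
def rw3009 : List ℕ := [6, 0, 3, 7, 10, 4, 9, 6, 3, 4, 7, 11, 2, 7, 7, 4, 0, 8]
def rw3010 : List ℕ := [6, 3, 6, 9, 0, 3, 7, 7, 8, 10, 9, 6, 6, 2, 1, 8, 7, 2, 7, 11, 0, 11, 1, 2, 5, 11, 11, 10, 4, 3, 0, 10, 1, 10]
def rw3011 : List ℕ := [6, 11, 2, 9, 2, 8, 0, 7, 9, 5, 7, 1, 10, 2, 6, 2, 4, 3]
def rw3012 : List ℕ := [6, 3, 4, 7, 11, 2, 7, 7, 4, 0, 8, 6, 0, 3, 7, 10, 4, 9]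
def rw3013 : List ℕ := [6, 2, 6, 11, 9, 1, 4, 4, 2, 7, 9, 2, 0, 10, 1, 6, 4]
def rw3014 : List ℕ := [6, 2, 4, 10, 8, 3, 8, 5, 1, 2, 8, 4, 2, 8, 1, 9, 3, 5, 9, 3, 0, 4, 9, 2, 9, 11, 5, 3, 7, 10, 1, 11, 0, 10, 0, 11]
def rw3015 : List ℕ := [6, 9, 9, 6, 0, 10, 8, 6, 1, 9, 4, 2, 9, 0, 6, 11, 1]
def rw3016 : List ℕ := [6, 11, 6, 8, 2, 4, 3, 8, 7, 1, 2, 4, 10, 7, 4, 2, 5, 6]
def rw3017 : List ℕ := [6, 9, 2, 9, 11, 6, 10, 8, 3, 8, 7, 10, 9, 7, 4, 1, 8, 6, 0, 5, 1, 7, 0, 4, 1, 7, 9, 0, 5, 6, 8, 11]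
def rw3018 : List ℕ := [6, 2, 1, 7, 9, 1, 5, 6, 6, 3, 10, 6, 5, 2, 7, 8, 5, 11]
def rw3019 : List ℕ := [6, 4, 8, 6, 1, 9, 3, 8, 3, 10, 5, 5, 5, 2, 4, 4, 11, 0]
def rw3020 : List ℕ := [6, 5, 11, 2, 7, 9, 1, 1, 3, 6, 0, 9, 3, 10, 3, 3, 9, 2]
def rw3021 : List ℕ := [6, 3, 5, 5, 0, 8, 10, 4, 4, 3, 7, 4, 0, 11, 1, 3, 8]
def rw3022 : List ℕ := [6, 3, 9, 1, 6, 0, 9, 1, 6, 11, 6, 9, 4, 3, 7, 4, 10, 9]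
def rw3023 : List ℕ := [6, 9, 2, 9, 11, 10, 10, 8, 3, 8, 7, 10, 9, 7, 4, 1, 8, 6, 0, 5, 1, 11, 0, 4, 1, 7, 9, 0, 5, 6, 8, 11]
def rw3024 : List ℕ := [6, 11, 1, 7, 2, 11, 9, 11, 5, 10, 8, 10, 3, 6, 0, 10, 7, 0, 9, 3, 1, 4, 9, 6, 2, 4, 3, 7, 8, 5, 0, 2, 8, 1]
def rw3025 : List ℕ := [6, 0, 9, 3, 10, 3, 3, 9, 2, 6, 5, 11, 2, 7, 9, 1, 1, 3]
def rw3026 : List ℕ := [6, 9, 2, 1, 8, 10, 2, 0, 7, 0, 3, 5, 11, 9, 3, 0, 6, 1]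
def rw3027 : List ℕ := [6, 4, 9, 3, 9, 10, 4, 1, 1, 7, 7, 3, 11, 9, 6, 0, 0]
def rw3028 : List ℕ := [6, 3, 6, 9, 0, 3, 7, 7, 8, 10, 4, 3, 0, 10, 1, 10, 5, 11, 0, 11, 1, 2, 5, 11, 9, 6, 6, 2, 1, 8, 7, 2, 7, 4]
def rw3029 : List ℕ := [6, 10, 2, 0, 2, 0, 0, 3, 11, 7, 9, 0, 8, 7, 0, 0, 0, 6]
def rw3030 : List ℕ := [6, 8, 0, 6, 8, 0, 6, 8, 0, 3, 10, 5, 7, 3, 7, 2, 1, 11]
def rw3031 : List ℕ := [6, 5, 3, 8, 5, 6, 11, 2, 8, 1, 7, 1, 1, 3, 8, 6, 3, 10]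
def rw3032 : List ℕ := [6, 0, 10, 8, 6, 1, 9, 4, 2, 9, 0, 6, 11, 1, 6, 9, 9]
def rw3033 : List ℕ := [6, 2, 5, 8, 7, 10, 7, 0, 8, 1, 7, 0, 8, 2, 7, 8, 11, 5]
def rw3034 : List ℕ := [6, 0, 11, 1, 3, 8, 6, 3, 5, 5, 0, 8, 10, 7, 3, 6, 4]
def rw3035 : List ℕ := [6, 10, 1, 1, 4, 6, 0, 0, 11, 2, 1, 8, 8, 0, 7, 2, 7, 9]
def rw3036 : List ℕ := [6, 4, 6, 0, 11, 1, 3, 8, 6, 3, 5, 5, 0, 8, 10, 7, 3]
def rw3037 : List ℕ := [6, 6, 11, 6, 8, 2, 4, 3, 8, 7, 1, 2, 4, 10, 7, 4, 2, 5]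
def rw3038 : List ℕ := [6, 2, 1, 11, 6, 8, 0, 6, 8, 0, 6, 8, 0, 3, 10, 2, 5, 2]
def rw3039 : List ℕ := [6, 0, 7, 0, 2, 10, 3, 3, 7, 4, 0, 11, 3, 5, 8]
def rw3040 : List ℕ := [6, 1, 9, 4, 8, 0, 8, 1, 6, 5, 10, 6, 2, 5, 1, 7, 11]
def rw3041 : List ℕ := [6, 2, 4, 10, 8, 3, 8, 5, 1, 2, 8, 4, 2, 8, 3, 9, 3, 5, 9, 3, 0, 4, 9, 2, 9, 11, 5, 3, 7, 10, 1, 11, 2, 10, 0, 11]
def rw3042 : List ℕ := [6, 11, 9, 1, 4, 4, 2, 7, 9, 2, 0, 10, 1, 6, 4, 6, 2]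
def rw3043 : List ℕ := [6, 9, 2, 5, 3, 9, 7, 10, 4, 0, 0, 5, 2, 1, 11, 5, 3, 0]
def rw3044 : List ℕ := [6, 3, 10, 6, 5, 2, 7, 8, 5, 11, 6, 2, 1, 7, 9, 1, 5, 6]
def rw3045 : List ℕ := [6, 8, 10, 6, 2, 2, 6, 0, 5, 11, 9, 7, 0, 9, 1, 3, 9, 0]
def rw3046 : List ℕ := [6, 10, 3, 4, 1, 4, 0, 4, 11, 7, 9, 0, 8, 7, 0, 0, 0, 6]
def rw3047 : List ℕ := [6, 2, 1, 8, 7, 2, 7, 3, 6, 3, 6, 9, 0, 3, 7, 7, 8, 10, 4, 3, 0, 10, 1, 10, 2, 11, 0, 11, 1, 2, 5, 11, 9, 6]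
def rw3048 : List ℕ := [6, 0, 5, 1, 10, 8, 3, 8, 7, 10, 9, 11, 6, 9, 2, 9, 11, 0, 4, 1, 7, 9, 0, 5, 6, 8, 8, 9, 7, 4, 1, 8]
def rw3049 : List ℕ := [6, 3, 6, 6, 11, 6, 8, 2, 4, 3, 8, 7, 1, 2, 4, 10, 6, 2]
def rw3050 : List ℕ := [6, 5, 10, 6, 2, 5, 1, 7, 11, 6, 1, 9, 4, 8, 0, 8, 1]
def rw3051 : List ℕ := [6, 2, 4, 10, 8, 3, 8, 5, 1, 2, 8, 4, 2, 8, 2, 9, 3, 5, 9, 3, 0, 4, 9, 2, 9, 11, 5, 3, 7, 10, 1, 11, 3, 10, 0, 11]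
def rw3052 : List ℕ := [6, 0, 5, 1, 10, 8, 3, 8, 7, 10, 6, 11, 6, 9, 2, 9, 11, 0, 4, 1, 7, 9, 0, 5, 6, 8, 7, 9, 7, 4, 1, 8]
def rw3053 : List ℕ := [6, 10, 4, 7, 3, 8, 0, 0, 9, 2, 6, 3, 11, 9, 3, 6, 3, 3]
def rw3054 : List ℕ := [6, 1, 9, 3, 8, 3, 10, 5, 5, 3, 5, 5, 2, 11, 0, 6, 4, 8]
def rw3055 : List ℕ := [6, 8, 2, 4, 3, 8, 7, 1, 2, 4, 10, 6, 2, 6, 3, 6, 6, 11]
def rw3056 : List ℕ := [6, 9, 3, 0, 9, 3, 9, 10, 4, 8, 8, 3, 4, 0, 11, 5, 2]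
def rw3057 : List ℕ := [6, 8, 10, 4, 1, 7, 3, 3, 7, 11, 9, 7, 1, 8, 2, 0, 8, 1]
def rw3058 : List ℕ := [6, 2, 4, 10, 8, 3, 8, 5, 1, 2, 8, 4, 2, 8, 0, 9, 3, 5, 9, 3, 0, 4, 9, 2, 9, 11, 5, 3, 7, 10, 1, 11, 1, 10, 0, 11]
def rw3059 : List ℕ := [6, 8, 0, 3, 10, 4, 3, 4, 6, 2, 1, 11, 6, 8, 0, 6, 8, 0]
def rw3060 : List ℕ := [6, 9, 2, 5, 3, 9, 7, 10, 5, 0, 2, 4, 0, 2, 11, 5, 3, 0]
def rw3061 : List ℕ := [6, 6, 2, 1, 8, 7, 2, 7, 10, 6, 3, 6, 9, 0, 3, 7, 7, 8, 10, 4, 3, 0, 10, 1, 10, 11, 11, 0, 11, 1, 2, 5, 11, 9]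
def rw3062 : List ℕ := [6, 8, 4, 9, 7, 4, 1, 8, 6, 0, 5, 1, 10, 8, 3, 8, 7, 10, 5, 11, 6, 9, 2, 9, 11, 0, 4, 1, 7, 9, 0, 5]
def rw3063 : List ℕ := [6, 0, 11, 3, 10, 1, 7, 7, 10, 10, 10, 1, 8, 8, 4, 0, 8, 3, 9, 5, 6, 2, 7, 4, 8, 2, 9, 1, 5, 9, 9, 0, 11, 11, 11, 6]
def rw3064 : List ℕ := [6, 2, 2, 4, 1, 7, 11, 4, 4, 0, 7, 7, 2, 8, 5, 1, 10]
def rw3065 : List ℕ := [6, 2, 4, 10, 8, 3, 8, 5, 1, 2, 8, 4, 2, 8, 4, 9, 3, 5, 9, 3, 0, 4, 9, 2, 9, 11, 5, 3, 7, 10, 1, 11, 5, 10, 0, 11]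
def rw3066 : List ℕ := [6, 0, 0, 6, 4, 9, 3, 9, 10, 4, 1, 1, 7, 7, 3, 11, 9]
def rw3067 : List ℕ := [6, 6, 3, 6, 5, 1, 11, 6, 8, 0, 6, 8, 0, 6, 8, 0, 3, 10]
def rw3068 : List ℕ := [6, 1, 5, 10, 8, 4, 7, 3, 8, 8, 7, 0, 8, 0, 11, 8, 1, 5]
def rw3069 : List ℕ := [6, 1, 3, 1, 9, 6, 10, 3, 4, 6, 5, 9, 4, 11, 0, 0, 9, 4]
def rw3070 : List ℕ := [6, 10, 1, 2, 2, 2, 2, 11, 7, 7, 1, 1, 1, 6, 9, 1, 8]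
def rw3071 : List ℕ := [6, 6, 2, 1, 8, 7, 2, 7, 11, 0, 11, 1, 2, 5, 11, 5, 10, 4, 3, 0, 10, 1, 10, 6, 3, 6, 9, 0, 3, 7, 7, 8, 4, 9]
def rw3072 : List ℕ := [6, 9, 2, 5, 3, 9, 7, 10, 6, 0, 5, 6, 0, 5, 11, 5, 3, 0]
def rw3073 : List ℕ := [6, 3, 11, 9, 3, 6, 3, 3, 6, 10, 4, 7, 3, 8, 0, 0, 9, 2]
def rw3074 : List ℕ := [6, 2, 10, 8, 10, 3, 6, 0, 10, 10, 11, 1, 7, 2, 11, 9, 11, 3, 7, 8, 5, 0, 2, 8, 1, 6, 11, 7, 0, 9, 3, 1, 4, 9]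
def rw3075 : List ℕ := [6, 4, 2, 2, 10, 0, 9, 3, 5, 1, 4, 2, 8, 2, 1, 11, 8]
def rw3076 : List ℕ := [6, 10, 4, 1, 1, 4, 3, 11, 7, 9, 0, 8, 7, 0, 0, 0, 6]
def rw3077 : List ℕ := [6, 9, 1, 8, 6, 10, 1, 5, 2, 2, 2, 5, 11, 7, 7, 1, 1, 1]
def rw3078 : List ℕ := [6, 0, 10, 5, 11, 1, 7, 2, 11, 9, 11, 3, 7, 8, 5, 0, 2, 8, 1, 6, 4, 7, 0, 9, 3, 1, 4, 9, 6, 2, 10, 8, 10, 3]
def rw3079 : List ℕ := [6, 9, 2, 9, 11, 3, 10, 8, 3, 8, 7, 10, 9, 7, 4, 1, 8, 6, 0, 5, 1, 2, 0, 4, 1, 7, 9, 0, 5, 6, 8, 11]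
def rw3080 : List ℕ := [6, 9, 0, 3, 7, 7, 8, 10, 4, 3, 0, 10, 1, 10, 8, 11, 0, 11, 1, 2, 5, 11, 9, 6, 6, 2, 1, 8, 7, 2, 7, 9, 6, 3]
def rw3081 : List ℕ := [6, 1, 9, 10, 4, 7, 0, 7, 2, 2, 11, 4, 2, 6, 5, 2, 0, 8]
def rw3082 : List ℕ := [6, 0, 0, 5, 11, 8, 2, 8, 5, 7, 1, 1, 7, 8, 10, 2, 6]
def rw3083 : List ℕ := [6, 0, 10, 7, 0, 9, 3, 1, 4, 9, 6, 2, 0, 3, 7, 8, 5, 0, 2, 8, 1, 6, 11, 1, 7, 2, 11, 9, 11, 1, 10, 8, 10, 3]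
def rw3084 : List ℕ := [6, 9, 1, 8, 6, 10, 5, 2, 0, 4, 4, 1, 11, 7, 7, 1, 1, 1]
def rw3085 : List ℕ := [6, 3, 10, 4, 7, 3, 8, 2, 2, 11, 2, 8, 1, 7, 2, 0, 0, 8]
def rw3086 : List ℕ := [6, 9, 2, 9, 11, 1, 10, 8, 3, 8, 7, 10, 9, 7, 4, 1, 8, 6, 0, 5, 1, 0, 0, 4, 1, 7, 9, 0, 5, 6, 8, 11]
def rw3087 : List ℕ := [6, 0, 11, 4, 10, 1, 7, 7, 10, 10, 10, 1, 8, 8, 4, 0, 8, 3, 9, 5, 6, 5, 7, 4, 8, 2, 9, 1, 5, 9, 9, 0, 11, 11, 11, 6]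
def rw3088 : List ℕ := [6, 2, 4, 10, 8, 3, 8, 5, 1, 2, 8, 4, 2, 8, 5, 9, 3, 5, 9, 3, 0, 4, 9, 2, 9, 11, 5, 3, 7, 10, 1, 11, 4, 10, 0, 11]
def rw3089 : List ℕ := [6, 6, 0, 11, 5, 10, 1, 7, 7, 10, 10, 10, 1, 8, 8, 4, 0, 8, 3, 9, 5, 6, 4, 7, 4, 8, 2, 9, 1, 5, 9, 9, 0, 11, 11, 11]
def rw3090 : List ℕ := [6, 10, 5, 1, 5, 0, 5, 2, 11, 7, 7, 1, 1, 1, 6, 9, 1, 8]
def rw3091 : List ℕ := [6, 5, 11, 2, 7, 2, 5, 5, 8, 10, 2, 7, 3, 8, 1, 1, 9, 2]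
def rw3092 : List ℕ := [6, 1, 9, 3, 8, 3, 10, 3, 5, 5, 11, 0, 6, 4, 8]
def rw3093 : List ℕ := [6, 0, 5, 11, 9, 7, 0, 9, 1, 3, 9, 0, 6, 8, 10, 6, 2, 2]
def rw3094 : List ℕ := [6, 4, 8, 6, 1, 9, 3, 8, 3, 10, 4, 4, 3, 5, 5, 3, 11, 0]
def rw3095 : List ℕ := [6, 6, 10, 4, 1, 1, 4, 3, 11, 7, 9, 0, 8, 7, 0, 0, 0]
def rw3096 : List ℕ := [6, 6, 2, 1, 8, 7, 2, 7, 11, 0, 11, 1, 2, 5, 11, 7, 10, 4, 3, 0, 10, 1, 10, 6, 3, 6, 9, 0, 3, 7, 7, 8, 6, 9]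
def rw3097 : List ℕ := [6, 2, 10, 8, 10, 3, 6, 0, 10, 2, 11, 1, 7, 2, 11, 9, 11, 3, 7, 8, 5, 0, 2, 8, 1, 6, 3, 7, 0, 9, 3, 1, 4, 9]
def rw3098 : List ℕ := [6, 10, 1, 3, 0, 3, 11, 7, 9, 0, 8, 7, 0, 0, 0, 6]
def rw3099 : List ℕ := [6, 9, 2, 9, 11, 0, 4, 1, 7, 9, 0, 5, 6, 8, 1, 9, 7, 4, 1, 8, 6, 0, 5, 1, 10, 8, 3, 8, 7, 10, 0, 11]
def rw3100 : List ℕ := [6, 0, 11, 1, 10, 1, 7, 7, 10, 10, 10, 1, 8, 8, 4, 0, 8, 3, 9, 5, 6, 0, 7, 4, 8, 2, 9, 1, 5, 9, 9, 0, 11, 11, 11, 6]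
def rw3101 : List ℕ := [6, 5, 1, 11, 6, 8, 0, 6, 8, 0, 6, 8, 0, 3, 10, 6, 6, 3]
def rw3102 : List ℕ := [6, 0, 5, 1, 10, 8, 3, 8, 7, 10, 8, 11, 6, 9, 2, 9, 11, 0, 4, 1, 7, 9, 0, 5, 6, 8, 9, 9, 7, 4, 1, 8]
def rw3103 : List ℕ := [6, 1, 3, 10, 1, 2, 0, 5, 9, 4, 0, 8, 3, 0, 11, 9, 3, 5]
def rw3104 : List ℕ := [6, 9, 0, 3, 7, 7, 8, 10, 4, 3, 0, 10, 1, 10, 1, 11, 0, 11, 1, 2, 5, 11, 9, 6, 6, 2, 1, 8, 7, 2, 7, 0, 6, 3]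
def rw3105 : List ℕ := [6, 0, 11, 6, 10, 1, 7, 7, 10, 10, 10, 1, 8, 8, 4, 0, 8, 3, 9, 5, 6, 7, 7, 4, 8, 2, 9, 1, 5, 9, 9, 0, 11, 11, 11, 6]
def rw3106 : List ℕ := [6, 10, 2, 2, 2, 0, 11, 7, 9, 0, 8, 7, 0, 0, 0, 6]
def rw3107 : List ℕ := [6, 6, 0, 0, 5, 11, 8, 2, 8, 5, 7, 1, 1, 7, 8, 10, 2]
def rw3108 : List ℕ := [6, 0, 5, 1, 10, 8, 3, 8, 7, 10, 3, 11, 6, 9, 2, 9, 11, 0, 4, 1, 7, 9, 0, 5, 6, 8, 2, 9, 7, 4, 1, 8]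
def rw3109 : List ℕ := [6, 2, 11, 7, 8, 0, 2, 0, 7, 5, 8, 1, 1, 10, 5, 8, 7, 5]
def rw3110 : List ℕ := [6, 8, 2, 4, 3, 8, 7, 1, 2, 4, 10, 2, 4, 4, 2, 2, 11]
def rw3111 : List ℕ := [6, 3, 6, 5, 1, 11, 6, 8, 0, 6, 8, 0, 6, 8, 0, 3, 10, 6]
def rw3112 : List ℕ := [6, 11, 9, 1, 4, 4, 2, 7, 9, 2, 0, 10, 1, 5, 7, 5, 2]
def rw3113 : List ℕ := [6, 0, 11, 2, 10, 1, 7, 7, 10, 10, 10, 1, 8, 8, 4, 0, 8, 3, 9, 5, 6, 3, 7, 4, 8, 2, 9, 1, 5, 9, 9, 0, 11, 11, 11, 6]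
def rw3114 : List ℕ := [6, 11, 9, 1, 4, 4, 2, 7, 9, 2, 0, 10, 1, 7, 5, 7, 2]
def rw3115 : List ℕ := [6, 9, 2, 9, 11, 0, 4, 1, 7, 9, 0, 5, 6, 8, 9, 9, 7, 4, 1, 8, 6, 0, 5, 1, 10, 8, 3, 8, 7, 10, 8, 11]
def rw3116 : List ℕ := [6, 10, 4, 3, 3, 3, 4, 0, 11, 7, 9, 0, 8, 7, 0, 0, 0, 6]
def rw3117 : List ℕ := [6, 1, 2, 11, 4, 2, 8, 4, 3, 7, 10, 1, 5, 1, 9, 0, 7, 9]
def rw3118 : List ℕ := [6, 1, 8, 0, 4, 0, 11, 6, 2, 5, 9, 3, 5, 10, 3, 0, 7, 8]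
def rw3119 : List ℕ := [6, 3, 5, 5, 0, 8, 10, 7, 3, 5, 7, 5, 0, 11, 1, 3, 8]
def rw3120 : List ℕ := [6, 6, 10, 0, 5, 5, 1, 3, 4, 11, 7, 9, 0, 8, 7, 0, 0, 0]
def rw3121 : List ℕ := [6, 6, 10, 1, 1, 2, 1, 2, 1, 11, 7, 9, 0, 8, 7, 0, 0, 0]
def rw3122 : List ℕ := [6, 6, 0, 11, 2, 10, 1, 7, 7, 10, 10, 10, 1, 8, 8, 4, 0, 8, 3, 9, 5, 6, 3, 7, 4, 8, 2, 9, 1, 5, 9, 9, 0, 11, 11, 11]
def rw3123 : List ℕ := [6, 6, 0, 11, 0, 10, 1, 7, 7, 10, 10, 10, 1, 8, 8, 4, 0, 8, 3, 9, 5, 6, 1, 7, 4, 8, 2, 9, 1, 5, 9, 9, 0, 11, 11, 11]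
def rw3124 : List ℕ := [6, 2, 4, 10, 8, 3, 8, 5, 1, 2, 8, 4, 2, 8, 8, 9, 3, 5, 9, 3, 0, 4, 9, 2, 9, 11, 5, 3, 7, 10, 1, 11, 9, 10, 0, 11]
def rw3125 : List ℕ := [6, 8, 11, 6, 9, 2, 9, 11, 10, 10, 8, 3, 8, 7, 10, 9, 7, 4, 1, 8, 6, 0, 5, 1, 11, 0, 4, 1, 7, 9, 0, 5]
def rw3126 : List ℕ := [6, 10, 0, 2, 0, 0, 3, 3, 11, 7, 7, 1, 1, 1, 6, 9, 1, 8]
def rw3127 : List ℕ := [6, 1, 9, 3, 8, 3, 10, 4, 4, 2, 4, 4, 2, 11, 0, 6, 4, 8]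
def rw3128 : List ℕ := [6, 2, 4, 10, 8, 3, 8, 5, 1, 2, 8, 4, 2, 8, 10, 9, 3, 5, 9, 3, 0, 4, 9, 2, 9, 11, 5, 3, 7, 10, 1, 11, 11, 10, 0, 11]
def rw3129 : List ℕ := [6, 2, 10, 3, 7, 8, 5, 0, 2, 8, 1, 6, 11, 1, 7, 2, 11, 9, 11, 11, 10, 8, 10, 3, 6, 0, 10, 7, 0, 9, 3, 1, 4, 9]
def rw3130 : List ℕ := [6, 5, 9, 11, 4, 0, 7, 4, 0, 9, 10, 1, 9, 1, 6, 9, 9, 2]
def rw3131 : List ℕ := [6, 11, 1, 7, 2, 11, 9, 11, 10, 10, 8, 10, 3, 6, 0, 10, 7, 0, 9, 3, 1, 4, 9, 6, 2, 11, 3, 7, 8, 5, 0, 2, 8, 1]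
def rw3132 : List ℕ := [6, 6, 10, 2, 2, 1, 2, 0, 2, 11, 7, 9, 0, 8, 7, 0, 0, 0]
def rw3133 : List ℕ := [6, 8, 2, 4, 3, 8, 7, 1, 2, 4, 10, 3, 5, 5, 11]
def rw3134 : List ℕ := [6, 6, 2, 1, 8, 7, 2, 7, 11, 0, 11, 1, 2, 5, 11, 10, 10, 4, 3, 0, 10, 1, 10, 6, 3, 6, 9, 0, 3, 7, 7, 8, 11, 9]
def rw3135 : List ℕ := [6, 9, 2, 9, 11, 0, 4, 1, 7, 9, 0, 5, 6, 8, 2, 9, 7, 4, 1, 8, 6, 0, 5, 1, 10, 8, 3, 8, 7, 10, 3, 11]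
def rw3136 : List ℕ := [6, 0, 10, 7, 0, 9, 3, 1, 4, 9, 6, 2, 4, 3, 7, 8, 5, 0, 2, 8, 1, 6, 11, 1, 7, 2, 11, 9, 11, 5, 10, 8, 10, 3]
def rw3137 : List ℕ := [6, 3, 6, 9, 0, 3, 7, 7, 8, 3, 9, 6, 6, 2, 1, 8, 7, 2, 7, 11, 0, 11, 1, 2, 5, 11, 2, 10, 4, 3, 0, 10, 1, 10]
def rw3138 : List ℕ := [6, 6, 1, 5, 5, 10, 6, 0, 5, 3, 3, 7, 11, 0, 4, 9, 3]
def rw3139 : List ℕ := [6, 2, 10, 8, 10, 3, 6, 0, 10, 4, 11, 1, 7, 2, 11, 9, 11, 3, 7, 8, 5, 0, 2, 8, 1, 6, 5, 7, 0, 9, 3, 1, 4, 9]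
def rw3140 : List ℕ := [6, 9, 2, 9, 11, 0, 4, 1, 7, 9, 0, 5, 6, 8, 6, 9, 7, 4, 1, 8, 6, 0, 5, 1, 10, 8, 3, 8, 7, 10, 7, 11]
def rw3141 : List ℕ := [6, 9, 2, 9, 11, 5, 10, 8, 3, 8, 7, 10, 9, 7, 4, 1, 8, 6, 0, 5, 1, 4, 0, 4, 1, 7, 9, 0, 5, 6, 8, 11]
def rw3142 : List ℕ := [6, 4, 6, 4, 6, 4]
def rw3143 : List ℕ := [6, 8, 2, 4, 3, 8, 7, 1, 2, 4, 10, 3, 4, 4, 4, 4, 4, 11]
def rw3144 : List ℕ := [6, 2, 4, 10, 8, 3, 8, 5, 1, 2, 8, 4, 2, 8, 9, 9, 3, 5, 9, 3, 0, 4, 9, 2, 9, 11, 5, 3, 7, 10, 1, 11, 8, 10, 0, 11]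
def rw3145 : List ℕ := [6, 0, 10, 7, 0, 9, 3, 1, 4, 9, 6, 2, 3, 3, 7, 8, 5, 0, 2, 8, 1, 6, 11, 1, 7, 2, 11, 9, 11, 2, 10, 8, 10, 3]
def rw3146 : List ℕ := [6, 6, 0, 11, 8, 10, 1, 7, 7, 10, 10, 10, 1, 8, 8, 4, 0, 8, 3, 9, 5, 6, 9, 7, 4, 8, 2, 9, 1, 5, 9, 9, 0, 11, 11, 11]
def rw3147 : List ℕ := [6, 0, 10, 6, 11, 1, 7, 2, 11, 9, 11, 3, 7, 8, 5, 0, 2, 8, 1, 6, 7, 7, 0, 9, 3, 1, 4, 9, 6, 2, 10, 8, 10, 3]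
def rw3148 : List ℕ := [6, 1, 9, 3, 8, 3, 10, 7, 2, 5, 3, 7, 3, 11, 0, 6, 4, 8]
def rw3149 : List ℕ := [6, 8, 11, 6, 9, 2, 9, 11, 7, 10, 8, 3, 8, 7, 10, 9, 7, 4, 1, 8, 6, 0, 5, 1, 6, 0, 4, 1, 7, 9, 0, 5]
def rw3150 : List ℕ := [6, 9, 2, 9, 11, 0, 4, 1, 7, 9, 0, 5, 6, 8, 10, 9, 7, 4, 1, 8, 6, 0, 5, 1, 10, 8, 3, 8, 7, 10, 11, 11]
def rw3151 : List ℕ := [6, 8, 2, 4, 3, 8, 7, 1, 2, 4, 10, 4, 1, 7, 4, 1, 7, 11]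
def rw3152 : List ℕ := [6, 0, 10, 7, 0, 9, 3, 1, 4, 9, 6, 2, 10, 3, 7, 8, 5, 0, 2, 8, 1, 6, 11, 1, 7, 2, 11, 9, 11, 11, 10, 8, 10, 3]
def rw3153 : List ℕ := [6, 0, 11, 0, 10, 1, 7, 7, 10, 10, 10, 1, 8, 8, 4, 0, 8, 3, 9, 5, 6, 1, 7, 4, 8, 2, 9, 1, 5, 9, 9, 0, 11, 11, 11, 6]
def rw3154 : List ℕ := [6, 5, 11, 7, 2, 2, 7, 2, 8, 10, 2, 7, 3, 8, 1, 1, 9, 2]
def rw3155 : List ℕ := [6, 9, 2, 5, 3, 9, 7, 10, 2, 5, 5, 3, 4, 11, 5, 3, 0]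
def rw3156 : List ℕ := [6, 6, 3, 10, 6, 5, 2, 7, 8, 5, 11, 6, 2, 1, 7, 9, 1, 5]
def rw3157 : List ℕ := [6, 2, 5, 3, 7, 8, 5, 0, 2, 8, 1, 6, 11, 1, 7, 2, 11, 9, 11, 4, 10, 8, 10, 3, 6, 0, 10, 7, 0, 9, 3, 1, 4, 9]
def rw3158 : List ℕ := [6, 9, 2, 5, 3, 9, 7, 10, 7, 5, 5, 7, 2, 11, 5, 3, 0]
def rw3159 : List ℕ := [6, 3, 6, 9, 0, 3, 7, 7, 8, 10, 4, 3, 0, 10, 1, 10, 8, 11, 0, 11, 1, 2, 5, 11, 9, 6, 6, 2, 1, 8, 7, 2, 7, 9]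
def rw3160 : List ℕ := [6, 9, 1, 8, 6, 10, 3, 1, 3, 0, 3, 3, 11, 7, 7, 1, 1, 1]
def rw3161 : List ℕ := [6, 8, 2, 4, 3, 8, 7, 1, 2, 4, 10, 5, 2, 4, 4, 3, 11]
def rw3162 : List ℕ := [6, 8, 0, 6, 8, 0, 6, 8, 0, 3, 10, 6, 6, 3, 6, 5, 1, 11]
def rw3163 : List ℕ := [6, 0, 10, 0, 11, 1, 7, 2, 11, 9, 11, 3, 7, 8, 5, 0, 2, 8, 1, 6, 1, 7, 0, 9, 3, 1, 4, 9, 6, 2, 10, 8, 10, 3]
def rw3164 : List ℕ := [6, 9, 2, 9, 11, 0, 4, 1, 7, 9, 0, 5, 6, 8, 3, 9, 7, 4, 1, 8, 6, 0, 5, 1, 10, 8, 3, 8, 7, 10, 2, 11]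
def rw3165 : List ℕ := [6, 9, 2, 5, 3, 9, 7, 10, 5, 5, 5, 5, 5, 2, 11, 5, 3, 0]
def rw3166 : List ℕ := [6, 0, 5, 1, 9, 0, 4, 1, 7, 9, 0, 5, 6, 8, 11, 6, 9, 2, 9, 11, 8, 10, 8, 3, 8, 7, 10, 9, 7, 4, 1, 8]
def rw3167 : List ℕ := [6, 9, 2, 9, 11, 2, 10, 8, 3, 8, 7, 10, 9, 7, 4, 1, 8, 6, 0, 5, 1, 3, 0, 4, 1, 7, 9, 0, 5, 6, 8, 11]
def rw3168 : List ℕ := [6, 2, 1, 8, 7, 2, 7, 1, 6, 3, 6, 9, 0, 3, 7, 7, 8, 10, 4, 3, 0, 10, 1, 10, 0, 11, 0, 11, 1, 2, 5, 11, 9, 6]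
def rw3169 : List ℕ := [6, 4, 8, 6, 1, 9, 3, 8, 3, 10, 3, 5, 5, 11, 0]
def rw3170 : List ℕ := [6, 6, 0, 11, 9, 10, 1, 7, 7, 10, 10, 10, 1, 8, 8, 4, 0, 8, 3, 9, 5, 6, 8, 7, 4, 8, 2, 9, 1, 5, 9, 9, 0, 11, 11, 11]
def rw3171 : List ℕ := [6, 3, 10, 6, 5, 3, 8, 5, 6, 11, 2, 8, 1, 7, 1, 1, 3, 8]
def rw3172 : List ℕ := [6, 9, 0, 3, 7, 7, 8, 1, 9, 6, 6, 2, 1, 8, 7, 2, 7, 11, 0, 11, 1, 2, 5, 11, 0, 10, 4, 3, 0, 10, 1, 10, 6, 3]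
def rw3173 : List ℕ := [6, 10, 1, 5, 2, 2, 2, 5, 11, 7, 7, 1, 1, 1, 6, 9, 1, 8]
def rw3174 : List ℕ := [6, 2, 4, 10, 8, 3, 8, 5, 1, 2, 8, 4, 2, 8, 11, 9, 3, 5, 9, 3, 0, 4, 9, 2, 9, 11, 5, 3, 7, 10, 1, 11, 10, 10, 0, 11]
def rw3175 : List ℕ := [6, 1, 9, 3, 8, 3, 10, 2, 4, 4, 2, 2, 11, 0, 6, 4, 8]
def rw3176 : List ℕ := [6, 6, 0, 11, 6, 10, 1, 7, 7, 10, 10, 10, 1, 8, 8, 4, 0, 8, 3, 9, 5, 6, 7, 7, 4, 8, 2, 9, 1, 5, 9, 9, 0, 11, 11, 11]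
def rw3177 : List ℕ := [6, 0, 10, 9, 11, 1, 7, 2, 11, 9, 11, 3, 7, 8, 5, 0, 2, 8, 1, 6, 8, 7, 0, 9, 3, 1, 4, 9, 6, 2, 10, 8, 10, 3]
def rw3178 : List ℕ := [6, 9, 2, 9, 11, 0, 4, 1, 7, 9, 0, 5, 6, 8, 8, 9, 7, 4, 1, 8, 6, 0, 5, 1, 10, 8, 3, 8, 7, 10, 9, 11]
def rw3179 : List ℕ := [6, 8, 2, 4, 3, 8, 7, 1, 2, 4, 10, 1, 5, 0, 4, 0, 5, 11]
def rw3180 : List ℕ := [6, 2, 10, 8, 10, 3, 6, 0, 10, 9, 11, 1, 7, 2, 11, 9, 11, 3, 7, 8, 5, 0, 2, 8, 1, 6, 8, 7, 0, 9, 3, 1, 4, 9]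
def rw3181 : List ℕ := [6, 3, 6, 9, 0, 3, 7, 7, 8, 2, 9, 6, 6, 2, 1, 8, 7, 2, 7, 11, 0, 11, 1, 2, 5, 11, 3, 10, 4, 3, 0, 10, 1, 10]
def rw3182 : List ℕ := [6, 10, 3, 7, 4, 6, 9, 4, 11, 0, 0, 9, 4, 6, 1, 3, 1, 9]
def rw3183 : List ℕ := [6, 9, 1, 8, 6, 10, 2, 0, 2, 0, 3, 3, 11, 7, 7, 1, 1, 1]
def rw3184 : List ℕ := [6, 9, 1, 8, 6, 10, 2, 5, 0, 0, 5, 11, 7, 7, 1, 1, 1]
def rw3185 : List ℕ := [6, 6, 10, 2, 0, 2, 0, 0, 3, 11, 7, 9, 0, 8, 7, 0, 0, 0]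
def rw3186 : List ℕ := [6, 0, 5, 1, 10, 8, 3, 8, 7, 10, 1, 11, 6, 9, 2, 9, 11, 0, 4, 1, 7, 9, 0, 5, 6, 8, 0, 9, 7, 4, 1, 8]
def rw3187 : List ℕ := [6, 10, 3, 1, 3, 0, 3, 3, 11, 7, 7, 1, 1, 1, 6, 9, 1, 8]
def rw3188 : List ℕ := [6, 3, 6, 9, 0, 3, 7, 7, 8, 6, 9, 6, 6, 2, 1, 8, 7, 2, 7, 11, 0, 11, 1, 2, 5, 11, 7, 10, 4, 3, 0, 10, 1, 10]
def rw3189 : List ℕ := [6, 0, 10, 7, 0, 9, 3, 1, 4, 9, 6, 2, 1, 3, 7, 8, 5, 0, 2, 8, 1, 6, 11, 1, 7, 2, 11, 9, 11, 0, 10, 8, 10, 3]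
def rw3190 : List ℕ := [6, 8, 0, 3, 10, 2, 5, 2, 6, 2, 1, 11, 6, 8, 0, 6, 8, 0]
def rw3191 : List ℕ := [6, 11, 1, 7, 1, 1, 1, 4, 8, 8, 0, 9, 10, 6, 4, 2, 8, 5]
def rw3192 : List ℕ := [6, 8, 0, 9, 7, 4, 1, 8, 6, 0, 5, 1, 10, 8, 3, 8, 7, 10, 1, 11, 6, 9, 2, 9, 11, 0, 4, 1, 7, 9, 0, 5]
def rw3193 : List ℕ := [6, 4, 8, 6, 1, 9, 3, 8, 3, 10, 7, 2, 5, 3, 7, 3, 11, 0]
def rw3194 : List ℕ := [6, 9, 0, 3, 7, 7, 8, 10, 9, 6, 6, 2, 1, 8, 7, 2, 7, 11, 0, 11, 1, 2, 5, 11, 11, 10, 4, 3, 0, 10, 1, 10, 6, 3]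
def rw3195 : List ℕ := [6, 6, 10, 0, 2, 0, 0, 0, 3, 11, 7, 9, 0, 8, 7, 0, 0, 0]
def rw3196 : List ℕ := [6, 0, 5, 1, 10, 8, 3, 8, 7, 10, 7, 11, 6, 9, 2, 9, 11, 0, 4, 1, 7, 9, 0, 5, 6, 8, 6, 9, 7, 4, 1, 8]
def rw3197 : List ℕ := [6, 8, 0, 6, 8, 0, 3, 10, 6, 6, 3, 6, 5, 1, 11, 6, 8, 0]
def rw3198 : List ℕ := [6, 8, 2, 9, 7, 4, 1, 8, 6, 0, 5, 1, 10, 8, 3, 8, 7, 10, 3, 11, 6, 9, 2, 9, 11, 0, 4, 1, 7, 9, 0, 5]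
def rw3199 : List ℕ := [6, 0, 5, 1, 10, 8, 3, 8, 7, 10, 10, 11, 6, 9, 2, 9, 11, 0, 4, 1, 7, 9, 0, 5, 6, 8, 11, 9, 7, 4, 1, 8]
def rw3200 : List ℕ := [6, 2, 1, 8, 7, 2, 7, 11, 0, 11, 1, 2, 5, 11, 7, 10, 4, 3, 0, 10, 1, 10, 6, 3, 6, 9, 0, 3, 7, 7, 8, 6, 9, 6]
def rw3201 : List ℕ := [6, 10, 2, 5, 0, 0, 5, 11, 7, 7, 1, 1, 1, 6, 9, 1, 8]
def rw3202 : List ℕ := [6, 2, 1, 8, 7, 2, 7, 5, 6, 3, 6, 9, 0, 3, 7, 7, 8, 10, 4, 3, 0, 10, 1, 10, 4, 11, 0, 11, 1, 2, 5, 11, 9, 6]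
def rw3203 : List ℕ := [6, 4, 8, 6, 1, 9, 3, 8, 3, 10, 2, 4, 4, 2, 2, 11, 0]
def rw3204 : List ℕ := [6, 9, 0, 3, 7, 7, 8, 10, 4, 3, 0, 10, 1, 10, 3, 11, 0, 11, 1, 2, 5, 11, 9, 6, 6, 2, 1, 8, 7, 2, 7, 2, 6, 3]
def rw3205 : List ℕ := [6, 9, 2, 9, 11, 0, 10, 8, 3, 8, 7, 10, 9, 7, 4, 1, 8, 6, 0, 5, 1, 1, 0, 4, 1, 7, 9, 0, 5, 6, 8, 11]
def rw3206 : List ℕ := [6, 9, 2, 9, 11, 0, 4, 1, 7, 9, 0, 5, 6, 8, 7, 9, 7, 4, 1, 8, 6, 0, 5, 1, 10, 8, 3, 8, 7, 10, 6, 11]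
def rw3207 : List ℕ := [6, 0, 5, 1, 10, 8, 3, 8, 7, 10, 4, 11, 6, 9, 2, 9, 11, 0, 4, 1, 7, 9, 0, 5, 6, 8, 5, 9, 7, 4, 1, 8]
def rw3208 : List ℕ := [6, 0, 7, 0, 2, 0, 9, 2, 10, 9, 6, 5, 1, 5, 8, 11, 3, 8]
def rw3209 : List ℕ := [6, 11, 7, 4, 8, 2, 9, 1, 5, 9, 9, 0, 11, 11, 11, 6, 6, 0, 11, 10, 10, 1, 7, 7, 10, 10, 10, 1, 8, 8, 4, 0, 8, 3, 9, 5]
def rw3210 : List ℕ := [6, 4, 8, 6, 1, 9, 3, 8, 3, 10, 3, 6, 4, 4, 6, 11, 0]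
def rw3211 : List ℕ := [6, 6, 2, 1, 8, 7, 2, 7, 11, 0, 11, 1, 2, 5, 11, 0, 10, 4, 3, 0, 10, 1, 10, 6, 3, 6, 9, 0, 3, 7, 7, 8, 1, 9]
def rw3212 : List ℕ := [6, 2, 1, 8, 7, 2, 7, 10, 6, 3, 6, 9, 0, 3, 7, 7, 8, 10, 4, 3, 0, 10, 1, 10, 11, 11, 0, 11, 1, 2, 5, 11, 9, 6]
def rw3213 : List ℕ := [6, 6, 2, 1, 8, 7, 2, 7, 0, 6, 3, 6, 9, 0, 3, 7, 7, 8, 10, 4, 3, 0, 10, 1, 10, 1, 11, 0, 11, 1, 2, 5, 11, 9]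
def rw3214 : List ℕ := [6, 10, 3, 3, 3, 3, 0, 11, 7, 9, 0, 8, 7, 0, 0, 0, 6]
def rw3215 : List ℕ := [6, 0, 11, 9, 10, 1, 7, 7, 10, 10, 10, 1, 8, 8, 4, 0, 8, 3, 9, 5, 6, 8, 7, 4, 8, 2, 9, 1, 5, 9, 9, 0, 11, 11, 11, 6]
def rw3216 : List ℕ := [6, 10, 2, 0, 2, 0, 3, 3, 11, 7, 7, 1, 1, 1, 6, 9, 1, 8]
def rw3217 : List ℕ := [6, 11, 1, 7, 2, 11, 9, 11, 4, 10, 8, 10, 3, 6, 0, 10, 7, 0, 9, 3, 1, 4, 9, 6, 2, 5, 3, 7, 8, 5, 0, 2, 8, 1]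
def rw3218 : List ℕ := [6, 9, 0, 3, 7, 7, 8, 10, 4, 3, 0, 10, 1, 10, 11, 11, 0, 11, 1, 2, 5, 11, 9, 6, 6, 2, 1, 8, 7, 2, 7, 10, 6, 3]
def rw3219 : List ℕ := [6, 2, 1, 8, 7, 2, 7, 11, 6, 3, 6, 9, 0, 3, 7, 7, 8, 10, 4, 3, 0, 10, 1, 10, 10, 11, 0, 11, 1, 2, 5, 11, 9, 6]
def rw3220 : List ℕ := [6, 9, 1, 8, 6, 10, 2, 1, 1, 3, 1, 3, 11, 7, 7, 1, 1, 1]
def rw3221 : List ℕ := [6, 8, 11, 6, 9, 2, 9, 11, 11, 10, 8, 3, 8, 7, 10, 9, 7, 4, 1, 8, 6, 0, 5, 1, 10, 0, 4, 1, 7, 9, 0, 5]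
def rw3222 : List ℕ := [6, 6, 0, 11, 4, 10, 1, 7, 7, 10, 10, 10, 1, 8, 8, 4, 0, 8, 3, 9, 5, 6, 5, 7, 4, 8, 2, 9, 1, 5, 9, 9, 0, 11, 11, 11]
def rw3223 : List ℕ := [6, 0, 10, 3, 11, 1, 7, 2, 11, 9, 11, 3, 7, 8, 5, 0, 2, 8, 1, 6, 2, 7, 0, 9, 3, 1, 4, 9, 6, 2, 10, 8, 10, 3]
def rw3224 : List ℕ := [6, 0, 5, 1, 10, 8, 3, 8, 7, 10, 11, 11, 6, 9, 2, 9, 11, 0, 4, 1, 7, 9, 0, 5, 6, 8, 10, 9, 7, 4, 1, 8]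
def rw3225 : List ℕ := [6, 2, 1, 8, 7, 2, 7, 11, 0, 11, 1, 2, 5, 11, 11, 10, 4, 3, 0, 10, 1, 10, 6, 3, 6, 9, 0, 3, 7, 7, 8, 10, 9, 6]
def rw3226 : List ℕ := [6, 9, 2, 9, 11, 9, 10, 8, 3, 8, 7, 10, 9, 7, 4, 1, 8, 6, 0, 5, 1, 8, 0, 4, 1, 7, 9, 0, 5, 6, 8, 11]
def rw3227 : List ℕ := [6, 0, 10, 7, 11, 1, 7, 2, 11, 9, 11, 3, 7, 8, 5, 0, 2, 8, 1, 6, 6, 7, 0, 9, 3, 1, 4, 9, 6, 2, 10, 8, 10, 3]
def rw3228 : List ℕ := [6, 9, 6, 9, 6, 9, 6, 9]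
def rw3229 : List ℕ := [6, 9, 2, 9, 11, 0, 4, 1, 7, 9, 0, 5, 6, 8, 5, 9, 7, 4, 1, 8, 6, 0, 5, 1, 10, 8, 3, 8, 7, 10, 4, 11]
def rw3230 : List ℕ := [6, 11, 1, 7, 2, 11, 9, 11, 1, 10, 8, 10, 3, 6, 0, 10, 7, 0, 9, 3, 1, 4, 9, 6, 2, 0, 3, 7, 8, 5, 0, 2, 8, 1]
def rw3231 : List ℕ := [6, 4, 8, 6, 1, 9, 3, 8, 3, 10, 4, 4, 2, 4, 4, 2, 11, 0]
def rw3232 : List ℕ := [6, 9, 2, 5, 3, 9, 7, 10, 4, 4, 2, 11, 5, 3, 0]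
def rw3233 : List ℕ := [6, 0, 10, 7, 0, 9, 3, 1, 4, 9, 6, 2, 7, 3, 7, 8, 5, 0, 2, 8, 1, 6, 11, 1, 7, 2, 11, 9, 11, 6, 10, 8, 10, 3]
def rw3234 : List ℕ := [6, 0, 5, 1, 1, 0, 4, 1, 7, 9, 0, 5, 6, 8, 11, 6, 9, 2, 9, 11, 0, 10, 8, 3, 8, 7, 10, 9, 7, 4, 1, 8]
def rw3235 : List ℕ := [6, 0, 11, 8, 10, 1, 7, 7, 10, 10, 10, 1, 8, 8, 4, 0, 8, 3, 9, 5, 6, 9, 7, 4, 8, 2, 9, 1, 5, 9, 9, 0, 11, 11, 11, 6]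
def rw3236 : List ℕ := [6, 0, 10, 1, 11, 1, 7, 2, 11, 9, 11, 3, 7, 8, 5, 0, 2, 8, 1, 6, 0, 7, 0, 9, 3, 1, 4, 9, 6, 2, 10, 8, 10, 3]
def rw3237 : List ℕ := [6, 1, 9, 3, 8, 3, 10, 4, 2, 4, 4, 3, 3, 11, 0, 6, 4, 8]
def rw3238 : List ℕ := [6, 9, 0, 3, 7, 7, 8, 10, 4, 3, 0, 10, 1, 10, 9, 11, 0, 11, 1, 2, 5, 11, 9, 6, 6, 2, 1, 8, 7, 2, 7, 8, 6, 3]
def rw3239 : List ℕ := [6, 6, 2, 1, 8, 7, 2, 7, 11, 0, 11, 1, 2, 5, 11, 8, 10, 4, 3, 0, 10, 1, 10, 6, 3, 6, 9, 0, 3, 7, 7, 8, 9, 9]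
def rw3240 : List ℕ := [6, 2, 10, 8, 10, 3, 6, 0, 10, 8, 11, 1, 7, 2, 11, 9, 11, 3, 7, 8, 5, 0, 2, 8, 1, 6, 9, 7, 0, 9, 3, 1, 4, 9]
def rw3241 : List ℕ := [6, 11, 7, 0, 9, 3, 1, 4, 9, 6, 2, 10, 8, 10, 3, 6, 0, 10, 10, 11, 1, 7, 2, 11, 9, 11, 3, 7, 8, 5, 0, 2, 8, 1]
def rw3242 : List ℕ := [6, 0, 10, 4, 11, 1, 7, 2, 11, 9, 11, 3, 7, 8, 5, 0, 2, 8, 1, 6, 5, 7, 0, 9, 3, 1, 4, 9, 6, 2, 10, 8, 10, 3]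
def rw3243 : List ℕ := [6, 6, 2, 1, 8, 7, 2, 7, 1, 6, 3, 6, 9, 0, 3, 7, 7, 8, 10, 4, 3, 0, 10, 1, 10, 0, 11, 0, 11, 1, 2, 5, 11, 9]
def rw3244 : List ℕ := [6, 9, 2, 9, 11, 0, 4, 1, 7, 9, 0, 5, 6, 8, 11, 9, 7, 4, 1, 8, 6, 0, 5, 1, 10, 8, 3, 8, 7, 10, 10, 11]
def rw3245 : List ℕ := [6, 10, 2, 1, 3, 3, 11, 7, 9, 0, 8, 7, 0, 0, 0, 6]
def rw3246 : List ℕ := [6, 6, 2, 1, 8, 7, 2, 7, 11, 0, 11, 1, 2, 5, 11, 11, 10, 4, 3, 0, 10, 1, 10, 6, 3, 6, 9, 0, 3, 7, 7, 8, 10, 9]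
def rw3247 : List ℕ := [6, 9, 2, 5, 3, 9, 7, 10, 3, 3, 5, 5, 3, 11, 5, 3, 0]
def rw3248 : List ℕ := [6, 10, 0, 2, 0, 0, 0, 3, 11, 7, 9, 0, 8, 7, 0, 0, 0, 6]
def rw3249 : List ℕ := [6, 10, 5, 2, 0, 4, 4, 1, 11, 7, 7, 1, 1, 1, 6, 9, 1, 8]
def rw3250 : List ℕ := [6, 9, 1, 8, 6, 10, 0, 3, 0, 3, 0, 0, 11, 7, 7, 1, 1, 1]
def rw3251 : List ℕ := [6, 2, 1, 8, 7, 2, 7, 9, 6, 3, 6, 9, 0, 3, 7, 7, 8, 10, 4, 3, 0, 10, 1, 10, 8, 11, 0, 11, 1, 2, 5, 11, 9, 6]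
def rw3252 : List ℕ := [6, 0, 5, 1, 2, 0, 4, 1, 7, 9, 0, 5, 6, 8, 11, 6, 9, 2, 9, 11, 3, 10, 8, 3, 8, 7, 10, 9, 7, 4, 1, 8]
def rw3253 : List ℕ := [6, 9, 1, 8, 6, 10, 1, 3, 3, 3, 11, 7, 7, 1, 1, 1]
def rw3254 : List ℕ := [6, 0, 11, 11, 10, 1, 7, 7, 10, 10, 10, 1, 8, 8, 4, 0, 8, 3, 9, 5, 6, 10, 7, 4, 8, 2, 9, 1, 5, 9, 9, 0, 11, 11, 11, 6]
def rw3255 : List ℕ := [6, 6, 2, 1, 8, 7, 2, 7, 8, 6, 3, 6, 9, 0, 3, 7, 7, 8, 10, 4, 3, 0, 10, 1, 10, 9, 11, 0, 11, 1, 2, 5, 11, 9]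
def rw3256 : List ℕ := [6, 9, 1, 8, 6, 10, 0, 2, 0, 0, 3, 3, 11, 7, 7, 1, 1, 1]
def rw3257 : List ℕ := [6, 8, 11, 6, 9, 2, 9, 11, 3, 10, 8, 3, 8, 7, 10, 9, 7, 4, 1, 8, 6, 0, 5, 1, 2, 0, 4, 1, 7, 9, 0, 5]
def rw3258 : List ℕ := [6, 3, 6, 9, 0, 3, 7, 7, 8, 1, 9, 6, 6, 2, 1, 8, 7, 2, 7, 11, 0, 11, 1, 2, 5, 11, 0, 10, 4, 3, 0, 10, 1, 10]
def rw3259 : List ℕ := [6, 4, 8, 6, 1, 9, 3, 8, 3, 10, 3, 4, 1, 5, 3, 1, 11, 0]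
def rw3260 : List ℕ := [6, 0, 10, 10, 11, 1, 7, 2, 11, 9, 11, 3, 7, 8, 5, 0, 2, 8, 1, 6, 11, 7, 0, 9, 3, 1, 4, 9, 6, 2, 10, 8, 10, 3]
def rw3261 : List ℕ := [6, 6, 10, 3, 3, 3, 3, 0, 11, 7, 9, 0, 8, 7, 0, 0, 0]
def rw3262 : List ℕ := [6, 9, 0, 3, 7, 7, 8, 6, 9, 6, 6, 2, 1, 8, 7, 2, 7, 11, 0, 11, 1, 2, 5, 11, 7, 10, 4, 3, 0, 10, 1, 10, 6, 3]
def rw3263 : List ℕ := [6, 6, 10, 2, 2, 2, 0, 11, 7, 9, 0, 8, 7, 0, 0, 0]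
def rw3264 : List ℕ := [6, 0, 10, 8, 11, 1, 7, 2, 11, 9, 11, 3, 7, 8, 5, 0, 2, 8, 1, 6, 9, 7, 0, 9, 3, 1, 4, 9, 6, 2, 10, 8, 10, 3]
def rw3265 : List ℕ := [6, 6, 2, 1, 8, 7, 2, 7, 11, 0, 11, 1, 2, 5, 11, 1, 10, 4, 3, 0, 10, 1, 10, 6, 3, 6, 9, 0, 3, 7, 7, 8, 0, 9]
def rw3266 : List ℕ := [6, 8, 11, 6, 9, 2, 9, 11, 1, 10, 8, 3, 8, 7, 10, 9, 7, 4, 1, 8, 6, 0, 5, 1, 0, 0, 4, 1, 7, 9, 0, 5]
def rw3267 : List ℕ := [6, 0, 10, 7, 0, 9, 3, 1, 4, 9, 6, 2, 5, 3, 7, 8, 5, 0, 2, 8, 1, 6, 11, 1, 7, 2, 11, 9, 11, 4, 10, 8, 10, 3]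
def rw3268 : List ℕ := [6, 10, 1, 3, 3, 3, 11, 7, 7, 1, 1, 1, 6, 9, 1, 8]
def rw3269 : List ℕ := [6, 3, 5, 5, 0, 8, 10, 7, 3, 6, 4, 6, 0, 11, 1, 3, 8]
def rw3270 : List ℕ := [6, 0, 10, 7, 0, 9, 3, 1, 4, 9, 6, 2, 6, 3, 7, 8, 5, 0, 2, 8, 1, 6, 11, 1, 7, 2, 11, 9, 11, 7, 10, 8, 10, 3]
def rw3271 : List ℕ := [6, 0, 11, 7, 10, 1, 7, 7, 10, 10, 10, 1, 8, 8, 4, 0, 8, 3, 9, 5, 6, 6, 7, 4, 8, 2, 9, 1, 5, 9, 9, 0, 11, 11, 11, 6]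
def rw3272 : List ℕ := [6, 10, 7, 4, 8, 2, 9, 1, 5, 9, 9, 0, 11, 11, 11, 6, 6, 0, 11, 11, 10, 1, 7, 7, 10, 10, 10, 1, 8, 8, 4, 0, 8, 3, 9, 5]
def rw3273 : List ℕ := [6, 9, 9, 2, 6, 5, 9, 11, 4, 0, 7, 4, 0, 9, 10, 1, 9, 1]
def rw3274 : List ℕ := [6, 8, 2, 4, 3, 8, 7, 1, 2, 4, 10, 0, 3, 4, 1, 1, 5, 11]
def rw3275 : List ℕ := [6, 2, 1, 8, 7, 2, 7, 11, 0, 11, 1, 2, 5, 11, 1, 10, 4, 3, 0, 10, 1, 10, 6, 3, 6, 9, 0, 3, 7, 7, 8, 0, 9, 6]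
def rw3276 : List ℕ := [6, 2, 1, 8, 7, 2, 7, 11, 0, 11, 1, 2, 5, 11, 10, 10, 4, 3, 0, 10, 1, 10, 6, 3, 6, 9, 0, 3, 7, 7, 8, 11, 9, 6]
def rw3277 : List ℕ := [6, 10, 2, 2, 0, 3, 11, 7, 7, 1, 1, 1, 6, 9, 1, 8]
def rw3278 : List ℕ := [6, 6, 10, 1, 3, 3, 1, 2, 0, 11, 7, 9, 0, 8, 7, 0, 0, 0]
def rw3279 : List ℕ := [6, 6, 10, 3, 4, 1, 4, 0, 4, 11, 7, 9, 0, 8, 7, 0, 0, 0]
def rw3280 : List ℕ := [6, 0, 5, 1, 5, 0, 4, 1, 7, 9, 0, 5, 6, 8, 11, 6, 9, 2, 9, 11, 4, 10, 8, 3, 8, 7, 10, 9, 7, 4, 1, 8]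
def rw3281 : List ℕ := [6, 0, 5, 1, 10, 0, 4, 1, 7, 9, 0, 5, 6, 8, 11, 6, 9, 2, 9, 11, 11, 10, 8, 3, 8, 7, 10, 9, 7, 4, 1, 8]
def rw3282 : List ℕ := [6, 0, 11, 5, 10, 1, 7, 7, 10, 10, 10, 1, 8, 8, 4, 0, 8, 3, 9, 5, 6, 4, 7, 4, 8, 2, 9, 1, 5, 9, 9, 0, 11, 11, 11, 6]
def rw3283 : List ℕ := [6, 11, 1, 7, 2, 11, 9, 11, 0, 10, 8, 10, 3, 6, 0, 10, 7, 0, 9, 3, 1, 4, 9, 6, 2, 1, 3, 7, 8, 5, 0, 2, 8, 1]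
def rw3284 : List ℕ := [6, 8, 0, 6, 8, 0, 3, 10, 2, 5, 2, 6, 2, 1, 11, 6, 8, 0]
def rw3285 : List ℕ := [6, 10, 2, 2, 1, 2, 0, 2, 11, 7, 9, 0, 8, 7, 0, 0, 0, 6]
def rw3286 : List ℕ := [6, 9, 1, 8, 6, 10, 5, 1, 5, 0, 5, 2, 11, 7, 7, 1, 1, 1]
def rw3287 : List ℕ := [6, 1, 9, 3, 8, 3, 10, 3, 4, 1, 5, 3, 1, 11, 0, 6, 4, 8]
def rw3288 : List ℕ := [6, 8, 11, 6, 9, 2, 9, 11, 0, 10, 8, 3, 8, 7, 10, 9, 7, 4, 1, 8, 6, 0, 5, 1, 1, 0, 4, 1, 7, 9, 0, 5]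
def rw3289 : List ℕ := [6, 10, 0, 3, 0, 3, 0, 0, 11, 7, 7, 1, 1, 1, 6, 9, 1, 8]
def rw3290 : List ℕ := [6, 9, 0, 3, 7, 7, 8, 10, 4, 3, 0, 10, 1, 10, 7, 11, 0, 11, 1, 2, 5, 11, 9, 6, 6, 2, 1, 8, 7, 2, 7, 6, 6, 3]
def rw3291 : List ℕ := [6, 8, 0, 6, 8, 0, 3, 10, 4, 3, 4, 6, 2, 1, 11, 6, 8, 0]
def rw3292 : List ℕ := [6, 8, 5, 9, 7, 4, 1, 8, 6, 0, 5, 1, 10, 8, 3, 8, 7, 10, 4, 11, 6, 9, 2, 9, 11, 0, 4, 1, 7, 9, 0, 5]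
def rw3293 : List ℕ := [6, 10, 7, 0, 9, 3, 1, 4, 9, 6, 2, 10, 8, 10, 3, 6, 0, 10, 11, 11, 1, 7, 2, 11, 9, 11, 3, 7, 8, 5, 0, 2, 8, 1]
def rw3294 : List ℕ := [6, 3, 6, 9, 0, 3, 7, 7, 8, 10, 4, 3, 0, 10, 1, 10, 11, 11, 0, 11, 1, 2, 5, 11, 9, 6, 6, 2, 1, 8, 7, 2, 7, 10]
def rw3295 : List ℕ := [6, 9, 1, 8, 6, 10, 1, 3, 0, 2, 2, 0, 11, 7, 7, 1, 1, 1]
def rw3296 : List ℕ := [6, 6, 2, 1, 8, 7, 2, 7, 3, 6, 3, 6, 9, 0, 3, 7, 7, 8, 10, 4, 3, 0, 10, 1, 10, 2, 11, 0, 11, 1, 2, 5, 11, 9]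
def rw3297 : List ℕ := [6, 10, 2, 1, 1, 2, 0, 2, 11, 7, 7, 1, 1, 1, 6, 9, 1, 8]
def rw3298 : List ℕ := [6, 10, 1, 1, 2, 1, 2, 1, 11, 7, 9, 0, 8, 7, 0, 0, 0, 6]
def rw3299 : List ℕ := [6, 3, 6, 9, 0, 3, 7, 7, 8, 10, 4, 3, 0, 10, 1, 10, 10, 11, 0, 11, 1, 2, 5, 11, 9, 6, 6, 2, 1, 8, 7, 2, 7, 11]
def rw3300 : List ℕ := [6, 2, 4, 10, 8, 3, 8, 5, 1, 2, 8, 4, 2, 8, 7, 9, 3, 5, 9, 3, 0, 4, 9, 2, 9, 11, 5, 3, 7, 10, 1, 11, 6, 10, 0, 11]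
def rw3301 : List ℕ := [6, 8, 11, 6, 9, 2, 9, 11, 9, 10, 8, 3, 8, 7, 10, 9, 7, 4, 1, 8, 6, 0, 5, 1, 8, 0, 4, 1, 7, 9, 0, 5]
def rw3302 : List ℕ := [6, 0, 10, 7, 0, 9, 3, 1, 4, 9, 6, 2, 2, 3, 7, 8, 5, 0, 2, 8, 1, 6, 11, 1, 7, 2, 11, 9, 11, 3, 10, 8, 10, 3]
def rw3303 : List ℕ := [6, 11, 1, 7, 2, 11, 9, 11, 11, 10, 8, 10, 3, 6, 0, 10, 7, 0, 9, 3, 1, 4, 9, 6, 2, 10, 3, 7, 8, 5, 0, 2, 8, 1]
def rw3304 : List ℕ := [6, 0, 5, 1, 10, 8, 3, 8, 7, 10, 2, 11, 6, 9, 2, 9, 11, 0, 4, 1, 7, 9, 0, 5, 6, 8, 3, 9, 7, 4, 1, 8]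
def rw3305 : List ℕ := [6, 0, 5, 1, 6, 0, 4, 1, 7, 9, 0, 5, 6, 8, 11, 6, 9, 2, 9, 11, 7, 10, 8, 3, 8, 7, 10, 9, 7, 4, 1, 8]
def rw3306 : List ℕ := [6, 9, 2, 5, 3, 9, 7, 10, 7, 7, 2, 7, 3, 7, 11, 5, 3, 0]
def rw3307 : List ℕ := [6, 10, 0, 5, 5, 1, 3, 4, 11, 7, 9, 0, 8, 7, 0, 0, 0, 6]
def rw3308 : List ℕ := [6, 3, 5, 5, 0, 8, 10, 7, 3, 4, 6, 4, 0, 11, 1, 3, 8]
def rw3309 : List ℕ := [6, 2, 11, 3, 7, 8, 5, 0, 2, 8, 1, 6, 11, 1, 7, 2, 11, 9, 11, 10, 10, 8, 10, 3, 6, 0, 10, 7, 0, 9, 3, 1, 4, 9]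
def rw3310 : List ℕ := [6, 9, 0, 3, 7, 7, 8, 11, 9, 6, 6, 2, 1, 8, 7, 2, 7, 11, 0, 11, 1, 2, 5, 11, 10, 10, 4, 3, 0, 10, 1, 10, 6, 3]
def rw3311 : List ℕ := [6, 8, 9, 9, 7, 4, 1, 8, 6, 0, 5, 1, 10, 8, 3, 8, 7, 10, 8, 11, 6, 9, 2, 9, 11, 0, 4, 1, 7, 9, 0, 5]
def rw3312 : List ℕ := [6, 2, 10, 8, 10, 3, 6, 0, 10, 7, 11, 1, 7, 2, 11, 9, 11, 3, 7, 8, 5, 0, 2, 8, 1, 6, 6, 7, 0, 9, 3, 1, 4, 9]
def rw3313 : List ℕ := [6, 2, 4, 3, 7, 8, 5, 0, 2, 8, 1, 6, 11, 1, 7, 2, 11, 9, 11, 5, 10, 8, 10, 3, 6, 0, 10, 7, 0, 9, 3, 1, 4, 9]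
def rw3314 : List ℕ := [6, 11, 1, 7, 2, 11, 9, 11, 3, 10, 8, 10, 3, 6, 0, 10, 7, 0, 9, 3, 1, 4, 9, 6, 2, 2, 3, 7, 8, 5, 0, 2, 8, 1]
def rw3315 : List ℕ := [6, 8, 11, 6, 9, 2, 9, 11, 4, 10, 8, 3, 8, 7, 10, 9, 7, 4, 1, 8, 6, 0, 5, 1, 5, 0, 4, 1, 7, 9, 0, 5]
def rw3316 : List ℕ := [6, 2, 10, 8, 10, 3, 6, 0, 10, 3, 11, 1, 7, 2, 11, 9, 11, 3, 7, 8, 5, 0, 2, 8, 1, 6, 2, 7, 0, 9, 3, 1, 4, 9]
def rw3317 : List ℕ := [6, 2, 1, 8, 7, 2, 7, 7, 6, 3, 6, 9, 0, 3, 7, 7, 8, 10, 4, 3, 0, 10, 1, 10, 6, 11, 0, 11, 1, 2, 5, 11, 9, 6]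
def rw3318 : List ℕ := [6, 0, 5, 1, 8, 0, 4, 1, 7, 9, 0, 5, 6, 8, 11, 6, 9, 2, 9, 11, 9, 10, 8, 3, 8, 7, 10, 9, 7, 4, 1, 8]
def rw3319 : List ℕ := [6, 8, 11, 6, 9, 2, 9, 11, 2, 10, 8, 3, 8, 7, 10, 9, 7, 4, 1, 8, 6, 0, 5, 1, 3, 0, 4, 1, 7, 9, 0, 5]
def rw3320 : List ℕ := [6, 3, 6, 9, 0, 3, 7, 7, 8, 5, 9, 6, 6, 2, 1, 8, 7, 2, 7, 11, 0, 11, 1, 2, 5, 11, 4, 10, 4, 3, 0, 10, 1, 10]
def rw3321 : List ℕ := [6, 9, 2, 9, 11, 11, 10, 8, 3, 8, 7, 10, 9, 7, 4, 1, 8, 6, 0, 5, 1, 10, 0, 4, 1, 7, 9, 0, 5, 6, 8, 11]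
def rw3322 : List ℕ := [6, 6, 10, 4, 3, 3, 3, 4, 0, 11, 7, 9, 0, 8, 7, 0, 0, 0]
def rw3323 : List ℕ := [6, 2, 7, 4, 8, 2, 9, 1, 5, 9, 9, 0, 11, 11, 11, 6, 6, 0, 11, 3, 10, 1, 7, 7, 10, 10, 10, 1, 8, 8, 4, 0, 8, 3, 9, 5]
def rw3324 : List ℕ := [6, 9, 0, 3, 7, 7, 8, 10, 4, 3, 0, 10, 1, 10, 5, 11, 0, 11, 1, 2, 5, 11, 9, 6, 6, 2, 1, 8, 7, 2, 7, 4, 6, 3]
def rw3325 : List ℕ := [6, 2, 1, 8, 7, 2, 7, 0, 6, 3, 6, 9, 0, 3, 7, 7, 8, 10, 4, 3, 0, 10, 1, 10, 1, 11, 0, 11, 1, 2, 5, 11, 9, 6]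
def rw3326 : List ℕ := [6, 6, 2, 1, 8, 7, 2, 7, 7, 6, 3, 6, 9, 0, 3, 7, 7, 8, 10, 4, 3, 0, 10, 1, 10, 6, 11, 0, 11, 1, 2, 5, 11, 9]
def rw3327 : List ℕ := [6, 6, 2, 1, 8, 7, 2, 7, 6, 6, 3, 6, 9, 0, 3, 7, 7, 8, 10, 4, 3, 0, 10, 1, 10, 7, 11, 0, 11, 1, 2, 5, 11, 9]
def rw3328 : List ℕ := [6, 6, 2, 1, 8, 7, 2, 7, 2, 6, 3, 6, 9, 0, 3, 7, 7, 8, 10, 4, 3, 0, 10, 1, 10, 3, 11, 0, 11, 1, 2, 5, 11, 9]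
def rw3329 : List ℕ := [6, 9, 1, 8, 6, 10, 2, 1, 1, 1, 3, 1, 11, 7, 7, 1, 1, 1]
def rw3330 : List ℕ := [6, 9, 2, 5, 3, 9, 7, 10, 7, 7, 4, 3, 5, 6, 11, 5, 3, 0]
def rw3331 : List ℕ := [6, 3, 6, 9, 0, 3, 7, 7, 8, 8, 9, 6, 6, 2, 1, 8, 7, 2, 7, 11, 0, 11, 1, 2, 5, 11, 9, 10, 4, 3, 0, 10, 1, 10]
def rw3332 : List ℕ := [6, 9, 0, 3, 7, 7, 8, 10, 4, 3, 0, 10, 1, 10, 2, 11, 0, 11, 1, 2, 5, 11, 9, 6, 6, 2, 1, 8, 7, 2, 7, 3, 6, 3]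
def rw3333 : List ℕ := [6, 9, 0, 3, 7, 7, 8, 0, 9, 6, 6, 2, 1, 8, 7, 2, 7, 11, 0, 11, 1, 2, 5, 11, 1, 10, 4, 3, 0, 10, 1, 10, 6, 3]
def rw3334 : List ℕ := [6, 9, 0, 3, 7, 7, 8, 3, 9, 6, 6, 2, 1, 8, 7, 2, 7, 11, 0, 11, 1, 2, 5, 11, 2, 10, 4, 3, 0, 10, 1, 10, 6, 3]
def rw3335 : List ℕ := [6, 6, 2, 1, 8, 7, 2, 7, 4, 6, 3, 6, 9, 0, 3, 7, 7, 8, 10, 4, 3, 0, 10, 1, 10, 5, 11, 0, 11, 1, 2, 5, 11, 9]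
def rw3336 : List ℕ := [6, 0, 10, 7, 0, 9, 3, 1, 4, 9, 6, 2, 9, 3, 7, 8, 5, 0, 2, 8, 1, 6, 11, 1, 7, 2, 11, 9, 11, 8, 10, 8, 10, 3]
def rw3337 : List ℕ := [6, 2, 8, 3, 7, 8, 5, 0, 2, 8, 1, 6, 11, 1, 7, 2, 11, 9, 11, 9, 10, 8, 10, 3, 6, 0, 10, 7, 0, 9, 3, 1, 4, 9]
def rw3338 : List ℕ := [6, 10, 2, 2, 1, 3, 1, 3, 11, 7, 9, 0, 8, 7, 0, 0, 0, 6]
def rw3339 : List ℕ := [6, 3, 5, 5, 0, 8, 10, 7, 3, 7, 5, 7, 0, 11, 1, 3, 8]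
def rw3340 : List ℕ := [6, 11, 1, 7, 2, 11, 9, 11, 7, 10, 8, 10, 3, 6, 0, 10, 7, 0, 9, 3, 1, 4, 9, 6, 2, 6, 3, 7, 8, 5, 0, 2, 8, 1]
def rw3341 : List ℕ := [6, 6, 2, 1, 8, 7, 2, 7, 11, 0, 11, 1, 2, 5, 11, 4, 10, 4, 3, 0, 10, 1, 10, 6, 3, 6, 9, 0, 3, 7, 7, 8, 5, 9]
def rw3342 : List ℕ := [6, 3, 6, 9, 0, 3, 7, 7, 8, 0, 9, 6, 6, 2, 1, 8, 7, 2, 7, 11, 0, 11, 1, 2, 5, 11, 1, 10, 4, 3, 0, 10, 1, 10]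
def rw3343 : List ℕ := [6, 3, 6, 9, 0, 3, 7, 7, 8, 4, 9, 6, 6, 2, 1, 8, 7, 2, 7, 11, 0, 11, 1, 2, 5, 11, 5, 10, 4, 3, 0, 10, 1, 10]
def rw3344 : List ℕ := [6, 2, 9, 3, 7, 8, 5, 0, 2, 8, 1, 6, 11, 1, 7, 2, 11, 9, 11, 8, 10, 8, 10, 3, 6, 0, 10, 7, 0, 9, 3, 1, 4, 9]
def rw3345 : List ℕ := [6, 3, 6, 9, 0, 3, 7, 7, 8, 9, 9, 6, 6, 2, 1, 8, 7, 2, 7, 11, 0, 11, 1, 2, 5, 11, 8, 10, 4, 3, 0, 10, 1, 10]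
def rw3346 : List ℕ := [6, 8, 0, 6, 8, 0, 6, 8, 0, 3, 10, 4, 3, 4, 6, 2, 1, 11]
def rw3347 : List ℕ := [6, 2, 10, 8, 10, 3, 6, 0, 10, 6, 11, 1, 7, 2, 11, 9, 11, 3, 7, 8, 5, 0, 2, 8, 1, 6, 7, 7, 0, 9, 3, 1, 4, 9]
def rw3348 : List ℕ := [6, 4, 8, 6, 1, 9, 3, 8, 3, 10, 5, 5, 3, 5, 5, 2, 11, 0]
def rw3349 : List ℕ := [6, 2, 1, 3, 7, 8, 5, 0, 2, 8, 1, 6, 11, 1, 7, 2, 11, 9, 11, 0, 10, 8, 10, 3, 6, 0, 10, 7, 0, 9, 3, 1, 4, 9]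
def rw3350 : List ℕ := [6, 8, 7, 0, 9, 3, 1, 4, 9, 6, 2, 10, 8, 10, 3, 6, 0, 10, 9, 11, 1, 7, 2, 11, 9, 11, 3, 7, 8, 5, 0, 2, 8, 1]
def rw3351 : List ℕ := [6, 0, 7, 4, 8, 2, 9, 1, 5, 9, 9, 0, 11, 11, 11, 6, 6, 0, 11, 1, 10, 1, 7, 7, 10, 10, 10, 1, 8, 8, 4, 0, 8, 3, 9, 5]
def rw3352 : List ℕ := [6, 9, 1, 8, 6, 10, 2, 2, 0, 3, 11, 7, 7, 1, 1, 1]
def rw3353 : List ℕ := [6, 6, 2, 1, 8, 7, 2, 7, 11, 0, 11, 1, 2, 5, 11, 2, 10, 4, 3, 0, 10, 1, 10, 6, 3, 6, 9, 0, 3, 7, 7, 8, 3, 9]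
def rw3354 : List ℕ := [7, 7, 3, 11, 9, 6, 0, 0, 6, 4, 9, 3, 9, 10, 4, 1, 1]
def rw3355 : List ℕ := [7, 4, 0, 11, 3, 5, 8, 6, 0, 7, 0, 2, 10, 3, 3]
def rw3356 : List ℕ := [7, 7, 4, 2, 5, 2, 7, 3]
def rw3357 : List ℕ := [7, 7, 5, 7, 4, 7, 5, 7]
def rw3358 : List ℕ := [7, 2, 4, 7, 2, 4, 6, 3]
def rw3359 : List ℕ := [7, 4, 7, 2, 7, 4, 4, 7, 3, 5]
def rw3360 : List ℕ := [7, 3, 5, 1, 7, 3, 5, 1]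
def rw3361 : List ℕ := [7, 5, 2, 5, 5, 7, 3, 7]
def rw3362 : List ℕ := [7, 2, 7, 4, 4, 7, 3, 5, 7, 4]
def rw3363 : List ℕ := [7, 3, 5, 7, 4, 7, 2, 7, 4, 4]
def rw3364 : List ℕ := [7, 4, 2, 5, 2, 7, 3, 7]
def rw3365 : List ℕ := [7, 3, 7, 7, 7, 3, 7, 7]
def rw3366 : List ℕ := [7, 5, 3, 6, 5, 3, 6, 2]
def rw3367 : List ℕ := [7, 5, 7, 4, 6, 4]
def rw3368 : List ℕ := [7, 4, 6, 4, 7, 5]
def rw3369 : List ℕ := [7, 7, 7, 5, 7, 4, 7, 5]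
def rw3370 : List ℕ := [7, 5, 6, 4, 6, 5]
def rw3371 : List ℕ := [7, 3, 5, 1, 7, 3, 5, 1]
def rw3372 : List ℕ := [7, 2, 4, 6, 3, 7, 2, 4]
def rw3373 : List ℕ := [7, 7, 7, 3, 7, 7, 7, 3]
def rw3374 : List ℕ := [7, 4, 4, 7, 3, 5, 7, 4, 7, 2]
def rw3375 : List ℕ := [7, 5, 7, 4, 7, 5, 7, 7]
def rw3376 : List ℕ := [7, 8, 6, 8, 7, 9]
def rw3377 : List ℕ := [7, 7, 7, 7, 7, 7, 7]
def rw3378 : List ℕ := [7, 7, 3, 7, 7, 7, 3, 7]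
def rw3379 : List ℕ := [7, 9, 6, 8, 6, 9]
def rw3380 : List ℕ := [7, 7, 7, 7, 7, 7, 7]
def rw3381 : List ℕ := [7, 7, 7, 7, 7, 7, 7]
def rw3382 : List ℕ := [7, 4, 8, 10, 0, 3, 9, 5, 8, 2, 1, 5, 3, 11, 3, 3, 8]
def rw3383 : List ℕ := [7, 2, 8, 10, 2, 7, 3, 8, 1, 1, 9, 2, 6, 5, 11, 7, 2, 2]
def rw3384 : List ℕ := [7, 5, 5, 7, 5, 5]
def rw3385 : List ℕ := [7, 7, 5, 2, 5, 5, 7, 3]
def rw3386 : List ℕ := [7, 7, 7, 3, 7, 7, 7, 3]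
def rw3387 : List ℕ := [7, 3, 7, 7, 4, 2, 5, 2]
def rw3388 : List ℕ := [7, 5, 5, 7, 5, 5]
def rw3389 : List ℕ := [7, 8, 7, 8, 7, 8, 7, 8]
def rw3390 : List ℕ := [7, 3, 7, 7, 7, 3, 7, 7]
def rw3391 : List ℕ := [7, 8, 7, 8, 7, 8, 7, 8]
def rw3392 : List ℕ := [7, 4, 7, 4, 7, 4, 7, 4]
def rw3393 : List ℕ := [7, 5, 7, 5, 7, 5]
def rw3394 : List ℕ := [7, 4, 7, 4, 7, 4, 7, 4]
def rw3395 : List ℕ := [7, 9, 7, 8, 6, 8]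
def rw3396 : List ℕ := [7, 4, 9, 6, 6, 9, 9, 4, 4, 7]
def rw3397 : List ℕ := [7, 8, 5, 6, 6, 5, 5, 8, 8, 7]
def rw3398 : List ℕ := [7, 8, 7, 8, 7, 8, 7, 8]
def rw3399 : List ℕ := [7, 7, 8, 5, 6, 6, 5, 5, 8, 8]
def rw3400 : List ℕ := [7, 2, 2, 5, 9, 2, 4, 2, 5, 8]
def rw3401 : List ℕ := [7, 3, 7, 7, 5, 2, 5, 5]
def rw3402 : List ℕ := [7, 4, 7, 5, 7, 7, 7, 5]
def rw3403 : List ℕ := [7, 4, 7, 4, 7, 4, 7, 4]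
def rw3404 : List ℕ := [7, 7, 3, 7, 7, 7, 3, 7]
def rw3405 : List ℕ := [7, 7, 7, 7, 7, 7, 7]
def rw3406 : List ℕ := [7, 4, 7, 4, 7, 4, 7, 4]
def rw3407 : List ℕ := [7, 5, 7, 7, 7, 5, 7, 4]
def rw3408 : List ℕ := [7, 7, 4, 9, 6, 6, 9, 9, 4, 4]
def rw3409 : List ℕ := [7, 10, 1, 11, 8, 10, 0, 11, 6, 2, 4, 10, 8, 3, 8, 5, 1, 2, 8, 4, 2, 8, 9, 9, 3, 5, 9, 3, 0, 4, 9, 2, 9, 11, 5, 3]
def rw3410 : List ℕ := [7, 2, 6, 11, 9, 1, 4, 4, 2, 7, 9, 2, 0, 10, 1, 7, 5]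
def rw3411 : List ℕ := [7, 0, 8, 0, 11, 8, 1, 5, 6, 1, 5, 10, 8, 4, 7, 3, 8, 8]
def rw3412 : List ℕ := [7, 8, 5, 11, 6, 2, 1, 7, 9, 1, 5, 6, 6, 3, 10, 6, 5, 2]
def rw3413 : List ℕ := [7, 0, 10, 7, 1, 8, 3, 5, 8, 0, 7, 9, 11, 1, 7, 8, 8]
def rw3414 : List ℕ := [7, 7, 10, 10, 10, 1, 8, 8, 4, 0, 8, 3, 9, 5, 6, 0, 7, 4, 8, 2, 9, 1, 5, 9, 9, 0, 11, 11, 11, 6, 6, 0, 11, 1, 10, 1]
def rw3415 : List ℕ := [7, 11, 2, 7, 7, 4, 0, 8, 6, 0, 3, 7, 10, 4, 9, 6, 3, 4]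
def rw3416 : List ℕ := [7, 1, 6, 1, 2, 10, 0, 7, 2, 6, 3, 6, 11, 9, 5, 1, 9]
def rw3417 : List ℕ := [7, 1, 2, 4, 10, 2, 4, 4, 2, 2, 11, 6, 8, 2, 4, 3, 8]
def rw3418 : List ℕ := [7, 1, 8, 3, 5, 8, 0, 7, 9, 11, 1, 7, 8, 8, 7, 0, 10]
def rw3419 : List ℕ := [7, 11, 2, 1, 9, 7, 1, 9, 7, 1, 9, 7, 10, 0, 4, 7, 2, 7]
def rw3420 : List ℕ := [7, 9, 10, 0, 3, 9, 3, 5, 0, 4, 2, 8, 1, 11, 3, 3, 5]
def rw3421 : List ℕ := [7, 5, 7, 5, 7, 5]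
def rw3422 : List ℕ := [7, 11, 4, 3, 9, 4, 2, 5, 10, 5, 6, 2, 5, 6, 1, 9, 2, 4]
def rw3423 : List ℕ := [7, 5, 5, 7, 2, 11, 2, 9, 2, 8, 0, 7, 9, 5, 7, 1, 10]
def rw3424 : List ℕ := [7, 7, 0, 0, 4, 6, 11, 0, 0, 9, 0, 9, 0, 5, 8, 8, 8, 10]
def rw3425 : List ℕ := [7, 10, 4, 11, 6, 9, 2, 9, 11, 0, 4, 1, 7, 9, 0, 5, 6, 8, 5, 9, 7, 4, 1, 8, 6, 0, 5, 1, 10, 8, 3, 8]
def rw3426 : List ℕ := [7, 4, 2, 8, 10, 1, 2, 9, 1, 5, 8, 4, 1, 3, 0, 11, 2, 0]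
def rw3427 : List ℕ := [7, 9, 0, 8, 7, 0, 0, 0, 6, 6, 10, 4, 3, 3, 3, 4, 0, 11]
def rw3428 : List ℕ := [7, 2, 7, 3, 6, 1, 11, 3, 0, 7, 0, 6, 8, 0, 4, 8, 10]
def rw3429 : List ℕ := [7, 2, 6, 3, 6, 11, 9, 5, 1, 9, 7, 1, 6, 1, 2, 10, 0]
def rw3430 : List ℕ := [7, 7, 4, 3, 5, 6, 11, 5, 3, 0, 6, 9, 2, 5, 3, 9, 7, 10]
def rw3431 : List ℕ := [7, 1, 8, 2, 0, 8, 1, 6, 8, 10, 4, 1, 7, 3, 3, 7, 11, 9]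
def rw3432 : List ℕ := [7, 10, 9, 7, 4, 1, 8, 6, 0, 5, 1, 0, 0, 4, 1, 7, 9, 0, 5, 6, 8, 11, 6, 9, 2, 9, 11, 1, 10, 8, 3, 8]
def rw3433 : List ℕ := [7, 4, 2, 5, 6, 6, 11, 6, 8, 2, 4, 3, 8, 7, 1, 2, 4, 10]
def rw3434 : List ℕ := [7, 4, 1, 7, 11, 6, 8, 2, 4, 3, 8, 7, 1, 2, 4, 10, 4, 1]
def rw3435 : List ℕ := [7, 8, 7, 8, 7, 8, 7, 8]
def rw3436 : List ℕ := [7, 3, 11, 9, 6, 0, 0, 6, 4, 9, 3, 9, 10, 4, 1, 1, 7]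
def rw3437 : List ℕ := [7, 0, 8, 1, 7, 0, 8, 2, 7, 8, 11, 5, 6, 2, 5, 8, 7, 10]
def rw3438 : List ℕ := [7, 5, 8, 1, 1, 10, 5, 8, 4, 7, 5, 2, 11, 7, 8, 0, 2, 0]
def rw3439 : List ℕ := [7, 11, 6, 1, 9, 4, 8, 0, 8, 1, 6, 5, 10, 6, 2, 5, 1]
def rw3440 : List ℕ := [7, 10, 5, 0, 2, 4, 0, 2, 11, 5, 3, 0, 6, 9, 2, 5, 3, 9]
def rw3441 : List ℕ := [7, 3, 4, 10, 1, 5, 2, 9, 9, 5, 11, 8, 2, 8, 1, 2, 8]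
def rw3442 : List ℕ := [7, 4, 0, 11, 1, 3, 8, 6, 3, 5, 5, 0, 8, 10, 4, 4, 3]
def rw3443 : List ℕ := [7, 10, 0, 3, 6, 2, 6, 4, 11, 2, 1, 9, 7, 1, 9, 7, 1, 9]
def rw3444 : List ℕ := [7, 8, 0, 2, 0, 7, 5, 8, 1, 1, 10, 5, 8, 4, 7, 5, 2, 11]
def rw3445 : List ℕ := [7, 0, 2, 10, 3, 3, 7, 4, 0, 11, 3, 5, 8, 6, 0]
def rw3446 : List ℕ := [7, 10, 9, 7, 4, 1, 8, 6, 0, 5, 1, 8, 0, 4, 1, 7, 9, 0, 5, 6, 8, 11, 6, 9, 2, 9, 11, 9, 10, 8, 3, 8]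
def rw3447 : List ℕ := [7, 10, 6, 11, 6, 9, 2, 9, 11, 0, 4, 1, 7, 9, 0, 5, 6, 8, 7, 9, 7, 4, 1, 8, 6, 0, 5, 1, 10, 8, 3, 8]
def rw3448 : List ℕ := [7, 0, 3, 5, 11, 9, 3, 0, 6, 1, 6, 9, 2, 1, 8, 10, 2, 0]
def rw3449 : List ℕ := [7, 10, 4, 0, 0, 5, 2, 1, 11, 5, 3, 0, 6, 9, 2, 5, 3, 9]
def rw3450 : List ℕ := [7, 3, 5, 7, 5, 0, 11, 1, 3, 8, 6, 3, 5, 5, 0, 8, 10]
def rw3451 : List ℕ := [7, 10, 7, 11, 6, 9, 2, 9, 11, 0, 4, 1, 7, 9, 0, 5, 6, 8, 6, 9, 7, 4, 1, 8, 6, 0, 5, 1, 10, 8, 3, 8]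
def rw3452 : List ℕ := [7, 9, 6, 1, 2, 11, 4, 2, 8, 4, 3, 7, 10, 1, 5, 1, 9, 0]
def rw3453 : List ℕ := [7, 0, 2, 0, 9, 2, 10, 9, 6, 5, 1, 5, 8, 11, 3, 8, 6, 0]
def rw3454 : List ℕ := [7, 5, 0, 0, 11, 7, 8, 6, 3, 6, 1, 9, 9, 0, 3, 10, 1, 1]
def rw3455 : List ℕ := [7, 7, 2, 8, 5, 1, 10, 6, 2, 2, 4, 1, 7, 11, 4, 4, 0]
def rw3456 : List ℕ := [7, 11, 2, 7, 9, 2, 0, 0, 6, 0, 9, 3, 10, 7, 4, 9, 2, 4]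
def rw3457 : List ℕ := [7, 10, 1, 11, 2, 10, 0, 11, 6, 2, 4, 10, 8, 3, 8, 5, 1, 2, 8, 4, 2, 8, 3, 9, 3, 5, 9, 3, 0, 4, 9, 2, 9, 11, 5, 3]
def rw3458 : List ℕ := [7, 4, 0, 9, 10, 1, 9, 1, 6, 9, 9, 2, 6, 5, 9, 11, 4, 0]
def rw3459 : List ℕ := [7, 9, 0, 5, 6, 8, 11, 6, 9, 2, 9, 11, 1, 10, 8, 3, 8, 7, 10, 9, 7, 4, 1, 8, 6, 0, 5, 1, 0, 0, 4, 1]
def rw3460 : List ℕ := [7, 8, 6, 3, 6, 1, 9, 9, 0, 3, 10, 1, 1, 7, 5, 0, 0, 11]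
def rw3461 : List ℕ := [7, 10, 3, 3, 5, 5, 3, 11, 5, 3, 0, 6, 9, 2, 5, 3, 9]
def rw3462 : List ℕ := [7, 2, 7, 7, 11, 2, 1, 9, 7, 1, 9, 7, 1, 9, 7, 10, 0, 4]
def rw3463 : List ℕ := [7, 11, 0, 11, 1, 2, 5, 11, 7, 10, 4, 3, 0, 10, 1, 10, 6, 3, 6, 9, 0, 3, 7, 7, 8, 6, 9, 6, 6, 2, 1, 8, 7, 2]
def rw3464 : List ℕ := [7, 9, 0, 5, 6, 8, 8, 9, 7, 4, 1, 8, 6, 0, 5, 1, 10, 8, 3, 8, 7, 10, 9, 11, 6, 9, 2, 9, 11, 0, 4, 1]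
def rw3465 : List ℕ := [7, 10, 2, 11, 6, 9, 2, 9, 11, 0, 4, 1, 7, 9, 0, 5, 6, 8, 3, 9, 7, 4, 1, 8, 6, 0, 5, 1, 10, 8, 3, 8]
def rw3466 : List ℕ := [7, 2, 7, 9, 6, 3, 6, 9, 0, 3, 7, 7, 8, 10, 4, 3, 0, 10, 1, 10, 8, 11, 0, 11, 1, 2, 5, 11, 9, 6, 6, 2, 1, 8]
def rw3467 : List ℕ := [7, 2, 11, 9, 11, 3, 7, 8, 5, 0, 2, 8, 1, 6, 9, 7, 0, 9, 3, 1, 4, 9, 6, 2, 10, 8, 10, 3, 6, 0, 10, 8, 11, 1]
def rw3468 : List ℕ := [7, 4, 11, 4, 3, 5, 8, 2, 5, 10, 6, 5, 3, 8, 0, 7, 4, 3]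
def rw3469 : List ℕ := [7, 7, 7, 7, 7, 7, 7]
def rw3470 : List ℕ := [7, 10, 4, 1, 5, 1, 4, 0, 11, 5, 3, 0, 6, 9, 2, 5, 3, 9]
def rw3471 : List ℕ := [7, 9, 2, 0, 0, 6, 0, 9, 3, 10, 7, 4, 9, 2, 4, 7, 11, 2]
def rw3472 : List ℕ := [7, 10, 4, 4, 2, 11, 5, 3, 0, 6, 9, 2, 5, 3, 9]
def rw3473 : List ℕ := [7, 2, 1, 11, 6, 8, 0, 6, 8, 0, 6, 8, 0, 3, 10, 5, 7, 3]
def rw3474 : List ℕ := [7, 3, 6, 1, 11, 3, 0, 7, 0, 6, 8, 0, 4, 8, 10, 7, 2]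
def rw3475 : List ℕ := [7, 11, 4, 7, 0, 9, 1, 9, 5, 8, 0, 7, 10, 6, 0, 4, 3]
def rw3476 : List ℕ := [7, 7, 2, 7, 3, 7, 11, 5, 3, 0, 6, 9, 2, 5, 3, 9, 7, 10]
def rw3477 : List ℕ := [7, 10, 9, 7, 4, 1, 8, 6, 0, 5, 1, 5, 0, 4, 1, 7, 9, 0, 5, 6, 8, 11, 6, 9, 2, 9, 11, 4, 10, 8, 3, 8]
def rw3478 : List ℕ := [7, 3, 3, 7, 11, 9, 7, 1, 8, 2, 0, 8, 1, 6, 8, 10, 4, 1]
def rw3479 : List ℕ := [7, 1, 2, 4, 10, 3, 5, 5, 11, 6, 8, 2, 4, 3, 8]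
def rw3480 : List ℕ := [7, 2, 11, 2, 9, 2, 8, 0, 7, 9, 5, 7, 1, 10, 7, 5, 5]
def rw3481 : List ℕ := [7, 9, 0, 8, 7, 0, 0, 0, 6, 6, 10, 0, 2, 0, 0, 0, 3, 11]
def rw3482 : List ℕ := [7, 1, 2, 8, 10, 4, 2, 1, 6, 1, 3, 11, 9, 0, 3, 8, 7, 0]
def rw3483 : List ℕ := [7, 11, 4, 4, 0, 7, 7, 2, 8, 5, 1, 10, 6, 2, 2, 4, 1]
def rw3484 : List ℕ := [7, 9, 11, 1, 7, 8, 8, 7, 0, 10, 7, 1, 8, 3, 5, 8, 0]
def rw3485 : List ℕ := [7, 10, 1, 11, 11, 10, 0, 11, 6, 2, 4, 10, 8, 3, 8, 5, 1, 2, 8, 4, 2, 8, 10, 9, 3, 5, 9, 3, 0, 4, 9, 2, 9, 11, 5, 3]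
def rw3486 : List ℕ := [7, 0, 0, 0, 6, 6, 10, 2, 2, 1, 1, 3, 1, 11, 7, 9, 0, 8]
def rw3487 : List ℕ := [7, 0, 8, 2, 7, 8, 11, 5, 6, 2, 5, 8, 7, 10, 7, 0, 8, 1]
def rw3488 : List ℕ := [7, 10, 7, 7, 2, 7, 3, 7, 11, 5, 3, 0, 6, 9, 2, 5, 3, 9]
def rw3489 : List ℕ := [7, 10, 1, 11, 1, 10, 0, 11, 6, 2, 4, 10, 8, 3, 8, 5, 1, 2, 8, 4, 2, 8, 0, 9, 3, 5, 9, 3, 0, 4, 9, 2, 9, 11, 5, 3]
def rw3490 : List ℕ := [7, 3, 11, 0, 6, 4, 8, 6, 1, 9, 3, 8, 3, 10, 7, 2, 5, 3]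
def rw3491 : List ℕ := [7, 4, 3, 5, 6, 11, 5, 3, 0, 6, 9, 2, 5, 3, 9, 7, 10, 7]
def rw3492 : List ℕ := [7, 7, 1, 1, 1, 6, 9, 1, 8, 6, 10, 5, 2, 0, 4, 4, 1, 11]
def rw3493 : List ℕ := [7, 5, 2, 6, 11, 9, 1, 4, 4, 2, 7, 9, 2, 0, 10, 1, 5]
def rw3494 : List ℕ := [7, 3, 8, 0, 0, 9, 2, 6, 3, 11, 9, 4, 4, 3, 6, 3, 10, 4]
def rw3495 : List ℕ := [7, 3, 7, 11, 5, 3, 0, 6, 9, 2, 5, 3, 9, 7, 10, 7, 7, 2]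
def rw3496 : List ℕ := [7, 2, 5, 3, 7, 3, 11, 0, 6, 4, 8, 6, 1, 9, 3, 8, 3, 10]
def rw3497 : List ℕ := [7, 10, 0, 3, 7, 3, 4, 3, 11, 2, 1, 9, 7, 1, 9, 7, 1, 9]
def rw3498 : List ℕ := [7, 8, 11, 3, 8, 1, 3, 1, 6, 1, 7, 9, 2, 10, 9, 4, 0, 4]
def rw3499 : List ℕ := [7, 1, 9, 7, 10, 0, 4, 7, 2, 7, 7, 11, 2, 1, 9, 7, 1, 9]
def rw3500 : List ℕ := [7, 2, 5, 5, 8, 10, 2, 7, 3, 8, 1, 1, 9, 2, 6, 5, 11, 2]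
def rw3501 : List ℕ := [7, 1, 1, 1, 4, 8, 8, 0, 9, 10, 6, 4, 2, 8, 5, 6, 11, 1]
def rw3502 : List ℕ := [7, 9, 2, 10, 9, 4, 0, 4, 7, 8, 11, 3, 8, 1, 3, 1, 6, 1]
def rw3503 : List ℕ := [7, 1, 9, 7, 1, 9, 7, 10, 0, 4, 7, 2, 7, 7, 11, 2, 1, 9]
def rw3504 : List ℕ := [7, 8, 5, 0, 2, 8, 1, 6, 0, 7, 0, 9, 3, 1, 4, 9, 6, 2, 10, 8, 10, 3, 6, 0, 10, 1, 11, 1, 7, 2, 11, 9, 11, 3]
def rw3505 : List ℕ := [7, 0, 6, 8, 0, 4, 8, 10, 7, 2, 7, 3, 6, 1, 11, 3, 0]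
def rw3506 : List ℕ := [7, 5, 7, 2, 6, 11, 9, 1, 4, 4, 2, 7, 9, 2, 0, 10, 1]
def rw3507 : List ℕ := [7, 9, 5, 7, 1, 10, 2, 6, 2, 4, 3, 6, 11, 2, 9, 2, 8, 0]
def rw3508 : List ℕ := [7, 4, 3, 7, 4, 11, 4, 3, 5, 8, 2, 5, 10, 6, 5, 3, 8, 0]
def rw3509 : List ℕ := [7, 11, 9, 7, 1, 8, 2, 0, 8, 1, 6, 8, 10, 4, 1, 7, 3, 3]
def rw3510 : List ℕ := [7, 7, 1, 1, 1, 6, 9, 1, 8, 6, 10, 2, 1, 1, 2, 0, 2, 11]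
def rw3511 : List ℕ := [7, 3, 7, 2, 1, 11, 6, 8, 0, 6, 8, 0, 6, 8, 0, 3, 10, 5]
def rw3512 : List ℕ := [7, 8, 6, 1, 8, 0, 4, 0, 11, 6, 2, 5, 9, 3, 5, 10, 3, 0]
def rw3513 : List ℕ := [7, 7, 8, 10, 4, 3, 0, 10, 1, 10, 1, 11, 0, 11, 1, 2, 5, 11, 9, 6, 6, 2, 1, 8, 7, 2, 7, 0, 6, 3, 6, 9, 0, 3]
def rw3514 : List ℕ := [7, 2, 11, 9, 11, 3, 7, 8, 5, 0, 2, 8, 1, 6, 1, 7, 0, 9, 3, 1, 4, 9, 6, 2, 10, 8, 10, 3, 6, 0, 10, 0, 11, 1]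
def rw3515 : List ℕ := [7, 4, 10, 9, 6, 3, 9, 1, 6, 0, 9, 1, 6, 11, 6, 9, 4, 3]
def rw3516 : List ℕ := [7, 10, 4, 9, 6, 3, 4, 7, 11, 2, 7, 7, 4, 0, 8, 6, 0, 3]
def rw3517 : List ℕ := [7, 11, 0, 4, 9, 3, 6, 6, 1, 5, 5, 10, 6, 0, 5, 3, 3]
def rw3518 : List ℕ := [7, 7, 1, 1, 1, 6, 9, 1, 8, 6, 10, 2, 0, 2, 0, 3, 3, 11]
def rw3519 : List ℕ := [7, 11, 5, 3, 0, 6, 9, 2, 5, 3, 9, 7, 10, 7, 7, 2, 7, 3]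
def rw3520 : List ℕ := [7, 2, 7, 11, 0, 11, 1, 2, 5, 11, 4, 10, 4, 3, 0, 10, 1, 10, 6, 3, 6, 9, 0, 3, 7, 7, 8, 5, 9, 6, 6, 2, 1, 8]
def rw3521 : List ℕ := [7, 2, 11, 5, 3, 0, 6, 9, 2, 5, 3, 9, 7, 10, 7, 5, 5]
def rw3522 : List ℕ := [7, 1, 10, 4, 4, 2, 11, 2, 9, 2, 8, 0, 7, 9, 5]
def rw3523 : List ℕ := [7, 4, 8, 2, 9, 1, 5, 9, 9, 0, 11, 11, 11, 6, 6, 0, 11, 3, 10, 1, 7, 7, 10, 10, 10, 1, 8, 8, 4, 0, 8, 3, 9, 5, 6, 2]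
def rw3524 : List ℕ := [7, 9, 0, 8, 7, 0, 0, 0, 6, 6, 10, 2, 0, 2, 0, 0, 3, 11]
def rw3525 : List ℕ := [7, 9, 1, 5, 6, 6, 3, 10, 6, 5, 2, 7, 8, 5, 11, 6, 2, 1]
def rw3526 : List ℕ := [7, 10, 7, 5, 5, 7, 2, 11, 5, 3, 0, 6, 9, 2, 5, 3, 9]
def rw3527 : List ℕ := [7, 1, 1, 1, 6, 9, 1, 8, 6, 10, 2, 5, 0, 0, 5, 11, 7]
def rw3528 : List ℕ := [7, 9, 0, 5, 6, 8, 11, 6, 9, 2, 9, 11, 2, 10, 8, 3, 8, 7, 10, 9, 7, 4, 1, 8, 6, 0, 5, 1, 3, 0, 4, 1]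
def rw3529 : List ℕ := [7, 9, 0, 5, 6, 8, 7, 9, 7, 4, 1, 8, 6, 0, 5, 1, 10, 8, 3, 8, 7, 10, 6, 11, 6, 9, 2, 9, 11, 0, 4, 1]
def rw3530 : List ℕ := [7, 3, 8, 2, 2, 11, 2, 8, 1, 7, 2, 0, 0, 8, 6, 3, 10, 4]
def rw3531 : List ℕ := [7, 9, 4, 2, 10, 1, 5, 6, 2, 2, 11, 3, 1, 6, 1]
def rw3532 : List ℕ := [7, 10, 9, 7, 4, 1, 8, 6, 0, 5, 1, 11, 0, 4, 1, 7, 9, 0, 5, 6, 8, 11, 6, 9, 2, 9, 11, 10, 10, 8, 3, 8]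
def rw3533 : List ℕ := [7, 10, 2, 5, 5, 3, 4, 11, 5, 3, 0, 6, 9, 2, 5, 3, 9]
def rw3534 : List ℕ := [7, 5, 7, 0, 11, 1, 3, 8, 6, 3, 5, 5, 0, 8, 10, 7, 3]
def rw3535 : List ℕ := [7, 10, 10, 10, 1, 8, 8, 4, 0, 8, 3, 9, 5, 6, 2, 7, 4, 8, 2, 9, 1, 5, 9, 9, 0, 11, 11, 11, 6, 6, 0, 11, 3, 10, 1, 7]
def rw3536 : List ℕ := [7, 3, 4, 3, 11, 2, 1, 9, 7, 1, 9, 7, 1, 9, 7, 10, 0, 3]
def rw3537 : List ℕ := [7, 4, 9, 3, 5, 7, 11, 8, 1, 9, 9, 5, 0, 0, 0, 6, 0, 10]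
def rw3538 : List ℕ := [7, 9, 5, 7, 1, 10, 2, 4, 4, 2, 5, 5, 11, 2, 9, 2, 8, 0]
def rw3539 : List ℕ := [7, 7, 11, 2, 1, 9, 7, 1, 9, 7, 1, 9, 7, 10, 0, 4, 7, 2]
def rw3540 : List ℕ := [7, 10, 9, 0, 0, 3, 5, 8, 11, 9, 5, 1, 8, 4, 0, 5, 2, 9]
def rw3541 : List ℕ := [7, 1, 10, 3, 3, 5, 5, 3, 11, 2, 9, 2, 8, 0, 7, 9, 5]
def rw3542 : List ℕ := [7, 3, 5, 10, 3, 3, 6, 1, 6, 5, 11, 8, 0, 7, 9, 1, 3, 4]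
def rw3543 : List ℕ := [7, 0, 0, 0, 6, 6, 10, 0, 2, 0, 0, 0, 3, 11, 7, 9, 0, 8]
def rw3544 : List ℕ := [7, 10, 6, 0, 4, 3, 7, 11, 4, 7, 0, 9, 1, 9, 5, 8, 0]
def rw3545 : List ℕ := [7, 9, 0, 8, 7, 0, 0, 0, 6, 6, 10, 1, 3, 0, 3, 11]
def rw3546 : List ℕ := [7, 5, 6, 2, 11, 7, 8, 0, 2, 0, 7, 5, 8, 1, 1, 10, 5, 8]
def rw3547 : List ℕ := [7, 11, 8, 1, 9, 9, 5, 0, 0, 0, 6, 0, 10, 7, 4, 9, 3, 5]
def rw3548 : List ℕ := [7, 8, 8, 7, 0, 10, 7, 1, 8, 3, 5, 8, 0, 7, 9, 11, 1]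
def rw3549 : List ℕ := [7, 1, 1, 7, 8, 10, 2, 6, 6, 0, 0, 5, 11, 8, 2, 8, 5]
def rw3550 : List ℕ := [7, 9, 1, 1, 3, 6, 0, 9, 3, 10, 3, 3, 9, 2, 6, 5, 11, 2]
def rw3551 : List ℕ := [7, 8, 11, 5, 6, 2, 5, 8, 7, 10, 7, 0, 8, 1, 7, 0, 8, 2]
def rw3552 : List ℕ := [7, 1, 2, 4, 10, 7, 4, 2, 5, 6, 6, 11, 6, 8, 2, 4, 3, 8]
def rw3553 : List ℕ := [7, 7, 1, 1, 1, 6, 9, 1, 8, 6, 10, 1, 2, 2, 2, 2, 11]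
def rw3554 : List ℕ := [7, 11, 6, 8, 2, 4, 3, 8, 7, 1, 2, 4, 10, 4, 1, 7, 4, 1]
def rw3555 : List ℕ := [7, 2, 7, 11, 0, 11, 1, 2, 5, 11, 5, 10, 4, 3, 0, 10, 1, 10, 6, 3, 6, 9, 0, 3, 7, 7, 8, 4, 9, 6, 6, 2, 1, 8]
def rw3556 : List ℕ := [7, 9, 0, 5, 6, 8, 11, 6, 9, 2, 9, 11, 4, 10, 8, 3, 8, 7, 10, 9, 7, 4, 1, 8, 6, 0, 5, 1, 5, 0, 4, 1]
def rw3557 : List ℕ := [7, 7, 1, 1, 1, 6, 9, 1, 8, 6, 10, 2, 5, 0, 0, 5, 11]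
def rw3558 : List ℕ := [7, 3, 6, 4, 6, 0, 11, 1, 3, 8, 6, 3, 5, 5, 0, 8, 10]
def rw3559 : List ℕ := [7, 2, 11, 9, 11, 5, 10, 8, 10, 3, 6, 0, 10, 7, 0, 9, 3, 1, 4, 9, 6, 2, 4, 3, 7, 8, 5, 0, 2, 8, 1, 6, 11, 1]
def rw3560 : List ℕ := [7, 0, 0, 4, 6, 11, 0, 0, 9, 0, 9, 0, 5, 8, 8, 8, 10, 7]
def rw3561 : List ℕ := [7, 8, 5, 0, 2, 8, 1, 6, 2, 7, 0, 9, 3, 1, 4, 9, 6, 2, 10, 8, 10, 3, 6, 0, 10, 3, 11, 1, 7, 2, 11, 9, 11, 3]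
def rw3562 : List ℕ := [7, 3, 4, 6, 4, 0, 11, 1, 3, 8, 6, 3, 5, 5, 0, 8, 10]
def rw3563 : List ℕ := [7, 5, 1, 1, 6, 6, 11, 9, 9, 9, 4, 1, 8, 1, 8, 1, 1, 10]
def rw3564 : List ℕ := [7, 4, 9, 2, 4, 7, 11, 2, 7, 9, 2, 0, 0, 6, 0, 9, 3, 10]
def rw3565 : List ℕ := [7, 9, 0, 8, 7, 0, 0, 0, 6, 6, 10, 2, 2, 1, 2, 0, 2, 11]
def rw3566 : List ℕ := [7, 2, 2, 11, 4, 2, 6, 5, 2, 0, 8, 6, 1, 9, 10, 4, 7, 0]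
def rw3567 : List ℕ := [7, 10, 9, 7, 4, 1, 8, 6, 0, 5, 1, 9, 0, 4, 1, 7, 9, 0, 5, 6, 8, 11, 6, 9, 2, 9, 11, 8, 10, 8, 3, 8]
def rw3568 : List ℕ := [7, 3, 8, 1, 1, 9, 2, 6, 5, 11, 2, 7, 2, 5, 5, 8, 10, 2]
def rw3569 : List ℕ := [7, 7, 8, 10, 4, 3, 0, 10, 1, 10, 11, 11, 0, 11, 1, 2, 5, 11, 9, 6, 6, 2, 1, 8, 7, 2, 7, 10, 6, 3, 6, 9, 0, 3]
def rw3570 : List ℕ := [7, 2, 11, 9, 11, 3, 7, 8, 5, 0, 2, 8, 1, 6, 6, 7, 0, 9, 3, 1, 4, 9, 6, 2, 10, 8, 10, 3, 6, 0, 10, 7, 11, 1]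
def rw3571 : List ℕ := [7, 10, 9, 7, 4, 1, 8, 6, 0, 5, 1, 6, 0, 4, 1, 7, 9, 0, 5, 6, 8, 11, 6, 9, 2, 9, 11, 7, 10, 8, 3, 8]
def rw3572 : List ℕ := [7, 1, 2, 4, 10, 3, 4, 4, 4, 4, 4, 11, 6, 8, 2, 4, 3, 8]
def rw3573 : List ℕ := [7, 0, 9, 1, 9, 5, 8, 0, 7, 10, 6, 0, 4, 3, 7, 11, 4]
def rw3574 : List ℕ := [7, 0, 7, 2, 2, 11, 4, 2, 6, 5, 2, 0, 8, 6, 1, 9, 10, 4]
def rw3575 : List ℕ := [7, 2, 0, 0, 8, 6, 3, 10, 4, 7, 3, 8, 2, 2, 11, 2, 8, 1]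
def rw3576 : List ℕ := [7, 7, 1, 1, 1, 6, 9, 1, 8, 6, 10, 1, 3, 3, 3, 11]
def rw3577 : List ℕ := [7, 2, 7, 3, 7, 11, 5, 3, 0, 6, 9, 2, 5, 3, 9, 7, 10, 7]
def rw3578 : List ℕ := [7, 1, 1, 3, 8, 6, 3, 10, 6, 5, 3, 8, 5, 6, 11, 2, 8, 1]
def rw3579 : List ℕ := [7, 9, 5, 7, 1, 10, 4, 4, 2, 11, 2, 9, 2, 8, 0]
def rw3580 : List ℕ := [7, 0, 9, 3, 1, 4, 9, 6, 2, 10, 3, 7, 8, 5, 0, 2, 8, 1, 6, 11, 1, 7, 2, 11, 9, 11, 11, 10, 8, 10, 3, 6, 0, 10]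
def rw3581 : List ℕ := [7, 4, 6, 9, 4, 11, 0, 0, 9, 4, 6, 1, 3, 1, 9, 6, 10, 3]
def rw3582 : List ℕ := [7, 8, 11, 9, 6, 6, 2, 1, 8, 7, 2, 7, 11, 0, 11, 1, 2, 5, 11, 10, 10, 4, 3, 0, 10, 1, 10, 6, 3, 6, 9, 0, 3, 7]
def rw3583 : List ℕ := [7, 3, 8, 8, 7, 0, 8, 0, 11, 8, 1, 5, 6, 1, 5, 10, 8, 4]
def rw3584 : List ℕ := [7, 10, 9, 7, 4, 1, 8, 6, 0, 5, 1, 1, 0, 4, 1, 7, 9, 0, 5, 6, 8, 11, 6, 9, 2, 9, 11, 0, 10, 8, 3, 8]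
def rw3585 : List ℕ := [7, 2, 7, 5, 6, 3, 6, 9, 0, 3, 7, 7, 8, 10, 4, 3, 0, 10, 1, 10, 4, 11, 0, 11, 1, 2, 5, 11, 9, 6, 6, 2, 1, 8]
def rw3586 : List ℕ := [7, 5, 2, 11, 7, 8, 0, 2, 0, 7, 5, 8, 1, 1, 10, 5, 8, 4]
def rw3587 : List ℕ := [7, 2, 2, 7, 2, 8, 10, 2, 7, 3, 8, 1, 1, 9, 2, 6, 5, 11]
def rw3588 : List ℕ := [7, 10, 9, 7, 4, 1, 8, 6, 0, 5, 1, 7, 0, 4, 1, 7, 9, 0, 5, 6, 8, 11, 6, 9, 2, 9, 11, 6, 10, 8, 3, 8]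
def rw3589 : List ℕ := [7, 1, 9, 7, 1, 9, 7, 10, 0, 3, 6, 2, 6, 4, 11, 2, 1, 9]
def rw3590 : List ℕ := [7, 0, 0, 0, 6, 6, 10, 1, 3, 0, 3, 11, 7, 9, 0, 8]
def rw3591 : List ℕ := [7, 0, 7, 1, 2, 8, 10, 4, 2, 1, 6, 1, 3, 11, 9, 0, 3, 8]
def rw3592 : List ℕ := [7, 10, 6, 3, 6, 9, 0, 3, 7, 7, 8, 10, 4, 3, 0, 10, 1, 10, 11, 11, 0, 11, 1, 2, 5, 11, 9, 6, 6, 2, 1, 8, 7, 2]
def rw3593 : List ℕ := [7, 7, 4, 0, 8, 6, 0, 3, 7, 10, 4, 9, 6, 3, 4, 7, 11, 2]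
def rw3594 : List ℕ := [7, 4, 1, 8, 6, 0, 5, 1, 10, 8, 3, 8, 7, 10, 11, 11, 6, 9, 2, 9, 11, 0, 4, 1, 7, 9, 0, 5, 6, 8, 10, 9]
def rw3595 : List ℕ := [7, 9, 5, 7, 1, 10, 2, 2, 5, 5, 3, 5, 11, 2, 9, 2, 8, 0]
def rw3596 : List ℕ := [7, 10, 1, 5, 1, 9, 0, 7, 9, 6, 1, 2, 11, 4, 2, 8, 4, 3]
def rw3597 : List ℕ := [7, 2, 7, 9, 6, 10, 1, 1, 4, 6, 0, 0, 11, 2, 1, 8, 8, 0]
def rw3598 : List ℕ := [7, 2, 11, 9, 11, 0, 10, 8, 10, 3, 6, 0, 10, 7, 0, 9, 3, 1, 4, 9, 6, 2, 1, 3, 7, 8, 5, 0, 2, 8, 1, 6, 11, 1]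
def rw3599 : List ℕ := [7, 10, 10, 10, 1, 8, 8, 4, 0, 8, 3, 9, 5, 6, 6, 7, 4, 8, 2, 9, 1, 5, 9, 9, 0, 11, 11, 11, 6, 6, 0, 11, 7, 10, 1, 7]
def rw3600 : List ℕ := [7, 10, 5, 11, 6, 9, 2, 9, 11, 0, 4, 1, 7, 9, 0, 5, 6, 8, 4, 9, 7, 4, 1, 8, 6, 0, 5, 1, 10, 8, 3, 8]
def rw3601 : List ℕ := [7, 5, 2, 5, 11, 2, 1, 9, 7, 1, 9, 7, 1, 9, 7, 10, 0, 3]
def rw3602 : List ℕ := [7, 10, 1, 11, 10, 10, 0, 11, 6, 2, 4, 10, 8, 3, 8, 5, 1, 2, 8, 4, 2, 8, 11, 9, 3, 5, 9, 3, 0, 4, 9, 2, 9, 11, 5, 3]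
def rw3603 : List ℕ := [7, 2, 11, 9, 11, 10, 10, 8, 10, 3, 6, 0, 10, 7, 0, 9, 3, 1, 4, 9, 6, 2, 11, 3, 7, 8, 5, 0, 2, 8, 1, 6, 11, 1]
def rw3604 : List ℕ := [7, 8, 4, 9, 6, 6, 2, 1, 8, 7, 2, 7, 11, 0, 11, 1, 2, 5, 11, 5, 10, 4, 3, 0, 10, 1, 10, 6, 3, 6, 9, 0, 3, 7]
def rw3605 : List ℕ := [7, 7, 8, 10, 4, 3, 0, 10, 1, 10, 3, 11, 0, 11, 1, 2, 5, 11, 9, 6, 6, 2, 1, 8, 7, 2, 7, 2, 6, 3, 6, 9, 0, 3]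
def rw3606 : List ℕ := [7, 10, 7, 0, 8, 1, 7, 0, 8, 2, 7, 8, 11, 5, 6, 2, 5, 8]
def rw3607 : List ℕ := [7, 10, 6, 0, 5, 6, 0, 5, 11, 5, 3, 0, 6, 9, 2, 5, 3, 9]
def rw3608 : List ℕ := [7, 1, 10, 2, 5, 5, 3, 4, 11, 2, 9, 2, 8, 0, 7, 9, 5]
def rw3609 : List ℕ := [7, 5, 0, 11, 1, 3, 8, 6, 3, 5, 5, 0, 8, 10, 7, 3, 5]
def rw3610 : List ℕ := [7, 7, 8, 10, 9, 6, 6, 2, 1, 8, 7, 2, 7, 11, 0, 11, 1, 2, 5, 11, 11, 10, 4, 3, 0, 10, 1, 10, 6, 3, 6, 9, 0, 3]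
def rw3611 : List ℕ := [7, 0, 0, 0, 6, 6, 10, 2, 2, 2, 0, 11, 7, 9, 0, 8]
def rw3612 : List ℕ := [7, 10, 10, 10, 1, 8, 8, 4, 0, 8, 3, 9, 5, 6, 8, 7, 4, 8, 2, 9, 1, 5, 9, 9, 0, 11, 11, 11, 6, 6, 0, 11, 9, 10, 1, 7]
def rw3613 : List ℕ := [7, 10, 1, 11, 6, 9, 2, 9, 11, 0, 4, 1, 7, 9, 0, 5, 6, 8, 0, 9, 7, 4, 1, 8, 6, 0, 5, 1, 10, 8, 3, 8]
def rw3614 : List ℕ := [7, 5, 7, 5, 7, 5]
def rw3615 : List ℕ := [7, 9, 0, 5, 6, 8, 11, 6, 9, 2, 9, 11, 10, 10, 8, 3, 8, 7, 10, 9, 7, 4, 1, 8, 6, 0, 5, 1, 11, 0, 4, 1]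
def rw3616 : List ℕ := [7, 10, 9, 11, 6, 9, 2, 9, 11, 0, 4, 1, 7, 9, 0, 5, 6, 8, 8, 9, 7, 4, 1, 8, 6, 0, 5, 1, 10, 8, 3, 8]
def rw3617 : List ℕ := [7, 0, 0, 0, 6, 6, 10, 3, 3, 3, 3, 0, 11, 7, 9, 0, 8]
def rw3618 : List ℕ := [7, 10, 0, 11, 6, 9, 2, 9, 11, 0, 4, 1, 7, 9, 0, 5, 6, 8, 1, 9, 7, 4, 1, 8, 6, 0, 5, 1, 10, 8, 3, 8]
def rw3619 : List ℕ := [7, 2, 11, 9, 11, 1, 10, 8, 10, 3, 6, 0, 10, 7, 0, 9, 3, 1, 4, 9, 6, 2, 0, 3, 7, 8, 5, 0, 2, 8, 1, 6, 11, 1]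
def rw3620 : List ℕ := [7, 2, 11, 9, 11, 11, 10, 8, 10, 3, 6, 0, 10, 7, 0, 9, 3, 1, 4, 9, 6, 2, 10, 3, 7, 8, 5, 0, 2, 8, 1, 6, 11, 1]
def rw3621 : List ℕ := [7, 9, 0, 5, 6, 8, 3, 9, 7, 4, 1, 8, 6, 0, 5, 1, 10, 8, 3, 8, 7, 10, 2, 11, 6, 9, 2, 9, 11, 0, 4, 1]
def rw3622 : List ℕ := [7, 8, 5, 0, 2, 8, 1, 6, 9, 7, 0, 9, 3, 1, 4, 9, 6, 2, 10, 8, 10, 3, 6, 0, 10, 8, 11, 1, 7, 2, 11, 9, 11, 3]
def rw3623 : List ℕ := [7, 10, 3, 11, 6, 9, 2, 9, 11, 0, 4, 1, 7, 9, 0, 5, 6, 8, 2, 9, 7, 4, 1, 8, 6, 0, 5, 1, 10, 8, 3, 8]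
def rw3624 : List ℕ := [7, 9, 1, 3, 4, 7, 3, 5, 10, 3, 3, 6, 1, 6, 5, 11, 8, 0]
def rw3625 : List ℕ := [7, 8, 10, 2, 6, 6, 0, 0, 5, 11, 8, 2, 8, 5, 7, 1, 1]
def rw3626 : List ℕ := [7, 7, 1, 1, 1, 6, 9, 1, 8, 6, 10, 0, 3, 0, 3, 0, 0, 11]
def rw3627 : List ℕ := [7, 10, 10, 10, 1, 8, 8, 4, 0, 8, 3, 9, 5, 6, 0, 7, 4, 8, 2, 9, 1, 5, 9, 9, 0, 11, 11, 11, 6, 6, 0, 11, 1, 10, 1, 7]
def rw3628 : List ℕ := [7, 2, 8, 5, 1, 10, 6, 2, 2, 4, 1, 7, 11, 4, 4, 0, 7]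
def rw3629 : List ℕ := [7, 4, 1, 8, 6, 0, 5, 1, 10, 8, 3, 8, 7, 10, 2, 11, 6, 9, 2, 9, 11, 0, 4, 1, 7, 9, 0, 5, 6, 8, 3, 9]
def rw3630 : List ℕ := [7, 7, 8, 10, 4, 3, 0, 10, 1, 10, 0, 11, 0, 11, 1, 2, 5, 11, 9, 6, 6, 2, 1, 8, 7, 2, 7, 1, 6, 3, 6, 9, 0, 3]
def rw3631 : List ℕ := [7, 8, 5, 0, 2, 8, 1, 6, 11, 1, 7, 2, 11, 9, 11, 10, 10, 8, 10, 3, 6, 0, 10, 7, 0, 9, 3, 1, 4, 9, 6, 2, 11, 3]
def rw3632 : List ℕ := [7, 9, 5, 7, 1, 10, 3, 4, 4, 2, 4, 4, 11, 2, 9, 2, 8, 0]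
def rw3633 : List ℕ := [7, 0, 0, 0, 6, 6, 10, 4, 1, 1, 4, 3, 11, 7, 9, 0, 8]
def rw3634 : List ℕ := [7, 1, 1, 1, 6, 9, 1, 8, 6, 10, 0, 2, 0, 0, 3, 3, 11, 7]
def rw3635 : List ℕ := [7, 1, 10, 3, 4, 4, 2, 4, 4, 11, 2, 9, 2, 8, 0, 7, 9, 5]
def rw3636 : List ℕ := [7, 4, 1, 8, 6, 0, 5, 1, 10, 8, 3, 8, 7, 10, 7, 11, 6, 9, 2, 9, 11, 0, 4, 1, 7, 9, 0, 5, 6, 8, 6, 9]
def rw3637 : List ℕ := [7, 0, 11, 1, 3, 8, 6, 3, 5, 5, 0, 8, 10, 7, 3, 7, 5]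
def rw3638 : List ℕ := [7, 4, 0, 8, 6, 0, 3, 7, 10, 4, 9, 6, 3, 4, 7, 11, 2, 7]
def rw3639 : List ℕ := [7, 9, 0, 8, 7, 0, 0, 0, 6, 6, 10, 3, 1, 3, 0, 0, 3, 11]
def rw3640 : List ℕ := [7, 7, 10, 10, 10, 1, 8, 8, 4, 0, 8, 3, 9, 5, 6, 3, 7, 4, 8, 2, 9, 1, 5, 9, 9, 0, 11, 11, 11, 6, 6, 0, 11, 2, 10, 1]
def rw3641 : List ℕ := [7, 7, 10, 10, 10, 1, 8, 8, 4, 0, 8, 3, 9, 5, 6, 2, 7, 4, 8, 2, 9, 1, 5, 9, 9, 0, 11, 11, 11, 6, 6, 0, 11, 3, 10, 1]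
def rw3642 : List ℕ := [7, 2, 11, 9, 11, 3, 7, 8, 5, 0, 2, 8, 1, 6, 2, 7, 0, 9, 3, 1, 4, 9, 6, 2, 10, 8, 10, 3, 6, 0, 10, 3, 11, 1]
def rw3643 : List ℕ := [7, 9, 0, 5, 6, 8, 11, 6, 9, 2, 9, 11, 0, 10, 8, 3, 8, 7, 10, 9, 7, 4, 1, 8, 6, 0, 5, 1, 1, 0, 4, 1]
def rw3644 : List ℕ := [7, 1, 2, 4, 10, 1, 5, 0, 4, 0, 5, 11, 6, 8, 2, 4, 3, 8]
def rw3645 : List ℕ := [7, 10, 1, 11, 0, 10, 0, 11, 6, 2, 4, 10, 8, 3, 8, 5, 1, 2, 8, 4, 2, 8, 1, 9, 3, 5, 9, 3, 0, 4, 9, 2, 9, 11, 5, 3]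
def rw3646 : List ℕ := [7, 10, 1, 11, 3, 10, 0, 11, 6, 2, 4, 10, 8, 3, 8, 5, 1, 2, 8, 4, 2, 8, 2, 9, 3, 5, 9, 3, 0, 4, 9, 2, 9, 11, 5, 3]
def rw3647 : List ℕ := [7, 1, 2, 4, 10, 5, 2, 4, 4, 3, 11, 6, 8, 2, 4, 3, 8]
def rw3648 : List ℕ := [7, 4, 1, 8, 6, 0, 5, 1, 10, 8, 3, 8, 7, 10, 3, 11, 6, 9, 2, 9, 11, 0, 4, 1, 7, 9, 0, 5, 6, 8, 2, 9]
def rw3649 : List ℕ := [7, 10, 10, 10, 1, 8, 8, 4, 0, 8, 3, 9, 5, 6, 1, 7, 4, 8, 2, 9, 1, 5, 9, 9, 0, 11, 11, 11, 6, 6, 0, 11, 0, 10, 1, 7]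
def rw3650 : List ℕ := [7, 1, 2, 4, 10, 3, 1, 5, 3, 1, 4, 11, 6, 8, 2, 4, 3, 8]
def rw3651 : List ℕ := [7, 2, 11, 9, 11, 3, 7, 8, 5, 0, 2, 8, 1, 6, 7, 7, 0, 9, 3, 1, 4, 9, 6, 2, 10, 8, 10, 3, 6, 0, 10, 6, 11, 1]
def rw3652 : List ℕ := [7, 8, 5, 0, 2, 8, 1, 6, 11, 1, 7, 2, 11, 9, 11, 6, 10, 8, 10, 3, 6, 0, 10, 7, 0, 9, 3, 1, 4, 9, 6, 2, 7, 3]
def rw3653 : List ℕ := [7, 2, 7, 1, 6, 3, 6, 9, 0, 3, 7, 7, 8, 10, 4, 3, 0, 10, 1, 10, 0, 11, 0, 11, 1, 2, 5, 11, 9, 6, 6, 2, 1, 8]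
def rw3654 : List ℕ := [7, 5, 5, 7, 2, 11, 5, 3, 0, 6, 9, 2, 5, 3, 9, 7, 10]
def rw3655 : List ℕ := [7, 4, 1, 8, 6, 0, 5, 1, 8, 0, 4, 1, 7, 9, 0, 5, 6, 8, 11, 6, 9, 2, 9, 11, 9, 10, 8, 3, 8, 7, 10, 9]
def rw3656 : List ℕ := [7, 10, 9, 7, 4, 1, 8, 6, 0, 5, 1, 3, 0, 4, 1, 7, 9, 0, 5, 6, 8, 11, 6, 9, 2, 9, 11, 2, 10, 8, 3, 8]
def rw3657 : List ℕ := [7, 2, 11, 9, 11, 3, 7, 8, 5, 0, 2, 8, 1, 6, 3, 7, 0, 9, 3, 1, 4, 9, 6, 2, 10, 8, 10, 3, 6, 0, 10, 2, 11, 1]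
def rw3658 : List ℕ := [7, 1, 1, 1, 6, 9, 1, 8, 6, 10, 5, 2, 0, 4, 4, 1, 11, 7]
def rw3659 : List ℕ := [7, 9, 2, 0, 10, 1, 4, 6, 4, 2, 6, 11, 9, 1, 4, 4, 2]
def rw3660 : List ℕ := [7, 4, 1, 8, 6, 0, 5, 1, 10, 8, 3, 8, 7, 10, 6, 11, 6, 9, 2, 9, 11, 0, 4, 1, 7, 9, 0, 5, 6, 8, 7, 9]
def rw3661 : List ℕ := [7, 2, 11, 9, 11, 6, 10, 8, 10, 3, 6, 0, 10, 7, 0, 9, 3, 1, 4, 9, 6, 2, 7, 3, 7, 8, 5, 0, 2, 8, 1, 6, 11, 1]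
def rw3662 : List ℕ := [7, 11, 0, 11, 1, 2, 5, 11, 3, 10, 4, 3, 0, 10, 1, 10, 6, 3, 6, 9, 0, 3, 7, 7, 8, 2, 9, 6, 6, 2, 1, 8, 7, 2]
def rw3663 : List ℕ := [7, 9, 5, 7, 1, 10, 7, 5, 5, 7, 2, 11, 2, 9, 2, 8, 0]
def rw3664 : List ℕ := [7, 2, 11, 9, 11, 4, 10, 8, 10, 3, 6, 0, 10, 7, 0, 9, 3, 1, 4, 9, 6, 2, 5, 3, 7, 8, 5, 0, 2, 8, 1, 6, 11, 1]
def rw3665 : List ℕ := [7, 9, 0, 5, 6, 8, 0, 9, 7, 4, 1, 8, 6, 0, 5, 1, 10, 8, 3, 8, 7, 10, 1, 11, 6, 9, 2, 9, 11, 0, 4, 1]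
def rw3666 : List ℕ := [7, 10, 9, 7, 4, 1, 8, 6, 0, 5, 1, 4, 0, 4, 1, 7, 9, 0, 5, 6, 8, 11, 6, 9, 2, 9, 11, 5, 10, 8, 3, 8]
def rw3667 : List ℕ := [7, 1, 9, 7, 10, 0, 3, 7, 3, 4, 3, 11, 2, 1, 9, 7, 1, 9]
def rw3668 : List ℕ := [7, 0, 9, 1, 3, 9, 0, 6, 8, 10, 6, 2, 2, 6, 0, 5, 11, 9]
def rw3669 : List ℕ := [7, 9, 2, 0, 10, 1, 5, 6, 2, 5, 5, 11, 9, 1, 4, 4, 2]
def rw3670 : List ℕ := [7, 7, 10, 10, 10, 1, 8, 8, 4, 0, 8, 3, 9, 5, 6, 4, 7, 4, 8, 2, 9, 1, 5, 9, 9, 0, 11, 11, 11, 6, 6, 0, 11, 5, 10, 1]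
def rw3671 : List ℕ := [7, 1, 1, 1, 6, 9, 1, 8, 6, 10, 2, 1, 2, 0, 11, 7]
def rw3672 : List ℕ := [7, 9, 0, 5, 6, 8, 1, 9, 7, 4, 1, 8, 6, 0, 5, 1, 10, 8, 3, 8, 7, 10, 0, 11, 6, 9, 2, 9, 11, 0, 4, 1]
def rw3673 : List ℕ := [7, 8, 5, 0, 2, 8, 1, 6, 3, 7, 0, 9, 3, 1, 4, 9, 6, 2, 10, 8, 10, 3, 6, 0, 10, 2, 11, 1, 7, 2, 11, 9, 11, 3]
def rw3674 : List ℕ := [7, 8, 5, 0, 2, 8, 1, 6, 6, 7, 0, 9, 3, 1, 4, 9, 6, 2, 10, 8, 10, 3, 6, 0, 10, 7, 11, 1, 7, 2, 11, 9, 11, 3]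
def rw3675 : List ℕ := [7, 11, 0, 11, 1, 2, 5, 11, 10, 10, 4, 3, 0, 10, 1, 10, 6, 3, 6, 9, 0, 3, 7, 7, 8, 11, 9, 6, 6, 2, 1, 8, 7, 2]
def rw3676 : List ℕ := [7, 4, 1, 8, 6, 0, 5, 1, 11, 0, 4, 1, 7, 9, 0, 5, 6, 8, 11, 6, 9, 2, 9, 11, 10, 10, 8, 3, 8, 7, 10, 9]
def rw3677 : List ℕ := [7, 7, 8, 1, 9, 6, 6, 2, 1, 8, 7, 2, 7, 11, 0, 11, 1, 2, 5, 11, 0, 10, 4, 3, 0, 10, 1, 10, 6, 3, 6, 9, 0, 3]
def rw3678 : List ℕ := [7, 2, 11, 9, 11, 3, 7, 8, 5, 0, 2, 8, 1, 6, 4, 7, 0, 9, 3, 1, 4, 9, 6, 2, 10, 8, 10, 3, 6, 0, 10, 5, 11, 1]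
def rw3679 : List ℕ := [7, 3, 7, 5, 7, 0, 11, 1, 3, 8, 6, 3, 5, 5, 0, 8, 10]
def rw3680 : List ℕ := [7, 10, 10, 10, 1, 8, 8, 4, 0, 8, 3, 9, 5, 6, 11, 7, 4, 8, 2, 9, 1, 5, 9, 9, 0, 11, 11, 11, 6, 6, 0, 11, 10, 10, 1, 7]
def rw3681 : List ℕ := [7, 8, 5, 0, 2, 8, 1, 6, 10, 7, 0, 9, 3, 1, 4, 9, 6, 2, 10, 8, 10, 3, 6, 0, 10, 11, 11, 1, 7, 2, 11, 9, 11, 3]
def rw3682 : List ℕ := [7, 2, 7, 2, 6, 3, 6, 9, 0, 3, 7, 7, 8, 10, 4, 3, 0, 10, 1, 10, 3, 11, 0, 11, 1, 2, 5, 11, 9, 6, 6, 2, 1, 8]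
def rw3683 : List ℕ := [7, 10, 1, 11, 5, 10, 0, 11, 6, 2, 4, 10, 8, 3, 8, 5, 1, 2, 8, 4, 2, 8, 4, 9, 3, 5, 9, 3, 0, 4, 9, 2, 9, 11, 5, 3]
def rw3684 : List ℕ := [7, 9, 0, 8, 7, 0, 0, 0, 6, 6, 10, 3, 4, 1, 4, 0, 4, 11]
def rw3685 : List ℕ := [7, 10, 0, 3, 7, 5, 2, 5, 11, 2, 1, 9, 7, 1, 9, 7, 1, 9]
def rw3686 : List ℕ := [7, 1, 1, 1, 6, 9, 1, 8, 6, 10, 3, 1, 3, 0, 3, 3, 11, 7]
def rw3687 : List ℕ := [7, 9, 0, 5, 6, 8, 11, 6, 9, 2, 9, 11, 9, 10, 8, 3, 8, 7, 10, 9, 7, 4, 1, 8, 6, 0, 5, 1, 8, 0, 4, 1]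
def rw3688 : List ℕ := [7, 2, 11, 9, 11, 8, 10, 8, 10, 3, 6, 0, 10, 7, 0, 9, 3, 1, 4, 9, 6, 2, 9, 3, 7, 8, 5, 0, 2, 8, 1, 6, 11, 1]
def rw3689 : List ℕ := [7, 0, 0, 0, 6, 6, 10, 2, 0, 2, 0, 0, 3, 11, 7, 9, 0, 8]
def rw3690 : List ℕ := [7, 10, 10, 10, 1, 8, 8, 4, 0, 8, 3, 9, 5, 6, 9, 7, 4, 8, 2, 9, 1, 5, 9, 9, 0, 11, 11, 11, 6, 6, 0, 11, 8, 10, 1, 7]
def rw3691 : List ℕ := [7, 0, 0, 0, 6, 6, 10, 4, 3, 3, 3, 4, 0, 11, 7, 9, 0, 8]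
def rw3692 : List ℕ := [7, 1, 1, 1, 6, 9, 1, 8, 6, 10, 1, 5, 2, 2, 2, 5, 11, 7]
def rw3693 : List ℕ := [7, 2, 11, 9, 11, 3, 7, 8, 5, 0, 2, 8, 1, 6, 5, 7, 0, 9, 3, 1, 4, 9, 6, 2, 10, 8, 10, 3, 6, 0, 10, 4, 11, 1]
def rw3694 : List ℕ := [7, 8, 10, 9, 6, 6, 2, 1, 8, 7, 2, 7, 11, 0, 11, 1, 2, 5, 11, 11, 10, 4, 3, 0, 10, 1, 10, 6, 3, 6, 9, 0, 3, 7]
def rw3695 : List ℕ := [7, 5, 8, 1, 1, 10, 5, 8, 7, 5, 6, 2, 11, 7, 8, 0, 2, 0]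
def rw3696 : List ℕ := [7, 7, 7, 7, 7, 7, 7]
def rw3697 : List ℕ := [7, 4, 1, 8, 6, 0, 5, 1, 7, 0, 4, 1, 7, 9, 0, 5, 6, 8, 11, 6, 9, 2, 9, 11, 6, 10, 8, 3, 8, 7, 10, 9]
def rw3698 : List ℕ := [7, 2, 11, 9, 11, 3, 10, 8, 10, 3, 6, 0, 10, 7, 0, 9, 3, 1, 4, 9, 6, 2, 2, 3, 7, 8, 5, 0, 2, 8, 1, 6, 11, 1]
def rw3699 : List ℕ := [7, 1, 9, 7, 10, 0, 3, 6, 2, 6, 4, 11, 2, 1, 9, 7, 1, 9]
def rw3700 : List ℕ := [7, 10, 10, 10, 1, 8, 8, 4, 0, 8, 3, 9, 5, 6, 7, 7, 4, 8, 2, 9, 1, 5, 9, 9, 0, 11, 11, 11, 6, 6, 0, 11, 6, 10, 1, 7]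
def rw3701 : List ℕ := [7, 1, 1, 1, 6, 9, 1, 8, 6, 10, 2, 2, 0, 3, 11, 7]
def rw3702 : List ℕ := [7, 9, 2, 0, 10, 1, 7, 5, 7, 2, 6, 11, 9, 1, 4, 4, 2]
def rw3703 : List ℕ := [7, 9, 0, 8, 7, 0, 0, 0, 6, 6, 10, 2, 2, 2, 0, 11]
def rw3704 : List ℕ := [7, 10, 0, 4, 7, 2, 7, 7, 11, 2, 1, 9, 7, 1, 9, 7, 1, 9]
def rw3705 : List ℕ := [7, 10, 10, 10, 1, 8, 8, 4, 0, 8, 3, 9, 5, 6, 4, 7, 4, 8, 2, 9, 1, 5, 9, 9, 0, 11, 11, 11, 6, 6, 0, 11, 5, 10, 1, 7]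
def rw3706 : List ℕ := [7, 1, 2, 4, 10, 0, 3, 4, 1, 1, 5, 11, 6, 8, 2, 4, 3, 8]
def rw3707 : List ℕ := [7, 10, 9, 7, 4, 1, 8, 6, 0, 5, 1, 2, 0, 4, 1, 7, 9, 0, 5, 6, 8, 11, 6, 9, 2, 9, 11, 3, 10, 8, 3, 8]
def rw3708 : List ℕ := [7, 9, 0, 8, 7, 0, 0, 0, 6, 6, 10, 2, 2, 1, 1, 3, 1, 11]
def rw3709 : List ℕ := [7, 1, 10, 7, 5, 5, 7, 2, 11, 2, 9, 2, 8, 0, 7, 9, 5]
def rw3710 : List ℕ := [7, 9, 0, 5, 6, 8, 4, 9, 7, 4, 1, 8, 6, 0, 5, 1, 10, 8, 3, 8, 7, 10, 5, 11, 6, 9, 2, 9, 11, 0, 4, 1]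
def rw3711 : List ℕ := [7, 8, 0, 2, 0, 7, 5, 8, 1, 1, 10, 5, 8, 7, 5, 6, 2, 11]
def rw3712 : List ℕ := [7, 1, 9, 7, 1, 9, 7, 10, 0, 3, 7, 3, 4, 3, 11, 2, 1, 9]
def rw3713 : List ℕ := [7, 4, 8, 2, 9, 1, 5, 9, 9, 0, 11, 11, 11, 6, 6, 0, 11, 10, 10, 1, 7, 7, 10, 10, 10, 1, 8, 8, 4, 0, 8, 3, 9, 5, 6, 11]
def rw3714 : List ℕ := [7, 10, 10, 10, 1, 8, 8, 4, 0, 8, 3, 9, 5, 6, 3, 7, 4, 8, 2, 9, 1, 5, 9, 9, 0, 11, 11, 11, 6, 6, 0, 11, 2, 10, 1, 7]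
def rw3715 : List ℕ := [7, 8, 5, 0, 2, 8, 1, 6, 11, 1, 7, 2, 11, 9, 11, 11, 10, 8, 10, 3, 6, 0, 10, 7, 0, 9, 3, 1, 4, 9, 6, 2, 10, 3]
def rw3716 : List ℕ := [7, 9, 0, 5, 6, 8, 2, 9, 7, 4, 1, 8, 6, 0, 5, 1, 10, 8, 3, 8, 7, 10, 3, 11, 6, 9, 2, 9, 11, 0, 4, 1]
def rw3717 : List ℕ := [7, 1, 9, 7, 10, 0, 3, 7, 5, 2, 5, 11, 2, 1, 9, 7, 1, 9]
def rw3718 : List ℕ := [7, 10, 10, 11, 6, 9, 2, 9, 11, 0, 4, 1, 7, 9, 0, 5, 6, 8, 11, 9, 7, 4, 1, 8, 6, 0, 5, 1, 10, 8, 3, 8]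
def rw3719 : List ℕ := [7, 2, 11, 9, 11, 3, 7, 8, 5, 0, 2, 8, 1, 6, 11, 7, 0, 9, 3, 1, 4, 9, 6, 2, 10, 8, 10, 3, 6, 0, 10, 10, 11, 1]
def rw3720 : List ℕ := [7, 7, 10, 10, 10, 1, 8, 8, 4, 0, 8, 3, 9, 5, 6, 7, 7, 4, 8, 2, 9, 1, 5, 9, 9, 0, 11, 11, 11, 6, 6, 0, 11, 6, 10, 1]
def rw3721 : List ℕ := [7, 9, 0, 5, 6, 8, 10, 9, 7, 4, 1, 8, 6, 0, 5, 1, 10, 8, 3, 8, 7, 10, 11, 11, 6, 9, 2, 9, 11, 0, 4, 1]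
def rw3722 : List ℕ := [7, 8, 10, 4, 3, 0, 10, 1, 10, 3, 11, 0, 11, 1, 2, 5, 11, 9, 6, 6, 2, 1, 8, 7, 2, 7, 2, 6, 3, 6, 9, 0, 3, 7]
def rw3723 : List ℕ := [7, 9, 0, 5, 6, 8, 11, 6, 9, 2, 9, 11, 7, 10, 8, 3, 8, 7, 10, 9, 7, 4, 1, 8, 6, 0, 5, 1, 6, 0, 4, 1]
def rw3724 : List ℕ := [7, 7, 10, 10, 10, 1, 8, 8, 4, 0, 8, 3, 9, 5, 6, 5, 7, 4, 8, 2, 9, 1, 5, 9, 9, 0, 11, 11, 11, 6, 6, 0, 11, 4, 10, 1]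
def rw3725 : List ℕ := [7, 9, 6, 10, 1, 1, 4, 6, 0, 0, 11, 2, 1, 8, 8, 0, 7, 2]
def rw3726 : List ℕ := [7, 10, 1, 11, 7, 10, 0, 11, 6, 2, 4, 10, 8, 3, 8, 5, 1, 2, 8, 4, 2, 8, 6, 9, 3, 5, 9, 3, 0, 4, 9, 2, 9, 11, 5, 3]
def rw3727 : List ℕ := [7, 9, 0, 5, 6, 8, 11, 6, 9, 2, 9, 11, 11, 10, 8, 3, 8, 7, 10, 9, 7, 4, 1, 8, 6, 0, 5, 1, 10, 0, 4, 1]
def rw3728 : List ℕ := [7, 1, 10, 3, 5, 5, 3, 5, 5, 11, 2, 9, 2, 8, 0, 7, 9, 5]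
def rw3729 : List ℕ := [7, 2, 7, 11, 0, 11, 1, 2, 5, 11, 2, 10, 4, 3, 0, 10, 1, 10, 6, 3, 6, 9, 0, 3, 7, 7, 8, 3, 9, 6, 6, 2, 1, 8]
def rw3730 : List ℕ := [7, 8, 2, 9, 6, 6, 2, 1, 8, 7, 2, 7, 11, 0, 11, 1, 2, 5, 11, 3, 10, 4, 3, 0, 10, 1, 10, 6, 3, 6, 9, 0, 3, 7]
def rw3731 : List ℕ := [7, 8, 10, 4, 3, 0, 10, 1, 10, 1, 11, 0, 11, 1, 2, 5, 11, 9, 6, 6, 2, 1, 8, 7, 2, 7, 0, 6, 3, 6, 9, 0, 3, 7]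
def rw3732 : List ℕ := [7, 1, 1, 1, 6, 9, 1, 8, 6, 10, 5, 1, 5, 0, 5, 2, 11, 7]
def rw3733 : List ℕ := [7, 2, 11, 9, 11, 9, 10, 8, 10, 3, 6, 0, 10, 7, 0, 9, 3, 1, 4, 9, 6, 2, 8, 3, 7, 8, 5, 0, 2, 8, 1, 6, 11, 1]
def rw3734 : List ℕ := [7, 7, 10, 10, 10, 1, 8, 8, 4, 0, 8, 3, 9, 5, 6, 6, 7, 4, 8, 2, 9, 1, 5, 9, 9, 0, 11, 11, 11, 6, 6, 0, 11, 7, 10, 1]
def rw3735 : List ℕ := [7, 10, 7, 7, 4, 3, 5, 6, 11, 5, 3, 0, 6, 9, 2, 5, 3, 9]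
def rw3736 : List ℕ := [7, 9, 2, 0, 10, 1, 5, 7, 5, 2, 6, 11, 9, 1, 4, 4, 2]
def rw3737 : List ℕ := [7, 4, 8, 2, 9, 1, 5, 9, 9, 0, 11, 11, 11, 6, 6, 0, 11, 8, 10, 1, 7, 7, 10, 10, 10, 1, 8, 8, 4, 0, 8, 3, 9, 5, 6, 9]
def rw3738 : List ℕ := [7, 1, 9, 7, 1, 9, 7, 10, 0, 3, 7, 5, 2, 5, 11, 2, 1, 9]
def rw3739 : List ℕ := [7, 4, 1, 8, 6, 0, 5, 1, 10, 8, 3, 8, 7, 10, 10, 11, 6, 9, 2, 9, 11, 0, 4, 1, 7, 9, 0, 5, 6, 8, 11, 9]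
def rw3740 : List ℕ := [7, 9, 0, 8, 7, 0, 0, 0, 6, 6, 10, 1, 1, 2, 1, 2, 1, 11]
def rw3741 : List ℕ := [7, 2, 7, 11, 0, 11, 1, 2, 5, 11, 11, 10, 4, 3, 0, 10, 1, 10, 6, 3, 6, 9, 0, 3, 7, 7, 8, 10, 9, 6, 6, 2, 1, 8]
def rw3742 : List ℕ := [7, 7, 8, 10, 4, 3, 0, 10, 1, 10, 4, 11, 0, 11, 1, 2, 5, 11, 9, 6, 6, 2, 1, 8, 7, 2, 7, 5, 6, 3, 6, 9, 0, 3]
def rw3743 : List ℕ := [7, 7, 1, 1, 1, 6, 9, 1, 8, 6, 10, 2, 1, 2, 0, 11]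
def rw3744 : List ℕ := [7, 2, 7, 11, 0, 11, 1, 2, 5, 11, 10, 10, 4, 3, 0, 10, 1, 10, 6, 3, 6, 9, 0, 3, 7, 7, 8, 11, 9, 6, 6, 2, 1, 8]
def rw3745 : List ℕ := [7, 4, 1, 8, 6, 0, 5, 1, 9, 0, 4, 1, 7, 9, 0, 5, 6, 8, 11, 6, 9, 2, 9, 11, 8, 10, 8, 3, 8, 7, 10, 9]
def rw3746 : List ℕ := [7, 8, 6, 9, 6, 6, 2, 1, 8, 7, 2, 7, 11, 0, 11, 1, 2, 5, 11, 7, 10, 4, 3, 0, 10, 1, 10, 6, 3, 6, 9, 0, 3, 7]
def rw3747 : List ℕ := [7, 7, 10, 10, 10, 1, 8, 8, 4, 0, 8, 3, 9, 5, 6, 1, 7, 4, 8, 2, 9, 1, 5, 9, 9, 0, 11, 11, 11, 6, 6, 0, 11, 0, 10, 1]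
def rw3748 : List ℕ := [7, 8, 5, 0, 2, 8, 1, 6, 4, 7, 0, 9, 3, 1, 4, 9, 6, 2, 10, 8, 10, 3, 6, 0, 10, 5, 11, 1, 7, 2, 11, 9, 11, 3]
def rw3749 : List ℕ := [7, 8, 5, 0, 2, 8, 1, 6, 1, 7, 0, 9, 3, 1, 4, 9, 6, 2, 10, 8, 10, 3, 6, 0, 10, 0, 11, 1, 7, 2, 11, 9, 11, 3]
def rw3750 : List ℕ := [7, 3, 8, 1, 1, 9, 2, 6, 5, 11, 7, 2, 2, 7, 2, 8, 10, 2]
def rw3751 : List ℕ := [7, 7, 10, 10, 10, 1, 8, 8, 4, 0, 8, 3, 9, 5, 6, 9, 7, 4, 8, 2, 9, 1, 5, 9, 9, 0, 11, 11, 11, 6, 6, 0, 11, 8, 10, 1]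
def rw3752 : List ℕ := [7, 9, 0, 5, 6, 8, 11, 9, 7, 4, 1, 8, 6, 0, 5, 1, 10, 8, 3, 8, 7, 10, 10, 11, 6, 9, 2, 9, 11, 0, 4, 1]
def rw3753 : List ℕ := [7, 1, 10, 2, 2, 5, 5, 3, 5, 11, 2, 9, 2, 8, 0, 7, 9, 5]
def rw3754 : List ℕ := [7, 10, 8, 11, 6, 9, 2, 9, 11, 0, 4, 1, 7, 9, 0, 5, 6, 8, 9, 9, 7, 4, 1, 8, 6, 0, 5, 1, 10, 8, 3, 8]
def rw3755 : List ℕ := [7, 2, 7, 11, 0, 11, 1, 2, 5, 11, 3, 10, 4, 3, 0, 10, 1, 10, 6, 3, 6, 9, 0, 3, 7, 7, 8, 2, 9, 6, 6, 2, 1, 8]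
def rw3756 : List ℕ := [7, 2, 11, 9, 11, 3, 7, 8, 5, 0, 2, 8, 1, 6, 8, 7, 0, 9, 3, 1, 4, 9, 6, 2, 10, 8, 10, 3, 6, 0, 10, 9, 11, 1]
def rw3757 : List ℕ := [7, 0, 9, 3, 1, 4, 9, 6, 2, 9, 3, 7, 8, 5, 0, 2, 8, 1, 6, 11, 1, 7, 2, 11, 9, 11, 8, 10, 8, 10, 3, 6, 0, 10]
def rw3758 : List ℕ := [7, 1, 10, 2, 4, 4, 2, 5, 5, 11, 2, 9, 2, 8, 0, 7, 9, 5]
def rw3759 : List ℕ := [7, 4, 1, 8, 6, 0, 5, 1, 0, 0, 4, 1, 7, 9, 0, 5, 6, 8, 11, 6, 9, 2, 9, 11, 1, 10, 8, 3, 8, 7, 10, 9]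
def rw3760 : List ℕ := [7, 0, 0, 0, 6, 6, 10, 1, 1, 2, 1, 2, 1, 11, 7, 9, 0, 8]
def rw3761 : List ℕ := [7, 7, 8, 10, 4, 3, 0, 10, 1, 10, 7, 11, 0, 11, 1, 2, 5, 11, 9, 6, 6, 2, 1, 8, 7, 2, 7, 6, 6, 3, 6, 9, 0, 3]
def rw3762 : List ℕ := [7, 7, 1, 1, 1, 6, 9, 1, 8, 6, 10, 5, 1, 5, 0, 5, 2, 11]
def rw3763 : List ℕ := [7, 1, 1, 1, 6, 9, 1, 8, 6, 10, 2, 1, 1, 1, 3, 1, 11, 7]
def rw3764 : List ℕ := [7, 3, 8, 0, 0, 9, 2, 6, 3, 11, 9, 3, 6, 3, 3, 6, 10, 4]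
def rw3765 : List ℕ := [7, 2, 11, 9, 11, 3, 7, 8, 5, 0, 2, 8, 1, 6, 10, 7, 0, 9, 3, 1, 4, 9, 6, 2, 10, 8, 10, 3, 6, 0, 10, 11, 11, 1]
def rw3766 : List ℕ := [7, 1, 1, 1, 6, 9, 1, 8, 6, 10, 0, 3, 0, 3, 0, 0, 11, 7]
def rw3767 : List ℕ := [7, 9, 0, 8, 7, 0, 0, 0, 6, 6, 10, 0, 5, 5, 1, 3, 4, 11]
def rw3768 : List ℕ := [7, 10, 1, 11, 9, 10, 0, 11, 6, 2, 4, 10, 8, 3, 8, 5, 1, 2, 8, 4, 2, 8, 8, 9, 3, 5, 9, 3, 0, 4, 9, 2, 9, 11, 5, 3]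
def rw3769 : List ℕ := [7, 1, 1, 1, 6, 9, 1, 8, 6, 10, 1, 3, 0, 2, 2, 0, 11, 7]
def rw3770 : List ℕ := [7, 4, 1, 8, 6, 0, 5, 1, 1, 0, 4, 1, 7, 9, 0, 5, 6, 8, 11, 6, 9, 2, 9, 11, 0, 10, 8, 3, 8, 7, 10, 9]
def rw3771 : List ℕ := [7, 9, 5, 7, 1, 10, 2, 5, 5, 3, 4, 11, 2, 9, 2, 8, 0]
def rw3772 : List ℕ := [7, 7, 8, 8, 9, 6, 6, 2, 1, 8, 7, 2, 7, 11, 0, 11, 1, 2, 5, 11, 9, 10, 4, 3, 0, 10, 1, 10, 6, 3, 6, 9, 0, 3]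
def rw3773 : List ℕ := [7, 4, 1, 8, 6, 0, 5, 1, 10, 8, 3, 8, 7, 10, 0, 11, 6, 9, 2, 9, 11, 0, 4, 1, 7, 9, 0, 5, 6, 8, 1, 9]
def rw3774 : List ℕ := [7, 1, 1, 1, 6, 9, 1, 8, 6, 10, 2, 0, 2, 0, 3, 3, 11, 7]
def rw3775 : List ℕ := [7, 7, 10, 10, 10, 1, 8, 8, 4, 0, 8, 3, 9, 5, 6, 8, 7, 4, 8, 2, 9, 1, 5, 9, 9, 0, 11, 11, 11, 6, 6, 0, 11, 9, 10, 1]
def rw3776 : List ℕ := [7, 7, 1, 1, 1, 6, 9, 1, 8, 6, 10, 1, 3, 0, 2, 2, 0, 11]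
def rw3777 : List ℕ := [7, 10, 11, 11, 6, 9, 2, 9, 11, 0, 4, 1, 7, 9, 0, 5, 6, 8, 10, 9, 7, 4, 1, 8, 6, 0, 5, 1, 10, 8, 3, 8]
def rw3778 : List ℕ := [7, 11, 0, 11, 1, 2, 5, 11, 6, 10, 4, 3, 0, 10, 1, 10, 6, 3, 6, 9, 0, 3, 7, 7, 8, 7, 9, 6, 6, 2, 1, 8, 7, 2]
def rw3779 : List ℕ := [7, 4, 1, 8, 6, 0, 5, 1, 10, 0, 4, 1, 7, 9, 0, 5, 6, 8, 11, 6, 9, 2, 9, 11, 11, 10, 8, 3, 8, 7, 10, 9]
def rw3780 : List ℕ := [7, 9, 2, 0, 10, 1, 6, 4, 6, 2, 6, 11, 9, 1, 4, 4, 2]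
def rw3781 : List ℕ := [7, 1, 2, 4, 10, 6, 2, 6, 3, 6, 6, 11, 6, 8, 2, 4, 3, 8]
def rw3782 : List ℕ := [7, 2, 7, 11, 0, 11, 1, 2, 5, 11, 6, 10, 4, 3, 0, 10, 1, 10, 6, 3, 6, 9, 0, 3, 7, 7, 8, 7, 9, 6, 6, 2, 1, 8]
def rw3783 : List ℕ := [7, 4, 1, 8, 6, 0, 5, 1, 6, 0, 4, 1, 7, 9, 0, 5, 6, 8, 11, 6, 9, 2, 9, 11, 7, 10, 8, 3, 8, 7, 10, 9]
def rw3784 : List ℕ := [7, 8, 5, 0, 2, 8, 1, 6, 11, 7, 0, 9, 3, 1, 4, 9, 6, 2, 10, 8, 10, 3, 6, 0, 10, 10, 11, 1, 7, 2, 11, 9, 11, 3]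
def rw3785 : List ℕ := [7, 10, 10, 10, 1, 8, 8, 4, 0, 8, 3, 9, 5, 6, 5, 7, 4, 8, 2, 9, 1, 5, 9, 9, 0, 11, 11, 11, 6, 6, 0, 11, 4, 10, 1, 7]
def rw3786 : List ℕ := [7, 0, 9, 3, 1, 4, 9, 6, 2, 5, 3, 7, 8, 5, 0, 2, 8, 1, 6, 11, 1, 7, 2, 11, 9, 11, 4, 10, 8, 10, 3, 6, 0, 10]
def rw3787 : List ℕ := [7, 1, 1, 1, 6, 9, 1, 8, 6, 10, 2, 1, 1, 3, 1, 3, 11, 7]
def rw3788 : List ℕ := [7, 4, 1, 8, 6, 0, 5, 1, 4, 0, 4, 1, 7, 9, 0, 5, 6, 8, 11, 6, 9, 2, 9, 11, 5, 10, 8, 3, 8, 7, 10, 9]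
def rw3789 : List ℕ := [7, 10, 1, 11, 6, 10, 0, 11, 6, 2, 4, 10, 8, 3, 8, 5, 1, 2, 8, 4, 2, 8, 7, 9, 3, 5, 9, 3, 0, 4, 9, 2, 9, 11, 5, 3]
def rw3790 : List ℕ := [7, 8, 5, 0, 2, 8, 1, 6, 11, 1, 7, 2, 11, 9, 11, 5, 10, 8, 10, 3, 6, 0, 10, 7, 0, 9, 3, 1, 4, 9, 6, 2, 4, 3]
def rw3791 : List ℕ := [7, 7, 1, 1, 1, 6, 9, 1, 8, 6, 10, 2, 1, 1, 1, 3, 1, 11]
def rw3792 : List ℕ := [7, 9, 0, 5, 6, 8, 5, 9, 7, 4, 1, 8, 6, 0, 5, 1, 10, 8, 3, 8, 7, 10, 4, 11, 6, 9, 2, 9, 11, 0, 4, 1]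
def rw3793 : List ℕ := [7, 11, 0, 11, 1, 2, 5, 11, 0, 10, 4, 3, 0, 10, 1, 10, 6, 3, 6, 9, 0, 3, 7, 7, 8, 1, 9, 6, 6, 2, 1, 8, 7, 2]
def rw3794 : List ℕ := [7, 4, 1, 8, 6, 0, 5, 1, 10, 8, 3, 8, 7, 10, 1, 11, 6, 9, 2, 9, 11, 0, 4, 1, 7, 9, 0, 5, 6, 8, 0, 9]
def rw3795 : List ℕ := [7, 0, 0, 0, 6, 6, 10, 3, 1, 3, 0, 0, 3, 11, 7, 9, 0, 8]
def rw3796 : List ℕ := [7, 9, 0, 5, 6, 8, 11, 6, 9, 2, 9, 11, 6, 10, 8, 3, 8, 7, 10, 9, 7, 4, 1, 8, 6, 0, 5, 1, 7, 0, 4, 1]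
def rw3797 : List ℕ := [7, 11, 0, 11, 1, 2, 5, 11, 11, 10, 4, 3, 0, 10, 1, 10, 6, 3, 6, 9, 0, 3, 7, 7, 8, 10, 9, 6, 6, 2, 1, 8, 7, 2]
def rw3798 : List ℕ := [7, 2, 11, 9, 11, 7, 10, 8, 10, 3, 6, 0, 10, 7, 0, 9, 3, 1, 4, 9, 6, 2, 6, 3, 7, 8, 5, 0, 2, 8, 1, 6, 11, 1]
def rw3799 : List ℕ := [7, 9, 0, 8, 7, 0, 0, 0, 6, 6, 10, 2, 1, 3, 3, 11]
def rw3800 : List ℕ := [7, 2, 7, 7, 6, 3, 6, 9, 0, 3, 7, 7, 8, 10, 4, 3, 0, 10, 1, 10, 6, 11, 0, 11, 1, 2, 5, 11, 9, 6, 6, 2, 1, 8]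
def rw3801 : List ℕ := [7, 9, 5, 7, 1, 10, 0, 2, 4, 0, 5, 2, 11, 2, 9, 2, 8, 0]
def rw3802 : List ℕ := [7, 8, 10, 4, 3, 0, 10, 1, 10, 5, 11, 0, 11, 1, 2, 5, 11, 9, 6, 6, 2, 1, 8, 7, 2, 7, 4, 6, 3, 6, 9, 0, 3, 7]
def rw3803 : List ℕ := [7, 2, 7, 11, 0, 11, 1, 2, 5, 11, 1, 10, 4, 3, 0, 10, 1, 10, 6, 3, 6, 9, 0, 3, 7, 7, 8, 0, 9, 6, 6, 2, 1, 8]
def rw3804 : List ℕ := [7, 9, 0, 5, 6, 8, 6, 9, 7, 4, 1, 8, 6, 0, 5, 1, 10, 8, 3, 8, 7, 10, 7, 11, 6, 9, 2, 9, 11, 0, 4, 1]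
def rw3805 : List ℕ := [7, 8, 10, 4, 3, 0, 10, 1, 10, 2, 11, 0, 11, 1, 2, 5, 11, 9, 6, 6, 2, 1, 8, 7, 2, 7, 3, 6, 3, 6, 9, 0, 3, 7]
def rw3806 : List ℕ := [7, 1, 10, 5, 5, 3, 4, 4, 4, 11, 2, 9, 2, 8, 0, 7, 9, 5]
def rw3807 : List ℕ := [7, 1, 10, 2, 6, 2, 4, 3, 6, 11, 2, 9, 2, 8, 0, 7, 9, 5]
def rw3808 : List ℕ := [7, 10, 9, 7, 4, 1, 8, 6, 0, 5, 1, 10, 0, 4, 1, 7, 9, 0, 5, 6, 8, 11, 6, 9, 2, 9, 11, 11, 10, 8, 3, 8]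
def rw3809 : List ℕ := [7, 7, 1, 1, 1, 6, 9, 1, 8, 6, 10, 0, 2, 0, 0, 3, 3, 11]
def rw3810 : List ℕ := [7, 4, 1, 8, 6, 0, 5, 1, 5, 0, 4, 1, 7, 9, 0, 5, 6, 8, 11, 6, 9, 2, 9, 11, 4, 10, 8, 3, 8, 7, 10, 9]
def rw3811 : List ℕ := [7, 2, 11, 9, 11, 2, 10, 8, 10, 3, 6, 0, 10, 7, 0, 9, 3, 1, 4, 9, 6, 2, 3, 3, 7, 8, 5, 0, 2, 8, 1, 6, 11, 1]
def rw3812 : List ℕ := [7, 7, 10, 10, 10, 1, 8, 8, 4, 0, 8, 3, 9, 5, 6, 11, 7, 4, 8, 2, 9, 1, 5, 9, 9, 0, 11, 11, 11, 6, 6, 0, 11, 10, 10, 1]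
def rw3813 : List ℕ := [7, 0, 0, 0, 6, 6, 10, 2, 2, 1, 3, 1, 3, 11, 7, 9, 0, 8]
def rw3814 : List ℕ := [7, 8, 10, 4, 3, 0, 10, 1, 10, 10, 11, 0, 11, 1, 2, 5, 11, 9, 6, 6, 2, 1, 8, 7, 2, 7, 11, 6, 3, 6, 9, 0, 3, 7]
def rw3815 : List ℕ := [7, 0, 9, 3, 1, 4, 9, 6, 2, 10, 8, 10, 3, 6, 0, 10, 10, 11, 1, 7, 2, 11, 9, 11, 3, 7, 8, 5, 0, 2, 8, 1, 6, 11]
def rw3816 : List ℕ := [7, 1, 1, 1, 6, 9, 1, 8, 6, 10, 1, 3, 3, 3, 11, 7]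
def rw3817 : List ℕ := [7, 4, 1, 8, 6, 0, 5, 1, 10, 8, 3, 8, 7, 10, 4, 11, 6, 9, 2, 9, 11, 0, 4, 1, 7, 9, 0, 5, 6, 8, 5, 9]
def rw3818 : List ℕ := [7, 0, 0, 0, 6, 6, 10, 0, 5, 5, 1, 3, 4, 11, 7, 9, 0, 8]
def rw3819 : List ℕ := [7, 7, 8, 10, 4, 3, 0, 10, 1, 10, 8, 11, 0, 11, 1, 2, 5, 11, 9, 6, 6, 2, 1, 8, 7, 2, 7, 9, 6, 3, 6, 9, 0, 3]
def rw3820 : List ℕ := [7, 7, 8, 10, 4, 3, 0, 10, 1, 10, 6, 11, 0, 11, 1, 2, 5, 11, 9, 6, 6, 2, 1, 8, 7, 2, 7, 7, 6, 3, 6, 9, 0, 3]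
def rw3821 : List ℕ := [7, 8, 10, 4, 3, 0, 10, 1, 10, 0, 11, 0, 11, 1, 2, 5, 11, 9, 6, 6, 2, 1, 8, 7, 2, 7, 1, 6, 3, 6, 9, 0, 3, 7]
def rw3822 : List ℕ := [7, 0, 0, 0, 6, 6, 10, 2, 1, 3, 3, 11, 7, 9, 0, 8]
def rw3823 : List ℕ := [7, 9, 0, 5, 6, 8, 11, 6, 9, 2, 9, 11, 8, 10, 8, 3, 8, 7, 10, 9, 7, 4, 1, 8, 6, 0, 5, 1, 9, 0, 4, 1]
def rw3824 : List ℕ := [7, 9, 0, 8, 7, 0, 0, 0, 6, 6, 10, 1, 3, 3, 1, 2, 0, 11]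
def rw3825 : List ℕ := [7, 9, 6, 3, 6, 9, 0, 3, 7, 7, 8, 10, 4, 3, 0, 10, 1, 10, 8, 11, 0, 11, 1, 2, 5, 11, 9, 6, 6, 2, 1, 8, 7, 2]
def rw3826 : List ℕ := [7, 2, 11, 9, 11, 3, 7, 8, 5, 0, 2, 8, 1, 6, 0, 7, 0, 9, 3, 1, 4, 9, 6, 2, 10, 8, 10, 3, 6, 0, 10, 1, 11, 1]
def rw3827 : List ℕ := [7, 11, 6, 3, 6, 9, 0, 3, 7, 7, 8, 10, 4, 3, 0, 10, 1, 10, 10, 11, 0, 11, 1, 2, 5, 11, 9, 6, 6, 2, 1, 8, 7, 2]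
def rw3828 : List ℕ := [7, 7, 8, 10, 4, 3, 0, 10, 1, 10, 10, 11, 0, 11, 1, 2, 5, 11, 9, 6, 6, 2, 1, 8, 7, 2, 7, 11, 6, 3, 6, 9, 0, 3]
def rw3829 : List ℕ := [7, 1, 1, 1, 6, 9, 1, 8, 6, 10, 2, 1, 1, 2, 0, 2, 11, 7]
def rw3830 : List ℕ := [7, 0, 0, 0, 6, 6, 10, 3, 4, 1, 4, 0, 4, 11, 7, 9, 0, 8]
def rw3831 : List ℕ := [7, 7, 8, 10, 4, 3, 0, 10, 1, 10, 5, 11, 0, 11, 1, 2, 5, 11, 9, 6, 6, 2, 1, 8, 7, 2, 7, 4, 6, 3, 6, 9, 0, 3]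
def rw3832 : List ℕ := [7, 9, 0, 8, 7, 0, 0, 0, 6, 6, 10, 4, 1, 1, 4, 3, 11]
def rw3833 : List ℕ := [7, 8, 10, 4, 3, 0, 10, 1, 10, 7, 11, 0, 11, 1, 2, 5, 11, 9, 6, 6, 2, 1, 8, 7, 2, 7, 6, 6, 3, 6, 9, 0, 3, 7]
def rw3834 : List ℕ := [7, 8, 9, 9, 6, 6, 2, 1, 8, 7, 2, 7, 11, 0, 11, 1, 2, 5, 11, 8, 10, 4, 3, 0, 10, 1, 10, 6, 3, 6, 9, 0, 3, 7]
def rw3835 : List ℕ := [7, 9, 0, 8, 7, 0, 0, 0, 6, 6, 10, 3, 3, 3, 3, 0, 11]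
def rw3836 : List ℕ := [7, 11, 0, 11, 1, 2, 5, 11, 8, 10, 4, 3, 0, 10, 1, 10, 6, 3, 6, 9, 0, 3, 7, 7, 8, 9, 9, 6, 6, 2, 1, 8, 7, 2]
def rw3837 : List ℕ := [7, 0, 9, 3, 1, 4, 9, 6, 2, 6, 3, 7, 8, 5, 0, 2, 8, 1, 6, 11, 1, 7, 2, 11, 9, 11, 7, 10, 8, 10, 3, 6, 0, 10]
def rw3838 : List ℕ := [7, 1, 10, 0, 2, 4, 0, 5, 2, 11, 2, 9, 2, 8, 0, 7, 9, 5]
def rw3839 : List ℕ := [7, 0, 9, 3, 1, 4, 9, 6, 2, 0, 3, 7, 8, 5, 0, 2, 8, 1, 6, 11, 1, 7, 2, 11, 9, 11, 1, 10, 8, 10, 3, 6, 0, 10]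
def rw3840 : List ℕ := [7, 11, 0, 11, 1, 2, 5, 11, 2, 10, 4, 3, 0, 10, 1, 10, 6, 3, 6, 9, 0, 3, 7, 7, 8, 3, 9, 6, 6, 2, 1, 8, 7, 2]
def rw3841 : List ℕ := [7, 7, 8, 10, 4, 3, 0, 10, 1, 10, 9, 11, 0, 11, 1, 2, 5, 11, 9, 6, 6, 2, 1, 8, 7, 2, 7, 8, 6, 3, 6, 9, 0, 3]
def rw3842 : List ℕ := [7, 11, 6, 9, 2, 9, 11, 0, 4, 1, 7, 9, 0, 5, 6, 8, 6, 9, 7, 4, 1, 8, 6, 0, 5, 1, 10, 8, 3, 8, 7, 10]
def rw3843 : List ℕ := [7, 10, 1, 11, 4, 10, 0, 11, 6, 2, 4, 10, 8, 3, 8, 5, 1, 2, 8, 4, 2, 8, 5, 9, 3, 5, 9, 3, 0, 4, 9, 2, 9, 11, 5, 3]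
def rw3844 : List ℕ := [7, 2, 7, 8, 6, 3, 6, 9, 0, 3, 7, 7, 8, 10, 4, 3, 0, 10, 1, 10, 9, 11, 0, 11, 1, 2, 5, 11, 9, 6, 6, 2, 1, 8]
def rw3845 : List ℕ := [7, 0, 9, 3, 1, 4, 9, 6, 2, 3, 3, 7, 8, 5, 0, 2, 8, 1, 6, 11, 1, 7, 2, 11, 9, 11, 2, 10, 8, 10, 3, 6, 0, 10]
def rw3846 : List ℕ := [7, 0, 9, 3, 1, 4, 9, 6, 2, 10, 8, 10, 3, 6, 0, 10, 11, 11, 1, 7, 2, 11, 9, 11, 3, 7, 8, 5, 0, 2, 8, 1, 6, 10]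
def rw3847 : List ℕ := [7, 9, 5, 7, 1, 10, 3, 3, 5, 5, 3, 11, 2, 9, 2, 8, 0]
def rw3848 : List ℕ := [7, 8, 1, 9, 6, 6, 2, 1, 8, 7, 2, 7, 11, 0, 11, 1, 2, 5, 11, 0, 10, 4, 3, 0, 10, 1, 10, 6, 3, 6, 9, 0, 3, 7]
def rw3849 : List ℕ := [7, 4, 8, 2, 9, 1, 5, 9, 9, 0, 11, 11, 11, 6, 6, 0, 11, 2, 10, 1, 7, 7, 10, 10, 10, 1, 8, 8, 4, 0, 8, 3, 9, 5, 6, 3]
def rw3850 : List ℕ := [7, 7, 8, 2, 9, 6, 6, 2, 1, 8, 7, 2, 7, 11, 0, 11, 1, 2, 5, 11, 3, 10, 4, 3, 0, 10, 1, 10, 6, 3, 6, 9, 0, 3]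
def rw3851 : List ℕ := [7, 11, 0, 11, 1, 2, 5, 11, 1, 10, 4, 3, 0, 10, 1, 10, 6, 3, 6, 9, 0, 3, 7, 7, 8, 0, 9, 6, 6, 2, 1, 8, 7, 2]
def rw3852 : List ℕ := [7, 0, 9, 3, 1, 4, 9, 6, 2, 10, 8, 10, 3, 6, 0, 10, 1, 11, 1, 7, 2, 11, 9, 11, 3, 7, 8, 5, 0, 2, 8, 1, 6, 0]
def rw3853 : List ℕ := [7, 8, 10, 4, 3, 0, 10, 1, 10, 4, 11, 0, 11, 1, 2, 5, 11, 9, 6, 6, 2, 1, 8, 7, 2, 7, 5, 6, 3, 6, 9, 0, 3, 7]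
def rw3854 : List ℕ := [7, 2, 7, 10, 6, 3, 6, 9, 0, 3, 7, 7, 8, 10, 4, 3, 0, 10, 1, 10, 11, 11, 0, 11, 1, 2, 5, 11, 9, 6, 6, 2, 1, 8]
def rw3855 : List ℕ := [7, 4, 8, 2, 9, 1, 5, 9, 9, 0, 11, 11, 11, 6, 6, 0, 11, 1, 10, 1, 7, 7, 10, 10, 10, 1, 8, 8, 4, 0, 8, 3, 9, 5, 6, 0]
def rw3856 : List ℕ := [7, 4, 8, 2, 9, 1, 5, 9, 9, 0, 11, 11, 11, 6, 6, 0, 11, 0, 10, 1, 7, 7, 10, 10, 10, 1, 8, 8, 4, 0, 8, 3, 9, 5, 6, 1]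
def rw3857 : List ℕ := [7, 7, 8, 5, 9, 6, 6, 2, 1, 8, 7, 2, 7, 11, 0, 11, 1, 2, 5, 11, 4, 10, 4, 3, 0, 10, 1, 10, 6, 3, 6, 9, 0, 3]
def rw3858 : List ℕ := [7, 0, 9, 3, 1, 4, 9, 6, 2, 8, 3, 7, 8, 5, 0, 2, 8, 1, 6, 11, 1, 7, 2, 11, 9, 11, 9, 10, 8, 10, 3, 6, 0, 10]
def rw3859 : List ℕ := [7, 4, 8, 2, 9, 1, 5, 9, 9, 0, 11, 11, 11, 6, 6, 0, 11, 5, 10, 1, 7, 7, 10, 10, 10, 1, 8, 8, 4, 0, 8, 3, 9, 5, 6, 4]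
def rw3860 : List ℕ := [8, 1, 1, 9, 2, 6, 5, 11, 2, 7, 2, 5, 5, 8, 10, 2, 7, 3]
def rw3861 : List ℕ := [8, 7, 7, 8, 5, 6, 6, 5, 5, 8]
def rw3862 : List ℕ := [8, 4, 0, 2, 1, 8, 8, 8, 1, 2, 1]
def rw3863 : List ℕ := [8, 7, 8, 7, 8, 7, 8, 7]
def rw3864 : List ℕ := [8, 5, 6, 6, 5, 5, 8, 8, 7, 7]
def rw3865 : List ℕ := [8, 4, 3, 3, 6, 9, 4, 3, 5, 3]
def rw3866 : List ℕ := [8, 5, 6, 11, 1, 7, 1, 1, 1, 4, 8, 8, 0, 9, 10, 6, 4, 2]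
def rw3867 : List ℕ := [8, 7, 9, 7, 8, 6]
def rw3868 : List ℕ := [8, 6, 9, 7, 9, 6]
def rw3869 : List ℕ := [8, 6, 8, 7, 9, 7]
def rw3870 : List ℕ := [8, 2, 5, 10, 6, 5, 3, 8, 0, 7, 4, 3, 7, 4, 11, 4, 3, 5]
def rw3871 : List ℕ := [8, 5, 5, 8, 5, 5, 8, 5, 5]
def rw3872 : List ℕ := [8, 7, 2, 2, 5, 9, 2, 4, 2, 5]
def rw3873 : List ℕ := [8, 8, 7, 7, 8, 5, 6, 6, 5, 5]
def rw3874 : List ℕ := [8, 7, 8, 7, 8, 7, 8, 7]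
def rw3875 : List ℕ := [8, 5, 5, 8, 5, 5, 8, 5, 5]
def rw3876 : List ℕ := [8, 8, 1, 2, 1, 8, 4, 0, 2, 1, 8]
def rw3877 : List ℕ := [8, 8, 8, 8, 8, 8, 8]
def rw3878 : List ℕ := [8, 1, 2, 1, 8, 4, 0, 2, 1, 8, 8]
def rw3879 : List ℕ := [8, 7, 8, 7, 8, 7, 8, 7]
def rw3880 : List ℕ := [8, 8, 8, 8, 8, 8, 8]
def rw3881 : List ℕ := [8, 7, 8, 7, 8, 7, 8, 7]
def rw3882 : List ℕ := [8, 5, 5, 8, 5, 5, 8, 5, 5]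
def rw3883 : List ℕ := [8, 8, 8, 8, 8, 8, 8]
def rw3884 : List ℕ := [8, 8, 8, 8, 8, 8, 8]
def rw3885 : List ℕ := [8, 8, 8, 8, 8, 8, 8]
def rw3886 : List ℕ := [8, 8, 8, 1, 2, 1, 8, 4, 0, 2, 1]
def rw3887 : List ℕ := [8, 4, 3, 7, 10, 1, 5, 1, 9, 0, 7, 9, 6, 1, 2, 11, 4, 2]
def rw3888 : List ℕ := [8, 10, 3, 6, 0, 10, 7, 0, 9, 3, 1, 4, 9, 6, 2, 1, 3, 7, 8, 5, 0, 2, 8, 1, 6, 11, 1, 7, 2, 11, 9, 11, 0, 10]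
def rw3889 : List ℕ := [8, 3, 1, 10, 10, 0, 2, 9, 11]
def rw3890 : List ℕ := [8, 2, 8, 1, 2, 8, 7, 3, 4, 10, 1, 5, 2, 9, 9, 5, 11]
def rw3891 : List ℕ := [8, 8, 3, 4, 0, 11, 5, 2, 6, 9, 3, 0, 9, 3, 9, 10, 4]
def rw3892 : List ℕ := [8, 6, 0, 3, 7, 10, 4, 9, 6, 3, 4, 7, 11, 2, 7, 7, 4, 0]
def rw3893 : List ℕ := [8, 0, 4, 8, 10, 7, 2, 7, 3, 6, 1, 11, 3, 0, 7, 0, 6]
def rw3894 : List ℕ := [8, 6, 4, 2, 2, 10, 0, 9, 3, 5, 1, 4, 2, 8, 2, 1, 11]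
def rw3895 : List ℕ := [8, 7, 0, 0, 0, 6, 6, 10, 2, 1, 3, 3, 11, 7, 9, 0]
def rw3896 : List ℕ := [8, 0, 7, 9, 1, 3, 4, 7, 3, 5, 10, 3, 3, 6, 1, 6, 5, 11]
def rw3897 : List ℕ := [8, 1, 5, 6, 1, 5, 10, 8, 4, 7, 3, 8, 8, 7, 0, 8, 0, 11]
def rw3898 : List ℕ := [8, 7, 2, 7, 3, 6, 3, 6, 9, 0, 3, 7, 7, 8, 10, 4, 3, 0, 10, 1, 10, 2, 11, 0, 11, 1, 2, 5, 11, 9, 6, 6, 2, 1]
def rw3899 : List ℕ := [8, 3, 8, 7, 10, 8, 11, 6, 9, 2, 9, 11, 0, 4, 1, 7, 9, 0, 5, 6, 8, 9, 9, 7, 4, 1, 8, 6, 0, 5, 1, 10]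
def rw3900 : List ℕ := [8, 0, 6, 8, 0, 3, 10, 2, 5, 2, 6, 2, 1, 11, 6, 8, 0, 6]
def rw3901 : List ℕ := [8, 0, 0, 9, 2, 6, 3, 11, 9, 3, 6, 3, 3, 6, 10, 4, 7, 3]
def rw3902 : List ℕ := [8, 10, 7, 3, 5, 7, 5, 0, 11, 1, 3, 8, 6, 3, 5, 5, 0]
def rw3903 : List ℕ := [8, 6, 0, 5, 1, 10, 8, 3, 8, 7, 10, 11, 11, 6, 9, 2, 9, 11, 0, 4, 1, 7, 9, 0, 5, 6, 8, 10, 9, 7, 4, 1]
def rw3904 : List ℕ := [8, 6, 0, 5, 1, 10, 0, 4, 1, 7, 9, 0, 5, 6, 8, 11, 6, 9, 2, 9, 11, 11, 10, 8, 3, 8, 7, 10, 9, 7, 4, 1]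
def rw3905 : List ℕ := [8, 6, 10, 1, 2, 2, 2, 2, 11, 7, 7, 1, 1, 1, 6, 9, 1]
def rw3906 : List ℕ := [8, 7, 10, 10, 11, 6, 9, 2, 9, 11, 0, 4, 1, 7, 9, 0, 5, 6, 8, 11, 9, 7, 4, 1, 8, 6, 0, 5, 1, 10, 8, 3]
def rw3907 : List ℕ := [8, 2, 1, 11, 9, 5, 6, 9, 2, 2, 10, 2, 4, 0, 3, 9, 4]
def rw3908 : List ℕ := [8, 1, 8, 1, 1, 10, 7, 5, 1, 1, 6, 6, 11, 9, 9, 9, 4, 1]
def rw3909 : List ℕ := [8, 5, 11, 6, 2, 1, 7, 9, 1, 5, 6, 6, 3, 10, 6, 5, 2, 7]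
def rw3910 : List ℕ := [8, 3, 4, 0, 11, 5, 2, 6, 9, 3, 0, 9, 3, 9, 10, 4, 8]
def rw3911 : List ℕ := [8, 7, 10, 0, 11, 6, 9, 2, 9, 11, 0, 4, 1, 7, 9, 0, 5, 6, 8, 1, 9, 7, 4, 1, 8, 6, 0, 5, 1, 10, 8, 3]
def rw3912 : List ℕ := [8, 7, 3, 4, 10, 1, 5, 2, 9, 9, 5, 11, 8, 2, 8, 1, 2]
def rw3913 : List ℕ := [8, 3, 3, 9, 0, 8, 0, 10, 1, 5, 3, 5, 0, 11, 9, 4, 4]
def rw3914 : List ℕ := [8, 7, 10, 9, 7, 4, 1, 8, 6, 0, 5, 1, 1, 0, 4, 1, 7, 9, 0, 5, 6, 8, 11, 6, 9, 2, 9, 11, 0, 10, 8, 3]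
def rw3915 : List ℕ := [8, 7, 0, 10, 7, 1, 8, 3, 5, 8, 0, 7, 9, 11, 1, 7, 8]
def rw3916 : List ℕ := [8, 1, 6, 5, 10, 6, 2, 5, 1, 7, 11, 6, 1, 9, 4, 8, 0]
def rw3917 : List ℕ := [8, 10, 4, 2, 1, 6, 1, 3, 11, 9, 0, 3, 8, 7, 0, 7, 1, 2]
def rw3918 : List ℕ := [8, 3, 1, 11, 11, 0, 2, 9, 10]
def rw3919 : List ℕ := [8, 6, 1, 9, 4, 2, 9, 0, 6, 11, 1, 6, 9, 9, 6, 0, 10]
def rw3920 : List ℕ := [8, 2, 8, 5, 7, 1, 1, 7, 8, 10, 2, 6, 6, 0, 0, 5, 11]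
def rw3921 : List ℕ := [8, 10, 3, 6, 0, 10, 7, 0, 9, 3, 1, 4, 9, 6, 2, 0, 3, 7, 8, 5, 0, 2, 8, 1, 6, 11, 1, 7, 2, 11, 9, 11, 1, 10]
def rw3922 : List ℕ := [8, 1, 7, 2, 0, 0, 8, 6, 3, 10, 4, 7, 3, 8, 2, 2, 11, 2]
def rw3923 : List ℕ := [8, 0, 9, 6, 6, 2, 1, 8, 7, 2, 7, 11, 0, 11, 1, 2, 5, 11, 1, 10, 4, 3, 0, 10, 1, 10, 6, 3, 6, 9, 0, 3, 7, 7]
def rw3924 : List ℕ := [8, 4, 0, 8, 3, 9, 5, 6, 8, 7, 4, 8, 2, 9, 1, 5, 9, 9, 0, 11, 11, 11, 6, 6, 0, 11, 9, 10, 1, 7, 7, 10, 10, 10, 1, 8]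
def rw3925 : List ℕ := [8, 6, 0, 7, 0, 2, 0, 9, 2, 10, 9, 6, 5, 1, 5, 8, 11, 3]
def rw3926 : List ℕ := [8, 7, 10, 9, 7, 4, 1, 8, 6, 0, 5, 1, 4, 0, 4, 1, 7, 9, 0, 5, 6, 8, 11, 6, 9, 2, 9, 11, 5, 10, 8, 3]
def rw3927 : List ℕ := [8, 4, 2, 8, 7, 9, 3, 5, 9, 3, 0, 4, 9, 2, 9, 11, 5, 3, 7, 10, 1, 11, 6, 10, 0, 11, 6, 2, 4, 10, 8, 3, 8, 5, 1, 2]
def rw3928 : List ℕ := [8, 7, 10, 9, 7, 4, 1, 8, 6, 0, 5, 1, 8, 0, 4, 1, 7, 9, 0, 5, 6, 8, 11, 6, 9, 2, 9, 11, 9, 10, 8, 3]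
def rw3929 : List ℕ := [8, 10, 9, 4, 2, 1, 1, 8, 11, 6, 8, 3, 4, 1, 5, 9, 0, 4]
def rw3930 : List ℕ := [8, 10, 3, 6, 0, 10, 7, 0, 9, 3, 1, 4, 9, 6, 2, 4, 3, 7, 8, 5, 0, 2, 8, 1, 6, 11, 1, 7, 2, 11, 9, 11, 5, 10]
def rw3931 : List ℕ := [8, 2, 1, 5, 3, 11, 3, 3, 8, 7, 4, 8, 10, 0, 3, 9, 5]
def rw3932 : List ℕ := [8, 4, 2, 8, 10, 9, 3, 5, 9, 3, 0, 4, 9, 2, 9, 11, 5, 3, 7, 10, 1, 11, 11, 10, 0, 11, 6, 2, 4, 10, 8, 3, 8, 5, 1, 2]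
def rw3933 : List ℕ := [8, 8, 8, 10, 7, 7, 0, 0, 4, 6, 11, 0, 0, 9, 0, 9, 0, 5]
def rw3934 : List ℕ := [8, 10, 2, 0, 7, 0, 3, 5, 11, 9, 3, 0, 6, 1, 6, 9, 2, 1]
def rw3935 : List ℕ := [8, 4, 7, 3, 8, 8, 7, 0, 8, 0, 11, 8, 1, 5, 6, 1, 5, 10]
def rw3936 : List ℕ := [8, 7, 0, 0, 0, 6, 6, 10, 1, 3, 0, 3, 11, 7, 9, 0]
def rw3937 : List ℕ := [8, 10, 6, 2, 2, 6, 0, 5, 11, 9, 7, 0, 9, 1, 3, 9, 0, 6]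
def rw3938 : List ℕ := [8, 2, 9, 1, 5, 9, 9, 0, 11, 11, 11, 6, 6, 0, 11, 10, 10, 1, 7, 7, 10, 10, 10, 1, 8, 8, 4, 0, 8, 3, 9, 5, 6, 11, 7, 4]
def rw3939 : List ℕ := [8, 7, 10, 7, 0, 8, 1, 7, 0, 8, 2, 7, 8, 11, 5, 6, 2, 5]
def rw3940 : List ℕ := [8, 10, 0, 5, 2, 1, 4, 0, 11, 1, 9, 1, 8, 2, 2, 9, 5, 5]
def rw3941 : List ℕ := [8, 10, 3, 6, 0, 10, 7, 0, 9, 3, 1, 4, 9, 6, 2, 3, 3, 7, 8, 5, 0, 2, 8, 1, 6, 11, 1, 7, 2, 11, 9, 11, 2, 10]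
def rw3942 : List ℕ := [8, 1, 3, 1, 6, 1, 7, 9, 2, 10, 9, 4, 0, 4, 7, 8, 11, 3]
def rw3943 : List ℕ := [8, 3, 8, 7, 10, 2, 11, 6, 9, 2, 9, 11, 0, 4, 1, 7, 9, 0, 5, 6, 8, 3, 9, 7, 4, 1, 8, 6, 0, 5, 1, 10]
def rw3944 : List ℕ := [8, 3, 8, 7, 10, 9, 7, 4, 1, 8, 6, 0, 5, 1, 8, 0, 4, 1, 7, 9, 0, 5, 6, 8, 11, 6, 9, 2, 9, 11, 9, 10]
def rw3945 : List ℕ := [8, 3, 10, 4, 4, 3, 5, 5, 3, 11, 0, 6, 4, 8, 6, 1, 9, 3]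
def rw3946 : List ℕ := [8, 3, 4, 1, 5, 9, 0, 4, 8, 10, 9, 4, 2, 1, 1, 8, 11, 6]
def rw3947 : List ℕ := [8, 1, 6, 11, 1, 7, 2, 11, 9, 11, 1, 10, 8, 10, 3, 6, 0, 10, 7, 0, 9, 3, 1, 4, 9, 6, 2, 0, 3, 7, 8, 5, 0, 2]
def rw3948 : List ℕ := [8, 10, 3, 6, 0, 10, 11, 11, 1, 7, 2, 11, 9, 11, 3, 7, 8, 5, 0, 2, 8, 1, 6, 10, 7, 0, 9, 3, 1, 4, 9, 6, 2, 10]
def rw3949 : List ℕ := [8, 11, 3, 8, 1, 3, 1, 6, 1, 7, 9, 2, 10, 9, 4, 0, 4, 7]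
def rw3950 : List ℕ := [8, 7, 10, 6, 11, 6, 9, 2, 9, 11, 0, 4, 1, 7, 9, 0, 5, 6, 8, 7, 9, 7, 4, 1, 8, 6, 0, 5, 1, 10, 8, 3]
def rw3951 : List ℕ := [8, 6, 0, 7, 0, 2, 10, 3, 3, 7, 4, 0, 11, 3, 5]
def rw3952 : List ℕ := [8, 10, 3, 6, 0, 10, 4, 11, 1, 7, 2, 11, 9, 11, 3, 7, 8, 5, 0, 2, 8, 1, 6, 5, 7, 0, 9, 3, 1, 4, 9, 6, 2, 10]
def rw3953 : List ℕ := [8, 10, 2, 7, 3, 8, 1, 1, 9, 2, 6, 5, 11, 7, 2, 2, 7, 2]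
def rw3954 : List ℕ := [8, 2, 2, 9, 5, 5, 8, 10, 1, 4, 2, 4, 0, 11, 1, 9, 1]
def rw3955 : List ℕ := [8, 6, 3, 10, 4, 7, 3, 8, 2, 2, 11, 2, 8, 1, 7, 2, 0, 0]
def rw3956 : List ℕ := [8, 1, 6, 11, 1, 7, 2, 11, 9, 11, 11, 10, 8, 10, 3, 6, 0, 10, 7, 0, 9, 3, 1, 4, 9, 6, 2, 10, 3, 7, 8, 5, 0, 2]
def rw3957 : List ℕ := [8, 6, 10, 1, 5, 2, 2, 2, 5, 11, 7, 7, 1, 1, 1, 6, 9, 1]
def rw3958 : List ℕ := [8, 7, 1, 2, 4, 10, 3, 1, 5, 3, 1, 4, 11, 6, 8, 2, 4, 3]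
def rw3959 : List ℕ := [8, 6, 3, 5, 5, 0, 8, 10, 4, 4, 3, 7, 4, 0, 11, 1, 3]
def rw3960 : List ℕ := [8, 10, 3, 6, 0, 10, 7, 0, 9, 3, 1, 4, 9, 6, 2, 5, 3, 7, 8, 5, 0, 2, 8, 1, 6, 11, 1, 7, 2, 11, 9, 11, 4, 10]
def rw3961 : List ℕ := [8, 4, 1, 3, 0, 11, 2, 0, 7, 4, 2, 8, 10, 1, 2, 9, 1, 5]
def rw3962 : List ℕ := [8, 0, 7, 2, 7, 9, 6, 10, 1, 1, 4, 6, 0, 0, 11, 2, 1, 8]
def rw3963 : List ℕ := [8, 3, 10, 3, 6, 4, 4, 6, 11, 0, 6, 4, 8, 6, 1, 9, 3]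
def rw3964 : List ℕ := [8, 10, 3, 6, 0, 10, 10, 11, 1, 7, 2, 11, 9, 11, 3, 7, 8, 5, 0, 2, 8, 1, 6, 11, 7, 0, 9, 3, 1, 4, 9, 6, 2, 10]
def rw3965 : List ℕ := [8, 3, 8, 7, 10, 3, 11, 6, 9, 2, 9, 11, 0, 4, 1, 7, 9, 0, 5, 6, 8, 2, 9, 7, 4, 1, 8, 6, 0, 5, 1, 10]
def rw3966 : List ℕ := [8, 10, 1, 2, 9, 1, 5, 8, 4, 1, 3, 0, 11, 2, 0, 7, 4, 2]
def rw3967 : List ℕ := [8, 5, 1, 2, 8, 4, 2, 8, 10, 9, 3, 5, 9, 3, 0, 4, 9, 2, 9, 11, 5, 3, 7, 10, 1, 11, 11, 10, 0, 11, 6, 2, 4, 10, 8, 3]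
def rw3968 : List ℕ := [8, 10, 2, 6, 6, 0, 0, 5, 11, 8, 2, 8, 5, 7, 1, 1, 7]
def rw3969 : List ℕ := [8, 1, 1, 10, 5, 8, 4, 7, 5, 2, 11, 7, 8, 0, 2, 0, 7, 5]
def rw3970 : List ℕ := [8, 7, 1, 2, 4, 10, 3, 5, 5, 11, 6, 8, 2, 4, 3]
def rw3971 : List ℕ := [8, 0, 7, 9, 5, 7, 1, 10, 4, 4, 2, 11, 2, 9, 2]
def rw3972 : List ℕ := [8, 0, 10, 5, 5, 5, 0, 5, 0, 11, 9, 4, 4, 8, 3, 3, 9, 0]
def rw3973 : List ℕ := [8, 5, 6, 11, 2, 8, 1, 7, 1, 1, 3, 8, 6, 3, 10, 6, 5, 3]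
def rw3974 : List ℕ := [8, 0, 3, 10, 5, 7, 3, 7, 2, 1, 11, 6, 8, 0, 6, 8, 0, 6]
def rw3975 : List ℕ := [8, 7, 0, 0, 0, 6, 6, 10, 2, 2, 2, 0, 11, 7, 9, 0]
def rw3976 : List ℕ := [8, 11, 6, 8, 3, 4, 1, 5, 9, 0, 4, 8, 10, 9, 4, 2, 1, 1]
def rw3977 : List ℕ := [8, 8, 10, 7, 7, 0, 0, 4, 6, 11, 0, 0, 9, 0, 9, 0, 5, 8]
def rw3978 : List ℕ := [8, 1, 6, 8, 10, 4, 1, 7, 3, 3, 7, 11, 9, 7, 1, 8, 2, 0]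
def rw3979 : List ℕ := [8, 0, 11, 8, 1, 5, 6, 1, 5, 10, 8, 4, 7, 3, 8, 8, 7, 0]
def rw3980 : List ℕ := [8, 2, 0, 8, 1, 6, 8, 10, 4, 1, 7, 3, 3, 7, 11, 9, 7, 1]
def rw3981 : List ℕ := [8, 10, 3, 6, 0, 10, 0, 11, 1, 7, 2, 11, 9, 11, 3, 7, 8, 5, 0, 2, 8, 1, 6, 1, 7, 0, 9, 3, 1, 4, 9, 6, 2, 10]
def rw3982 : List ℕ := [8, 7, 1, 2, 4, 10, 2, 4, 4, 2, 2, 11, 6, 8, 2, 4, 3]
def rw3983 : List ℕ := [8, 7, 0, 0, 0, 6, 6, 10, 0, 2, 0, 0, 0, 3, 11, 7, 9, 0]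
def rw3984 : List ℕ := [8, 3, 0, 11, 9, 3, 5, 6, 1, 3, 10, 1, 2, 0, 5, 9, 4, 0]
def rw3985 : List ℕ := [8, 0, 7, 9, 5, 7, 1, 10, 0, 2, 4, 0, 5, 2, 11, 2, 9, 2]
def rw3986 : List ℕ := [8, 6, 9, 7, 4, 1, 8, 6, 0, 5, 1, 10, 8, 3, 8, 7, 10, 7, 11, 6, 9, 2, 9, 11, 0, 4, 1, 7, 9, 0, 5, 6]
def rw3987 : List ℕ := [8, 0, 8, 1, 6, 5, 10, 6, 2, 5, 1, 7, 11, 6, 1, 9, 4]
def rw3988 : List ℕ := [8, 1, 6, 11, 1, 7, 2, 11, 9, 11, 8, 10, 8, 10, 3, 6, 0, 10, 7, 0, 9, 3, 1, 4, 9, 6, 2, 9, 3, 7, 8, 5, 0, 2]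
def rw3989 : List ℕ := [8, 0, 6, 8, 0, 3, 10, 5, 7, 3, 7, 2, 1, 11, 6, 8, 0, 6]
def rw3990 : List ℕ := [8, 5, 1, 10, 6, 2, 2, 4, 1, 7, 11, 4, 4, 0, 7, 7, 2]
def rw3991 : List ℕ := [8, 8, 0, 7, 2, 7, 9, 6, 10, 1, 1, 4, 6, 0, 0, 11, 2, 1]
def rw3992 : List ℕ := [8, 6, 3, 10, 6, 5, 3, 8, 5, 6, 11, 2, 8, 1, 7, 1, 1, 3]
def rw3993 : List ℕ := [8, 10, 3, 6, 0, 10, 9, 11, 1, 7, 2, 11, 9, 11, 3, 7, 8, 5, 0, 2, 8, 1, 6, 8, 7, 0, 9, 3, 1, 4, 9, 6, 2, 10]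
def rw3994 : List ℕ := [8, 10, 2, 7, 3, 8, 1, 1, 9, 2, 6, 5, 11, 2, 7, 2, 5, 5]
def rw3995 : List ℕ := [8, 6, 1, 9, 3, 8, 3, 10, 3, 5, 5, 11, 0, 6, 4]
def rw3996 : List ℕ := [8, 0, 2, 0, 7, 5, 8, 1, 1, 10, 5, 8, 4, 7, 5, 2, 11, 7]
def rw3997 : List ℕ := [8, 0, 6, 8, 0, 6, 8, 0, 3, 10, 6, 6, 3, 6, 5, 1, 11, 6]
def rw3998 : List ℕ := [8, 1, 11, 3, 3, 5, 7, 9, 10, 0, 3, 9, 3, 5, 0, 4, 2]
def rw3999 : List ℕ := [8, 2, 4, 3, 8, 7, 1, 2, 4, 10, 5, 2, 4, 4, 3, 11, 6]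
def rw4000 : List ℕ := [8, 2, 9, 1, 5, 9, 9, 0, 11, 11, 11, 6, 6, 0, 11, 1, 10, 1, 7, 7, 10, 10, 10, 1, 8, 8, 4, 0, 8, 3, 9, 5, 6, 0, 7, 4]
def rw4001 : List ℕ := [8, 10, 3, 6, 0, 10, 6, 11, 1, 7, 2, 11, 9, 11, 3, 7, 8, 5, 0, 2, 8, 1, 6, 7, 7, 0, 9, 3, 1, 4, 9, 6, 2, 10]
def rw4002 : List ℕ := [8, 10, 7, 3, 7, 5, 7, 0, 11, 1, 3, 8, 6, 3, 5, 5, 0]
def rw4003 : List ℕ := [8, 5, 0, 2, 8, 1, 6, 1, 7, 0, 9, 3, 1, 4, 9, 6, 2, 10, 8, 10, 3, 6, 0, 10, 0, 11, 1, 7, 2, 11, 9, 11, 3, 7]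
def rw4004 : List ℕ := [8, 6, 10, 1, 3, 0, 2, 2, 0, 11, 7, 7, 1, 1, 1, 6, 9, 1]
def rw4005 : List ℕ := [8, 0, 6, 8, 0, 6, 8, 0, 3, 10, 4, 3, 4, 6, 2, 1, 11, 6]
def rw4006 : List ℕ := [8, 1, 7, 0, 8, 2, 7, 8, 11, 5, 6, 2, 5, 8, 7, 10, 7, 0]
def rw4007 : List ℕ := [8, 6, 10, 2, 0, 2, 0, 3, 3, 11, 7, 7, 1, 1, 1, 6, 9, 1]
def rw4008 : List ℕ := [8, 11, 9, 5, 1, 8, 4, 0, 5, 2, 9, 7, 10, 9, 0, 0, 3, 5]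
def rw4009 : List ℕ := [8, 0, 7, 9, 11, 1, 7, 8, 8, 7, 0, 10, 7, 1, 8, 3, 5]
def rw4010 : List ℕ := [8, 2, 2, 11, 2, 8, 1, 7, 2, 0, 0, 8, 6, 3, 10, 4, 7, 3]
def rw4011 : List ℕ := [8, 2, 4, 3, 8, 7, 1, 2, 4, 10, 0, 3, 4, 1, 1, 5, 11, 6]
def rw4012 : List ℕ := [8, 8, 0, 9, 10, 6, 4, 2, 8, 5, 6, 11, 1, 7, 1, 1, 1, 4]
def rw4013 : List ℕ := [8, 11, 3, 8, 6, 0, 7, 0, 2, 0, 9, 2, 10, 9, 6, 5, 1, 5]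
def rw4014 : List ℕ := [8, 10, 0, 3, 9, 5, 8, 2, 1, 5, 3, 11, 3, 3, 8, 7, 4]
def rw4015 : List ℕ := [8, 3, 5, 8, 0, 7, 9, 11, 1, 7, 8, 8, 7, 0, 10, 7, 1]
def rw4016 : List ℕ := [8, 6, 10, 0, 2, 0, 0, 3, 3, 11, 7, 7, 1, 1, 1, 6, 9, 1]
def rw4017 : List ℕ := [8, 7, 4, 8, 10, 0, 3, 9, 5, 8, 2, 1, 5, 3, 11, 3, 3]
def rw4018 : List ℕ := [8, 4, 0, 8, 3, 9, 5, 6, 1, 7, 4, 8, 2, 9, 1, 5, 9, 9, 0, 11, 11, 11, 6, 6, 0, 11, 0, 10, 1, 7, 7, 10, 10, 10, 1, 8]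
def rw4019 : List ℕ := [8, 4, 0, 8, 3, 9, 5, 6, 5, 7, 4, 8, 2, 9, 1, 5, 9, 9, 0, 11, 11, 11, 6, 6, 0, 11, 4, 10, 1, 7, 7, 10, 10, 10, 1, 8]
def rw4020 : List ℕ := [8, 0, 4, 0, 11, 6, 2, 5, 9, 3, 5, 10, 3, 0, 7, 8, 6, 1]
def rw4021 : List ℕ := [8, 6, 1, 9, 3, 8, 3, 10, 5, 2, 4, 4, 3, 11, 0, 6, 4]
def rw4022 : List ℕ := [8, 6, 10, 5, 2, 0, 4, 4, 1, 11, 7, 7, 1, 1, 1, 6, 9, 1]
def rw4023 : List ℕ := [8, 3, 10, 3, 5, 5, 11, 0, 6, 4, 8, 6, 1, 9, 3]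
def rw4024 : List ℕ := [8, 0, 10, 1, 5, 3, 5, 0, 11, 9, 4, 4, 8, 3, 3, 9, 0]
def rw4025 : List ℕ := [8, 3, 10, 5, 2, 4, 4, 3, 11, 0, 6, 4, 8, 6, 1, 9, 3]
def rw4026 : List ℕ := [8, 7, 2, 7, 5, 6, 3, 6, 9, 0, 3, 7, 7, 8, 10, 4, 3, 0, 10, 1, 10, 4, 11, 0, 11, 1, 2, 5, 11, 9, 6, 6, 2, 1]
def rw4027 : List ℕ := [8, 10, 3, 6, 0, 10, 1, 11, 1, 7, 2, 11, 9, 11, 3, 7, 8, 5, 0, 2, 8, 1, 6, 0, 7, 0, 9, 3, 1, 4, 9, 6, 2, 10]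
def rw4028 : List ℕ := [8, 4, 2, 8, 11, 9, 3, 5, 9, 3, 0, 4, 9, 2, 9, 11, 5, 3, 7, 10, 1, 11, 10, 10, 0, 11, 6, 2, 4, 10, 8, 3, 8, 5, 1, 2]
def rw4029 : List ℕ := [8, 3, 10, 3, 4, 1, 5, 3, 1, 11, 0, 6, 4, 8, 6, 1, 9, 3]
def rw4030 : List ℕ := [8, 7, 10, 8, 11, 6, 9, 2, 9, 11, 0, 4, 1, 7, 9, 0, 5, 6, 8, 9, 9, 7, 4, 1, 8, 6, 0, 5, 1, 10, 8, 3]
def rw4031 : List ℕ := [8, 3, 10, 7, 2, 5, 3, 7, 3, 11, 0, 6, 4, 8, 6, 1, 9, 3]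
def rw4032 : List ℕ := [8, 0, 0, 9, 2, 6, 3, 11, 9, 4, 4, 3, 6, 3, 10, 4, 7, 3]
def rw4033 : List ℕ := [8, 3, 8, 7, 10, 1, 11, 6, 9, 2, 9, 11, 0, 4, 1, 7, 9, 0, 5, 6, 8, 0, 9, 7, 4, 1, 8, 6, 0, 5, 1, 10]
def rw4034 : List ℕ := [8, 8, 7, 0, 8, 0, 11, 8, 1, 5, 6, 1, 5, 10, 8, 4, 7, 3]
def rw4035 : List ℕ := [8, 10, 3, 6, 0, 10, 7, 11, 1, 7, 2, 11, 9, 11, 3, 7, 8, 5, 0, 2, 8, 1, 6, 6, 7, 0, 9, 3, 1, 4, 9, 6, 2, 10]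
def rw4036 : List ℕ := [8, 11, 9, 7, 4, 1, 8, 6, 0, 5, 1, 10, 8, 3, 8, 7, 10, 10, 11, 6, 9, 2, 9, 11, 0, 4, 1, 7, 9, 0, 5, 6]
def rw4037 : List ℕ := [8, 6, 10, 2, 1, 2, 0, 11, 7, 7, 1, 1, 1, 6, 9, 1]
def rw4038 : List ℕ := [8, 6, 3, 5, 5, 0, 8, 10, 7, 3, 5, 7, 5, 0, 11, 1, 3]
def rw4039 : List ℕ := [8, 7, 10, 9, 7, 4, 1, 8, 6, 0, 5, 1, 2, 0, 4, 1, 7, 9, 0, 5, 6, 8, 11, 6, 9, 2, 9, 11, 3, 10, 8, 3]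
def rw4040 : List ℕ := [8, 2, 1, 11, 8, 6, 4, 2, 2, 10, 0, 9, 3, 5, 1, 4, 2]
def rw4041 : List ℕ := [8, 1, 1, 10, 7, 5, 1, 1, 6, 6, 11, 9, 9, 9, 4, 1, 8, 1]
def rw4042 : List ℕ := [8, 10, 3, 6, 0, 10, 8, 11, 1, 7, 2, 11, 9, 11, 3, 7, 8, 5, 0, 2, 8, 1, 6, 9, 7, 0, 9, 3, 1, 4, 9, 6, 2, 10]
def rw4043 : List ℕ := [8, 4, 0, 5, 2, 9, 7, 10, 9, 0, 0, 3, 5, 8, 11, 9, 5, 1]
def rw4044 : List ℕ := [8, 8, 7, 0, 10, 7, 1, 8, 3, 5, 8, 0, 7, 9, 11, 1, 7]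
def rw4045 : List ℕ := [8, 0, 7, 10, 6, 0, 4, 3, 7, 11, 4, 7, 0, 9, 1, 9, 5]
def rw4046 : List ℕ := [8, 0, 7, 9, 5, 7, 1, 10, 2, 6, 2, 4, 3, 6, 11, 2, 9, 2]
def rw4047 : List ℕ := [8, 10, 4, 1, 7, 3, 3, 7, 11, 9, 7, 1, 8, 2, 0, 8, 1, 6]
def rw4048 : List ℕ := [8, 6, 1, 9, 10, 4, 7, 0, 7, 2, 2, 11, 4, 2, 6, 5, 2, 0]
def rw4049 : List ℕ := [8, 7, 2, 7, 4, 6, 3, 6, 9, 0, 3, 7, 7, 8, 10, 4, 3, 0, 10, 1, 10, 5, 11, 0, 11, 1, 2, 5, 11, 9, 6, 6, 2, 1]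
def rw4050 : List ℕ := [8, 1, 9, 6, 6, 2, 1, 8, 7, 2, 7, 11, 0, 11, 1, 2, 5, 11, 0, 10, 4, 3, 0, 10, 1, 10, 6, 3, 6, 9, 0, 3, 7, 7]
def rw4051 : List ℕ := [8, 1, 9, 7, 4, 1, 8, 6, 0, 5, 1, 10, 8, 3, 8, 7, 10, 0, 11, 6, 9, 2, 9, 11, 0, 4, 1, 7, 9, 0, 5, 6]
def rw4052 : List ℕ := [8, 7, 0, 8, 0, 11, 8, 1, 5, 6, 1, 5, 10, 8, 4, 7, 3, 8]
def rw4053 : List ℕ := [8, 7, 2, 7, 10, 6, 3, 6, 9, 0, 3, 7, 7, 8, 10, 4, 3, 0, 10, 1, 10, 11, 11, 0, 11, 1, 2, 5, 11, 9, 6, 6, 2, 1]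
def rw4054 : List ℕ := [8, 7, 0, 0, 0, 6, 6, 10, 2, 0, 2, 0, 0, 3, 11, 7, 9, 0]
def rw4055 : List ℕ := [8, 6, 10, 1, 3, 3, 3, 11, 7, 7, 1, 1, 1, 6, 9, 1]
def rw4056 : List ℕ := [8, 10, 1, 4, 2, 4, 0, 11, 1, 9, 1, 8, 2, 2, 9, 5, 5]
def rw4057 : List ℕ := [8, 7, 1, 2, 4, 10, 5, 2, 4, 4, 3, 11, 6, 8, 2, 4, 3]
def rw4058 : List ℕ := [8, 7, 1, 2, 4, 10, 7, 4, 2, 5, 6, 6, 11, 6, 8, 2, 4, 3]
def rw4059 : List ℕ := [8, 3, 8, 7, 10, 9, 11, 6, 9, 2, 9, 11, 0, 4, 1, 7, 9, 0, 5, 6, 8, 8, 9, 7, 4, 1, 8, 6, 0, 5, 1, 10]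
def rw4060 : List ℕ := [8, 6, 3, 6, 1, 9, 9, 0, 3, 10, 1, 1, 7, 5, 0, 0, 11, 7]
def rw4061 : List ℕ := [8, 7, 1, 2, 4, 10, 6, 2, 6, 3, 6, 6, 11, 6, 8, 2, 4, 3]
def rw4062 : List ℕ := [8, 3, 3, 9, 0, 8, 0, 10, 1, 5, 0, 3, 4, 1, 11, 9, 4, 4]
def rw4063 : List ℕ := [8, 11, 6, 9, 2, 9, 11, 0, 10, 8, 3, 8, 7, 10, 9, 7, 4, 1, 8, 6, 0, 5, 1, 1, 0, 4, 1, 7, 9, 0, 5, 6]
def rw4064 : List ℕ := [8, 1, 9, 9, 5, 0, 0, 0, 6, 0, 10, 7, 4, 9, 3, 5, 7, 11]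
def rw4065 : List ℕ := [8, 1, 2, 8, 7, 3, 4, 10, 1, 5, 2, 9, 9, 5, 11, 8, 2]
def rw4066 : List ℕ := [8, 0, 6, 8, 0, 6, 8, 0, 3, 10, 5, 7, 3, 7, 2, 1, 11, 6]
def rw4067 : List ℕ := [8, 0, 7, 4, 3, 7, 4, 11, 4, 3, 5, 8, 2, 5, 10, 6, 5, 3]
def rw4068 : List ℕ := [8, 5, 0, 2, 8, 1, 6, 11, 1, 7, 2, 11, 9, 11, 0, 10, 8, 10, 3, 6, 0, 10, 7, 0, 9, 3, 1, 4, 9, 6, 2, 1, 3, 7]
def rw4069 : List ℕ := [8, 5, 0, 2, 8, 1, 6, 11, 7, 0, 9, 3, 1, 4, 9, 6, 2, 10, 8, 10, 3, 6, 0, 10, 10, 11, 1, 7, 2, 11, 9, 11, 3, 7]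
def rw4070 : List ℕ := [8, 8, 8, 8, 8, 8, 8]
def rw4071 : List ℕ := [8, 6, 0, 5, 1, 7, 0, 4, 1, 7, 9, 0, 5, 6, 8, 11, 6, 9, 2, 9, 11, 6, 10, 8, 3, 8, 7, 10, 9, 7, 4, 1]
def rw4072 : List ℕ := [8, 10, 7, 7, 0, 0, 4, 6, 11, 0, 0, 9, 0, 9, 0, 5, 8, 8]
def rw4073 : List ℕ := [8, 10, 3, 6, 0, 10, 7, 0, 9, 3, 1, 4, 9, 6, 2, 2, 3, 7, 8, 5, 0, 2, 8, 1, 6, 11, 1, 7, 2, 11, 9, 11, 3, 10]
def rw4074 : List ℕ := [8, 6, 0, 5, 1, 9, 0, 4, 1, 7, 9, 0, 5, 6, 8, 11, 6, 9, 2, 9, 11, 8, 10, 8, 3, 8, 7, 10, 9, 7, 4, 1]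
def rw4075 : List ℕ := [8, 0, 10, 5, 5, 1, 4, 1, 4, 11, 9, 4, 4, 8, 3, 3, 9, 0]
def rw4076 : List ℕ := [8, 1, 7, 1, 1, 3, 8, 6, 3, 10, 6, 5, 3, 8, 5, 6, 11, 2]
def rw4077 : List ℕ := [8, 10, 7, 3, 6, 4, 6, 0, 11, 1, 3, 8, 6, 3, 5, 5, 0]
def rw4078 : List ℕ := [8, 10, 4, 4, 3, 7, 4, 0, 11, 1, 3, 8, 6, 3, 5, 5, 0]
def rw4079 : List ℕ := [8, 10, 3, 6, 0, 10, 5, 11, 1, 7, 2, 11, 9, 11, 3, 7, 8, 5, 0, 2, 8, 1, 6, 4, 7, 0, 9, 3, 1, 4, 9, 6, 2, 10]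
def rw4080 : List ℕ := [8, 10, 3, 6, 0, 10, 7, 0, 9, 3, 1, 4, 9, 6, 2, 7, 3, 7, 8, 5, 0, 2, 8, 1, 6, 11, 1, 7, 2, 11, 9, 11, 6, 10]
def rw4081 : List ℕ := [8, 4, 7, 5, 2, 11, 7, 8, 0, 2, 0, 7, 5, 8, 1, 1, 10, 5]
def rw4082 : List ℕ := [8, 1, 6, 11, 1, 7, 2, 11, 9, 11, 10, 10, 8, 10, 3, 6, 0, 10, 7, 0, 9, 3, 1, 4, 9, 6, 2, 11, 3, 7, 8, 5, 0, 2]
def rw4083 : List ℕ := [8, 10, 7, 2, 7, 3, 6, 1, 11, 3, 0, 7, 0, 6, 8, 0, 4]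
def rw4084 : List ℕ := [8, 7, 10, 9, 11, 6, 9, 2, 9, 11, 0, 4, 1, 7, 9, 0, 5, 6, 8, 8, 9, 7, 4, 1, 8, 6, 0, 5, 1, 10, 8, 3]
def rw4085 : List ℕ := [8, 10, 9, 6, 6, 2, 1, 8, 7, 2, 7, 11, 0, 11, 1, 2, 5, 11, 11, 10, 4, 3, 0, 10, 1, 10, 6, 3, 6, 9, 0, 3, 7, 7]
def rw4086 : List ℕ := [8, 4, 0, 8, 3, 9, 5, 6, 10, 7, 4, 8, 2, 9, 1, 5, 9, 9, 0, 11, 11, 11, 6, 6, 0, 11, 11, 10, 1, 7, 7, 10, 10, 10, 1, 8]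
def rw4087 : List ℕ := [8, 0, 7, 9, 5, 7, 1, 10, 7, 5, 5, 7, 2, 11, 2, 9, 2]
def rw4088 : List ℕ := [8, 3, 9, 5, 6, 10, 7, 4, 8, 2, 9, 1, 5, 9, 9, 0, 11, 11, 11, 6, 6, 0, 11, 11, 10, 1, 7, 7, 10, 10, 10, 1, 8, 8, 4, 0]
def rw4089 : List ℕ := [8, 4, 0, 8, 3, 9, 5, 6, 7, 7, 4, 8, 2, 9, 1, 5, 9, 9, 0, 11, 11, 11, 6, 6, 0, 11, 6, 10, 1, 7, 7, 10, 10, 10, 1, 8]
def rw4090 : List ℕ := [8, 7, 10, 1, 11, 6, 9, 2, 9, 11, 0, 4, 1, 7, 9, 0, 5, 6, 8, 0, 9, 7, 4, 1, 8, 6, 0, 5, 1, 10, 8, 3]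
def rw4091 : List ℕ := [8, 8, 4, 0, 8, 3, 9, 5, 6, 11, 7, 4, 8, 2, 9, 1, 5, 9, 9, 0, 11, 11, 11, 6, 6, 0, 11, 10, 10, 1, 7, 7, 10, 10, 10, 1]
def rw4092 : List ℕ := [8, 7, 0, 0, 0, 6, 6, 10, 4, 1, 1, 4, 3, 11, 7, 9, 0]
def rw4093 : List ℕ := [8, 0, 6, 8, 0, 6, 8, 0, 3, 10, 2, 5, 2, 6, 2, 1, 11, 6]
def rw4094 : List ℕ := [8, 11, 5, 6, 2, 5, 8, 7, 10, 7, 0, 8, 1, 7, 0, 8, 2, 7]
def rw4095 : List ℕ := [8, 6, 10, 2, 1, 1, 2, 0, 2, 11, 7, 7, 1, 1, 1, 6, 9, 1]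
def rw4096 : List ℕ := [8, 10, 1, 4, 1, 4, 4, 4, 11, 1, 9, 1, 8, 2, 2, 9, 5, 5]
def rw4097 : List ℕ := [8, 6, 1, 9, 3, 8, 3, 10, 2, 4, 4, 2, 2, 11, 0, 6, 4]
def rw4098 : List ℕ := [8, 10, 3, 6, 0, 10, 2, 11, 1, 7, 2, 11, 9, 11, 3, 7, 8, 5, 0, 2, 8, 1, 6, 3, 7, 0, 9, 3, 1, 4, 9, 6, 2, 10]
def rw4099 : List ℕ := [8, 3, 10, 5, 5, 5, 2, 4, 4, 11, 0, 6, 4, 8, 6, 1, 9, 3]
def rw4100 : List ℕ := [8, 0, 10, 1, 5, 0, 3, 4, 1, 11, 9, 4, 4, 8, 3, 3, 9, 0]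
def rw4101 : List ℕ := [8, 6, 0, 5, 1, 5, 0, 4, 1, 7, 9, 0, 5, 6, 8, 11, 6, 9, 2, 9, 11, 4, 10, 8, 3, 8, 7, 10, 9, 7, 4, 1]
def rw4102 : List ℕ := [8, 7, 10, 3, 11, 6, 9, 2, 9, 11, 0, 4, 1, 7, 9, 0, 5, 6, 8, 2, 9, 7, 4, 1, 8, 6, 0, 5, 1, 10, 8, 3]
def rw4103 : List ℕ := [8, 10, 3, 6, 0, 10, 3, 11, 1, 7, 2, 11, 9, 11, 3, 7, 8, 5, 0, 2, 8, 1, 6, 2, 7, 0, 9, 3, 1, 4, 9, 6, 2, 10]
def rw4104 : List ℕ := [8, 1, 6, 4, 7, 0, 9, 3, 1, 4, 9, 6, 2, 10, 8, 10, 3, 6, 0, 10, 5, 11, 1, 7, 2, 11, 9, 11, 3, 7, 8, 5, 0, 2]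
def rw4105 : List ℕ := [8, 6, 0, 5, 1, 2, 0, 4, 1, 7, 9, 0, 5, 6, 8, 11, 6, 9, 2, 9, 11, 3, 10, 8, 3, 8, 7, 10, 9, 7, 4, 1]
def rw4106 : List ℕ := [8, 11, 6, 9, 2, 9, 11, 4, 10, 8, 3, 8, 7, 10, 9, 7, 4, 1, 8, 6, 0, 5, 1, 5, 0, 4, 1, 7, 9, 0, 5, 6]
def rw4107 : List ℕ := [8, 7, 5, 6, 2, 11, 7, 8, 0, 2, 0, 7, 5, 8, 1, 1, 10, 5]
def rw4108 : List ℕ := [8, 3, 8, 7, 10, 5, 11, 6, 9, 2, 9, 11, 0, 4, 1, 7, 9, 0, 5, 6, 8, 4, 9, 7, 4, 1, 8, 6, 0, 5, 1, 10]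
def rw4109 : List ℕ := [8, 10, 5, 0, 5, 0, 4, 4, 11, 1, 9, 1, 8, 2, 2, 9, 5, 5]
def rw4110 : List ℕ := [8, 6, 10, 3, 1, 3, 0, 3, 3, 11, 7, 7, 1, 1, 1, 6, 9, 1]
def rw4111 : List ℕ := [8, 0, 9, 10, 6, 4, 2, 8, 5, 6, 11, 1, 7, 1, 1, 1, 4, 8]
def rw4112 : List ℕ := [8, 3, 9, 5, 6, 11, 7, 4, 8, 2, 9, 1, 5, 9, 9, 0, 11, 11, 11, 6, 6, 0, 11, 10, 10, 1, 7, 7, 10, 10, 10, 1, 8, 8, 4, 0]
def rw4113 : List ℕ := [8, 2, 7, 8, 11, 5, 6, 2, 5, 8, 7, 10, 7, 0, 8, 1, 7, 0]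
def rw4114 : List ℕ := [8, 10, 3, 6, 0, 10, 7, 0, 9, 3, 1, 4, 9, 6, 2, 6, 3, 7, 8, 5, 0, 2, 8, 1, 6, 11, 1, 7, 2, 11, 9, 11, 7, 10]
def rw4115 : List ℕ := [8, 0, 6, 8, 0, 3, 10, 6, 6, 3, 6, 5, 1, 11, 6, 8, 0, 6]
def rw4116 : List ℕ := [8, 3, 10, 2, 4, 4, 2, 2, 11, 0, 6, 4, 8, 6, 1, 9, 3]
def rw4117 : List ℕ := [8, 2, 4, 3, 8, 7, 1, 2, 4, 10, 3, 1, 5, 3, 1, 4, 11, 6]
def rw4118 : List ℕ := [8, 6, 0, 5, 1, 10, 8, 3, 8, 7, 10, 0, 11, 6, 9, 2, 9, 11, 0, 4, 1, 7, 9, 0, 5, 6, 8, 1, 9, 7, 4, 1]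
def rw4119 : List ℕ := [8, 6, 0, 5, 1, 11, 0, 4, 1, 7, 9, 0, 5, 6, 8, 11, 6, 9, 2, 9, 11, 10, 10, 8, 3, 8, 7, 10, 9, 7, 4, 1]
def rw4120 : List ℕ := [8, 2, 4, 3, 8, 7, 1, 2, 4, 10, 3, 6, 4, 4, 6, 11, 6]
def rw4121 : List ℕ := [8, 10, 3, 6, 0, 10, 7, 0, 9, 3, 1, 4, 9, 6, 2, 9, 3, 7, 8, 5, 0, 2, 8, 1, 6, 11, 1, 7, 2, 11, 9, 11, 8, 10]
def rw4122 : List ℕ := [8, 6, 1, 9, 3, 8, 3, 10, 3, 6, 4, 4, 6, 11, 0, 6, 4]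
def rw4123 : List ℕ := [8, 8, 4, 0, 8, 3, 9, 5, 6, 3, 7, 4, 8, 2, 9, 1, 5, 9, 9, 0, 11, 11, 11, 6, 6, 0, 11, 2, 10, 1, 7, 7, 10, 10, 10, 1]
def rw4124 : List ℕ := [8, 5, 1, 2, 8, 4, 2, 8, 2, 9, 3, 5, 9, 3, 0, 4, 9, 2, 9, 11, 5, 3, 7, 10, 1, 11, 3, 10, 0, 11, 6, 2, 4, 10, 8, 3]
def rw4125 : List ℕ := [8, 7, 10, 9, 7, 4, 1, 8, 6, 0, 5, 1, 10, 0, 4, 1, 7, 9, 0, 5, 6, 8, 11, 6, 9, 2, 9, 11, 11, 10, 8, 3]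
def rw4126 : List ℕ := [8, 4, 0, 8, 3, 9, 5, 6, 4, 7, 4, 8, 2, 9, 1, 5, 9, 9, 0, 11, 11, 11, 6, 6, 0, 11, 5, 10, 1, 7, 7, 10, 10, 10, 1, 8]
def rw4127 : List ℕ := [8, 2, 4, 3, 8, 7, 1, 2, 4, 10, 1, 5, 0, 4, 0, 5, 11, 6]
def rw4128 : List ℕ := [8, 6, 10, 5, 1, 5, 0, 5, 2, 11, 7, 7, 1, 1, 1, 6, 9, 1]
def rw4129 : List ℕ := [8, 5, 9, 3, 5, 9, 3, 0, 4, 9, 2, 9, 11, 5, 3, 7, 10, 1, 11, 4, 10, 0, 11, 6, 2, 4, 10, 8, 3, 8, 5, 1, 2, 8, 4, 2]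
def rw4130 : List ℕ := [8, 7, 2, 7, 11, 0, 11, 1, 2, 5, 11, 9, 10, 4, 3, 0, 10, 1, 10, 6, 3, 6, 9, 0, 3, 7, 7, 8, 8, 9, 6, 6, 2, 1]
def rw4131 : List ℕ := [8, 2, 4, 3, 8, 7, 1, 2, 4, 10, 6, 2, 6, 3, 6, 6, 11, 6]
def rw4132 : List ℕ := [8, 3, 8, 7, 10, 6, 11, 6, 9, 2, 9, 11, 0, 4, 1, 7, 9, 0, 5, 6, 8, 7, 9, 7, 4, 1, 8, 6, 0, 5, 1, 10]
def rw4133 : List ℕ := [8, 7, 1, 2, 4, 10, 3, 4, 4, 4, 4, 4, 11, 6, 8, 2, 4, 3]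
def rw4134 : List ℕ := [8, 1, 1, 9, 2, 6, 5, 11, 7, 2, 2, 7, 2, 8, 10, 2, 7, 3]
def rw4135 : List ℕ := [8, 7, 0, 0, 0, 6, 6, 10, 2, 2, 1, 2, 0, 2, 11, 7, 9, 0]
def rw4136 : List ℕ := [8, 3, 10, 4, 4, 2, 4, 4, 2, 11, 0, 6, 4, 8, 6, 1, 9, 3]
def rw4137 : List ℕ := [8, 2, 9, 7, 4, 1, 8, 6, 0, 5, 1, 10, 8, 3, 8, 7, 10, 3, 11, 6, 9, 2, 9, 11, 0, 4, 1, 7, 9, 0, 5, 6]
def rw4138 : List ℕ := [8, 4, 2, 8, 2, 9, 3, 5, 9, 3, 0, 4, 9, 2, 9, 11, 5, 3, 7, 10, 1, 11, 3, 10, 0, 11, 6, 2, 4, 10, 8, 3, 8, 5, 1, 2]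
def rw4139 : List ℕ := [8, 5, 0, 2, 8, 1, 6, 11, 1, 7, 2, 11, 9, 11, 6, 10, 8, 10, 3, 6, 0, 10, 7, 0, 9, 3, 1, 4, 9, 6, 2, 7, 3, 7]
def rw4140 : List ℕ := [8, 7, 10, 9, 7, 4, 1, 8, 6, 0, 5, 1, 11, 0, 4, 1, 7, 9, 0, 5, 6, 8, 11, 6, 9, 2, 9, 11, 10, 10, 8, 3]
def rw4141 : List ℕ := [8, 7, 2, 7, 11, 0, 11, 1, 2, 5, 11, 1, 10, 4, 3, 0, 10, 1, 10, 6, 3, 6, 9, 0, 3, 7, 7, 8, 0, 9, 6, 6, 2, 1]
def rw4142 : List ℕ := [8, 11, 6, 9, 2, 9, 11, 2, 10, 8, 3, 8, 7, 10, 9, 7, 4, 1, 8, 6, 0, 5, 1, 3, 0, 4, 1, 7, 9, 0, 5, 6]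
def rw4143 : List ℕ := [8, 7, 1, 2, 4, 10, 4, 1, 7, 4, 1, 7, 11, 6, 8, 2, 4, 3]
def rw4144 : List ℕ := [8, 11, 6, 9, 2, 9, 11, 3, 10, 8, 3, 8, 7, 10, 9, 7, 4, 1, 8, 6, 0, 5, 1, 2, 0, 4, 1, 7, 9, 0, 5, 6]
def rw4145 : List ℕ := [8, 7, 0, 0, 0, 6, 6, 10, 3, 4, 1, 4, 0, 4, 11, 7, 9, 0]
def rw4146 : List ℕ := [8, 6, 10, 0, 3, 0, 3, 0, 0, 11, 7, 7, 1, 1, 1, 6, 9, 1]
def rw4147 : List ℕ := [8, 7, 10, 9, 7, 4, 1, 8, 6, 0, 5, 1, 7, 0, 4, 1, 7, 9, 0, 5, 6, 8, 11, 6, 9, 2, 9, 11, 6, 10, 8, 3]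
def rw4148 : List ℕ := [8, 5, 7, 1, 1, 7, 8, 10, 2, 6, 6, 0, 0, 5, 11, 8, 2]
def rw4149 : List ℕ := [8, 7, 0, 7, 1, 2, 8, 10, 4, 2, 1, 6, 1, 3, 11, 9, 0, 3]
def rw4150 : List ℕ := [8, 8, 4, 0, 8, 3, 9, 5, 6, 1, 7, 4, 8, 2, 9, 1, 5, 9, 9, 0, 11, 11, 11, 6, 6, 0, 11, 0, 10, 1, 7, 7, 10, 10, 10, 1]
def rw4151 : List ℕ := [8, 3, 8, 7, 10, 10, 11, 6, 9, 2, 9, 11, 0, 4, 1, 7, 9, 0, 5, 6, 8, 11, 9, 7, 4, 1, 8, 6, 0, 5, 1, 10]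
def rw4152 : List ℕ := [8, 6, 1, 8, 0, 4, 0, 11, 6, 2, 5, 9, 3, 5, 10, 3, 0, 7]
def rw4153 : List ℕ := [8, 6, 0, 5, 1, 4, 0, 4, 1, 7, 9, 0, 5, 6, 8, 11, 6, 9, 2, 9, 11, 5, 10, 8, 3, 8, 7, 10, 9, 7, 4, 1]
def rw4154 : List ℕ := [8, 3, 10, 4, 2, 4, 4, 3, 3, 11, 0, 6, 4, 8, 6, 1, 9, 3]
def rw4155 : List ℕ := [8, 3, 8, 7, 10, 9, 7, 4, 1, 8, 6, 0, 5, 1, 5, 0, 4, 1, 7, 9, 0, 5, 6, 8, 11, 6, 9, 2, 9, 11, 4, 10]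
def rw4156 : List ℕ := [8, 10, 9, 3, 5, 9, 3, 0, 4, 9, 2, 9, 11, 5, 3, 7, 10, 1, 11, 11, 10, 0, 11, 6, 2, 4, 10, 8, 3, 8, 5, 1, 2, 8, 4, 2]
def rw4157 : List ℕ := [8, 11, 6, 9, 2, 9, 11, 1, 10, 8, 3, 8, 7, 10, 9, 7, 4, 1, 8, 6, 0, 5, 1, 0, 0, 4, 1, 7, 9, 0, 5, 6]
def rw4158 : List ℕ := [8, 3, 8, 7, 10, 9, 7, 4, 1, 8, 6, 0, 5, 1, 7, 0, 4, 1, 7, 9, 0, 5, 6, 8, 11, 6, 9, 2, 9, 11, 6, 10]
def rw4159 : List ℕ := [8, 7, 2, 7, 11, 6, 3, 6, 9, 0, 3, 7, 7, 8, 10, 4, 3, 0, 10, 1, 10, 10, 11, 0, 11, 1, 2, 5, 11, 9, 6, 6, 2, 1]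
def rw4160 : List ℕ := [8, 7, 2, 7, 11, 0, 11, 1, 2, 5, 11, 10, 10, 4, 3, 0, 10, 1, 10, 6, 3, 6, 9, 0, 3, 7, 7, 8, 11, 9, 6, 6, 2, 1]
def rw4161 : List ℕ := [8, 6, 0, 5, 1, 10, 8, 3, 8, 7, 10, 4, 11, 6, 9, 2, 9, 11, 0, 4, 1, 7, 9, 0, 5, 6, 8, 5, 9, 7, 4, 1]
def rw4162 : List ℕ := [8, 3, 8, 7, 10, 7, 11, 6, 9, 2, 9, 11, 0, 4, 1, 7, 9, 0, 5, 6, 8, 6, 9, 7, 4, 1, 8, 6, 0, 5, 1, 10]
def rw4163 : List ℕ := [8, 8, 4, 0, 8, 3, 9, 5, 6, 10, 7, 4, 8, 2, 9, 1, 5, 9, 9, 0, 11, 11, 11, 6, 6, 0, 11, 11, 10, 1, 7, 7, 10, 10, 10, 1]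
def rw4164 : List ℕ := [8, 8, 4, 0, 8, 3, 9, 5, 6, 2, 7, 4, 8, 2, 9, 1, 5, 9, 9, 0, 11, 11, 11, 6, 6, 0, 11, 3, 10, 1, 7, 7, 10, 10, 10, 1]
def rw4165 : List ℕ := [8, 2, 4, 3, 8, 7, 1, 2, 4, 10, 3, 5, 5, 11, 6]
def rw4166 : List ℕ := [8, 7, 0, 0, 0, 6, 6, 10, 2, 2, 1, 3, 1, 3, 11, 7, 9, 0]
def rw4167 : List ℕ := [8, 7, 9, 6, 6, 2, 1, 8, 7, 2, 7, 11, 0, 11, 1, 2, 5, 11, 6, 10, 4, 3, 0, 10, 1, 10, 6, 3, 6, 9, 0, 3, 7, 7]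
def rw4168 : List ℕ := [8, 5, 0, 2, 8, 1, 6, 11, 1, 7, 2, 11, 9, 11, 10, 10, 8, 10, 3, 6, 0, 10, 7, 0, 9, 3, 1, 4, 9, 6, 2, 11, 3, 7]
def rw4169 : List ℕ := [8, 10, 4, 3, 0, 10, 1, 10, 11, 11, 0, 11, 1, 2, 5, 11, 9, 6, 6, 2, 1, 8, 7, 2, 7, 10, 6, 3, 6, 9, 0, 3, 7, 7]
def rw4170 : List ℕ := [8, 2, 2, 9, 5, 5, 8, 10, 0, 5, 2, 1, 4, 0, 11, 1, 9, 1]
def rw4171 : List ℕ := [8, 3, 8, 7, 10, 9, 7, 4, 1, 8, 6, 0, 5, 1, 1, 0, 4, 1, 7, 9, 0, 5, 6, 8, 11, 6, 9, 2, 9, 11, 0, 10]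
def rw4172 : List ℕ := [8, 11, 6, 9, 2, 9, 11, 5, 10, 8, 3, 8, 7, 10, 9, 7, 4, 1, 8, 6, 0, 5, 1, 4, 0, 4, 1, 7, 9, 0, 5, 6]
def rw4173 : List ℕ := [8, 11, 6, 9, 2, 9, 11, 11, 10, 8, 3, 8, 7, 10, 9, 7, 4, 1, 8, 6, 0, 5, 1, 10, 0, 4, 1, 7, 9, 0, 5, 6]
def rw4174 : List ℕ := [8, 3, 8, 7, 10, 9, 7, 4, 1, 8, 6, 0, 5, 1, 11, 0, 4, 1, 7, 9, 0, 5, 6, 8, 11, 6, 9, 2, 9, 11, 10, 10]
def rw4175 : List ℕ := [8, 1, 6, 10, 7, 0, 9, 3, 1, 4, 9, 6, 2, 10, 8, 10, 3, 6, 0, 10, 11, 11, 1, 7, 2, 11, 9, 11, 3, 7, 8, 5, 0, 2]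
def rw4176 : List ℕ := [8, 10, 4, 3, 0, 10, 1, 10, 1, 11, 0, 11, 1, 2, 5, 11, 9, 6, 6, 2, 1, 8, 7, 2, 7, 0, 6, 3, 6, 9, 0, 3, 7, 7]
def rw4177 : List ℕ := [8, 3, 8, 5, 1, 2, 8, 4, 2, 8, 2, 9, 3, 5, 9, 3, 0, 4, 9, 2, 9, 11, 5, 3, 7, 10, 1, 11, 3, 10, 0, 11, 6, 2, 4, 10]
def rw4178 : List ℕ := [8, 7, 0, 0, 0, 6, 6, 10, 2, 2, 1, 1, 3, 1, 11, 7, 9, 0]
def rw4179 : List ℕ := [8, 11, 6, 9, 2, 9, 11, 7, 10, 8, 3, 8, 7, 10, 9, 7, 4, 1, 8, 6, 0, 5, 1, 6, 0, 4, 1, 7, 9, 0, 5, 6]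
def rw4180 : List ℕ := [8, 10, 4, 3, 0, 10, 1, 10, 10, 11, 0, 11, 1, 2, 5, 11, 9, 6, 6, 2, 1, 8, 7, 2, 7, 11, 6, 3, 6, 9, 0, 3, 7, 7]
def rw4181 : List ℕ := [8, 7, 0, 0, 0, 6, 6, 10, 3, 3, 3, 3, 0, 11, 7, 9, 0]
def rw4182 : List ℕ := [8, 7, 1, 2, 4, 10, 1, 5, 0, 4, 0, 5, 11, 6, 8, 2, 4, 3]
def rw4183 : List ℕ := [8, 7, 10, 11, 11, 6, 9, 2, 9, 11, 0, 4, 1, 7, 9, 0, 5, 6, 8, 10, 9, 7, 4, 1, 8, 6, 0, 5, 1, 10, 8, 3]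
def rw4184 : List ℕ := [8, 6, 1, 9, 3, 8, 3, 10, 4, 4, 2, 4, 4, 2, 11, 0, 6, 4]
def rw4185 : List ℕ := [8, 7, 10, 7, 11, 6, 9, 2, 9, 11, 0, 4, 1, 7, 9, 0, 5, 6, 8, 6, 9, 7, 4, 1, 8, 6, 0, 5, 1, 10, 8, 3]
def rw4186 : List ℕ := [8, 3, 8, 5, 1, 2, 8, 4, 2, 8, 6, 9, 3, 5, 9, 3, 0, 4, 9, 2, 9, 11, 5, 3, 7, 10, 1, 11, 7, 10, 0, 11, 6, 2, 4, 10]
def rw4187 : List ℕ := [8, 7, 0, 0, 0, 6, 6, 10, 0, 5, 5, 1, 3, 4, 11, 7, 9, 0]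
def rw4188 : List ℕ := [8, 5, 0, 2, 8, 1, 6, 8, 7, 0, 9, 3, 1, 4, 9, 6, 2, 10, 8, 10, 3, 6, 0, 10, 9, 11, 1, 7, 2, 11, 9, 11, 3, 7]
def rw4189 : List ℕ := [8, 6, 9, 6, 6, 2, 1, 8, 7, 2, 7, 11, 0, 11, 1, 2, 5, 11, 7, 10, 4, 3, 0, 10, 1, 10, 6, 3, 6, 9, 0, 3, 7, 7]
def rw4190 : List ℕ := [8, 11, 6, 9, 2, 9, 11, 10, 10, 8, 3, 8, 7, 10, 9, 7, 4, 1, 8, 6, 0, 5, 1, 11, 0, 4, 1, 7, 9, 0, 5, 6]
def rw4191 : List ℕ := [8, 3, 8, 5, 1, 2, 8, 4, 2, 8, 1, 9, 3, 5, 9, 3, 0, 4, 9, 2, 9, 11, 5, 3, 7, 10, 1, 11, 0, 10, 0, 11, 6, 2, 4, 10]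
def rw4192 : List ℕ := [8, 6, 0, 5, 1, 0, 0, 4, 1, 7, 9, 0, 5, 6, 8, 11, 6, 9, 2, 9, 11, 1, 10, 8, 3, 8, 7, 10, 9, 7, 4, 1]
def rw4193 : List ℕ := [8, 6, 3, 5, 5, 0, 8, 10, 7, 3, 7, 5, 7, 0, 11, 1, 3]
def rw4194 : List ℕ := [8, 2, 4, 3, 8, 7, 1, 2, 4, 10, 2, 4, 4, 2, 2, 11, 6]
def rw4195 : List ℕ := [8, 6, 1, 9, 3, 8, 3, 10, 4, 4, 3, 5, 5, 3, 11, 0, 6, 4]
def rw4196 : List ℕ := [8, 10, 4, 3, 0, 10, 1, 10, 2, 11, 0, 11, 1, 2, 5, 11, 9, 6, 6, 2, 1, 8, 7, 2, 7, 3, 6, 3, 6, 9, 0, 3, 7, 7]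
def rw4197 : List ℕ := [8, 6, 0, 5, 1, 10, 8, 3, 8, 7, 10, 1, 11, 6, 9, 2, 9, 11, 0, 4, 1, 7, 9, 0, 5, 6, 8, 0, 9, 7, 4, 1]
def rw4198 : List ℕ := [8, 3, 8, 7, 10, 0, 11, 6, 9, 2, 9, 11, 0, 4, 1, 7, 9, 0, 5, 6, 8, 1, 9, 7, 4, 1, 8, 6, 0, 5, 1, 10]
def rw4199 : List ℕ := [8, 7, 10, 9, 7, 4, 1, 8, 6, 0, 5, 1, 9, 0, 4, 1, 7, 9, 0, 5, 6, 8, 11, 6, 9, 2, 9, 11, 8, 10, 8, 3]
def rw4200 : List ℕ := [8, 3, 9, 5, 6, 2, 7, 4, 8, 2, 9, 1, 5, 9, 9, 0, 11, 11, 11, 6, 6, 0, 11, 3, 10, 1, 7, 7, 10, 10, 10, 1, 8, 8, 4, 0]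
def rw4201 : List ℕ := [8, 4, 2, 8, 5, 9, 3, 5, 9, 3, 0, 4, 9, 2, 9, 11, 5, 3, 7, 10, 1, 11, 4, 10, 0, 11, 6, 2, 4, 10, 8, 3, 8, 5, 1, 2]
def rw4202 : List ℕ := [8, 5, 1, 2, 8, 4, 2, 8, 7, 9, 3, 5, 9, 3, 0, 4, 9, 2, 9, 11, 5, 3, 7, 10, 1, 11, 6, 10, 0, 11, 6, 2, 4, 10, 8, 3]
def rw4203 : List ℕ := [8, 10, 4, 3, 0, 10, 1, 10, 3, 11, 0, 11, 1, 2, 5, 11, 9, 6, 6, 2, 1, 8, 7, 2, 7, 2, 6, 3, 6, 9, 0, 3, 7, 7]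
def rw4204 : List ℕ := [8, 6, 10, 2, 1, 1, 3, 1, 3, 11, 7, 7, 1, 1, 1, 6, 9, 1]
def rw4205 : List ℕ := [8, 8, 4, 0, 8, 3, 9, 5, 6, 6, 7, 4, 8, 2, 9, 1, 5, 9, 9, 0, 11, 11, 11, 6, 6, 0, 11, 7, 10, 1, 7, 7, 10, 10, 10, 1]
def rw4206 : List ℕ := [8, 7, 10, 5, 11, 6, 9, 2, 9, 11, 0, 4, 1, 7, 9, 0, 5, 6, 8, 4, 9, 7, 4, 1, 8, 6, 0, 5, 1, 10, 8, 3]
def rw4207 : List ℕ := [8, 5, 1, 2, 8, 4, 2, 8, 8, 9, 3, 5, 9, 3, 0, 4, 9, 2, 9, 11, 5, 3, 7, 10, 1, 11, 9, 10, 0, 11, 6, 2, 4, 10, 8, 3]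
def rw4208 : List ℕ := [8, 0, 2, 0, 7, 5, 8, 1, 1, 10, 5, 8, 7, 5, 6, 2, 11, 7]
def rw4209 : List ℕ := [8, 7, 2, 7, 8, 6, 3, 6, 9, 0, 3, 7, 7, 8, 10, 4, 3, 0, 10, 1, 10, 9, 11, 0, 11, 1, 2, 5, 11, 9, 6, 6, 2, 1]
def rw4210 : List ℕ := [8, 7, 10, 9, 7, 4, 1, 8, 6, 0, 5, 1, 5, 0, 4, 1, 7, 9, 0, 5, 6, 8, 11, 6, 9, 2, 9, 11, 4, 10, 8, 3]
def rw4211 : List ℕ := [8, 0, 7, 9, 5, 7, 1, 10, 3, 4, 4, 2, 4, 4, 11, 2, 9, 2]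
def rw4212 : List ℕ := [8, 3, 8, 7, 10, 4, 11, 6, 9, 2, 9, 11, 0, 4, 1, 7, 9, 0, 5, 6, 8, 5, 9, 7, 4, 1, 8, 6, 0, 5, 1, 10]
def rw4213 : List ℕ := [8, 5, 0, 2, 8, 1, 6, 2, 7, 0, 9, 3, 1, 4, 9, 6, 2, 10, 8, 10, 3, 6, 0, 10, 3, 11, 1, 7, 2, 11, 9, 11, 3, 7]
def rw4214 : List ℕ := [8, 0, 3, 10, 4, 3, 4, 6, 2, 1, 11, 6, 8, 0, 6, 8, 0, 6]
def rw4215 : List ℕ := [8, 0, 7, 9, 5, 7, 1, 10, 3, 5, 5, 3, 5, 5, 11, 2, 9, 2]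
def rw4216 : List ℕ := [8, 2, 9, 1, 5, 9, 9, 0, 11, 11, 11, 6, 6, 0, 11, 8, 10, 1, 7, 7, 10, 10, 10, 1, 8, 8, 4, 0, 8, 3, 9, 5, 6, 9, 7, 4]
def rw4217 : List ℕ := [8, 10, 4, 3, 0, 10, 1, 10, 6, 11, 0, 11, 1, 2, 5, 11, 9, 6, 6, 2, 1, 8, 7, 2, 7, 7, 6, 3, 6, 9, 0, 3, 7, 7]
def rw4218 : List ℕ := [8, 7, 2, 7, 11, 0, 11, 1, 2, 5, 11, 11, 10, 4, 3, 0, 10, 1, 10, 6, 3, 6, 9, 0, 3, 7, 7, 8, 10, 9, 6, 6, 2, 1]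
def rw4219 : List ℕ := [8, 5, 1, 2, 8, 4, 2, 8, 11, 9, 3, 5, 9, 3, 0, 4, 9, 2, 9, 11, 5, 3, 7, 10, 1, 11, 10, 10, 0, 11, 6, 2, 4, 10, 8, 3]
def rw4220 : List ℕ := [8, 7, 0, 0, 0, 6, 6, 10, 4, 3, 3, 3, 4, 0, 11, 7, 9, 0]
def rw4221 : List ℕ := [8, 5, 9, 6, 6, 2, 1, 8, 7, 2, 7, 11, 0, 11, 1, 2, 5, 11, 4, 10, 4, 3, 0, 10, 1, 10, 6, 3, 6, 9, 0, 3, 7, 7]
def rw4222 : List ℕ := [8, 0, 7, 9, 5, 7, 1, 10, 5, 5, 3, 4, 4, 4, 11, 2, 9, 2]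
def rw4223 : List ℕ := [8, 10, 3, 6, 0, 10, 7, 0, 9, 3, 1, 4, 9, 6, 2, 11, 3, 7, 8, 5, 0, 2, 8, 1, 6, 11, 1, 7, 2, 11, 9, 11, 10, 10]
def rw4224 : List ℕ := [8, 6, 3, 5, 5, 0, 8, 10, 7, 3, 6, 4, 6, 0, 11, 1, 3]
def rw4225 : List ℕ := [8, 6, 0, 5, 1, 10, 8, 3, 8, 7, 10, 7, 11, 6, 9, 2, 9, 11, 0, 4, 1, 7, 9, 0, 5, 6, 8, 6, 9, 7, 4, 1]
def rw4226 : List ℕ := [8, 3, 8, 7, 10, 9, 7, 4, 1, 8, 6, 0, 5, 1, 3, 0, 4, 1, 7, 9, 0, 5, 6, 8, 11, 6, 9, 2, 9, 11, 2, 10]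
def rw4227 : List ℕ := [8, 4, 2, 8, 6, 9, 3, 5, 9, 3, 0, 4, 9, 2, 9, 11, 5, 3, 7, 10, 1, 11, 7, 10, 0, 11, 6, 2, 4, 10, 8, 3, 8, 5, 1, 2]
def rw4228 : List ℕ := [8, 3, 8, 7, 10, 9, 7, 4, 1, 8, 6, 0, 5, 1, 0, 0, 4, 1, 7, 9, 0, 5, 6, 8, 11, 6, 9, 2, 9, 11, 1, 10]
def rw4229 : List ℕ := [8, 0, 7, 9, 5, 7, 1, 10, 2, 2, 5, 5, 3, 5, 11, 2, 9, 2]
def rw4230 : List ℕ := [8, 6, 0, 5, 1, 10, 8, 3, 8, 7, 10, 5, 11, 6, 9, 2, 9, 11, 0, 4, 1, 7, 9, 0, 5, 6, 8, 4, 9, 7, 4, 1]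
def rw4231 : List ℕ := [8, 7, 10, 9, 7, 4, 1, 8, 6, 0, 5, 1, 6, 0, 4, 1, 7, 9, 0, 5, 6, 8, 11, 6, 9, 2, 9, 11, 7, 10, 8, 3]
def rw4232 : List ℕ := [8, 4, 2, 8, 1, 9, 3, 5, 9, 3, 0, 4, 9, 2, 9, 11, 5, 3, 7, 10, 1, 11, 0, 10, 0, 11, 6, 2, 4, 10, 8, 3, 8, 5, 1, 2]
def rw4233 : List ℕ := [8, 6, 10, 2, 1, 1, 1, 3, 1, 11, 7, 7, 1, 1, 1, 6, 9, 1]
def rw4234 : List ℕ := [8, 7, 2, 7, 11, 0, 11, 1, 2, 5, 11, 6, 10, 4, 3, 0, 10, 1, 10, 6, 3, 6, 9, 0, 3, 7, 7, 8, 7, 9, 6, 6, 2, 1]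
def rw4235 : List ℕ := [8, 1, 6, 8, 7, 0, 9, 3, 1, 4, 9, 6, 2, 10, 8, 10, 3, 6, 0, 10, 9, 11, 1, 7, 2, 11, 9, 11, 3, 7, 8, 5, 0, 2]
def rw4236 : List ℕ := [8, 4, 2, 8, 9, 9, 3, 5, 9, 3, 0, 4, 9, 2, 9, 11, 5, 3, 7, 10, 1, 11, 8, 10, 0, 11, 6, 2, 4, 10, 8, 3, 8, 5, 1, 2]
def rw4237 : List ℕ := [8, 0, 3, 10, 2, 5, 2, 6, 2, 1, 11, 6, 8, 0, 6, 8, 0, 6]
def rw4238 : List ℕ := [8, 3, 8, 5, 1, 2, 8, 4, 2, 8, 11, 9, 3, 5, 9, 3, 0, 4, 9, 2, 9, 11, 5, 3, 7, 10, 1, 11, 10, 10, 0, 11, 6, 2, 4, 10]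
def rw4239 : List ℕ := [8, 10, 3, 6, 0, 10, 7, 0, 9, 3, 1, 4, 9, 6, 2, 8, 3, 7, 8, 5, 0, 2, 8, 1, 6, 11, 1, 7, 2, 11, 9, 11, 9, 10]
def rw4240 : List ℕ := [8, 3, 3, 9, 0, 8, 0, 10, 5, 5, 1, 4, 1, 4, 11, 9, 4, 4]
def rw4241 : List ℕ := [8, 1, 6, 11, 7, 0, 9, 3, 1, 4, 9, 6, 2, 10, 8, 10, 3, 6, 0, 10, 10, 11, 1, 7, 2, 11, 9, 11, 3, 7, 8, 5, 0, 2]
def rw4242 : List ℕ := [8, 2, 4, 3, 8, 7, 1, 2, 4, 10, 7, 4, 2, 5, 6, 6, 11, 6]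
def rw4243 : List ℕ := [8, 0, 6, 8, 0, 3, 10, 4, 3, 4, 6, 2, 1, 11, 6, 8, 0, 6]
def rw4244 : List ℕ := [8, 11, 6, 9, 2, 9, 11, 8, 10, 8, 3, 8, 7, 10, 9, 7, 4, 1, 8, 6, 0, 5, 1, 9, 0, 4, 1, 7, 9, 0, 5, 6]
def rw4245 : List ℕ := [8, 7, 2, 7, 2, 6, 3, 6, 9, 0, 3, 7, 7, 8, 10, 4, 3, 0, 10, 1, 10, 3, 11, 0, 11, 1, 2, 5, 11, 9, 6, 6, 2, 1]
def rw4246 : List ℕ := [8, 7, 0, 0, 0, 6, 6, 10, 1, 3, 3, 1, 2, 0, 11, 7, 9, 0]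
def rw4247 : List ℕ := [8, 10, 7, 3, 4, 6, 4, 0, 11, 1, 3, 8, 6, 3, 5, 5, 0]
def rw4248 : List ℕ := [8, 7, 1, 2, 4, 10, 0, 3, 4, 1, 1, 5, 11, 6, 8, 2, 4, 3]
def rw4249 : List ℕ := [8, 5, 0, 2, 8, 1, 6, 11, 1, 7, 2, 11, 9, 11, 5, 10, 8, 10, 3, 6, 0, 10, 7, 0, 9, 3, 1, 4, 9, 6, 2, 4, 3, 7]
def rw4250 : List ℕ := [8, 1, 6, 2, 7, 0, 9, 3, 1, 4, 9, 6, 2, 10, 8, 10, 3, 6, 0, 10, 3, 11, 1, 7, 2, 11, 9, 11, 3, 7, 8, 5, 0, 2]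
def rw4251 : List ℕ := [8, 0, 3, 10, 6, 6, 3, 6, 5, 1, 11, 6, 8, 0, 6, 8, 0, 6]
def rw4252 : List ℕ := [8, 10, 4, 3, 0, 10, 1, 10, 4, 11, 0, 11, 1, 2, 5, 11, 9, 6, 6, 2, 1, 8, 7, 2, 7, 5, 6, 3, 6, 9, 0, 3, 7, 7]
def rw4253 : List ℕ := [8, 2, 4, 3, 8, 7, 1, 2, 4, 10, 3, 4, 4, 4, 4, 4, 11, 6]
def rw4254 : List ℕ := [8, 3, 8, 7, 10, 9, 7, 4, 1, 8, 6, 0, 5, 1, 6, 0, 4, 1, 7, 9, 0, 5, 6, 8, 11, 6, 9, 2, 9, 11, 7, 10]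
def rw4255 : List ℕ := [8, 6, 0, 5, 1, 6, 0, 4, 1, 7, 9, 0, 5, 6, 8, 11, 6, 9, 2, 9, 11, 7, 10, 8, 3, 8, 7, 10, 9, 7, 4, 1]
def rw4256 : List ℕ := [8, 5, 1, 2, 8, 4, 2, 8, 1, 9, 3, 5, 9, 3, 0, 4, 9, 2, 9, 11, 5, 3, 7, 10, 1, 11, 0, 10, 0, 11, 6, 2, 4, 10, 8, 3]
def rw4257 : List ℕ := [8, 7, 10, 2, 11, 6, 9, 2, 9, 11, 0, 4, 1, 7, 9, 0, 5, 6, 8, 3, 9, 7, 4, 1, 8, 6, 0, 5, 1, 10, 8, 3]
def rw4258 : List ℕ := [8, 7, 10, 9, 7, 4, 1, 8, 6, 0, 5, 1, 3, 0, 4, 1, 7, 9, 0, 5, 6, 8, 11, 6, 9, 2, 9, 11, 2, 10, 8, 3]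
def rw4259 : List ℕ := [8, 3, 10, 5, 5, 3, 5, 5, 2, 11, 0, 6, 4, 8, 6, 1, 9, 3]
def rw4260 : List ℕ := [8, 6, 1, 9, 3, 8, 3, 10, 7, 2, 5, 3, 7, 3, 11, 0, 6, 4]
def rw4261 : List ℕ := [8, 11, 9, 3, 5, 9, 3, 0, 4, 9, 2, 9, 11, 5, 3, 7, 10, 1, 11, 10, 10, 0, 11, 6, 2, 4, 10, 8, 3, 8, 5, 1, 2, 8, 4, 2]
def rw4262 : List ℕ := [8, 3, 8, 5, 1, 2, 8, 4, 2, 8, 10, 9, 3, 5, 9, 3, 0, 4, 9, 2, 9, 11, 5, 3, 7, 10, 1, 11, 11, 10, 0, 11, 6, 2, 4, 10]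
def rw4263 : List ℕ := [8, 2, 2, 9, 5, 5, 8, 10, 1, 4, 1, 4, 4, 4, 11, 1, 9, 1]
def rw4264 : List ℕ := [8, 5, 1, 2, 8, 4, 2, 8, 5, 9, 3, 5, 9, 3, 0, 4, 9, 2, 9, 11, 5, 3, 7, 10, 1, 11, 4, 10, 0, 11, 6, 2, 4, 10, 8, 3]
def rw4265 : List ℕ := [8, 5, 0, 2, 8, 1, 6, 11, 1, 7, 2, 11, 9, 11, 4, 10, 8, 10, 3, 6, 0, 10, 7, 0, 9, 3, 1, 4, 9, 6, 2, 5, 3, 7]
def rw4266 : List ℕ := [8, 8, 4, 0, 8, 3, 9, 5, 6, 0, 7, 4, 8, 2, 9, 1, 5, 9, 9, 0, 11, 11, 11, 6, 6, 0, 11, 1, 10, 1, 7, 7, 10, 10, 10, 1]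
def rw4267 : List ℕ := [8, 1, 6, 11, 1, 7, 2, 11, 9, 11, 7, 10, 8, 10, 3, 6, 0, 10, 7, 0, 9, 3, 1, 4, 9, 6, 2, 6, 3, 7, 8, 5, 0, 2]
def rw4268 : List ℕ := [8, 6, 10, 2, 5, 0, 0, 5, 11, 7, 7, 1, 1, 1, 6, 9, 1]
def rw4269 : List ℕ := [8, 10, 4, 3, 0, 10, 1, 10, 9, 11, 0, 11, 1, 2, 5, 11, 9, 6, 6, 2, 1, 8, 7, 2, 7, 8, 6, 3, 6, 9, 0, 3, 7, 7]
def rw4270 : List ℕ := [8, 2, 2, 9, 5, 5, 8, 10, 5, 0, 5, 0, 4, 4, 11, 1, 9, 1]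
def rw4271 : List ℕ := [8, 4, 9, 6, 6, 2, 1, 8, 7, 2, 7, 11, 0, 11, 1, 2, 5, 11, 5, 10, 4, 3, 0, 10, 1, 10, 6, 3, 6, 9, 0, 3, 7, 7]
def rw4272 : List ℕ := [8, 10, 4, 3, 0, 10, 1, 10, 7, 11, 0, 11, 1, 2, 5, 11, 9, 6, 6, 2, 1, 8, 7, 2, 7, 6, 6, 3, 6, 9, 0, 3, 7, 7]
def rw4273 : List ℕ := [8, 6, 0, 5, 1, 10, 8, 3, 8, 7, 10, 3, 11, 6, 9, 2, 9, 11, 0, 4, 1, 7, 9, 0, 5, 6, 8, 2, 9, 7, 4, 1]
def rw4274 : List ℕ := [8, 6, 1, 9, 3, 8, 3, 10, 5, 5, 5, 2, 4, 4, 11, 0, 6, 4]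
def rw4275 : List ℕ := [8, 3, 3, 9, 0, 8, 0, 10, 5, 5, 5, 0, 5, 0, 11, 9, 4, 4]
def rw4276 : List ℕ := [8, 4, 0, 8, 3, 9, 5, 6, 2, 7, 4, 8, 2, 9, 1, 5, 9, 9, 0, 11, 11, 11, 6, 6, 0, 11, 3, 10, 1, 7, 7, 10, 10, 10, 1, 8]
def rw4277 : List ℕ := [8, 4, 0, 8, 3, 9, 5, 6, 11, 7, 4, 8, 2, 9, 1, 5, 9, 9, 0, 11, 11, 11, 6, 6, 0, 11, 10, 10, 1, 7, 7, 10, 10, 10, 1, 8]
def rw4278 : List ℕ := [8, 1, 1, 10, 5, 8, 7, 5, 6, 2, 11, 7, 8, 0, 2, 0, 7, 5]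
def rw4279 : List ℕ := [8, 5, 0, 2, 8, 1, 6, 7, 7, 0, 9, 3, 1, 4, 9, 6, 2, 10, 8, 10, 3, 6, 0, 10, 6, 11, 1, 7, 2, 11, 9, 11, 3, 7]
def rw4280 : List ℕ := [8, 3, 8, 7, 10, 9, 7, 4, 1, 8, 6, 0, 5, 1, 2, 0, 4, 1, 7, 9, 0, 5, 6, 8, 11, 6, 9, 2, 9, 11, 3, 10]
def rw4281 : List ℕ := [8, 7, 2, 7, 11, 0, 11, 1, 2, 5, 11, 7, 10, 4, 3, 0, 10, 1, 10, 6, 3, 6, 9, 0, 3, 7, 7, 8, 6, 9, 6, 6, 2, 1]
def rw4282 : List ℕ := [8, 10, 3, 6, 0, 10, 7, 0, 9, 3, 1, 4, 9, 6, 2, 10, 3, 7, 8, 5, 0, 2, 8, 1, 6, 11, 1, 7, 2, 11, 9, 11, 11, 10]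
def rw4283 : List ℕ := [8, 1, 6, 11, 1, 7, 2, 11, 9, 11, 6, 10, 8, 10, 3, 6, 0, 10, 7, 0, 9, 3, 1, 4, 9, 6, 2, 7, 3, 7, 8, 5, 0, 2]
def rw4284 : List ℕ := [8, 7, 0, 0, 0, 6, 6, 10, 1, 1, 2, 1, 2, 1, 11, 7, 9, 0]
def rw4285 : List ℕ := [8, 2, 9, 1, 5, 9, 9, 0, 11, 11, 11, 6, 6, 0, 11, 2, 10, 1, 7, 7, 10, 10, 10, 1, 8, 8, 4, 0, 8, 3, 9, 5, 6, 3, 7, 4]
def rw4286 : List ℕ := [8, 10, 4, 3, 0, 10, 1, 10, 0, 11, 0, 11, 1, 2, 5, 11, 9, 6, 6, 2, 1, 8, 7, 2, 7, 1, 6, 3, 6, 9, 0, 3, 7, 7]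
def rw4287 : List ℕ := [8, 6, 1, 9, 3, 8, 3, 10, 5, 5, 3, 5, 5, 2, 11, 0, 6, 4]
def rw4288 : List ℕ := [8, 1, 6, 5, 7, 0, 9, 3, 1, 4, 9, 6, 2, 10, 8, 10, 3, 6, 0, 10, 4, 11, 1, 7, 2, 11, 9, 11, 3, 7, 8, 5, 0, 2]
def rw4289 : List ℕ := [8, 5, 0, 2, 8, 1, 6, 4, 7, 0, 9, 3, 1, 4, 9, 6, 2, 10, 8, 10, 3, 6, 0, 10, 5, 11, 1, 7, 2, 11, 9, 11, 3, 7]
def rw4290 : List ℕ := [8, 7, 2, 7, 11, 0, 11, 1, 2, 5, 11, 8, 10, 4, 3, 0, 10, 1, 10, 6, 3, 6, 9, 0, 3, 7, 7, 8, 9, 9, 6, 6, 2, 1]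
def rw4291 : List ℕ := [8, 5, 0, 2, 8, 1, 6, 6, 7, 0, 9, 3, 1, 4, 9, 6, 2, 10, 8, 10, 3, 6, 0, 10, 7, 11, 1, 7, 2, 11, 9, 11, 3, 7]
def rw4292 : List ℕ := [8, 7, 1, 2, 4, 10, 3, 6, 4, 4, 6, 11, 6, 8, 2, 4, 3]
def rw4293 : List ℕ := [8, 3, 8, 5, 1, 2, 8, 4, 2, 8, 5, 9, 3, 5, 9, 3, 0, 4, 9, 2, 9, 11, 5, 3, 7, 10, 1, 11, 4, 10, 0, 11, 6, 2, 4, 10]
def rw4294 : List ℕ := [8, 3, 8, 7, 10, 9, 7, 4, 1, 8, 6, 0, 5, 1, 4, 0, 4, 1, 7, 9, 0, 5, 6, 8, 11, 6, 9, 2, 9, 11, 5, 10]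
def rw4295 : List ℕ := [8, 7, 2, 7, 9, 6, 3, 6, 9, 0, 3, 7, 7, 8, 10, 4, 3, 0, 10, 1, 10, 8, 11, 0, 11, 1, 2, 5, 11, 9, 6, 6, 2, 1]
def rw4296 : List ℕ := [8, 6, 1, 9, 3, 8, 3, 10, 3, 4, 1, 5, 3, 1, 11, 0, 6, 4]
def rw4297 : List ℕ := [8, 5, 1, 2, 8, 4, 2, 8, 0, 9, 3, 5, 9, 3, 0, 4, 9, 2, 9, 11, 5, 3, 7, 10, 1, 11, 1, 10, 0, 11, 6, 2, 4, 10, 8, 3]
def rw4298 : List ℕ := [8, 6, 0, 5, 1, 10, 8, 3, 8, 7, 10, 8, 11, 6, 9, 2, 9, 11, 0, 4, 1, 7, 9, 0, 5, 6, 8, 9, 9, 7, 4, 1]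
def rw4299 : List ℕ := [8, 7, 10, 4, 11, 6, 9, 2, 9, 11, 0, 4, 1, 7, 9, 0, 5, 6, 8, 5, 9, 7, 4, 1, 8, 6, 0, 5, 1, 10, 8, 3]
def rw4300 : List ℕ := [8, 5, 0, 2, 8, 1, 6, 11, 1, 7, 2, 11, 9, 11, 11, 10, 8, 10, 3, 6, 0, 10, 7, 0, 9, 3, 1, 4, 9, 6, 2, 10, 3, 7]
def rw4301 : List ℕ := [8, 0, 7, 9, 5, 7, 1, 10, 3, 3, 5, 5, 3, 11, 2, 9, 2]
def rw4302 : List ℕ := [8, 6, 0, 5, 1, 10, 8, 3, 8, 7, 10, 6, 11, 6, 9, 2, 9, 11, 0, 4, 1, 7, 9, 0, 5, 6, 8, 7, 9, 7, 4, 1]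
def rw4303 : List ℕ := [8, 6, 10, 2, 2, 0, 3, 11, 7, 7, 1, 1, 1, 6, 9, 1]
def rw4304 : List ℕ := [8, 6, 1, 9, 3, 8, 3, 10, 4, 2, 4, 4, 3, 3, 11, 0, 6, 4]
def rw4305 : List ℕ := [8, 7, 2, 7, 11, 0, 11, 1, 2, 5, 11, 4, 10, 4, 3, 0, 10, 1, 10, 6, 3, 6, 9, 0, 3, 7, 7, 8, 5, 9, 6, 6, 2, 1]
def rw4306 : List ℕ := [8, 6, 0, 5, 1, 10, 8, 3, 8, 7, 10, 10, 11, 6, 9, 2, 9, 11, 0, 4, 1, 7, 9, 0, 5, 6, 8, 11, 9, 7, 4, 1]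
def rw4307 : List ℕ := [8, 7, 10, 9, 7, 4, 1, 8, 6, 0, 5, 1, 0, 0, 4, 1, 7, 9, 0, 5, 6, 8, 11, 6, 9, 2, 9, 11, 1, 10, 8, 3]
def rw4308 : List ℕ := [8, 6, 0, 5, 1, 10, 8, 3, 8, 7, 10, 2, 11, 6, 9, 2, 9, 11, 0, 4, 1, 7, 9, 0, 5, 6, 8, 3, 9, 7, 4, 1]
def rw4309 : List ℕ := [8, 1, 6, 11, 1, 7, 2, 11, 9, 11, 9, 10, 8, 10, 3, 6, 0, 10, 7, 0, 9, 3, 1, 4, 9, 6, 2, 8, 3, 7, 8, 5, 0, 2]
def rw4310 : List ℕ := [8, 4, 9, 7, 4, 1, 8, 6, 0, 5, 1, 10, 8, 3, 8, 7, 10, 5, 11, 6, 9, 2, 9, 11, 0, 4, 1, 7, 9, 0, 5, 6]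
def rw4311 : List ℕ := [8, 7, 0, 0, 0, 6, 6, 10, 3, 1, 3, 0, 0, 3, 11, 7, 9, 0]
def rw4312 : List ℕ := [8, 5, 1, 2, 8, 4, 2, 8, 6, 9, 3, 5, 9, 3, 0, 4, 9, 2, 9, 11, 5, 3, 7, 10, 1, 11, 7, 10, 0, 11, 6, 2, 4, 10, 8, 3]
def rw4313 : List ℕ := [8, 11, 6, 9, 2, 9, 11, 6, 10, 8, 3, 8, 7, 10, 9, 7, 4, 1, 8, 6, 0, 5, 1, 7, 0, 4, 1, 7, 9, 0, 5, 6]
def rw4314 : List ℕ := [8, 0, 7, 9, 5, 7, 1, 10, 2, 4, 4, 2, 5, 5, 11, 2, 9, 2]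
def rw4315 : List ℕ := [8, 2, 9, 3, 5, 9, 3, 0, 4, 9, 2, 9, 11, 5, 3, 7, 10, 1, 11, 3, 10, 0, 11, 6, 2, 4, 10, 8, 3, 8, 5, 1, 2, 8, 4, 2]
def rw4316 : List ℕ := [8, 1, 6, 11, 1, 7, 2, 11, 9, 11, 5, 10, 8, 10, 3, 6, 0, 10, 7, 0, 9, 3, 1, 4, 9, 6, 2, 4, 3, 7, 8, 5, 0, 2]
def rw4317 : List ℕ := [8, 3, 9, 3, 5, 9, 3, 0, 4, 9, 2, 9, 11, 5, 3, 7, 10, 1, 11, 2, 10, 0, 11, 6, 2, 4, 10, 8, 3, 8, 5, 1, 2, 8, 4, 2]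
def rw4318 : List ℕ := [8, 1, 6, 11, 1, 7, 2, 11, 9, 11, 2, 10, 8, 10, 3, 6, 0, 10, 7, 0, 9, 3, 1, 4, 9, 6, 2, 3, 3, 7, 8, 5, 0, 2]
def rw4319 : List ℕ := [8, 5, 0, 2, 8, 1, 6, 11, 1, 7, 2, 11, 9, 11, 9, 10, 8, 10, 3, 6, 0, 10, 7, 0, 9, 3, 1, 4, 9, 6, 2, 8, 3, 7]
def rw4320 : List ℕ := [8, 0, 7, 9, 5, 7, 1, 10, 2, 5, 5, 3, 4, 11, 2, 9, 2]
def rw4321 : List ℕ := [8, 4, 0, 8, 3, 9, 5, 6, 3, 7, 4, 8, 2, 9, 1, 5, 9, 9, 0, 11, 11, 11, 6, 6, 0, 11, 2, 10, 1, 7, 7, 10, 10, 10, 1, 8]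
def rw4322 : List ℕ := [8, 5, 1, 2, 8, 4, 2, 8, 4, 9, 3, 5, 9, 3, 0, 4, 9, 2, 9, 11, 5, 3, 7, 10, 1, 11, 5, 10, 0, 11, 6, 2, 4, 10, 8, 3]
def rw4323 : List ℕ := [8, 8, 4, 0, 8, 3, 9, 5, 6, 7, 7, 4, 8, 2, 9, 1, 5, 9, 9, 0, 11, 11, 11, 6, 6, 0, 11, 6, 10, 1, 7, 7, 10, 10, 10, 1]
def rw4324 : List ℕ := [8, 1, 6, 1, 7, 0, 9, 3, 1, 4, 9, 6, 2, 10, 8, 10, 3, 6, 0, 10, 0, 11, 1, 7, 2, 11, 9, 11, 3, 7, 8, 5, 0, 2]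
def rw4325 : List ℕ := [8, 1, 6, 9, 7, 0, 9, 3, 1, 4, 9, 6, 2, 10, 8, 10, 3, 6, 0, 10, 8, 11, 1, 7, 2, 11, 9, 11, 3, 7, 8, 5, 0, 2]
def rw4326 : List ℕ := [8, 4, 0, 8, 3, 9, 5, 6, 9, 7, 4, 8, 2, 9, 1, 5, 9, 9, 0, 11, 11, 11, 6, 6, 0, 11, 8, 10, 1, 7, 7, 10, 10, 10, 1, 8]
def rw4327 : List ℕ := [8, 4, 0, 8, 3, 9, 5, 6, 6, 7, 4, 8, 2, 9, 1, 5, 9, 9, 0, 11, 11, 11, 6, 6, 0, 11, 7, 10, 1, 7, 7, 10, 10, 10, 1, 8]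
def rw4328 : List ℕ := [8, 5, 1, 2, 8, 4, 2, 8, 9, 9, 3, 5, 9, 3, 0, 4, 9, 2, 9, 11, 5, 3, 7, 10, 1, 11, 8, 10, 0, 11, 6, 2, 4, 10, 8, 3]
def rw4329 : List ℕ := [8, 8, 9, 7, 4, 1, 8, 6, 0, 5, 1, 10, 8, 3, 8, 7, 10, 9, 11, 6, 9, 2, 9, 11, 0, 4, 1, 7, 9, 0, 5, 6]
def rw4330 : List ℕ := [8, 1, 6, 0, 7, 0, 9, 3, 1, 4, 9, 6, 2, 10, 8, 10, 3, 6, 0, 10, 1, 11, 1, 7, 2, 11, 9, 11, 3, 7, 8, 5, 0, 2]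
def rw4331 : List ℕ := [8, 3, 9, 5, 6, 4, 7, 4, 8, 2, 9, 1, 5, 9, 9, 0, 11, 11, 11, 6, 6, 0, 11, 5, 10, 1, 7, 7, 10, 10, 10, 1, 8, 8, 4, 0]
def rw4332 : List ℕ := [8, 4, 2, 8, 0, 9, 3, 5, 9, 3, 0, 4, 9, 2, 9, 11, 5, 3, 7, 10, 1, 11, 1, 10, 0, 11, 6, 2, 4, 10, 8, 3, 8, 5, 1, 2]
def rw4333 : List ℕ := [8, 4, 2, 8, 3, 9, 3, 5, 9, 3, 0, 4, 9, 2, 9, 11, 5, 3, 7, 10, 1, 11, 2, 10, 0, 11, 6, 2, 4, 10, 8, 3, 8, 5, 1, 2]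
def rw4334 : List ℕ := [8, 3, 8, 5, 1, 2, 8, 4, 2, 8, 3, 9, 3, 5, 9, 3, 0, 4, 9, 2, 9, 11, 5, 3, 7, 10, 1, 11, 2, 10, 0, 11, 6, 2, 4, 10]
def rw4335 : List ℕ := [8, 5, 1, 2, 8, 4, 2, 8, 3, 9, 3, 5, 9, 3, 0, 4, 9, 2, 9, 11, 5, 3, 7, 10, 1, 11, 2, 10, 0, 11, 6, 2, 4, 10, 8, 3]
def rw4336 : List ℕ := [8, 5, 0, 2, 8, 1, 6, 11, 1, 7, 2, 11, 9, 11, 1, 10, 8, 10, 3, 6, 0, 10, 7, 0, 9, 3, 1, 4, 9, 6, 2, 0, 3, 7]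
def rw4337 : List ℕ := [8, 3, 8, 5, 1, 2, 8, 4, 2, 8, 8, 9, 3, 5, 9, 3, 0, 4, 9, 2, 9, 11, 5, 3, 7, 10, 1, 11, 9, 10, 0, 11, 6, 2, 4, 10]
def rw4338 : List ℕ := [8, 1, 6, 11, 1, 7, 2, 11, 9, 11, 3, 10, 8, 10, 3, 6, 0, 10, 7, 0, 9, 3, 1, 4, 9, 6, 2, 2, 3, 7, 8, 5, 0, 2]
def rw4339 : List ℕ := [8, 3, 8, 5, 1, 2, 8, 4, 2, 8, 4, 9, 3, 5, 9, 3, 0, 4, 9, 2, 9, 11, 5, 3, 7, 10, 1, 11, 5, 10, 0, 11, 6, 2, 4, 10]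
def rw4340 : List ℕ := [8, 2, 9, 6, 6, 2, 1, 8, 7, 2, 7, 11, 0, 11, 1, 2, 5, 11, 3, 10, 4, 3, 0, 10, 1, 10, 6, 3, 6, 9, 0, 3, 7, 7]
def rw4341 : List ℕ := [8, 3, 8, 7, 10, 9, 7, 4, 1, 8, 6, 0, 5, 1, 10, 0, 4, 1, 7, 9, 0, 5, 6, 8, 11, 6, 9, 2, 9, 11, 11, 10]
def rw4342 : List ℕ := [8, 4, 0, 8, 3, 9, 5, 6, 0, 7, 4, 8, 2, 9, 1, 5, 9, 9, 0, 11, 11, 11, 6, 6, 0, 11, 1, 10, 1, 7, 7, 10, 10, 10, 1, 8]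
def rw4343 : List ℕ := [8, 3, 8, 5, 1, 2, 8, 4, 2, 8, 0, 9, 3, 5, 9, 3, 0, 4, 9, 2, 9, 11, 5, 3, 7, 10, 1, 11, 1, 10, 0, 11, 6, 2, 4, 10]
def rw4344 : List ℕ := [8, 3, 8, 5, 1, 2, 8, 4, 2, 8, 7, 9, 3, 5, 9, 3, 0, 4, 9, 2, 9, 11, 5, 3, 7, 10, 1, 11, 6, 10, 0, 11, 6, 2, 4, 10]
def rw4345 : List ℕ := [8, 2, 9, 1, 5, 9, 9, 0, 11, 11, 11, 6, 6, 0, 11, 7, 10, 1, 7, 7, 10, 10, 10, 1, 8, 8, 4, 0, 8, 3, 9, 5, 6, 6, 7, 4]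
def rw4346 : List ℕ := [8, 8, 9, 6, 6, 2, 1, 8, 7, 2, 7, 11, 0, 11, 1, 2, 5, 11, 9, 10, 4, 3, 0, 10, 1, 10, 6, 3, 6, 9, 0, 3, 7, 7]
def rw4347 : List ℕ := [9, 6, 9, 6, 9, 6, 9, 6]
def rw4348 : List ℕ := [9, 9, 5, 11, 8, 2, 8, 1, 2, 8, 7, 3, 4, 10, 1, 5, 2]
def rw4349 : List ℕ := [9, 7, 8, 6, 8, 7]
def rw4350 : List ℕ := [9, 9, 4, 4, 7, 7, 4, 9, 6, 6]
def rw4351 : List ℕ := [9, 6, 8, 6, 9, 7]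
def rw4352 : List ℕ := [9, 7, 9, 6, 8, 6]
def rw4353 : List ℕ := [9, 9, 9, 9, 9, 9, 9]
def rw4354 : List ℕ := [9, 4, 4, 7, 7, 4, 9, 6, 6, 9]
def rw4355 : List ℕ := [9, 9, 9, 9, 9, 9, 9]
def rw4356 : List ℕ := [9, 6, 0, 10, 8, 6, 1, 9, 4, 2, 9, 0, 6, 11, 1, 6, 9]
def rw4357 : List ℕ := [9, 4, 3, 5, 3, 8, 4, 3, 3, 6]
def rw4358 : List ℕ := [9, 2, 4, 2, 5, 8, 7, 2, 2, 5]
def rw4359 : List ℕ := [9, 9, 9, 0, 3, 1, 5, 9, 0, 3, 0]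
def rw4360 : List ℕ := [9, 6, 9, 6, 9, 6, 9, 6]
def rw4361 : List ℕ := [9, 6, 6, 9, 9, 4, 4, 7, 7, 4]
def rw4362 : List ℕ := [9, 9, 0, 3, 1, 5, 9, 0, 3, 0, 9]
def rw4363 : List ℕ := [9, 9, 9, 9, 9, 9, 9]
def rw4364 : List ℕ := [9, 6, 9, 6, 9, 6, 9, 6]
def rw4365 : List ℕ := [9, 4, 4, 9, 4, 4, 9, 4, 4]
def rw4366 : List ℕ := [9, 4, 4, 9, 4, 4, 9, 4, 4]
def rw4367 : List ℕ := [9, 0, 3, 0, 9, 9, 9, 0, 3, 1, 5]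
def rw4368 : List ℕ := [9, 0, 3, 1, 5, 9, 0, 3, 0, 9, 9]
def rw4369 : List ℕ := [9, 9, 9, 9, 9, 9, 9]
def rw4370 : List ℕ := [9, 11, 3, 7, 8, 5, 0, 2, 8, 1, 6, 11, 7, 0, 9, 3, 1, 4, 9, 6, 2, 10, 8, 10, 3, 6, 0, 10, 10, 11, 1, 7, 2, 11]
def rw4371 : List ℕ := [9, 6, 0, 0, 6, 4, 9, 3, 9, 10, 4, 1, 1, 7, 7, 3, 11]
def rw4372 : List ℕ := [9, 6, 3, 9, 1, 6, 0, 9, 1, 6, 11, 6, 9, 4, 3, 7, 4, 10]
def rw4373 : List ℕ := [9, 0, 3, 7, 7, 8, 1, 9, 6, 6, 2, 1, 8, 7, 2, 7, 11, 0, 11, 1, 2, 5, 11, 0, 10, 4, 3, 0, 10, 1, 10, 6, 3, 6]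
def rw4374 : List ℕ := [9, 10, 8, 3, 1, 11, 11, 0, 2]
def rw4375 : List ℕ := [9, 11, 11, 10, 8, 10, 3, 6, 0, 10, 7, 0, 9, 3, 1, 4, 9, 6, 2, 10, 3, 7, 8, 5, 0, 2, 8, 1, 6, 11, 1, 7, 2, 11]
def rw4376 : List ℕ := [9, 6, 5, 1, 5, 8, 11, 3, 8, 6, 0, 7, 0, 2, 0, 9, 2, 10]
def rw4377 : List ℕ := [9, 11, 3, 7, 8, 5, 0, 2, 8, 1, 6, 3, 7, 0, 9, 3, 1, 4, 9, 6, 2, 10, 8, 10, 3, 6, 0, 10, 2, 11, 1, 7, 2, 11]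
def rw4378 : List ℕ := [9, 5, 6, 9, 2, 2, 10, 2, 4, 0, 3, 9, 4, 8, 2, 1, 11]
def rw4379 : List ℕ := [9, 10, 1, 9, 1, 6, 9, 9, 2, 6, 5, 9, 11, 4, 0, 7, 4, 0]
def rw4380 : List ℕ := [9, 6, 1, 2, 11, 4, 2, 8, 4, 3, 7, 10, 1, 5, 1, 9, 0, 7]
def rw4381 : List ℕ := [9, 3, 10, 3, 3, 9, 2, 6, 5, 11, 2, 7, 9, 1, 1, 3, 6, 0]
def rw4382 : List ℕ := [9, 10, 4, 7, 0, 7, 2, 2, 11, 4, 2, 6, 5, 2, 0, 8, 6, 1]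
def rw4383 : List ℕ := [9, 2, 9, 11, 11, 10, 8, 3, 8, 7, 10, 9, 7, 4, 1, 8, 6, 0, 5, 1, 10, 0, 4, 1, 7, 9, 0, 5, 6, 8, 11, 6]
def rw4384 : List ℕ := [9, 11, 3, 10, 8, 10, 3, 6, 0, 10, 7, 0, 9, 3, 1, 4, 9, 6, 2, 2, 3, 7, 8, 5, 0, 2, 8, 1, 6, 11, 1, 7, 2, 11]
def rw4385 : List ℕ := [9, 5, 11, 8, 2, 8, 1, 2, 8, 7, 3, 4, 10, 1, 5, 2, 9]
def rw4386 : List ℕ := [9, 4, 11, 0, 0, 9, 4, 6, 1, 3, 1, 9, 6, 10, 3, 7, 4, 6]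
def rw4387 : List ℕ := [9, 9, 9, 9, 9, 9, 9]
def rw4388 : List ℕ := [9, 1, 6, 11, 6, 9, 4, 3, 7, 4, 10, 9, 6, 3, 9, 1, 6, 0]
def rw4389 : List ℕ := [9, 1, 3, 9, 0, 6, 8, 10, 6, 2, 2, 6, 0, 5, 11, 9, 7, 0]
def rw4390 : List ℕ := [9, 4, 4, 3, 6, 3, 10, 4, 7, 3, 8, 0, 0, 9, 2, 6, 3, 11]
def rw4391 : List ℕ := [9, 1, 9, 5, 8, 0, 7, 10, 6, 0, 4, 3, 7, 11, 4, 7, 0]
def rw4392 : List ℕ := [9, 3, 9, 10, 4, 8, 8, 3, 4, 0, 11, 5, 2, 6, 9, 3, 0]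
def rw4393 : List ℕ := [9, 3, 6, 6, 1, 5, 5, 10, 6, 0, 5, 3, 3, 7, 11, 0, 4]
def rw4394 : List ℕ := [9, 2, 4, 7, 11, 2, 7, 9, 2, 0, 0, 6, 0, 9, 3, 10, 7, 4]
def rw4395 : List ℕ := [9, 11, 2, 10, 8, 10, 3, 6, 0, 10, 7, 0, 9, 3, 1, 4, 9, 6, 2, 3, 3, 7, 8, 5, 0, 2, 8, 1, 6, 11, 1, 7, 2, 11]
def rw4396 : List ℕ := [9, 3, 5, 1, 4, 2, 8, 2, 1, 11, 8, 6, 4, 2, 2, 10, 0]
def rw4397 : List ℕ := [9, 2, 2, 10, 2, 4, 0, 3, 9, 4, 8, 2, 1, 11, 9, 5, 6]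
def rw4398 : List ℕ := [9, 1, 3, 4, 7, 3, 5, 10, 3, 3, 6, 1, 6, 5, 11, 8, 0, 7]
def rw4399 : List ℕ := [9, 11, 0, 4, 1, 7, 9, 0, 5, 6, 8, 6, 9, 7, 4, 1, 8, 6, 0, 5, 1, 10, 8, 3, 8, 7, 10, 7, 11, 6, 9, 2]
def rw4400 : List ℕ := [9, 5, 6, 0, 7, 4, 8, 2, 9, 1, 5, 9, 9, 0, 11, 11, 11, 6, 6, 0, 11, 1, 10, 1, 7, 7, 10, 10, 10, 1, 8, 8, 4, 0, 8, 3]
def rw4401 : List ℕ := [9, 4, 3, 7, 4, 10, 9, 6, 3, 9, 1, 6, 0, 9, 1, 6, 11, 6]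
def rw4402 : List ℕ := [9, 0, 8, 7, 0, 0, 0, 6, 6, 10, 2, 1, 3, 3, 11, 7]
def rw4403 : List ℕ := [9, 4, 2, 9, 0, 6, 11, 1, 6, 9, 9, 6, 0, 10, 8, 6, 1]
def rw4404 : List ℕ := [9, 5, 6, 7, 7, 4, 8, 2, 9, 1, 5, 9, 9, 0, 11, 11, 11, 6, 6, 0, 11, 6, 10, 1, 7, 7, 10, 10, 10, 1, 8, 8, 4, 0, 8, 3]
def rw4405 : List ℕ := [9, 7, 10, 7, 7, 2, 7, 3, 7, 11, 5, 3, 0, 6, 9, 2, 5, 3]
def rw4406 : List ℕ := [9, 2, 5, 3, 9, 7, 10, 2, 5, 5, 3, 4, 11, 5, 3, 0, 6]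
def rw4407 : List ℕ := [9, 5, 5, 8, 10, 1, 4, 1, 4, 4, 4, 11, 1, 9, 1, 8, 2, 2]
def rw4408 : List ℕ := [9, 5, 7, 1, 10, 2, 2, 5, 5, 3, 5, 11, 2, 9, 2, 8, 0, 7]
def rw4409 : List ℕ := [9, 9, 2, 6, 5, 9, 11, 4, 0, 7, 4, 0, 9, 10, 1, 9, 1, 6]
def rw4410 : List ℕ := [9, 2, 9, 11, 9, 10, 8, 3, 8, 7, 10, 9, 7, 4, 1, 8, 6, 0, 5, 1, 8, 0, 4, 1, 7, 9, 0, 5, 6, 8, 11, 6]
def rw4411 : List ℕ := [9, 11, 9, 10, 8, 10, 3, 6, 0, 10, 7, 0, 9, 3, 1, 4, 9, 6, 2, 8, 3, 7, 8, 5, 0, 2, 8, 1, 6, 11, 1, 7, 2, 11]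
def rw4412 : List ℕ := [9, 0, 3, 8, 7, 0, 7, 1, 2, 8, 10, 4, 2, 1, 6, 1, 3, 11]
def rw4413 : List ℕ := [9, 10, 0, 3, 9, 3, 5, 0, 4, 2, 8, 1, 11, 3, 3, 5, 7]
def rw4414 : List ℕ := [9, 7, 1, 6, 1, 2, 10, 0, 7, 2, 6, 3, 6, 11, 9, 5, 1]
def rw4415 : List ℕ := [9, 0, 5, 6, 8, 9, 9, 7, 4, 1, 8, 6, 0, 5, 1, 10, 8, 3, 8, 7, 10, 8, 11, 6, 9, 2, 9, 11, 0, 4, 1, 7]
def rw4416 : List ℕ := [9, 11, 0, 4, 1, 7, 9, 0, 5, 6, 8, 3, 9, 7, 4, 1, 8, 6, 0, 5, 1, 10, 8, 3, 8, 7, 10, 2, 11, 6, 9, 2]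
def rw4417 : List ℕ := [9, 2, 4, 7, 11, 4, 3, 9, 4, 2, 5, 10, 5, 6, 2, 5, 6, 1]
def rw4418 : List ℕ := [9, 0, 6, 8, 10, 6, 2, 2, 6, 0, 5, 11, 9, 7, 0, 9, 1, 3]
def rw4419 : List ℕ := [9, 2, 5, 3, 9, 7, 10, 5, 0, 2, 4, 0, 2, 11, 5, 3, 0, 6]
def rw4420 : List ℕ := [9, 4, 6, 1, 3, 1, 9, 6, 10, 3, 4, 6, 5, 9, 4, 11, 0, 0]
def rw4421 : List ℕ := [9, 1, 1, 3, 6, 0, 9, 3, 10, 3, 3, 9, 2, 6, 5, 11, 2, 7]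
def rw4422 : List ℕ := [9, 1, 5, 8, 4, 1, 3, 0, 11, 2, 0, 7, 4, 2, 8, 10, 1, 2]
def rw4423 : List ℕ := [9, 4, 11, 0, 0, 9, 4, 6, 1, 3, 1, 9, 6, 10, 3, 4, 6, 5]
def rw4424 : List ℕ := [9, 7, 10, 0, 3, 7, 5, 2, 5, 11, 2, 1, 9, 7, 1, 9, 7, 1]
def rw4425 : List ℕ := [9, 5, 1, 8, 4, 0, 5, 2, 9, 7, 10, 9, 0, 0, 3, 5, 8, 11]
def rw4426 : List ℕ := [9, 4, 2, 1, 1, 8, 11, 6, 8, 3, 4, 1, 5, 9, 0, 4, 8, 10]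
def rw4427 : List ℕ := [9, 1, 8, 2, 2, 9, 5, 5, 8, 10, 1, 4, 2, 4, 0, 11, 1]
def rw4428 : List ℕ := [9, 0, 8, 7, 0, 0, 0, 6, 6, 10, 4, 1, 1, 4, 3, 11, 7]
def rw4429 : List ℕ := [9, 1, 4, 4, 2, 7, 9, 2, 0, 10, 1, 4, 6, 4, 2, 6, 11]
def rw4430 : List ℕ := [9, 0, 4, 8, 10, 9, 4, 2, 1, 1, 8, 11, 6, 8, 3, 4, 1, 5]
def rw4431 : List ℕ := [9, 2, 6, 3, 11, 9, 4, 4, 3, 6, 3, 10, 4, 7, 3, 8, 0, 0]
def rw4432 : List ℕ := [9, 2, 9, 11, 0, 4, 1, 7, 9, 0, 5, 6, 8, 10, 9, 7, 4, 1, 8, 6, 0, 5, 1, 10, 8, 3, 8, 7, 10, 11, 11, 6]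
def rw4433 : List ℕ := [9, 9, 9, 4, 1, 8, 1, 8, 1, 1, 10, 7, 5, 1, 1, 6, 6, 11]
def rw4434 : List ℕ := [9, 0, 5, 6, 8, 6, 9, 7, 4, 1, 8, 6, 0, 5, 1, 10, 8, 3, 8, 7, 10, 7, 11, 6, 9, 2, 9, 11, 0, 4, 1, 7]
def rw4435 : List ℕ := [9, 11, 3, 7, 8, 5, 0, 2, 8, 1, 6, 0, 7, 0, 9, 3, 1, 4, 9, 6, 2, 10, 8, 10, 3, 6, 0, 10, 1, 11, 1, 7, 2, 11]
def rw4436 : List ℕ := [9, 2, 9, 11, 5, 3, 7, 10, 1, 11, 10, 10, 0, 11, 6, 2, 4, 10, 8, 3, 8, 5, 1, 2, 8, 4, 2, 8, 11, 9, 3, 5, 9, 3, 0, 4]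
def rw4437 : List ℕ := [9, 4, 4, 9, 4, 4, 9, 4, 4]
def rw4438 : List ℕ := [9, 2, 0, 0, 6, 0, 9, 3, 10, 7, 4, 9, 2, 4, 7, 11, 2, 7]
def rw4439 : List ℕ := [9, 0, 8, 7, 0, 0, 0, 6, 6, 10, 0, 2, 0, 0, 0, 3, 11, 7]
def rw4440 : List ℕ := [9, 7, 4, 1, 8, 6, 0, 5, 1, 10, 8, 3, 8, 7, 10, 11, 11, 6, 9, 2, 9, 11, 0, 4, 1, 7, 9, 0, 5, 6, 8, 10]
def rw4441 : List ℕ := [9, 7, 10, 7, 5, 5, 7, 2, 11, 5, 3, 0, 6, 9, 2, 5, 3]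
def rw4442 : List ℕ := [9, 0, 7, 9, 6, 1, 2, 11, 4, 2, 8, 4, 3, 7, 10, 1, 5, 1]
def rw4443 : List ℕ := [9, 1, 6, 9, 9, 2, 6, 5, 9, 11, 4, 0, 7, 4, 0, 9, 10, 1]
def rw4444 : List ℕ := [9, 11, 1, 10, 8, 10, 3, 6, 0, 10, 7, 0, 9, 3, 1, 4, 9, 6, 2, 0, 3, 7, 8, 5, 0, 2, 8, 1, 6, 11, 1, 7, 2, 11]
def rw4445 : List ℕ := [9, 11, 7, 10, 8, 10, 3, 6, 0, 10, 7, 0, 9, 3, 1, 4, 9, 6, 2, 6, 3, 7, 8, 5, 0, 2, 8, 1, 6, 11, 1, 7, 2, 11]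
def rw4446 : List ℕ := [9, 1, 5, 6, 6, 3, 10, 6, 5, 2, 7, 8, 5, 11, 6, 2, 1, 7]
def rw4447 : List ℕ := [9, 2, 9, 11, 0, 10, 8, 3, 8, 7, 10, 9, 7, 4, 1, 8, 6, 0, 5, 1, 1, 0, 4, 1, 7, 9, 0, 5, 6, 8, 11, 6]
def rw4448 : List ℕ := [9, 1, 8, 2, 2, 9, 5, 5, 8, 10, 0, 5, 2, 1, 4, 0, 11, 1]
def rw4449 : List ℕ := [9, 9, 0, 3, 10, 1, 1, 7, 5, 0, 0, 11, 7, 8, 6, 3, 6, 1]
def rw4450 : List ℕ := [9, 4, 0, 4, 7, 8, 11, 3, 8, 1, 3, 1, 6, 1, 7, 9, 2, 10]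
def rw4451 : List ℕ := [9, 10, 6, 4, 2, 8, 5, 6, 11, 1, 7, 1, 1, 1, 4, 8, 8, 0]
def rw4452 : List ℕ := [9, 3, 5, 7, 11, 8, 1, 9, 9, 5, 0, 0, 0, 6, 0, 10, 7, 4]
def rw4453 : List ℕ := [9, 0, 6, 11, 1, 6, 9, 9, 6, 0, 10, 8, 6, 1, 9, 4, 2]
def rw4454 : List ℕ := [9, 9, 5, 0, 0, 0, 6, 0, 10, 7, 4, 9, 3, 5, 7, 11, 8, 1]
def rw4455 : List ℕ := [9, 5, 7, 1, 10, 4, 4, 2, 11, 2, 9, 2, 8, 0, 7]
def rw4456 : List ℕ := [9, 4, 0, 8, 3, 0, 11, 9, 3, 5, 6, 1, 3, 10, 1, 2, 0, 5]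
def rw4457 : List ℕ := [9, 2, 0, 10, 1, 7, 5, 7, 2, 6, 11, 9, 1, 4, 4, 2, 7]
def rw4458 : List ℕ := [9, 0, 8, 7, 0, 0, 0, 6, 6, 10, 3, 1, 3, 0, 0, 3, 11, 7]
def rw4459 : List ℕ := [9, 2, 5, 3, 9, 7, 10, 7, 7, 2, 7, 3, 7, 11, 5, 3, 0, 6]
def rw4460 : List ℕ := [9, 7, 1, 8, 2, 0, 8, 1, 6, 8, 10, 4, 1, 7, 3, 3, 7, 11]
def rw4461 : List ℕ := [9, 11, 3, 7, 8, 5, 0, 2, 8, 1, 6, 9, 7, 0, 9, 3, 1, 4, 9, 6, 2, 10, 8, 10, 3, 6, 0, 10, 8, 11, 1, 7, 2, 11]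
def rw4462 : List ℕ := [9, 11, 8, 3, 1, 10, 10, 0, 2]
def rw4463 : List ℕ := [9, 3, 5, 6, 1, 3, 10, 1, 2, 0, 5, 9, 4, 0, 8, 3, 0, 11]
def rw4464 : List ℕ := [9, 1, 8, 6, 10, 2, 5, 0, 0, 5, 11, 7, 7, 1, 1, 1, 6]
def rw4465 : List ℕ := [9, 3, 10, 7, 4, 9, 2, 4, 7, 11, 2, 7, 9, 2, 0, 0, 6, 0]
def rw4466 : List ℕ := [9, 3, 0, 9, 3, 9, 10, 4, 8, 8, 3, 4, 0, 11, 5, 2, 6]
def rw4467 : List ℕ := [9, 2, 10, 9, 6, 5, 1, 5, 8, 11, 3, 8, 6, 0, 7, 0, 2, 0]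
def rw4468 : List ℕ := [9, 2, 9, 11, 0, 4, 1, 7, 9, 0, 5, 6, 8, 11, 9, 7, 4, 1, 8, 6, 0, 5, 1, 10, 8, 3, 8, 7, 10, 10, 11, 6]
def rw4469 : List ℕ := [9, 3, 5, 0, 4, 2, 8, 1, 11, 3, 3, 5, 7, 9, 10, 0, 3]
def rw4470 : List ℕ := [9, 0, 3, 10, 1, 1, 7, 5, 0, 0, 11, 7, 8, 6, 3, 6, 1, 9]
def rw4471 : List ℕ := [9, 1, 8, 6, 10, 2, 1, 1, 2, 0, 2, 11, 7, 7, 1, 1, 1, 6]
def rw4472 : List ℕ := [9, 11, 0, 4, 1, 7, 9, 0, 5, 6, 8, 2, 9, 7, 4, 1, 8, 6, 0, 5, 1, 10, 8, 3, 8, 7, 10, 3, 11, 6, 9, 2]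
def rw4473 : List ℕ := [9, 3, 0, 4, 9, 2, 9, 11, 5, 3, 7, 10, 1, 11, 8, 10, 0, 11, 6, 2, 4, 10, 8, 3, 8, 5, 1, 2, 8, 4, 2, 8, 9, 9, 3, 5]
def rw4474 : List ℕ := [9, 2, 9, 11, 5, 3, 7, 10, 1, 11, 7, 10, 0, 11, 6, 2, 4, 10, 8, 3, 8, 5, 1, 2, 8, 4, 2, 8, 6, 9, 3, 5, 9, 3, 0, 4]
def rw4475 : List ℕ := [9, 7, 1, 9, 7, 1, 9, 7, 10, 0, 3, 7, 5, 2, 5, 11, 2, 1]
def rw4476 : List ℕ := [9, 11, 0, 10, 8, 10, 3, 6, 0, 10, 7, 0, 9, 3, 1, 4, 9, 6, 2, 1, 3, 7, 8, 5, 0, 2, 8, 1, 6, 11, 1, 7, 2, 11]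
def rw4477 : List ℕ := [9, 3, 5, 9, 3, 0, 4, 9, 2, 9, 11, 5, 3, 7, 10, 1, 11, 11, 10, 0, 11, 6, 2, 4, 10, 8, 3, 8, 5, 1, 2, 8, 4, 2, 8, 10]
def rw4478 : List ℕ := [9, 0, 5, 8, 8, 8, 10, 7, 7, 0, 0, 4, 6, 11, 0, 0, 9, 0]
def rw4479 : List ℕ := [9, 2, 8, 0, 7, 9, 5, 7, 1, 10, 5, 5, 3, 4, 4, 4, 11, 2]
def rw4480 : List ℕ := [9, 0, 0, 3, 5, 8, 11, 9, 5, 1, 8, 4, 0, 5, 2, 9, 7, 10]
def rw4481 : List ℕ := [9, 2, 6, 5, 11, 2, 7, 2, 5, 5, 8, 10, 2, 7, 3, 8, 1, 1]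
def rw4482 : List ℕ := [9, 0, 9, 0, 5, 8, 8, 8, 10, 7, 7, 0, 0, 4, 6, 11, 0, 0]
def rw4483 : List ℕ := [9, 2, 1, 8, 10, 2, 0, 7, 0, 3, 5, 11, 9, 3, 0, 6, 1, 6]
def rw4484 : List ℕ := [9, 2, 6, 3, 11, 9, 3, 6, 3, 3, 6, 10, 4, 7, 3, 8, 0, 0]
def rw4485 : List ℕ := [9, 5, 5, 8, 10, 1, 4, 2, 4, 0, 11, 1, 9, 1, 8, 2, 2]
def rw4486 : List ℕ := [9, 10, 4, 8, 8, 3, 4, 0, 11, 5, 2, 6, 9, 3, 0, 9, 3]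
def rw4487 : List ℕ := [9, 9, 4, 1, 8, 1, 8, 1, 1, 10, 7, 5, 1, 1, 6, 6, 11, 9]
def rw4488 : List ℕ := [9, 11, 3, 7, 8, 5, 0, 2, 8, 1, 6, 10, 7, 0, 9, 3, 1, 4, 9, 6, 2, 10, 8, 10, 3, 6, 0, 10, 11, 11, 1, 7, 2, 11]
def rw4489 : List ℕ := [9, 3, 8, 3, 10, 3, 5, 5, 11, 0, 6, 4, 8, 6, 1]
def rw4490 : List ℕ := [9, 4, 2, 5, 10, 5, 6, 2, 5, 6, 1, 9, 2, 4, 7, 11, 4, 3]
def rw4491 : List ℕ := [9, 6, 9, 6, 9, 6, 9, 6]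
def rw4492 : List ℕ := [9, 0, 5, 6, 8, 2, 9, 7, 4, 1, 8, 6, 0, 5, 1, 10, 8, 3, 8, 7, 10, 3, 11, 6, 9, 2, 9, 11, 0, 4, 1, 7]
def rw4493 : List ℕ := [9, 11, 0, 4, 1, 7, 9, 0, 5, 6, 8, 8, 9, 7, 4, 1, 8, 6, 0, 5, 1, 10, 8, 3, 8, 7, 10, 9, 11, 6, 9, 2]
def rw4494 : List ℕ := [9, 2, 9, 11, 10, 10, 8, 3, 8, 7, 10, 9, 7, 4, 1, 8, 6, 0, 5, 1, 11, 0, 4, 1, 7, 9, 0, 5, 6, 8, 11, 6]
def rw4495 : List ℕ := [9, 1, 8, 6, 10, 2, 1, 2, 0, 11, 7, 7, 1, 1, 1, 6]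
def rw4496 : List ℕ := [9, 7, 1, 9, 7, 10, 0, 3, 6, 2, 6, 4, 11, 2, 1, 9, 7, 1]
def rw4497 : List ℕ := [9, 11, 3, 7, 8, 5, 0, 2, 8, 1, 6, 6, 7, 0, 9, 3, 1, 4, 9, 6, 2, 10, 8, 10, 3, 6, 0, 10, 7, 11, 1, 7, 2, 11]
def rw4498 : List ℕ := [9, 0, 8, 0, 10, 5, 5, 1, 4, 1, 4, 11, 9, 4, 4, 8, 3, 3]
def rw4499 : List ℕ := [9, 7, 10, 6, 0, 5, 6, 0, 5, 11, 5, 3, 0, 6, 9, 2, 5, 3]
def rw4500 : List ℕ := [9, 5, 8, 2, 1, 5, 3, 11, 3, 3, 8, 7, 4, 8, 10, 0, 3]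
def rw4501 : List ℕ := [9, 11, 6, 10, 8, 3, 8, 7, 10, 9, 7, 4, 1, 8, 6, 0, 5, 1, 7, 0, 4, 1, 7, 9, 0, 5, 6, 8, 11, 6, 9, 2]
def rw4502 : List ℕ := [9, 3, 9, 10, 4, 1, 1, 7, 7, 3, 11, 9, 6, 0, 0, 6, 4]
def rw4503 : List ℕ := [9, 3, 6, 3, 3, 6, 10, 4, 7, 3, 8, 0, 0, 9, 2, 6, 3, 11]
def rw4504 : List ℕ := [9, 4, 2, 10, 1, 5, 6, 2, 2, 11, 3, 1, 6, 1, 7]
def rw4505 : List ℕ := [9, 4, 8, 0, 8, 1, 6, 5, 10, 6, 2, 5, 1, 7, 11, 6, 1]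
def rw4506 : List ℕ := [9, 2, 10, 9, 4, 0, 4, 7, 8, 11, 3, 8, 1, 3, 1, 6, 1, 7]
def rw4507 : List ℕ := [9, 7, 4, 1, 8, 6, 0, 5, 1, 10, 0, 4, 1, 7, 9, 0, 5, 6, 8, 11, 6, 9, 2, 9, 11, 11, 10, 8, 3, 8, 7, 10]
def rw4508 : List ℕ := [9, 10, 4, 1, 1, 7, 7, 3, 11, 9, 6, 0, 0, 6, 4, 9, 3]
def rw4509 : List ℕ := [9, 4, 8, 2, 1, 11, 9, 5, 6, 9, 2, 2, 10, 2, 4, 0, 3]
def rw4510 : List ℕ := [9, 11, 0, 4, 1, 7, 9, 0, 5, 6, 8, 9, 9, 7, 4, 1, 8, 6, 0, 5, 1, 10, 8, 3, 8, 7, 10, 8, 11, 6, 9, 2]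
def rw4511 : List ℕ := [9, 6, 6, 2, 1, 8, 7, 2, 7, 8, 6, 3, 6, 9, 0, 3, 7, 7, 8, 10, 4, 3, 0, 10, 1, 10, 9, 11, 0, 11, 1, 2, 5, 11]
def rw4512 : List ℕ := [9, 0, 8, 7, 0, 0, 0, 6, 6, 10, 1, 3, 0, 3, 11, 7]
def rw4513 : List ℕ := [9, 9, 6, 0, 10, 8, 6, 1, 9, 4, 2, 9, 0, 6, 11, 1, 6]
def rw4514 : List ℕ := [9, 2, 9, 11, 0, 4, 1, 7, 9, 0, 5, 6, 8, 1, 9, 7, 4, 1, 8, 6, 0, 5, 1, 10, 8, 3, 8, 7, 10, 0, 11, 6]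
def rw4515 : List ℕ := [9, 11, 1, 7, 8, 8, 7, 0, 10, 7, 1, 8, 3, 5, 8, 0, 7]
def rw4516 : List ℕ := [9, 1, 6, 0, 9, 1, 6, 11, 6, 9, 4, 3, 7, 4, 10, 9, 6, 3]
def rw4517 : List ℕ := [9, 11, 0, 4, 1, 7, 9, 0, 5, 6, 8, 1, 9, 7, 4, 1, 8, 6, 0, 5, 1, 10, 8, 3, 8, 7, 10, 0, 11, 6, 9, 2]
def rw4518 : List ℕ := [9, 3, 8, 3, 10, 4, 4, 2, 4, 4, 2, 11, 0, 6, 4, 8, 6, 1]
def rw4519 : List ℕ := [9, 2, 5, 3, 9, 7, 10, 4, 4, 2, 11, 5, 3, 0, 6]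
def rw4520 : List ℕ := [9, 5, 1, 9, 7, 1, 6, 1, 2, 10, 0, 7, 2, 6, 3, 6, 11]
def rw4521 : List ℕ := [9, 3, 5, 10, 3, 0, 7, 8, 6, 1, 8, 0, 4, 0, 11, 6, 2, 5]
def rw4522 : List ℕ := [9, 1, 8, 6, 10, 1, 2, 2, 2, 2, 11, 7, 7, 1, 1, 1, 6]
def rw4523 : List ℕ := [9, 11, 4, 10, 8, 10, 3, 6, 0, 10, 7, 0, 9, 3, 1, 4, 9, 6, 2, 5, 3, 7, 8, 5, 0, 2, 8, 1, 6, 11, 1, 7, 2, 11]
def rw4524 : List ℕ := [9, 3, 0, 4, 9, 2, 9, 11, 5, 3, 7, 10, 1, 11, 10, 10, 0, 11, 6, 2, 4, 10, 8, 3, 8, 5, 1, 2, 8, 4, 2, 8, 11, 9, 3, 5]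
def rw4525 : List ℕ := [9, 7, 10, 0, 3, 6, 2, 6, 4, 11, 2, 1, 9, 7, 1, 9, 7, 1]
def rw4526 : List ℕ := [9, 2, 9, 11, 5, 3, 7, 10, 1, 11, 8, 10, 0, 11, 6, 2, 4, 10, 8, 3, 8, 5, 1, 2, 8, 4, 2, 8, 9, 9, 3, 5, 9, 3, 0, 4]
def rw4527 : List ℕ := [9, 5, 7, 1, 10, 0, 2, 4, 0, 5, 2, 11, 2, 9, 2, 8, 0, 7]
def rw4528 : List ℕ := [9, 7, 4, 1, 8, 6, 0, 5, 1, 2, 0, 4, 1, 7, 9, 0, 5, 6, 8, 11, 6, 9, 2, 9, 11, 3, 10, 8, 3, 8, 7, 10]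
def rw4529 : List ℕ := [9, 1, 8, 6, 10, 1, 5, 2, 2, 2, 5, 11, 7, 7, 1, 1, 1, 6]
def rw4530 : List ℕ := [9, 2, 9, 11, 6, 10, 8, 3, 8, 7, 10, 9, 7, 4, 1, 8, 6, 0, 5, 1, 7, 0, 4, 1, 7, 9, 0, 5, 6, 8, 11, 6]
def rw4531 : List ℕ := [9, 11, 3, 7, 8, 5, 0, 2, 8, 1, 6, 1, 7, 0, 9, 3, 1, 4, 9, 6, 2, 10, 8, 10, 3, 6, 0, 10, 0, 11, 1, 7, 2, 11]
def rw4532 : List ℕ := [9, 4, 4, 8, 3, 3, 9, 0, 8, 0, 10, 5, 5, 5, 0, 5, 0, 11]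
def rw4533 : List ℕ := [9, 2, 9, 11, 0, 4, 1, 7, 9, 0, 5, 6, 8, 8, 9, 7, 4, 1, 8, 6, 0, 5, 1, 10, 8, 3, 8, 7, 10, 9, 11, 6]
def rw4534 : List ℕ := [9, 2, 9, 11, 5, 10, 8, 3, 8, 7, 10, 9, 7, 4, 1, 8, 6, 0, 5, 1, 4, 0, 4, 1, 7, 9, 0, 5, 6, 8, 11, 6]
def rw4535 : List ℕ := [9, 0, 8, 7, 0, 0, 0, 6, 6, 10, 2, 2, 2, 0, 11, 7]
def rw4536 : List ℕ := [9, 1, 8, 6, 10, 2, 0, 2, 0, 3, 3, 11, 7, 7, 1, 1, 1, 6]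
def rw4537 : List ℕ := [9, 1, 8, 2, 2, 9, 5, 5, 8, 10, 1, 4, 1, 4, 4, 4, 11, 1]
def rw4538 : List ℕ := [9, 11, 3, 7, 8, 5, 0, 2, 8, 1, 6, 5, 7, 0, 9, 3, 1, 4, 9, 6, 2, 10, 8, 10, 3, 6, 0, 10, 4, 11, 1, 7, 2, 11]
def rw4539 : List ℕ := [9, 2, 9, 11, 0, 4, 1, 7, 9, 0, 5, 6, 8, 2, 9, 7, 4, 1, 8, 6, 0, 5, 1, 10, 8, 3, 8, 7, 10, 3, 11, 6]
def rw4540 : List ℕ := [9, 2, 6, 5, 9, 11, 4, 0, 7, 4, 0, 9, 10, 1, 9, 1, 6, 9]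
def rw4541 : List ℕ := [9, 6, 3, 4, 7, 11, 2, 7, 7, 4, 0, 8, 6, 0, 3, 7, 10, 4]
def rw4542 : List ℕ := [9, 11, 0, 4, 1, 7, 9, 0, 5, 6, 8, 7, 9, 7, 4, 1, 8, 6, 0, 5, 1, 10, 8, 3, 8, 7, 10, 6, 11, 6, 9, 2]
def rw4543 : List ℕ := [9, 2, 6, 5, 11, 2, 7, 9, 1, 1, 3, 6, 0, 9, 3, 10, 3, 3]
def rw4544 : List ℕ := [9, 7, 1, 9, 7, 1, 9, 7, 10, 0, 3, 6, 2, 6, 4, 11, 2, 1]
def rw4545 : List ℕ := [9, 11, 0, 4, 1, 7, 9, 0, 5, 6, 8, 10, 9, 7, 4, 1, 8, 6, 0, 5, 1, 10, 8, 3, 8, 7, 10, 11, 11, 6, 9, 2]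
def rw4546 : List ℕ := [9, 1, 8, 6, 10, 5, 1, 5, 0, 5, 2, 11, 7, 7, 1, 1, 1, 6]
def rw4547 : List ℕ := [9, 3, 1, 4, 9, 6, 2, 5, 3, 7, 8, 5, 0, 2, 8, 1, 6, 11, 1, 7, 2, 11, 9, 11, 4, 10, 8, 10, 3, 6, 0, 10, 7, 0]
def rw4548 : List ℕ := [9, 5, 8, 0, 7, 10, 6, 0, 4, 3, 7, 11, 4, 7, 0, 9, 1]
def rw4549 : List ℕ := [9, 7, 0, 9, 1, 3, 9, 0, 6, 8, 10, 6, 2, 2, 6, 0, 5, 11]
def rw4550 : List ℕ := [9, 4, 1, 8, 1, 8, 1, 1, 10, 7, 5, 1, 1, 6, 6, 11, 9, 9]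
def rw4551 : List ℕ := [9, 5, 7, 1, 10, 3, 4, 4, 2, 4, 4, 11, 2, 9, 2, 8, 0, 7]
def rw4552 : List ℕ := [9, 0, 5, 6, 8, 11, 6, 9, 2, 9, 11, 10, 10, 8, 3, 8, 7, 10, 9, 7, 4, 1, 8, 6, 0, 5, 1, 11, 0, 4, 1, 7]
def rw4553 : List ℕ := [9, 1, 4, 4, 2, 7, 9, 2, 0, 10, 1, 5, 6, 2, 5, 5, 11]
def rw4554 : List ℕ := [9, 0, 8, 7, 0, 0, 0, 6, 6, 10, 0, 5, 5, 1, 3, 4, 11, 7]
def rw4555 : List ℕ := [9, 3, 8, 3, 10, 3, 6, 4, 4, 6, 11, 0, 6, 4, 8, 6, 1]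
def rw4556 : List ℕ := [9, 2, 5, 3, 9, 7, 10, 4, 1, 5, 1, 4, 0, 11, 5, 3, 0, 6]
def rw4557 : List ℕ := [9, 11, 4, 0, 7, 4, 0, 9, 10, 1, 9, 1, 6, 9, 9, 2, 6, 5]
def rw4558 : List ℕ := [9, 1, 4, 4, 2, 7, 9, 2, 0, 10, 1, 6, 4, 6, 2, 6, 11]
def rw4559 : List ℕ := [9, 3, 1, 4, 9, 6, 2, 3, 3, 7, 8, 5, 0, 2, 8, 1, 6, 11, 1, 7, 2, 11, 9, 11, 2, 10, 8, 10, 3, 6, 0, 10, 7, 0]
def rw4560 : List ℕ := [9, 7, 1, 9, 7, 10, 0, 3, 7, 3, 4, 3, 11, 2, 1, 9, 7, 1]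
def rw4561 : List ℕ := [9, 2, 0, 10, 1, 4, 6, 4, 2, 6, 11, 9, 1, 4, 4, 2, 7]
def rw4562 : List ℕ := [9, 0, 5, 6, 8, 0, 9, 7, 4, 1, 8, 6, 0, 5, 1, 10, 8, 3, 8, 7, 10, 1, 11, 6, 9, 2, 9, 11, 0, 4, 1, 7]
def rw4563 : List ℕ := [9, 9, 0, 11, 11, 11, 6, 6, 0, 11, 8, 10, 1, 7, 7, 10, 10, 10, 1, 8, 8, 4, 0, 8, 3, 9, 5, 6, 9, 7, 4, 8, 2, 9, 1, 5]
def rw4564 : List ℕ := [9, 2, 8, 0, 7, 9, 5, 7, 1, 10, 4, 4, 2, 11, 2]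
def rw4565 : List ℕ := [9, 2, 9, 11, 0, 4, 1, 7, 9, 0, 5, 6, 8, 0, 9, 7, 4, 1, 8, 6, 0, 5, 1, 10, 8, 3, 8, 7, 10, 1, 11, 6]
def rw4566 : List ℕ := [9, 7, 10, 9, 0, 0, 3, 5, 8, 11, 9, 5, 1, 8, 4, 0, 5, 2]
def rw4567 : List ℕ := [9, 2, 9, 11, 3, 10, 8, 3, 8, 7, 10, 9, 7, 4, 1, 8, 6, 0, 5, 1, 2, 0, 4, 1, 7, 9, 0, 5, 6, 8, 11, 6]
def rw4568 : List ℕ := [9, 6, 2, 10, 3, 7, 8, 5, 0, 2, 8, 1, 6, 11, 1, 7, 2, 11, 9, 11, 11, 10, 8, 10, 3, 6, 0, 10, 7, 0, 9, 3, 1, 4]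
def rw4569 : List ℕ := [9, 5, 7, 1, 10, 3, 3, 5, 5, 3, 11, 2, 9, 2, 8, 0, 7]
def rw4570 : List ℕ := [9, 11, 5, 3, 7, 10, 1, 11, 5, 10, 0, 11, 6, 2, 4, 10, 8, 3, 8, 5, 1, 2, 8, 4, 2, 8, 4, 9, 3, 5, 9, 3, 0, 4, 9, 2]
def rw4571 : List ℕ := [9, 7, 4, 1, 8, 6, 0, 5, 1, 10, 8, 3, 8, 7, 10, 4, 11, 6, 9, 2, 9, 11, 0, 4, 1, 7, 9, 0, 5, 6, 8, 5]
def rw4572 : List ℕ := [9, 11, 3, 7, 8, 5, 0, 2, 8, 1, 6, 2, 7, 0, 9, 3, 1, 4, 9, 6, 2, 10, 8, 10, 3, 6, 0, 10, 3, 11, 1, 7, 2, 11]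
def rw4573 : List ℕ := [9, 7, 10, 4, 0, 0, 5, 2, 1, 11, 5, 3, 0, 6, 9, 2, 5, 3]
def rw4574 : List ℕ := [9, 0, 5, 6, 8, 11, 6, 9, 2, 9, 11, 6, 10, 8, 3, 8, 7, 10, 9, 7, 4, 1, 8, 6, 0, 5, 1, 7, 0, 4, 1, 7]
def rw4575 : List ℕ := [9, 3, 1, 4, 9, 6, 2, 7, 3, 7, 8, 5, 0, 2, 8, 1, 6, 11, 1, 7, 2, 11, 9, 11, 6, 10, 8, 10, 3, 6, 0, 10, 7, 0]
def rw4576 : List ℕ := [9, 9, 0, 11, 11, 11, 6, 6, 0, 11, 2, 10, 1, 7, 7, 10, 10, 10, 1, 8, 8, 4, 0, 8, 3, 9, 5, 6, 3, 7, 4, 8, 2, 9, 1, 5]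
def rw4577 : List ℕ := [9, 3, 0, 4, 9, 2, 9, 11, 5, 3, 7, 10, 1, 11, 11, 10, 0, 11, 6, 2, 4, 10, 8, 3, 8, 5, 1, 2, 8, 4, 2, 8, 10, 9, 3, 5]
def rw4578 : List ℕ := [9, 6, 2, 10, 8, 10, 3, 6, 0, 10, 10, 11, 1, 7, 2, 11, 9, 11, 3, 7, 8, 5, 0, 2, 8, 1, 6, 11, 7, 0, 9, 3, 1, 4]
def rw4579 : List ℕ := [9, 0, 3, 7, 7, 8, 2, 9, 6, 6, 2, 1, 8, 7, 2, 7, 11, 0, 11, 1, 2, 5, 11, 3, 10, 4, 3, 0, 10, 1, 10, 6, 3, 6]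
def rw4580 : List ℕ := [9, 11, 5, 10, 8, 3, 8, 7, 10, 9, 7, 4, 1, 8, 6, 0, 5, 1, 4, 0, 4, 1, 7, 9, 0, 5, 6, 8, 11, 6, 9, 2]
def rw4581 : List ℕ := [9, 6, 10, 3, 4, 6, 5, 9, 4, 11, 0, 0, 9, 4, 6, 1, 3, 1]
def rw4582 : List ℕ := [9, 0, 8, 7, 0, 0, 0, 6, 6, 10, 4, 3, 3, 3, 4, 0, 11, 7]
def rw4583 : List ℕ := [9, 11, 3, 7, 8, 5, 0, 2, 8, 1, 6, 7, 7, 0, 9, 3, 1, 4, 9, 6, 2, 10, 8, 10, 3, 6, 0, 10, 6, 11, 1, 7, 2, 11]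
def rw4584 : List ℕ := [9, 11, 8, 10, 8, 10, 3, 6, 0, 10, 7, 0, 9, 3, 1, 4, 9, 6, 2, 9, 3, 7, 8, 5, 0, 2, 8, 1, 6, 11, 1, 7, 2, 11]
def rw4585 : List ℕ := [9, 3, 0, 6, 1, 6, 9, 2, 1, 8, 10, 2, 0, 7, 0, 3, 5, 11]
def rw4586 : List ℕ := [9, 1, 8, 2, 2, 9, 5, 5, 8, 10, 5, 0, 5, 0, 4, 4, 11, 1]
def rw4587 : List ℕ := [9, 6, 6, 2, 1, 8, 7, 2, 7, 11, 6, 3, 6, 9, 0, 3, 7, 7, 8, 10, 4, 3, 0, 10, 1, 10, 10, 11, 0, 11, 1, 2, 5, 11]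
def rw4588 : List ℕ := [9, 2, 9, 11, 5, 3, 7, 10, 1, 11, 9, 10, 0, 11, 6, 2, 4, 10, 8, 3, 8, 5, 1, 2, 8, 4, 2, 8, 8, 9, 3, 5, 9, 3, 0, 4]
def rw4589 : List ℕ := [9, 0, 3, 7, 7, 8, 10, 4, 3, 0, 10, 1, 10, 11, 11, 0, 11, 1, 2, 5, 11, 9, 6, 6, 2, 1, 8, 7, 2, 7, 10, 6, 3, 6]
def rw4590 : List ℕ := [9, 3, 8, 3, 10, 2, 4, 4, 2, 2, 11, 0, 6, 4, 8, 6, 1]
def rw4591 : List ℕ := [9, 3, 1, 4, 9, 6, 2, 10, 3, 7, 8, 5, 0, 2, 8, 1, 6, 11, 1, 7, 2, 11, 9, 11, 11, 10, 8, 10, 3, 6, 0, 10, 7, 0]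
def rw4592 : List ℕ := [9, 2, 9, 11, 0, 4, 1, 7, 9, 0, 5, 6, 8, 9, 9, 7, 4, 1, 8, 6, 0, 5, 1, 10, 8, 3, 8, 7, 10, 8, 11, 6]
def rw4593 : List ℕ := [9, 7, 4, 1, 8, 6, 0, 5, 1, 7, 0, 4, 1, 7, 9, 0, 5, 6, 8, 11, 6, 9, 2, 9, 11, 6, 10, 8, 3, 8, 7, 10]
def rw4594 : List ℕ := [9, 11, 5, 10, 8, 10, 3, 6, 0, 10, 7, 0, 9, 3, 1, 4, 9, 6, 2, 4, 3, 7, 8, 5, 0, 2, 8, 1, 6, 11, 1, 7, 2, 11]
def rw4595 : List ℕ := [9, 2, 8, 0, 7, 9, 5, 7, 1, 10, 2, 4, 4, 2, 5, 5, 11, 2]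
def rw4596 : List ℕ := [9, 11, 0, 4, 1, 7, 9, 0, 5, 6, 8, 0, 9, 7, 4, 1, 8, 6, 0, 5, 1, 10, 8, 3, 8, 7, 10, 1, 11, 6, 9, 2]
def rw4597 : List ℕ := [9, 0, 5, 6, 8, 11, 9, 7, 4, 1, 8, 6, 0, 5, 1, 10, 8, 3, 8, 7, 10, 10, 11, 6, 9, 2, 9, 11, 0, 4, 1, 7]
def rw4598 : List ℕ := [9, 7, 10, 0, 4, 7, 2, 7, 7, 11, 2, 1, 9, 7, 1, 9, 7, 1]
def rw4599 : List ℕ := [9, 7, 4, 1, 8, 6, 0, 5, 1, 1, 0, 4, 1, 7, 9, 0, 5, 6, 8, 11, 6, 9, 2, 9, 11, 0, 10, 8, 3, 8, 7, 10]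
def rw4600 : List ℕ := [9, 0, 11, 11, 11, 6, 6, 0, 11, 9, 10, 1, 7, 7, 10, 10, 10, 1, 8, 8, 4, 0, 8, 3, 9, 5, 6, 8, 7, 4, 8, 2, 9, 1, 5, 9]
def rw4601 : List ℕ := [9, 3, 0, 4, 9, 2, 9, 11, 5, 3, 7, 10, 1, 11, 2, 10, 0, 11, 6, 2, 4, 10, 8, 3, 8, 5, 1, 2, 8, 4, 2, 8, 3, 9, 3, 5]
def rw4602 : List ℕ := [9, 0, 5, 6, 8, 11, 6, 9, 2, 9, 11, 11, 10, 8, 3, 8, 7, 10, 9, 7, 4, 1, 8, 6, 0, 5, 1, 10, 0, 4, 1, 7]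
def rw4603 : List ℕ := [9, 6, 2, 10, 8, 10, 3, 6, 0, 10, 9, 11, 1, 7, 2, 11, 9, 11, 3, 7, 8, 5, 0, 2, 8, 1, 6, 8, 7, 0, 9, 3, 1, 4]
def rw4604 : List ℕ := [9, 6, 10, 1, 1, 4, 6, 0, 0, 11, 2, 1, 8, 8, 0, 7, 2, 7]
def rw4605 : List ℕ := [9, 0, 8, 7, 0, 0, 0, 6, 6, 10, 2, 2, 1, 1, 3, 1, 11, 7]
def rw4606 : List ℕ := [9, 2, 8, 0, 7, 9, 5, 7, 1, 10, 3, 3, 5, 5, 3, 11, 2]
def rw4607 : List ℕ := [9, 9, 9, 9, 9, 9, 9]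
def rw4608 : List ℕ := [9, 2, 8, 0, 7, 9, 5, 7, 1, 10, 3, 4, 4, 2, 4, 4, 11, 2]
def rw4609 : List ℕ := [9, 3, 5, 9, 3, 0, 4, 9, 2, 9, 11, 5, 3, 7, 10, 1, 11, 5, 10, 0, 11, 6, 2, 4, 10, 8, 3, 8, 5, 1, 2, 8, 4, 2, 8, 4]
def rw4610 : List ℕ := [9, 6, 2, 10, 8, 10, 3, 6, 0, 10, 2, 11, 1, 7, 2, 11, 9, 11, 3, 7, 8, 5, 0, 2, 8, 1, 6, 3, 7, 0, 9, 3, 1, 4]
def rw4611 : List ℕ := [9, 2, 5, 3, 9, 7, 10, 3, 3, 5, 5, 3, 11, 5, 3, 0, 6]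
def rw4612 : List ℕ := [9, 5, 6, 2, 7, 4, 8, 2, 9, 1, 5, 9, 9, 0, 11, 11, 11, 6, 6, 0, 11, 3, 10, 1, 7, 7, 10, 10, 10, 1, 8, 8, 4, 0, 8, 3]
def rw4613 : List ℕ := [9, 7, 1, 9, 7, 10, 0, 4, 7, 2, 7, 7, 11, 2, 1, 9, 7, 1]
def rw4614 : List ℕ := [9, 6, 6, 2, 1, 8, 7, 2, 7, 11, 0, 11, 1, 2, 5, 11, 11, 10, 4, 3, 0, 10, 1, 10, 6, 3, 6, 9, 0, 3, 7, 7, 8, 10]
def rw4615 : List ℕ := [9, 1, 8, 6, 10, 5, 2, 0, 4, 4, 1, 11, 7, 7, 1, 1, 1, 6]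
def rw4616 : List ℕ := [9, 5, 0, 0, 0, 6, 0, 10, 7, 4, 9, 3, 5, 7, 11, 8, 1, 9]
def rw4617 : List ℕ := [9, 2, 9, 11, 0, 4, 1, 7, 9, 0, 5, 6, 8, 3, 9, 7, 4, 1, 8, 6, 0, 5, 1, 10, 8, 3, 8, 7, 10, 2, 11, 6]
def rw4618 : List ℕ := [9, 7, 10, 4, 1, 5, 1, 4, 0, 11, 5, 3, 0, 6, 9, 2, 5, 3]
def rw4619 : List ℕ := [9, 11, 2, 10, 8, 3, 8, 7, 10, 9, 7, 4, 1, 8, 6, 0, 5, 1, 3, 0, 4, 1, 7, 9, 0, 5, 6, 8, 11, 6, 9, 2]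
def rw4620 : List ℕ := [9, 0, 8, 0, 10, 1, 5, 3, 5, 0, 11, 9, 4, 4, 8, 3, 3]
def rw4621 : List ℕ := [9, 11, 6, 10, 8, 10, 3, 6, 0, 10, 7, 0, 9, 3, 1, 4, 9, 6, 2, 7, 3, 7, 8, 5, 0, 2, 8, 1, 6, 11, 1, 7, 2, 11]
def rw4622 : List ℕ := [9, 3, 1, 4, 9, 6, 2, 1, 3, 7, 8, 5, 0, 2, 8, 1, 6, 11, 1, 7, 2, 11, 9, 11, 0, 10, 8, 10, 3, 6, 0, 10, 7, 0]
def rw4623 : List ℕ := [9, 4, 4, 8, 3, 3, 9, 0, 8, 0, 10, 1, 5, 3, 5, 0, 11]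
def rw4624 : List ℕ := [9, 5, 5, 8, 10, 0, 5, 2, 1, 4, 0, 11, 1, 9, 1, 8, 2, 2]
def rw4625 : List ℕ := [9, 11, 5, 3, 7, 10, 1, 11, 11, 10, 0, 11, 6, 2, 4, 10, 8, 3, 8, 5, 1, 2, 8, 4, 2, 8, 10, 9, 3, 5, 9, 3, 0, 4, 9, 2]
def rw4626 : List ℕ := [9, 11, 0, 4, 1, 7, 9, 0, 5, 6, 8, 4, 9, 7, 4, 1, 8, 6, 0, 5, 1, 10, 8, 3, 8, 7, 10, 5, 11, 6, 9, 2]
def rw4627 : List ℕ := [9, 2, 9, 11, 5, 3, 7, 10, 1, 11, 5, 10, 0, 11, 6, 2, 4, 10, 8, 3, 8, 5, 1, 2, 8, 4, 2, 8, 4, 9, 3, 5, 9, 3, 0, 4]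
def rw4628 : List ℕ := [9, 6, 2, 10, 8, 10, 3, 6, 0, 10, 11, 11, 1, 7, 2, 11, 9, 11, 3, 7, 8, 5, 0, 2, 8, 1, 6, 10, 7, 0, 9, 3, 1, 4]
def rw4629 : List ℕ := [9, 0, 5, 6, 8, 11, 6, 9, 2, 9, 11, 9, 10, 8, 3, 8, 7, 10, 9, 7, 4, 1, 8, 6, 0, 5, 1, 8, 0, 4, 1, 7]
def rw4630 : List ℕ := [9, 2, 6, 5, 11, 7, 2, 2, 7, 2, 8, 10, 2, 7, 3, 8, 1, 1]
def rw4631 : List ℕ := [9, 7, 10, 4, 4, 2, 11, 5, 3, 0, 6, 9, 2, 5, 3]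
def rw4632 : List ℕ := [9, 1, 4, 4, 2, 7, 9, 2, 0, 10, 1, 7, 5, 7, 2, 6, 11]
def rw4633 : List ℕ := [9, 3, 1, 4, 9, 6, 2, 10, 8, 10, 3, 6, 0, 10, 9, 11, 1, 7, 2, 11, 9, 11, 3, 7, 8, 5, 0, 2, 8, 1, 6, 8, 7, 0]
def rw4634 : List ℕ := [9, 6, 6, 2, 1, 8, 7, 2, 7, 2, 6, 3, 6, 9, 0, 3, 7, 7, 8, 10, 4, 3, 0, 10, 1, 10, 3, 11, 0, 11, 1, 2, 5, 11]
def rw4635 : List ℕ := [9, 6, 2, 8, 3, 7, 8, 5, 0, 2, 8, 1, 6, 11, 1, 7, 2, 11, 9, 11, 9, 10, 8, 10, 3, 6, 0, 10, 7, 0, 9, 3, 1, 4]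
def rw4636 : List ℕ := [9, 1, 8, 6, 10, 0, 2, 0, 0, 3, 3, 11, 7, 7, 1, 1, 1, 6]
def rw4637 : List ℕ := [9, 3, 1, 4, 9, 6, 2, 0, 3, 7, 8, 5, 0, 2, 8, 1, 6, 11, 1, 7, 2, 11, 9, 11, 1, 10, 8, 10, 3, 6, 0, 10, 7, 0]
def rw4638 : List ℕ := [9, 3, 0, 4, 9, 2, 9, 11, 5, 3, 7, 10, 1, 11, 7, 10, 0, 11, 6, 2, 4, 10, 8, 3, 8, 5, 1, 2, 8, 4, 2, 8, 6, 9, 3, 5]
def rw4639 : List ℕ := [9, 3, 8, 3, 10, 5, 2, 4, 4, 3, 11, 0, 6, 4, 8, 6, 1]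
def rw4640 : List ℕ := [9, 2, 0, 10, 1, 6, 4, 6, 2, 6, 11, 9, 1, 4, 4, 2, 7]
def rw4641 : List ℕ := [9, 2, 5, 3, 9, 7, 10, 4, 0, 0, 5, 2, 1, 11, 5, 3, 0, 6]
def rw4642 : List ℕ := [9, 1, 8, 6, 10, 2, 2, 0, 3, 11, 7, 7, 1, 1, 1, 6]
def rw4643 : List ℕ := [9, 2, 0, 10, 1, 5, 7, 5, 2, 6, 11, 9, 1, 4, 4, 2, 7]
def rw4644 : List ℕ := [9, 11, 5, 3, 7, 10, 1, 11, 9, 10, 0, 11, 6, 2, 4, 10, 8, 3, 8, 5, 1, 2, 8, 4, 2, 8, 8, 9, 3, 5, 9, 3, 0, 4, 9, 2]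
def rw4645 : List ℕ := [9, 7, 1, 9, 7, 1, 9, 7, 10, 0, 3, 7, 3, 4, 3, 11, 2, 1]
def rw4646 : List ℕ := [9, 7, 4, 1, 8, 6, 0, 5, 1, 4, 0, 4, 1, 7, 9, 0, 5, 6, 8, 11, 6, 9, 2, 9, 11, 5, 10, 8, 3, 8, 7, 10]
def rw4647 : List ℕ := [9, 7, 4, 1, 8, 6, 0, 5, 1, 10, 8, 3, 8, 7, 10, 6, 11, 6, 9, 2, 9, 11, 0, 4, 1, 7, 9, 0, 5, 6, 8, 7]
def rw4648 : List ℕ := [9, 6, 6, 2, 1, 8, 7, 2, 7, 10, 6, 3, 6, 9, 0, 3, 7, 7, 8, 10, 4, 3, 0, 10, 1, 10, 11, 11, 0, 11, 1, 2, 5, 11]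
def rw4649 : List ℕ := [9, 2, 8, 0, 7, 9, 5, 7, 1, 10, 2, 2, 5, 5, 3, 5, 11, 2]
def rw4650 : List ℕ := [9, 5, 7, 1, 10, 3, 5, 5, 3, 5, 5, 11, 2, 9, 2, 8, 0, 7]
def rw4651 : List ℕ := [9, 0, 11, 11, 11, 6, 6, 0, 11, 3, 10, 1, 7, 7, 10, 10, 10, 1, 8, 8, 4, 0, 8, 3, 9, 5, 6, 2, 7, 4, 8, 2, 9, 1, 5, 9]
def rw4652 : List ℕ := [9, 3, 0, 4, 9, 2, 9, 11, 5, 3, 7, 10, 1, 11, 3, 10, 0, 11, 6, 2, 4, 10, 8, 3, 8, 5, 1, 2, 8, 4, 2, 8, 2, 9, 3, 5]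
def rw4653 : List ℕ := [9, 11, 3, 7, 8, 5, 0, 2, 8, 1, 6, 8, 7, 0, 9, 3, 1, 4, 9, 6, 2, 10, 8, 10, 3, 6, 0, 10, 9, 11, 1, 7, 2, 11]
def rw4654 : List ℕ := [9, 5, 7, 1, 10, 7, 5, 5, 7, 2, 11, 2, 9, 2, 8, 0, 7]
def rw4655 : List ℕ := [9, 6, 2, 10, 8, 10, 3, 6, 0, 10, 6, 11, 1, 7, 2, 11, 9, 11, 3, 7, 8, 5, 0, 2, 8, 1, 6, 7, 7, 0, 9, 3, 1, 4]
def rw4656 : List ℕ := [9, 5, 5, 8, 10, 5, 0, 5, 0, 4, 4, 11, 1, 9, 1, 8, 2, 2]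
def rw4657 : List ℕ := [9, 0, 5, 6, 8, 1, 9, 7, 4, 1, 8, 6, 0, 5, 1, 10, 8, 3, 8, 7, 10, 0, 11, 6, 9, 2, 9, 11, 0, 4, 1, 7]
def rw4658 : List ℕ := [9, 7, 4, 1, 8, 6, 0, 5, 1, 11, 0, 4, 1, 7, 9, 0, 5, 6, 8, 11, 6, 9, 2, 9, 11, 10, 10, 8, 3, 8, 7, 10]
def rw4659 : List ℕ := [9, 2, 9, 11, 0, 4, 1, 7, 9, 0, 5, 6, 8, 5, 9, 7, 4, 1, 8, 6, 0, 5, 1, 10, 8, 3, 8, 7, 10, 4, 11, 6]
def rw4660 : List ℕ := [9, 6, 10, 3, 7, 4, 6, 9, 4, 11, 0, 0, 9, 4, 6, 1, 3, 1]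
def rw4661 : List ℕ := [9, 6, 2, 11, 3, 7, 8, 5, 0, 2, 8, 1, 6, 11, 1, 7, 2, 11, 9, 11, 10, 10, 8, 10, 3, 6, 0, 10, 7, 0, 9, 3, 1, 4]
def rw4662 : List ℕ := [9, 2, 9, 11, 4, 10, 8, 3, 8, 7, 10, 9, 7, 4, 1, 8, 6, 0, 5, 1, 5, 0, 4, 1, 7, 9, 0, 5, 6, 8, 11, 6]
def rw4663 : List ℕ := [9, 5, 7, 1, 10, 2, 5, 5, 3, 4, 11, 2, 9, 2, 8, 0, 7]
def rw4664 : List ℕ := [9, 0, 5, 6, 8, 4, 9, 7, 4, 1, 8, 6, 0, 5, 1, 10, 8, 3, 8, 7, 10, 5, 11, 6, 9, 2, 9, 11, 0, 4, 1, 7]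
def rw4665 : List ℕ := [9, 0, 8, 7, 0, 0, 0, 6, 6, 10, 2, 2, 0, 2, 0, 3, 11, 7]
def rw4666 : List ℕ := [9, 0, 5, 6, 8, 3, 9, 7, 4, 1, 8, 6, 0, 5, 1, 10, 8, 3, 8, 7, 10, 2, 11, 6, 9, 2, 9, 11, 0, 4, 1, 7]
def rw4667 : List ℕ := [9, 2, 0, 10, 1, 5, 6, 2, 5, 5, 11, 9, 1, 4, 4, 2, 7]
def rw4668 : List ℕ := [9, 7, 4, 1, 8, 6, 0, 5, 1, 0, 0, 4, 1, 7, 9, 0, 5, 6, 8, 11, 6, 9, 2, 9, 11, 1, 10, 8, 3, 8, 7, 10]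
def rw4669 : List ℕ := [9, 1, 8, 6, 10, 2, 1, 1, 1, 3, 1, 11, 7, 7, 1, 1, 1, 6]
def rw4670 : List ℕ := [9, 5, 6, 6, 7, 4, 8, 2, 9, 1, 5, 9, 9, 0, 11, 11, 11, 6, 6, 0, 11, 7, 10, 1, 7, 7, 10, 10, 10, 1, 8, 8, 4, 0, 8, 3]
def rw4671 : List ℕ := [9, 0, 11, 11, 11, 6, 6, 0, 11, 10, 10, 1, 7, 7, 10, 10, 10, 1, 8, 8, 4, 0, 8, 3, 9, 5, 6, 11, 7, 4, 8, 2, 9, 1, 5, 9]
def rw4672 : List ℕ := [9, 2, 8, 0, 7, 9, 5, 7, 1, 10, 0, 2, 4, 0, 5, 2, 11, 2]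
def rw4673 : List ℕ := [9, 9, 0, 11, 11, 11, 6, 6, 0, 11, 4, 10, 1, 7, 7, 10, 10, 10, 1, 8, 8, 4, 0, 8, 3, 9, 5, 6, 5, 7, 4, 8, 2, 9, 1, 5]
def rw4674 : List ℕ := [9, 6, 2, 3, 3, 7, 8, 5, 0, 2, 8, 1, 6, 11, 1, 7, 2, 11, 9, 11, 2, 10, 8, 10, 3, 6, 0, 10, 7, 0, 9, 3, 1, 4]
def rw4675 : List ℕ := [9, 6, 6, 2, 1, 8, 7, 2, 7, 0, 6, 3, 6, 9, 0, 3, 7, 7, 8, 10, 4, 3, 0, 10, 1, 10, 1, 11, 0, 11, 1, 2, 5, 11]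
def rw4676 : List ℕ := [9, 0, 8, 7, 0, 0, 0, 6, 6, 10, 3, 4, 1, 4, 0, 4, 11, 7]
def rw4677 : List ℕ := [9, 11, 3, 7, 8, 5, 0, 2, 8, 1, 6, 4, 7, 0, 9, 3, 1, 4, 9, 6, 2, 10, 8, 10, 3, 6, 0, 10, 5, 11, 1, 7, 2, 11]
def rw4678 : List ℕ := [9, 1, 4, 4, 2, 7, 9, 2, 0, 10, 1, 5, 7, 5, 2, 6, 11]
def rw4679 : List ℕ := [9, 1, 8, 6, 10, 1, 3, 0, 2, 2, 0, 11, 7, 7, 1, 1, 1, 6]
def rw4680 : List ℕ := [9, 6, 6, 2, 1, 8, 7, 2, 7, 11, 0, 11, 1, 2, 5, 11, 10, 10, 4, 3, 0, 10, 1, 10, 6, 3, 6, 9, 0, 3, 7, 7, 8, 11]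
def rw4681 : List ℕ := [9, 7, 10, 5, 5, 5, 5, 5, 2, 11, 5, 3, 0, 6, 9, 2, 5, 3]
def rw4682 : List ℕ := [9, 0, 5, 6, 8, 11, 6, 9, 2, 9, 11, 5, 10, 8, 3, 8, 7, 10, 9, 7, 4, 1, 8, 6, 0, 5, 1, 4, 0, 4, 1, 7]
def rw4683 : List ℕ := [9, 11, 10, 10, 8, 3, 8, 7, 10, 9, 7, 4, 1, 8, 6, 0, 5, 1, 11, 0, 4, 1, 7, 9, 0, 5, 6, 8, 11, 6, 9, 2]
def rw4684 : List ℕ := [9, 0, 8, 0, 10, 1, 5, 0, 3, 4, 1, 11, 9, 4, 4, 8, 3, 3]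
def rw4685 : List ℕ := [9, 5, 7, 1, 10, 2, 4, 4, 2, 5, 5, 11, 2, 9, 2, 8, 0, 7]
def rw4686 : List ℕ := [9, 6, 2, 4, 3, 7, 8, 5, 0, 2, 8, 1, 6, 11, 1, 7, 2, 11, 9, 11, 5, 10, 8, 10, 3, 6, 0, 10, 7, 0, 9, 3, 1, 4]
def rw4687 : List ℕ := [9, 6, 2, 10, 8, 10, 3, 6, 0, 10, 5, 11, 1, 7, 2, 11, 9, 11, 3, 7, 8, 5, 0, 2, 8, 1, 6, 4, 7, 0, 9, 3, 1, 4]
def rw4688 : List ℕ := [9, 0, 3, 7, 7, 8, 10, 4, 3, 0, 10, 1, 10, 3, 11, 0, 11, 1, 2, 5, 11, 9, 6, 6, 2, 1, 8, 7, 2, 7, 2, 6, 3, 6]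
def rw4689 : List ℕ := [9, 7, 10, 0, 3, 7, 3, 4, 3, 11, 2, 1, 9, 7, 1, 9, 7, 1]
def rw4690 : List ℕ := [9, 2, 9, 11, 8, 10, 8, 3, 8, 7, 10, 9, 7, 4, 1, 8, 6, 0, 5, 1, 9, 0, 4, 1, 7, 9, 0, 5, 6, 8, 11, 6]
def rw4691 : List ℕ := [9, 1, 8, 6, 10, 3, 1, 3, 0, 3, 3, 11, 7, 7, 1, 1, 1, 6]
def rw4692 : List ℕ := [9, 1, 8, 6, 10, 0, 3, 0, 3, 0, 0, 11, 7, 7, 1, 1, 1, 6]
def rw4693 : List ℕ := [9, 6, 6, 2, 1, 8, 7, 2, 7, 11, 0, 11, 1, 2, 5, 11, 6, 10, 4, 3, 0, 10, 1, 10, 6, 3, 6, 9, 0, 3, 7, 7, 8, 7]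
def rw4694 : List ℕ := [9, 4, 4, 8, 3, 3, 9, 0, 8, 0, 10, 1, 5, 0, 3, 4, 1, 11]
def rw4695 : List ℕ := [9, 0, 11, 11, 11, 6, 6, 0, 11, 5, 10, 1, 7, 7, 10, 10, 10, 1, 8, 8, 4, 0, 8, 3, 9, 5, 6, 4, 7, 4, 8, 2, 9, 1, 5, 9]
def rw4696 : List ℕ := [9, 2, 9, 11, 5, 3, 7, 10, 1, 11, 6, 10, 0, 11, 6, 2, 4, 10, 8, 3, 8, 5, 1, 2, 8, 4, 2, 8, 7, 9, 3, 5, 9, 3, 0, 4]
def rw4697 : List ℕ := [9, 2, 5, 3, 9, 7, 10, 5, 5, 5, 5, 5, 2, 11, 5, 3, 0, 6]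
def rw4698 : List ℕ := [9, 5, 6, 10, 7, 4, 8, 2, 9, 1, 5, 9, 9, 0, 11, 11, 11, 6, 6, 0, 11, 11, 10, 1, 7, 7, 10, 10, 10, 1, 8, 8, 4, 0, 8, 3]
def rw4699 : List ℕ := [9, 3, 1, 4, 9, 6, 2, 10, 8, 10, 3, 6, 0, 10, 7, 11, 1, 7, 2, 11, 9, 11, 3, 7, 8, 5, 0, 2, 8, 1, 6, 6, 7, 0]
def rw4700 : List ℕ := [9, 2, 5, 3, 9, 7, 10, 7, 5, 5, 7, 2, 11, 5, 3, 0, 6]
def rw4701 : List ℕ := [9, 9, 0, 11, 11, 11, 6, 6, 0, 11, 3, 10, 1, 7, 7, 10, 10, 10, 1, 8, 8, 4, 0, 8, 3, 9, 5, 6, 2, 7, 4, 8, 2, 9, 1, 5]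
def rw4702 : List ℕ := [9, 6, 6, 2, 1, 8, 7, 2, 7, 4, 6, 3, 6, 9, 0, 3, 7, 7, 8, 10, 4, 3, 0, 10, 1, 10, 5, 11, 0, 11, 1, 2, 5, 11]
def rw4703 : List ℕ := [9, 11, 5, 3, 7, 10, 1, 11, 4, 10, 0, 11, 6, 2, 4, 10, 8, 3, 8, 5, 1, 2, 8, 4, 2, 8, 5, 9, 3, 5, 9, 3, 0, 4, 9, 2]
def rw4704 : List ℕ := [9, 7, 1, 9, 7, 1, 9, 7, 10, 0, 4, 7, 2, 7, 7, 11, 2, 1]
def rw4705 : List ℕ := [9, 11, 5, 3, 7, 10, 1, 11, 7, 10, 0, 11, 6, 2, 4, 10, 8, 3, 8, 5, 1, 2, 8, 4, 2, 8, 6, 9, 3, 5, 9, 3, 0, 4, 9, 2]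
def rw4706 : List ℕ := [9, 3, 1, 4, 9, 6, 2, 10, 8, 10, 3, 6, 0, 10, 6, 11, 1, 7, 2, 11, 9, 11, 3, 7, 8, 5, 0, 2, 8, 1, 6, 7, 7, 0]
def rw4707 : List ℕ := [9, 7, 10, 3, 3, 5, 5, 3, 11, 5, 3, 0, 6, 9, 2, 5, 3]
def rw4708 : List ℕ := [9, 2, 9, 11, 0, 4, 1, 7, 9, 0, 5, 6, 8, 6, 9, 7, 4, 1, 8, 6, 0, 5, 1, 10, 8, 3, 8, 7, 10, 7, 11, 6]
def rw4709 : List ℕ := [9, 3, 1, 4, 9, 6, 2, 10, 8, 10, 3, 6, 0, 10, 2, 11, 1, 7, 2, 11, 9, 11, 3, 7, 8, 5, 0, 2, 8, 1, 6, 3, 7, 0]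
def rw4710 : List ℕ := [9, 3, 0, 4, 9, 2, 9, 11, 5, 3, 7, 10, 1, 11, 0, 10, 0, 11, 6, 2, 4, 10, 8, 3, 8, 5, 1, 2, 8, 4, 2, 8, 1, 9, 3, 5]
def rw4711 : List ℕ := [9, 4, 4, 8, 3, 3, 9, 0, 8, 0, 10, 5, 5, 1, 4, 1, 4, 11]
def rw4712 : List ℕ := [9, 11, 1, 10, 8, 3, 8, 7, 10, 9, 7, 4, 1, 8, 6, 0, 5, 1, 0, 0, 4, 1, 7, 9, 0, 5, 6, 8, 11, 6, 9, 2]
def rw4713 : List ℕ := [9, 5, 6, 11, 7, 4, 8, 2, 9, 1, 5, 9, 9, 0, 11, 11, 11, 6, 6, 0, 11, 10, 10, 1, 7, 7, 10, 10, 10, 1, 8, 8, 4, 0, 8, 3]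
def rw4714 : List ℕ := [9, 11, 4, 10, 8, 3, 8, 7, 10, 9, 7, 4, 1, 8, 6, 0, 5, 1, 5, 0, 4, 1, 7, 9, 0, 5, 6, 8, 11, 6, 9, 2]
def rw4715 : List ℕ := [9, 2, 8, 0, 7, 9, 5, 7, 1, 10, 2, 5, 5, 3, 4, 11, 2]
def rw4716 : List ℕ := [9, 7, 4, 1, 8, 6, 0, 5, 1, 9, 0, 4, 1, 7, 9, 0, 5, 6, 8, 11, 6, 9, 2, 9, 11, 8, 10, 8, 3, 8, 7, 10]
def rw4717 : List ℕ := [9, 6, 6, 2, 1, 8, 7, 2, 7, 1, 6, 3, 6, 9, 0, 3, 7, 7, 8, 10, 4, 3, 0, 10, 1, 10, 0, 11, 0, 11, 1, 2, 5, 11]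
def rw4718 : List ℕ := [9, 2, 9, 11, 0, 4, 1, 7, 9, 0, 5, 6, 8, 7, 9, 7, 4, 1, 8, 6, 0, 5, 1, 10, 8, 3, 8, 7, 10, 6, 11, 6]
def rw4719 : List ℕ := [9, 0, 11, 11, 11, 6, 6, 0, 11, 6, 10, 1, 7, 7, 10, 10, 10, 1, 8, 8, 4, 0, 8, 3, 9, 5, 6, 7, 7, 4, 8, 2, 9, 1, 5, 9]
def rw4720 : List ℕ := [9, 0, 3, 7, 7, 8, 8, 9, 6, 6, 2, 1, 8, 7, 2, 7, 11, 0, 11, 1, 2, 5, 11, 9, 10, 4, 3, 0, 10, 1, 10, 6, 3, 6]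
def rw4721 : List ℕ := [9, 2, 9, 11, 0, 4, 1, 7, 9, 0, 5, 6, 8, 4, 9, 7, 4, 1, 8, 6, 0, 5, 1, 10, 8, 3, 8, 7, 10, 5, 11, 6]
def rw4722 : List ℕ := [9, 2, 9, 11, 2, 10, 8, 3, 8, 7, 10, 9, 7, 4, 1, 8, 6, 0, 5, 1, 3, 0, 4, 1, 7, 9, 0, 5, 6, 8, 11, 6]
def rw4723 : List ℕ := [9, 2, 8, 0, 7, 9, 5, 7, 1, 10, 3, 5, 5, 3, 5, 5, 11, 2]
def rw4724 : List ℕ := [9, 1, 5, 9, 9, 0, 11, 11, 11, 6, 6, 0, 11, 3, 10, 1, 7, 7, 10, 10, 10, 1, 8, 8, 4, 0, 8, 3, 9, 5, 6, 2, 7, 4, 8, 2]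
def rw4725 : List ℕ := [9, 0, 5, 6, 8, 11, 6, 9, 2, 9, 11, 8, 10, 8, 3, 8, 7, 10, 9, 7, 4, 1, 8, 6, 0, 5, 1, 9, 0, 4, 1, 7]
def rw4726 : List ℕ := [9, 1, 8, 6, 10, 2, 1, 1, 3, 1, 3, 11, 7, 7, 1, 1, 1, 6]
def rw4727 : List ℕ := [9, 7, 10, 2, 5, 5, 3, 4, 11, 5, 3, 0, 6, 9, 2, 5, 3]
def rw4728 : List ℕ := [9, 6, 2, 5, 3, 7, 8, 5, 0, 2, 8, 1, 6, 11, 1, 7, 2, 11, 9, 11, 4, 10, 8, 10, 3, 6, 0, 10, 7, 0, 9, 3, 1, 4]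
def rw4729 : List ℕ := [9, 0, 8, 0, 10, 5, 5, 5, 0, 5, 0, 11, 9, 4, 4, 8, 3, 3]
def rw4730 : List ℕ := [9, 7, 1, 9, 7, 10, 0, 3, 7, 5, 2, 5, 11, 2, 1, 9, 7, 1]
def rw4731 : List ℕ := [9, 7, 4, 1, 8, 6, 0, 5, 1, 10, 8, 3, 8, 7, 10, 0, 11, 6, 9, 2, 9, 11, 0, 4, 1, 7, 9, 0, 5, 6, 8, 1]
def rw4732 : List ℕ := [9, 3, 1, 4, 9, 6, 2, 10, 8, 10, 3, 6, 0, 10, 11, 11, 1, 7, 2, 11, 9, 11, 3, 7, 8, 5, 0, 2, 8, 1, 6, 10, 7, 0]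
def rw4733 : List ℕ := [9, 6, 2, 10, 8, 10, 3, 6, 0, 10, 7, 11, 1, 7, 2, 11, 9, 11, 3, 7, 8, 5, 0, 2, 8, 1, 6, 6, 7, 0, 9, 3, 1, 4]
def rw4734 : List ℕ := [9, 6, 6, 2, 1, 8, 7, 2, 7, 5, 6, 3, 6, 9, 0, 3, 7, 7, 8, 10, 4, 3, 0, 10, 1, 10, 4, 11, 0, 11, 1, 2, 5, 11]
def rw4735 : List ℕ := [9, 2, 9, 11, 7, 10, 8, 3, 8, 7, 10, 9, 7, 4, 1, 8, 6, 0, 5, 1, 6, 0, 4, 1, 7, 9, 0, 5, 6, 8, 11, 6]
def rw4736 : List ℕ := [9, 0, 3, 7, 7, 8, 4, 9, 6, 6, 2, 1, 8, 7, 2, 7, 11, 0, 11, 1, 2, 5, 11, 5, 10, 4, 3, 0, 10, 1, 10, 6, 3, 6]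
def rw4737 : List ℕ := [9, 0, 5, 6, 8, 11, 6, 9, 2, 9, 11, 3, 10, 8, 3, 8, 7, 10, 9, 7, 4, 1, 8, 6, 0, 5, 1, 2, 0, 4, 1, 7]
def rw4738 : List ℕ := [9, 0, 8, 7, 0, 0, 0, 6, 6, 10, 1, 1, 2, 1, 2, 1, 11, 7]
def rw4739 : List ℕ := [9, 3, 1, 4, 9, 6, 2, 8, 3, 7, 8, 5, 0, 2, 8, 1, 6, 11, 1, 7, 2, 11, 9, 11, 9, 10, 8, 10, 3, 6, 0, 10, 7, 0]
def rw4740 : List ℕ := [9, 0, 3, 7, 7, 8, 11, 9, 6, 6, 2, 1, 8, 7, 2, 7, 11, 0, 11, 1, 2, 5, 11, 10, 10, 4, 3, 0, 10, 1, 10, 6, 3, 6]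
def rw4741 : List ℕ := [9, 0, 5, 6, 8, 11, 6, 9, 2, 9, 11, 0, 10, 8, 3, 8, 7, 10, 9, 7, 4, 1, 8, 6, 0, 5, 1, 1, 0, 4, 1, 7]
def rw4742 : List ℕ := [9, 5, 7, 1, 10, 5, 5, 3, 4, 4, 4, 11, 2, 9, 2, 8, 0, 7]
def rw4743 : List ℕ := [9, 2, 9, 11, 5, 3, 7, 10, 1, 11, 1, 10, 0, 11, 6, 2, 4, 10, 8, 3, 8, 5, 1, 2, 8, 4, 2, 8, 0, 9, 3, 5, 9, 3, 0, 4]
def rw4744 : List ℕ := [9, 0, 8, 7, 0, 0, 0, 6, 6, 10, 1, 3, 3, 1, 2, 0, 11, 7]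
def rw4745 : List ℕ := [9, 2, 8, 0, 7, 9, 5, 7, 1, 10, 7, 5, 5, 7, 2, 11, 2]
def rw4746 : List ℕ := [9, 3, 1, 4, 9, 6, 2, 9, 3, 7, 8, 5, 0, 2, 8, 1, 6, 11, 1, 7, 2, 11, 9, 11, 8, 10, 8, 10, 3, 6, 0, 10, 7, 0]
def rw4747 : List ℕ := [9, 9, 0, 11, 11, 11, 6, 6, 0, 11, 11, 10, 1, 7, 7, 10, 10, 10, 1, 8, 8, 4, 0, 8, 3, 9, 5, 6, 10, 7, 4, 8, 2, 9, 1, 5]
def rw4748 : List ℕ := [9, 6, 2, 10, 8, 10, 3, 6, 0, 10, 0, 11, 1, 7, 2, 11, 9, 11, 3, 7, 8, 5, 0, 2, 8, 1, 6, 1, 7, 0, 9, 3, 1, 4]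
def rw4749 : List ℕ := [9, 7, 4, 1, 8, 6, 0, 5, 1, 6, 0, 4, 1, 7, 9, 0, 5, 6, 8, 11, 6, 9, 2, 9, 11, 7, 10, 8, 3, 8, 7, 10]
def rw4750 : List ℕ := [9, 11, 11, 10, 8, 3, 8, 7, 10, 9, 7, 4, 1, 8, 6, 0, 5, 1, 10, 0, 4, 1, 7, 9, 0, 5, 6, 8, 11, 6, 9, 2]
def rw4751 : List ℕ := [9, 5, 7, 1, 10, 2, 6, 2, 4, 3, 6, 11, 2, 9, 2, 8, 0, 7]
def rw4752 : List ℕ := [9, 0, 11, 11, 11, 6, 6, 0, 11, 11, 10, 1, 7, 7, 10, 10, 10, 1, 8, 8, 4, 0, 8, 3, 9, 5, 6, 10, 7, 4, 8, 2, 9, 1, 5, 9]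
def rw4753 : List ℕ := [9, 6, 2, 6, 3, 7, 8, 5, 0, 2, 8, 1, 6, 11, 1, 7, 2, 11, 9, 11, 7, 10, 8, 10, 3, 6, 0, 10, 7, 0, 9, 3, 1, 4]
def rw4754 : List ℕ := [9, 0, 5, 6, 8, 11, 6, 9, 2, 9, 11, 1, 10, 8, 3, 8, 7, 10, 9, 7, 4, 1, 8, 6, 0, 5, 1, 0, 0, 4, 1, 7]
def rw4755 : List ℕ := [9, 0, 11, 11, 11, 6, 6, 0, 11, 7, 10, 1, 7, 7, 10, 10, 10, 1, 8, 8, 4, 0, 8, 3, 9, 5, 6, 6, 7, 4, 8, 2, 9, 1, 5, 9]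
def rw4756 : List ℕ := [9, 7, 4, 1, 8, 6, 0, 5, 1, 3, 0, 4, 1, 7, 9, 0, 5, 6, 8, 11, 6, 9, 2, 9, 11, 2, 10, 8, 3, 8, 7, 10]
def rw4757 : List ℕ := [9, 2, 9, 11, 5, 3, 7, 10, 1, 11, 0, 10, 0, 11, 6, 2, 4, 10, 8, 3, 8, 5, 1, 2, 8, 4, 2, 8, 1, 9, 3, 5, 9, 3, 0, 4]
def rw4758 : List ℕ := [9, 3, 8, 3, 10, 5, 5, 5, 2, 4, 4, 11, 0, 6, 4, 8, 6, 1]
def rw4759 : List ℕ := [9, 3, 1, 4, 9, 6, 2, 10, 8, 10, 3, 6, 0, 10, 8, 11, 1, 7, 2, 11, 9, 11, 3, 7, 8, 5, 0, 2, 8, 1, 6, 9, 7, 0]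
def rw4760 : List ℕ := [9, 6, 2, 9, 3, 7, 8, 5, 0, 2, 8, 1, 6, 11, 1, 7, 2, 11, 9, 11, 8, 10, 8, 10, 3, 6, 0, 10, 7, 0, 9, 3, 1, 4]
def rw4761 : List ℕ := [9, 3, 8, 3, 10, 3, 4, 1, 5, 3, 1, 11, 0, 6, 4, 8, 6, 1]
def rw4762 : List ℕ := [9, 3, 8, 3, 10, 7, 2, 5, 3, 7, 3, 11, 0, 6, 4, 8, 6, 1]
def rw4763 : List ℕ := [9, 2, 9, 11, 5, 3, 7, 10, 1, 11, 4, 10, 0, 11, 6, 2, 4, 10, 8, 3, 8, 5, 1, 2, 8, 4, 2, 8, 5, 9, 3, 5, 9, 3, 0, 4]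
def rw4764 : List ℕ := [9, 6, 2, 10, 8, 10, 3, 6, 0, 10, 3, 11, 1, 7, 2, 11, 9, 11, 3, 7, 8, 5, 0, 2, 8, 1, 6, 2, 7, 0, 9, 3, 1, 4]
def rw4765 : List ℕ := [9, 7, 4, 1, 8, 6, 0, 5, 1, 10, 8, 3, 8, 7, 10, 2, 11, 6, 9, 2, 9, 11, 0, 4, 1, 7, 9, 0, 5, 6, 8, 3]
def rw4766 : List ℕ := [9, 2, 5, 3, 9, 7, 10, 7, 7, 4, 3, 5, 6, 11, 5, 3, 0, 6]
def rw4767 : List ℕ := [9, 11, 7, 10, 8, 3, 8, 7, 10, 9, 7, 4, 1, 8, 6, 0, 5, 1, 6, 0, 4, 1, 7, 9, 0, 5, 6, 8, 11, 6, 9, 2]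
def rw4768 : List ℕ := [9, 4, 6, 1, 3, 1, 9, 6, 10, 3, 7, 4, 6, 9, 4, 11, 0, 0]
def rw4769 : List ℕ := [9, 5, 6, 5, 7, 4, 8, 2, 9, 1, 5, 9, 9, 0, 11, 11, 11, 6, 6, 0, 11, 4, 10, 1, 7, 7, 10, 10, 10, 1, 8, 8, 4, 0, 8, 3]
def rw4770 : List ℕ := [9, 1, 8, 6, 10, 1, 3, 3, 3, 11, 7, 7, 1, 1, 1, 6]
def rw4771 : List ℕ := [9, 0, 8, 7, 0, 0, 0, 6, 6, 10, 2, 0, 2, 0, 0, 3, 11, 7]
def rw4772 : List ℕ := [9, 2, 8, 0, 7, 9, 5, 7, 1, 10, 2, 6, 2, 4, 3, 6, 11, 2]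
def rw4773 : List ℕ := [9, 3, 1, 4, 9, 6, 2, 10, 8, 10, 3, 6, 0, 10, 10, 11, 1, 7, 2, 11, 9, 11, 3, 7, 8, 5, 0, 2, 8, 1, 6, 11, 7, 0]
def rw4774 : List ℕ := [9, 0, 11, 11, 11, 6, 6, 0, 11, 0, 10, 1, 7, 7, 10, 10, 10, 1, 8, 8, 4, 0, 8, 3, 9, 5, 6, 1, 7, 4, 8, 2, 9, 1, 5, 9]
def rw4775 : List ℕ := [9, 3, 5, 9, 3, 0, 4, 9, 2, 9, 11, 5, 3, 7, 10, 1, 11, 10, 10, 0, 11, 6, 2, 4, 10, 8, 3, 8, 5, 1, 2, 8, 4, 2, 8, 11]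
def rw4776 : List ℕ := [9, 3, 5, 9, 3, 0, 4, 9, 2, 9, 11, 5, 3, 7, 10, 1, 11, 1, 10, 0, 11, 6, 2, 4, 10, 8, 3, 8, 5, 1, 2, 8, 4, 2, 8, 0]
def rw4777 : List ℕ := [9, 7, 10, 7, 7, 4, 3, 5, 6, 11, 5, 3, 0, 6, 9, 2, 5, 3]
def rw4778 : List ℕ := [9, 3, 1, 4, 9, 6, 2, 2, 3, 7, 8, 5, 0, 2, 8, 1, 6, 11, 1, 7, 2, 11, 9, 11, 3, 10, 8, 10, 3, 6, 0, 10, 7, 0]
def rw4779 : List ℕ := [9, 3, 1, 4, 9, 6, 2, 4, 3, 7, 8, 5, 0, 2, 8, 1, 6, 11, 1, 7, 2, 11, 9, 11, 5, 10, 8, 10, 3, 6, 0, 10, 7, 0]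
def rw4780 : List ℕ := [9, 2, 9, 11, 5, 3, 7, 10, 1, 11, 11, 10, 0, 11, 6, 2, 4, 10, 8, 3, 8, 5, 1, 2, 8, 4, 2, 8, 10, 9, 3, 5, 9, 3, 0, 4]
def rw4781 : List ℕ := [9, 0, 5, 6, 8, 5, 9, 7, 4, 1, 8, 6, 0, 5, 1, 10, 8, 3, 8, 7, 10, 4, 11, 6, 9, 2, 9, 11, 0, 4, 1, 7]
def rw4782 : List ℕ := [9, 1, 5, 9, 9, 0, 11, 11, 11, 6, 6, 0, 11, 5, 10, 1, 7, 7, 10, 10, 10, 1, 8, 8, 4, 0, 8, 3, 9, 5, 6, 4, 7, 4, 8, 2]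
def rw4783 : List ℕ := [9, 11, 3, 10, 8, 3, 8, 7, 10, 9, 7, 4, 1, 8, 6, 0, 5, 1, 2, 0, 4, 1, 7, 9, 0, 5, 6, 8, 11, 6, 9, 2]
def rw4784 : List ℕ := [9, 0, 5, 6, 8, 10, 9, 7, 4, 1, 8, 6, 0, 5, 1, 10, 8, 3, 8, 7, 10, 11, 11, 6, 9, 2, 9, 11, 0, 4, 1, 7]
def rw4785 : List ℕ := [9, 1, 5, 9, 9, 0, 11, 11, 11, 6, 6, 0, 11, 10, 10, 1, 7, 7, 10, 10, 10, 1, 8, 8, 4, 0, 8, 3, 9, 5, 6, 11, 7, 4, 8, 2]
def rw4786 : List ℕ := [9, 7, 4, 1, 8, 6, 0, 5, 1, 5, 0, 4, 1, 7, 9, 0, 5, 6, 8, 11, 6, 9, 2, 9, 11, 4, 10, 8, 3, 8, 7, 10]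
def rw4787 : List ℕ := [9, 11, 5, 3, 7, 10, 1, 11, 2, 10, 0, 11, 6, 2, 4, 10, 8, 3, 8, 5, 1, 2, 8, 4, 2, 8, 3, 9, 3, 5, 9, 3, 0, 4, 9, 2]
def rw4788 : List ℕ := [9, 11, 0, 4, 1, 7, 9, 0, 5, 6, 8, 5, 9, 7, 4, 1, 8, 6, 0, 5, 1, 10, 8, 3, 8, 7, 10, 4, 11, 6, 9, 2]
def rw4789 : List ℕ := [9, 2, 9, 11, 1, 10, 8, 3, 8, 7, 10, 9, 7, 4, 1, 8, 6, 0, 5, 1, 0, 0, 4, 1, 7, 9, 0, 5, 6, 8, 11, 6]
def rw4790 : List ℕ := [9, 3, 0, 4, 9, 2, 9, 11, 5, 3, 7, 10, 1, 11, 6, 10, 0, 11, 6, 2, 4, 10, 8, 3, 8, 5, 1, 2, 8, 4, 2, 8, 7, 9, 3, 5]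
def rw4791 : List ℕ := [9, 3, 0, 4, 9, 2, 9, 11, 5, 3, 7, 10, 1, 11, 1, 10, 0, 11, 6, 2, 4, 10, 8, 3, 8, 5, 1, 2, 8, 4, 2, 8, 0, 9, 3, 5]
def rw4792 : List ℕ := [9, 11, 0, 10, 8, 3, 8, 7, 10, 9, 7, 4, 1, 8, 6, 0, 5, 1, 1, 0, 4, 1, 7, 9, 0, 5, 6, 8, 11, 6, 9, 2]
def rw4793 : List ℕ := [9, 9, 0, 11, 11, 11, 6, 6, 0, 11, 9, 10, 1, 7, 7, 10, 10, 10, 1, 8, 8, 4, 0, 8, 3, 9, 5, 6, 8, 7, 4, 8, 2, 9, 1, 5]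
def rw4794 : List ℕ := [9, 0, 3, 7, 7, 8, 0, 9, 6, 6, 2, 1, 8, 7, 2, 7, 11, 0, 11, 1, 2, 5, 11, 1, 10, 4, 3, 0, 10, 1, 10, 6, 3, 6]
def rw4795 : List ℕ := [9, 3, 5, 9, 3, 0, 4, 9, 2, 9, 11, 5, 3, 7, 10, 1, 11, 7, 10, 0, 11, 6, 2, 4, 10, 8, 3, 8, 5, 1, 2, 8, 4, 2, 8, 6]
def rw4796 : List ℕ := [9, 3, 1, 4, 9, 6, 2, 10, 8, 10, 3, 6, 0, 10, 5, 11, 1, 7, 2, 11, 9, 11, 3, 7, 8, 5, 0, 2, 8, 1, 6, 4, 7, 0]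
def rw4797 : List ℕ := [9, 9, 0, 11, 11, 11, 6, 6, 0, 11, 10, 10, 1, 7, 7, 10, 10, 10, 1, 8, 8, 4, 0, 8, 3, 9, 5, 6, 11, 7, 4, 8, 2, 9, 1, 5]
def rw4798 : List ℕ := [9, 7, 4, 1, 8, 6, 0, 5, 1, 10, 8, 3, 8, 7, 10, 10, 11, 6, 9, 2, 9, 11, 0, 4, 1, 7, 9, 0, 5, 6, 8, 11]
def rw4799 : List ℕ := [9, 3, 8, 3, 10, 5, 5, 3, 5, 5, 2, 11, 0, 6, 4, 8, 6, 1]
def rw4800 : List ℕ := [9, 11, 8, 10, 8, 3, 8, 7, 10, 9, 7, 4, 1, 8, 6, 0, 5, 1, 9, 0, 4, 1, 7, 9, 0, 5, 6, 8, 11, 6, 9, 2]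
def rw4801 : List ℕ := [9, 0, 8, 7, 0, 0, 0, 6, 6, 10, 2, 2, 1, 3, 1, 3, 11, 7]
def rw4802 : List ℕ := [9, 2, 5, 3, 9, 7, 10, 6, 0, 5, 6, 0, 5, 11, 5, 3, 0, 6]
def rw4803 : List ℕ := [9, 11, 5, 3, 7, 10, 1, 11, 10, 10, 0, 11, 6, 2, 4, 10, 8, 3, 8, 5, 1, 2, 8, 4, 2, 8, 11, 9, 3, 5, 9, 3, 0, 4, 9, 2]
def rw4804 : List ℕ := [9, 7, 4, 1, 8, 6, 0, 5, 1, 8, 0, 4, 1, 7, 9, 0, 5, 6, 8, 11, 6, 9, 2, 9, 11, 9, 10, 8, 3, 8, 7, 10]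
def rw4805 : List ℕ := [9, 0, 11, 11, 11, 6, 6, 0, 11, 2, 10, 1, 7, 7, 10, 10, 10, 1, 8, 8, 4, 0, 8, 3, 9, 5, 6, 3, 7, 4, 8, 2, 9, 1, 5, 9]
def rw4806 : List ℕ := [9, 3, 1, 4, 9, 6, 2, 10, 8, 10, 3, 6, 0, 10, 4, 11, 1, 7, 2, 11, 9, 11, 3, 7, 8, 5, 0, 2, 8, 1, 6, 5, 7, 0]
def rw4807 : List ℕ := [9, 0, 11, 11, 11, 6, 6, 0, 11, 8, 10, 1, 7, 7, 10, 10, 10, 1, 8, 8, 4, 0, 8, 3, 9, 5, 6, 9, 7, 4, 8, 2, 9, 1, 5, 9]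
def rw4808 : List ℕ := [9, 0, 3, 7, 7, 8, 10, 4, 3, 0, 10, 1, 10, 6, 11, 0, 11, 1, 2, 5, 11, 9, 6, 6, 2, 1, 8, 7, 2, 7, 7, 6, 3, 6]
def rw4809 : List ℕ := [9, 11, 6, 9, 2, 9, 11, 0, 4, 1, 7, 9, 0, 5, 6, 8, 8, 9, 7, 4, 1, 8, 6, 0, 5, 1, 10, 8, 3, 8, 7, 10]
def rw4810 : List ℕ := [9, 9, 0, 11, 11, 11, 6, 6, 0, 11, 5, 10, 1, 7, 7, 10, 10, 10, 1, 8, 8, 4, 0, 8, 3, 9, 5, 6, 4, 7, 4, 8, 2, 9, 1, 5]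
def rw4811 : List ℕ := [9, 0, 8, 7, 0, 0, 0, 6, 6, 10, 3, 3, 3, 3, 0, 11, 7]
def rw4812 : List ℕ := [9, 9, 0, 11, 11, 11, 6, 6, 0, 11, 7, 10, 1, 7, 7, 10, 10, 10, 1, 8, 8, 4, 0, 8, 3, 9, 5, 6, 6, 7, 4, 8, 2, 9, 1, 5]
def rw4813 : List ℕ := [9, 0, 11, 11, 11, 6, 6, 0, 11, 1, 10, 1, 7, 7, 10, 10, 10, 1, 8, 8, 4, 0, 8, 3, 9, 5, 6, 0, 7, 4, 8, 2, 9, 1, 5, 9]
def rw4814 : List ℕ := [9, 3, 0, 4, 9, 2, 9, 11, 5, 3, 7, 10, 1, 11, 5, 10, 0, 11, 6, 2, 4, 10, 8, 3, 8, 5, 1, 2, 8, 4, 2, 8, 4, 9, 3, 5]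
def rw4815 : List ℕ := [9, 7, 4, 1, 8, 6, 0, 5, 1, 10, 8, 3, 8, 7, 10, 1, 11, 6, 9, 2, 9, 11, 0, 4, 1, 7, 9, 0, 5, 6, 8, 0]
def rw4816 : List ℕ := [9, 3, 1, 4, 9, 6, 2, 11, 3, 7, 8, 5, 0, 2, 8, 1, 6, 11, 1, 7, 2, 11, 9, 11, 10, 10, 8, 10, 3, 6, 0, 10, 7, 0]
def rw4817 : List ℕ := [9, 1, 5, 9, 9, 0, 11, 11, 11, 6, 6, 0, 11, 1, 10, 1, 7, 7, 10, 10, 10, 1, 8, 8, 4, 0, 8, 3, 9, 5, 6, 0, 7, 4, 8, 2]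
def rw4818 : List ℕ := [9, 6, 2, 2, 3, 7, 8, 5, 0, 2, 8, 1, 6, 11, 1, 7, 2, 11, 9, 11, 3, 10, 8, 10, 3, 6, 0, 10, 7, 0, 9, 3, 1, 4]
def rw4819 : List ℕ := [9, 1, 5, 9, 9, 0, 11, 11, 11, 6, 6, 0, 11, 2, 10, 1, 7, 7, 10, 10, 10, 1, 8, 8, 4, 0, 8, 3, 9, 5, 6, 3, 7, 4, 8, 2]
def rw4820 : List ℕ := [9, 2, 9, 11, 5, 3, 7, 10, 1, 11, 2, 10, 0, 11, 6, 2, 4, 10, 8, 3, 8, 5, 1, 2, 8, 4, 2, 8, 3, 9, 3, 5, 9, 3, 0, 4]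
def rw4821 : List ℕ := [9, 7, 4, 1, 8, 6, 0, 5, 1, 10, 8, 3, 8, 7, 10, 3, 11, 6, 9, 2, 9, 11, 0, 4, 1, 7, 9, 0, 5, 6, 8, 2]
def rw4822 : List ℕ := [9, 6, 6, 2, 1, 8, 7, 2, 7, 11, 0, 11, 1, 2, 5, 11, 3, 10, 4, 3, 0, 10, 1, 10, 6, 3, 6, 9, 0, 3, 7, 7, 8, 2]
def rw4823 : List ℕ := [9, 7, 4, 1, 8, 6, 0, 5, 1, 10, 8, 3, 8, 7, 10, 7, 11, 6, 9, 2, 9, 11, 0, 4, 1, 7, 9, 0, 5, 6, 8, 6]
def rw4824 : List ℕ := [9, 6, 2, 1, 3, 7, 8, 5, 0, 2, 8, 1, 6, 11, 1, 7, 2, 11, 9, 11, 0, 10, 8, 10, 3, 6, 0, 10, 7, 0, 9, 3, 1, 4]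
def rw4825 : List ℕ := [9, 11, 5, 3, 7, 10, 1, 11, 1, 10, 0, 11, 6, 2, 4, 10, 8, 3, 8, 5, 1, 2, 8, 4, 2, 8, 0, 9, 3, 5, 9, 3, 0, 4, 9, 2]
def rw4826 : List ℕ := [9, 6, 2, 0, 3, 7, 8, 5, 0, 2, 8, 1, 6, 11, 1, 7, 2, 11, 9, 11, 1, 10, 8, 10, 3, 6, 0, 10, 7, 0, 9, 3, 1, 4]
def rw4827 : List ℕ := [9, 3, 0, 4, 9, 2, 9, 11, 5, 3, 7, 10, 1, 11, 9, 10, 0, 11, 6, 2, 4, 10, 8, 3, 8, 5, 1, 2, 8, 4, 2, 8, 8, 9, 3, 5]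
def rw4828 : List ℕ := [9, 7, 4, 1, 8, 6, 0, 5, 1, 10, 8, 3, 8, 7, 10, 5, 11, 6, 9, 2, 9, 11, 0, 4, 1, 7, 9, 0, 5, 6, 8, 4]
def rw4829 : List ℕ := [9, 7, 4, 1, 8, 6, 0, 5, 1, 10, 8, 3, 8, 7, 10, 8, 11, 6, 9, 2, 9, 11, 0, 4, 1, 7, 9, 0, 5, 6, 8, 9]
def rw4830 : List ℕ := [9, 9, 0, 11, 11, 11, 6, 6, 0, 11, 0, 10, 1, 7, 7, 10, 10, 10, 1, 8, 8, 4, 0, 8, 3, 9, 5, 6, 1, 7, 4, 8, 2, 9, 1, 5]
def rw4831 : List ℕ := [9, 6, 6, 2, 1, 8, 7, 2, 7, 11, 0, 11, 1, 2, 5, 11, 5, 10, 4, 3, 0, 10, 1, 10, 6, 3, 6, 9, 0, 3, 7, 7, 8, 4]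
def rw4832 : List ℕ := [9, 0, 3, 7, 7, 8, 10, 4, 3, 0, 10, 1, 10, 10, 11, 0, 11, 1, 2, 5, 11, 9, 6, 6, 2, 1, 8, 7, 2, 7, 11, 6, 3, 6]
def rw4833 : List ℕ := [9, 6, 6, 2, 1, 8, 7, 2, 7, 11, 0, 11, 1, 2, 5, 11, 1, 10, 4, 3, 0, 10, 1, 10, 6, 3, 6, 9, 0, 3, 7, 7, 8, 0]
def rw4834 : List ℕ := [9, 3, 5, 9, 3, 0, 4, 9, 2, 9, 11, 5, 3, 7, 10, 1, 11, 6, 10, 0, 11, 6, 2, 4, 10, 8, 3, 8, 5, 1, 2, 8, 4, 2, 8, 7]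
def rw4835 : List ℕ := [9, 9, 0, 11, 11, 11, 6, 6, 0, 11, 1, 10, 1, 7, 7, 10, 10, 10, 1, 8, 8, 4, 0, 8, 3, 9, 5, 6, 0, 7, 4, 8, 2, 9, 1, 5]
def rw4836 : List ℕ := [9, 11, 10, 10, 8, 10, 3, 6, 0, 10, 7, 0, 9, 3, 1, 4, 9, 6, 2, 11, 3, 7, 8, 5, 0, 2, 8, 1, 6, 11, 1, 7, 2, 11]
def rw4837 : List ℕ := [9, 5, 6, 8, 7, 4, 8, 2, 9, 1, 5, 9, 9, 0, 11, 11, 11, 6, 6, 0, 11, 9, 10, 1, 7, 7, 10, 10, 10, 1, 8, 8, 4, 0, 8, 3]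
def rw4838 : List ℕ := [10, 8, 3, 1, 11, 11, 0, 2, 9]
def rw4839 : List ℕ := [10, 9, 4, 0, 4, 7, 8, 11, 3, 8, 1, 3, 1, 6, 1, 7, 9, 2]
def rw4840 : List ℕ := [10, 0, 9, 3, 5, 1, 4, 2, 8, 2, 1, 11, 8, 6, 4, 2, 2]
def rw4841 : List ℕ := [10, 1, 10, 6, 3, 6, 9, 0, 3, 7, 7, 8, 1, 9, 6, 6, 2, 1, 8, 7, 2, 7, 11, 0, 11, 1, 2, 5, 11, 0, 10, 4, 3, 0]
def rw4842 : List ℕ := [10, 0, 11, 6, 2, 4, 10, 8, 3, 8, 5, 1, 2, 8, 4, 2, 8, 8, 9, 3, 5, 9, 3, 0, 4, 9, 2, 9, 11, 5, 3, 7, 10, 1, 11, 9]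
def rw4843 : List ℕ := [10, 6, 0, 5, 3, 3, 7, 11, 0, 4, 9, 3, 6, 6, 1, 5, 5]
def rw4844 : List ℕ := [10, 10, 10, 1, 8, 8, 4, 0, 8, 3, 9, 5, 6, 3, 7, 4, 8, 2, 9, 1, 5, 9, 9, 0, 11, 11, 11, 6, 6, 0, 11, 2, 10, 1, 7, 7]
def rw4845 : List ℕ := [10, 4, 1, 1, 4, 3, 11, 7, 9, 0, 8, 7, 0, 0, 0, 6, 6]
def rw4846 : List ℕ := [10, 0, 11, 6, 2, 4, 10, 8, 3, 8, 5, 1, 2, 8, 4, 2, 8, 3, 9, 3, 5, 9, 3, 0, 4, 9, 2, 9, 11, 5, 3, 7, 10, 1, 11, 2]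
def rw4847 : List ℕ := [10, 4, 4, 2, 11, 5, 3, 0, 6, 9, 2, 5, 3, 9, 7]
def rw4848 : List ℕ := [10, 1, 8, 8, 4, 0, 8, 3, 9, 5, 6, 0, 7, 4, 8, 2, 9, 1, 5, 9, 9, 0, 11, 11, 11, 6, 6, 0, 11, 1, 10, 1, 7, 7, 10, 10]
def rw4849 : List ℕ := [10, 10, 1, 8, 8, 4, 0, 8, 3, 9, 5, 6, 9, 7, 4, 8, 2, 9, 1, 5, 9, 9, 0, 11, 11, 11, 6, 6, 0, 11, 8, 10, 1, 7, 7, 10]
def rw4850 : List ℕ := [10, 10, 1, 8, 8, 4, 0, 8, 3, 9, 5, 6, 8, 7, 4, 8, 2, 9, 1, 5, 9, 9, 0, 11, 11, 11, 6, 6, 0, 11, 9, 10, 1, 7, 7, 10]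
def rw4851 : List ℕ := [10, 4, 9, 6, 3, 4, 7, 11, 2, 7, 7, 4, 0, 8, 6, 0, 3, 7]
def rw4852 : List ℕ := [10, 1, 10, 9, 11, 0, 11, 1, 2, 5, 11, 9, 6, 6, 2, 1, 8, 7, 2, 7, 8, 6, 3, 6, 9, 0, 3, 7, 7, 8, 10, 4, 3, 0]
def rw4853 : List ℕ := [10, 8, 10, 3, 6, 0, 10, 7, 0, 9, 3, 1, 4, 9, 6, 2, 3, 3, 7, 8, 5, 0, 2, 8, 1, 6, 11, 1, 7, 2, 11, 9, 11, 2]
def rw4854 : List ℕ := [10, 0, 11, 6, 2, 4, 10, 8, 3, 8, 5, 1, 2, 8, 4, 2, 8, 2, 9, 3, 5, 9, 3, 0, 4, 9, 2, 9, 11, 5, 3, 7, 10, 1, 11, 3]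
def rw4855 : List ℕ := [10, 1, 4, 6, 4, 2, 6, 11, 9, 1, 4, 4, 2, 7, 9, 2, 0]
def rw4856 : List ℕ := [10, 1, 11, 6, 10, 0, 11, 6, 2, 4, 10, 8, 3, 8, 5, 1, 2, 8, 4, 2, 8, 7, 9, 3, 5, 9, 3, 0, 4, 9, 2, 9, 11, 5, 3, 7]
def rw4857 : List ℕ := [10, 6, 3, 6, 9, 0, 3, 7, 7, 8, 2, 9, 6, 6, 2, 1, 8, 7, 2, 7, 11, 0, 11, 1, 2, 5, 11, 3, 10, 4, 3, 0, 10, 1]
def rw4858 : List ℕ := [10, 4, 8, 8, 3, 4, 0, 11, 5, 2, 6, 9, 3, 0, 9, 3, 9]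
def rw4859 : List ℕ := [10, 1, 11, 1, 10, 0, 11, 6, 2, 4, 10, 8, 3, 8, 5, 1, 2, 8, 4, 2, 8, 0, 9, 3, 5, 9, 3, 0, 4, 9, 2, 9, 11, 5, 3, 7]
def rw4860 : List ℕ := [10, 10, 10, 1, 8, 8, 4, 0, 8, 3, 9, 5, 6, 7, 7, 4, 8, 2, 9, 1, 5, 9, 9, 0, 11, 11, 11, 6, 6, 0, 11, 6, 10, 1, 7, 7]
def rw4861 : List ℕ := [10, 6, 0, 4, 3, 7, 11, 4, 7, 0, 9, 1, 9, 5, 8, 0, 7]
def rw4862 : List ℕ := [10, 0, 3, 7, 3, 4, 3, 11, 2, 1, 9, 7, 1, 9, 7, 1, 9, 7]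
def rw4863 : List ℕ := [10, 0, 11, 6, 2, 4, 10, 8, 3, 8, 5, 1, 2, 8, 4, 2, 8, 5, 9, 3, 5, 9, 3, 0, 4, 9, 2, 9, 11, 5, 3, 7, 10, 1, 11, 4]
def rw4864 : List ℕ := [10, 6, 6, 3, 6, 5, 1, 11, 6, 8, 0, 6, 8, 0, 6, 8, 0, 3]
def rw4865 : List ℕ := [10, 1, 1, 7, 5, 0, 0, 11, 7, 8, 6, 3, 6, 1, 9, 9, 0, 3]
def rw4866 : List ℕ := [10, 10, 0, 2, 9, 11, 8, 3, 1]
def rw4867 : List ℕ := [10, 10, 1, 8, 8, 4, 0, 8, 3, 9, 5, 6, 0, 7, 4, 8, 2, 9, 1, 5, 9, 9, 0, 11, 11, 11, 6, 6, 0, 11, 1, 10, 1, 7, 7, 10]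
def rw4868 : List ℕ := [10, 0, 2, 9, 11, 8, 3, 1, 10]
def rw4869 : List ℕ := [10, 1, 3, 0, 2, 2, 0, 11, 7, 7, 1, 1, 1, 6, 9, 1, 8, 6]
def rw4870 : List ℕ := [10, 4, 3, 0, 10, 1, 10, 7, 11, 0, 11, 1, 2, 5, 11, 9, 6, 6, 2, 1, 8, 7, 2, 7, 6, 6, 3, 6, 9, 0, 3, 7, 7, 8]
def rw4871 : List ℕ := [10, 4, 4, 3, 7, 4, 0, 11, 1, 3, 8, 6, 3, 5, 5, 0, 8]
def rw4872 : List ℕ := [10, 10, 1, 8, 8, 4, 0, 8, 3, 9, 5, 6, 7, 7, 4, 8, 2, 9, 1, 5, 9, 9, 0, 11, 11, 11, 6, 6, 0, 11, 6, 10, 1, 7, 7, 10]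
def rw4873 : List ℕ := [10, 6, 3, 6, 9, 0, 3, 7, 7, 8, 7, 9, 6, 6, 2, 1, 8, 7, 2, 7, 11, 0, 11, 1, 2, 5, 11, 6, 10, 4, 3, 0, 10, 1]
def rw4874 : List ℕ := [10, 10, 10, 1, 8, 8, 4, 0, 8, 3, 9, 5, 6, 10, 7, 4, 8, 2, 9, 1, 5, 9, 9, 0, 11, 11, 11, 6, 6, 0, 11, 11, 10, 1, 7, 7]
def rw4875 : List ℕ := [10, 5, 5, 5, 5, 5, 2, 11, 5, 3, 0, 6, 9, 2, 5, 3, 9, 7]
def rw4876 : List ℕ := [10, 3, 4, 6, 5, 9, 4, 11, 0, 0, 9, 4, 6, 1, 3, 1, 9, 6]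
def rw4877 : List ℕ := [10, 3, 0, 7, 8, 6, 1, 8, 0, 4, 0, 11, 6, 2, 5, 9, 3, 5]
def rw4878 : List ℕ := [10, 4, 4, 2, 11, 2, 9, 2, 8, 0, 7, 9, 5, 7, 1]
def rw4879 : List ℕ := [10, 5, 0, 5, 0, 4, 4, 11, 1, 9, 1, 8, 2, 2, 9, 5, 5, 8]
def rw4880 : List ℕ := [10, 8, 10, 3, 6, 0, 10, 11, 11, 1, 7, 2, 11, 9, 11, 3, 7, 8, 5, 0, 2, 8, 1, 6, 10, 7, 0, 9, 3, 1, 4, 9, 6, 2]
def rw4881 : List ℕ := [10, 2, 4, 4, 2, 5, 5, 11, 2, 9, 2, 8, 0, 7, 9, 5, 7, 1]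
def rw4882 : List ℕ := [10, 1, 9, 1, 6, 9, 9, 2, 6, 5, 9, 11, 4, 0, 7, 4, 0, 9]
def rw4883 : List ℕ := [10, 1, 5, 6, 2, 5, 5, 11, 9, 1, 4, 4, 2, 7, 9, 2, 0]
def rw4884 : List ℕ := [10, 4, 1, 1, 7, 7, 3, 11, 9, 6, 0, 0, 6, 4, 9, 3, 9]
def rw4885 : List ℕ := [10, 2, 0, 7, 0, 3, 5, 11, 9, 3, 0, 6, 1, 6, 9, 2, 1, 8]
def rw4886 : List ℕ := [10, 2, 2, 2, 0, 11, 7, 9, 0, 8, 7, 0, 0, 0, 6, 6]
def rw4887 : List ℕ := [10, 0, 4, 7, 2, 7, 7, 11, 2, 1, 9, 7, 1, 9, 7, 1, 9, 7]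
def rw4888 : List ℕ := [10, 8, 10, 3, 6, 0, 10, 7, 0, 9, 3, 1, 4, 9, 6, 2, 6, 3, 7, 8, 5, 0, 2, 8, 1, 6, 11, 1, 7, 2, 11, 9, 11, 7]
def rw4889 : List ℕ := [10, 1, 11, 0, 10, 0, 11, 6, 2, 4, 10, 8, 3, 8, 5, 1, 2, 8, 4, 2, 8, 1, 9, 3, 5, 9, 3, 0, 4, 9, 2, 9, 11, 5, 3, 7]
def rw4890 : List ℕ := [10, 6, 3, 6, 9, 0, 3, 7, 7, 8, 11, 9, 6, 6, 2, 1, 8, 7, 2, 7, 11, 0, 11, 1, 2, 5, 11, 10, 10, 4, 3, 0, 10, 1]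
def rw4891 : List ℕ := [10, 1, 11, 9, 10, 0, 11, 6, 2, 4, 10, 8, 3, 8, 5, 1, 2, 8, 4, 2, 8, 8, 9, 3, 5, 9, 3, 0, 4, 9, 2, 9, 11, 5, 3, 7]
def rw4892 : List ℕ := [10, 3, 5, 5, 11, 6, 8, 2, 4, 3, 8, 7, 1, 2, 4]
def rw4893 : List ℕ := [10, 8, 10, 3, 6, 0, 10, 7, 0, 9, 3, 1, 4, 9, 6, 2, 9, 3, 7, 8, 5, 0, 2, 8, 1, 6, 11, 1, 7, 2, 11, 9, 11, 8]
def rw4894 : List ℕ := [10, 1, 2, 0, 5, 9, 4, 0, 8, 3, 0, 11, 9, 3, 5, 6, 1, 3]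
def rw4895 : List ℕ := [10, 0, 11, 6, 2, 4, 10, 8, 3, 8, 5, 1, 2, 8, 4, 2, 8, 1, 9, 3, 5, 9, 3, 0, 4, 9, 2, 9, 11, 5, 3, 7, 10, 1, 11, 0]
def rw4896 : List ℕ := [10, 0, 3, 9, 3, 5, 0, 4, 2, 8, 1, 11, 3, 3, 5, 7, 9]
def rw4897 : List ℕ := [10, 0, 7, 2, 6, 3, 6, 11, 9, 5, 1, 9, 7, 1, 6, 1, 2]
def rw4898 : List ℕ := [10, 5, 2, 4, 4, 3, 11, 6, 8, 2, 4, 3, 8, 7, 1, 2, 4]
def rw4899 : List ℕ := [10, 7, 3, 5, 7, 5, 0, 11, 1, 3, 8, 6, 3, 5, 5, 0, 8]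
def rw4900 : List ℕ := [10, 10, 10, 10, 10, 10, 10, 10, 10, 10, 10, 10, 10, 10, 10, 10, 10, 10, 10, 10, 10, 10, 10]
def rw4901 : List ℕ := [10, 1, 10, 5, 11, 0, 11, 1, 2, 5, 11, 9, 6, 6, 2, 1, 8, 7, 2, 7, 4, 6, 3, 6, 9, 0, 3, 7, 7, 8, 10, 4, 3, 0]
def rw4902 : List ℕ := [10, 5, 0, 2, 4, 0, 2, 11, 5, 3, 0, 6, 9, 2, 5, 3, 9, 7]
def rw4903 : List ℕ := [10, 0, 11, 6, 2, 4, 10, 8, 3, 8, 5, 1, 2, 8, 4, 2, 8, 0, 9, 3, 5, 9, 3, 0, 4, 9, 2, 9, 11, 5, 3, 7, 10, 1, 11, 1]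
def rw4904 : List ℕ := [10, 3, 3, 5, 5, 3, 11, 5, 3, 0, 6, 9, 2, 5, 3, 9, 7]
def rw4905 : List ℕ := [10, 7, 7, 0, 0, 4, 6, 11, 0, 0, 9, 0, 9, 0, 5, 8, 8, 8]
def rw4906 : List ℕ := [10, 0, 2, 4, 0, 5, 2, 11, 2, 9, 2, 8, 0, 7, 9, 5, 7, 1]
def rw4907 : List ℕ := [10, 1, 5, 1, 9, 0, 7, 9, 6, 1, 2, 11, 4, 2, 8, 4, 3, 7]
def rw4908 : List ℕ := [10, 4, 7, 3, 8, 0, 0, 9, 2, 6, 3, 11, 9, 3, 6, 3, 3, 6]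
def rw4909 : List ℕ := [10, 3, 3, 3, 3, 0, 11, 7, 9, 0, 8, 7, 0, 0, 0, 6, 6]
def rw4910 : List ℕ := [10, 8, 10, 3, 6, 0, 10, 1, 11, 1, 7, 2, 11, 9, 11, 3, 7, 8, 5, 0, 2, 8, 1, 6, 0, 7, 0, 9, 3, 1, 4, 9, 6, 2]
def rw4911 : List ℕ := [10, 9, 0, 0, 3, 5, 8, 11, 9, 5, 1, 8, 4, 0, 5, 2, 9, 7]
def rw4912 : List ℕ := [10, 0, 11, 6, 2, 4, 10, 8, 3, 8, 5, 1, 2, 8, 4, 2, 8, 11, 9, 3, 5, 9, 3, 0, 4, 9, 2, 9, 11, 5, 3, 7, 10, 1, 11, 10]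
def rw4913 : List ℕ := [10, 0, 3, 9, 5, 8, 2, 1, 5, 3, 11, 3, 3, 8, 7, 4, 8]
def rw4914 : List ℕ := [10, 1, 5, 6, 2, 2, 11, 3, 1, 6, 1, 7, 9, 4, 2]
def rw4915 : List ℕ := [10, 7, 5, 1, 1, 6, 6, 11, 9, 9, 9, 4, 1, 8, 1, 8, 1, 1]
def rw4916 : List ℕ := [10, 7, 4, 9, 3, 5, 7, 11, 8, 1, 9, 9, 5, 0, 0, 0, 6, 0]
def rw4917 : List ℕ := [10, 8, 6, 1, 9, 4, 2, 9, 0, 6, 11, 1, 6, 9, 9, 6, 0]
def rw4918 : List ℕ := [10, 1, 10, 4, 11, 0, 11, 1, 2, 5, 11, 9, 6, 6, 2, 1, 8, 7, 2, 7, 5, 6, 3, 6, 9, 0, 3, 7, 7, 8, 10, 4, 3, 0]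
def rw4919 : List ℕ := [10, 0, 5, 2, 1, 4, 0, 11, 1, 9, 1, 8, 2, 2, 9, 5, 5, 8]
def rw4920 : List ℕ := [10, 3, 4, 4, 2, 4, 4, 11, 2, 9, 2, 8, 0, 7, 9, 5, 7, 1]
def rw4921 : List ℕ := [10, 6, 5, 2, 7, 8, 5, 11, 6, 2, 1, 7, 9, 1, 5, 6, 6, 3]
def rw4922 : List ℕ := [10, 1, 5, 2, 2, 2, 5, 11, 7, 7, 1, 1, 1, 6, 9, 1, 8, 6]
def rw4923 : List ℕ := [10, 2, 1, 3, 3, 11, 7, 9, 0, 8, 7, 0, 0, 0, 6, 6]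
def rw4924 : List ℕ := [10, 1, 10, 6, 3, 6, 9, 0, 3, 7, 7, 8, 8, 9, 6, 6, 2, 1, 8, 7, 2, 7, 11, 0, 11, 1, 2, 5, 11, 9, 10, 4, 3, 0]
def rw4925 : List ℕ := [10, 1, 10, 8, 11, 0, 11, 1, 2, 5, 11, 9, 6, 6, 2, 1, 8, 7, 2, 7, 9, 6, 3, 6, 9, 0, 3, 7, 7, 8, 10, 4, 3, 0]
def rw4926 : List ℕ := [10, 8, 10, 3, 6, 0, 10, 7, 0, 9, 3, 1, 4, 9, 6, 2, 2, 3, 7, 8, 5, 0, 2, 8, 1, 6, 11, 1, 7, 2, 11, 9, 11, 3]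
def rw4927 : List ℕ := [10, 3, 1, 3, 0, 3, 3, 11, 7, 7, 1, 1, 1, 6, 9, 1, 8, 6]
def rw4928 : List ℕ := [10, 3, 3, 7, 4, 0, 11, 3, 5, 8, 6, 0, 7, 0, 2]
def rw4929 : List ℕ := [10, 1, 10, 6, 3, 6, 9, 0, 3, 7, 7, 8, 9, 9, 6, 6, 2, 1, 8, 7, 2, 7, 11, 0, 11, 1, 2, 5, 11, 8, 10, 4, 3, 0]
def rw4930 : List ℕ := [10, 1, 11, 3, 10, 0, 11, 6, 2, 4, 10, 8, 3, 8, 5, 1, 2, 8, 4, 2, 8, 2, 9, 3, 5, 9, 3, 0, 4, 9, 2, 9, 11, 5, 3, 7]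
def rw4931 : List ℕ := [10, 1, 8, 8, 4, 0, 8, 3, 9, 5, 6, 9, 7, 4, 8, 2, 9, 1, 5, 9, 9, 0, 11, 11, 11, 6, 6, 0, 11, 8, 10, 1, 7, 7, 10, 10]
def rw4932 : List ℕ := [10, 1, 3, 3, 3, 11, 7, 7, 1, 1, 1, 6, 9, 1, 8, 6]
def rw4933 : List ℕ := [10, 1, 5, 0, 3, 4, 1, 11, 9, 4, 4, 8, 3, 3, 9, 0, 8, 0]
def rw4934 : List ℕ := [10, 8, 10, 3, 6, 0, 10, 7, 0, 9, 3, 1, 4, 9, 6, 2, 5, 3, 7, 8, 5, 0, 2, 8, 1, 6, 11, 1, 7, 2, 11, 9, 11, 4]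
def rw4935 : List ℕ := [10, 3, 6, 0, 10, 7, 0, 9, 3, 1, 4, 9, 6, 2, 5, 3, 7, 8, 5, 0, 2, 8, 1, 6, 11, 1, 7, 2, 11, 9, 11, 4, 10, 8]
def rw4936 : List ℕ := [10, 6, 3, 6, 9, 0, 3, 7, 7, 8, 4, 9, 6, 6, 2, 1, 8, 7, 2, 7, 11, 0, 11, 1, 2, 5, 11, 5, 10, 4, 3, 0, 10, 1]
def rw4937 : List ℕ := [10, 2, 4, 4, 2, 2, 11, 6, 8, 2, 4, 3, 8, 7, 1, 2, 4]
def rw4938 : List ℕ := [10, 10, 1, 8, 8, 4, 0, 8, 3, 9, 5, 6, 2, 7, 4, 8, 2, 9, 1, 5, 9, 9, 0, 11, 11, 11, 6, 6, 0, 11, 3, 10, 1, 7, 7, 10]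
def rw4939 : List ℕ := [10, 10, 10, 1, 8, 8, 4, 0, 8, 3, 9, 5, 6, 0, 7, 4, 8, 2, 9, 1, 5, 9, 9, 0, 11, 11, 11, 6, 6, 0, 11, 1, 10, 1, 7, 7]
def rw4940 : List ℕ := [10, 2, 5, 5, 3, 4, 11, 2, 9, 2, 8, 0, 7, 9, 5, 7, 1]
def rw4941 : List ℕ := [10, 2, 4, 0, 3, 9, 4, 8, 2, 1, 11, 9, 5, 6, 9, 2, 2]
def rw4942 : List ℕ := [10, 5, 5, 5, 0, 5, 0, 11, 9, 4, 4, 8, 3, 3, 9, 0, 8, 0]
def rw4943 : List ℕ := [10, 7, 3, 6, 4, 6, 0, 11, 1, 3, 8, 6, 3, 5, 5, 0, 8]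
def rw4944 : List ℕ := [10, 9, 7, 4, 1, 8, 6, 0, 5, 1, 10, 0, 4, 1, 7, 9, 0, 5, 6, 8, 11, 6, 9, 2, 9, 11, 11, 10, 8, 3, 8, 7]
def rw4945 : List ℕ := [10, 10, 10, 1, 8, 8, 4, 0, 8, 3, 9, 5, 6, 2, 7, 4, 8, 2, 9, 1, 5, 9, 9, 0, 11, 11, 11, 6, 6, 0, 11, 3, 10, 1, 7, 7]
def rw4946 : List ℕ := [10, 9, 6, 5, 1, 5, 8, 11, 3, 8, 6, 0, 7, 0, 2, 0, 9, 2]
def rw4947 : List ℕ := [10, 10, 10, 1, 8, 8, 4, 0, 8, 3, 9, 5, 6, 11, 7, 4, 8, 2, 9, 1, 5, 9, 9, 0, 11, 11, 11, 6, 6, 0, 11, 10, 10, 1, 7, 7]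
def rw4948 : List ℕ := [10, 7, 4, 9, 2, 4, 7, 11, 2, 7, 9, 2, 0, 0, 6, 0, 9, 3]
def rw4949 : List ℕ := [10, 6, 2, 2, 6, 0, 5, 11, 9, 7, 0, 9, 1, 3, 9, 0, 6, 8]
def rw4950 : List ℕ := [10, 7, 7, 2, 7, 3, 7, 11, 5, 3, 0, 6, 9, 2, 5, 3, 9, 7]
def rw4951 : List ℕ := [10, 10, 1, 8, 8, 4, 0, 8, 3, 9, 5, 6, 10, 7, 4, 8, 2, 9, 1, 5, 9, 9, 0, 11, 11, 11, 6, 6, 0, 11, 11, 10, 1, 7, 7, 10]
def rw4952 : List ℕ := [10, 7, 5, 5, 7, 2, 11, 5, 3, 0, 6, 9, 2, 5, 3, 9, 7]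
def rw4953 : List ℕ := [10, 10, 10, 1, 8, 8, 4, 0, 8, 3, 9, 5, 6, 6, 7, 4, 8, 2, 9, 1, 5, 9, 9, 0, 11, 11, 11, 6, 6, 0, 11, 7, 10, 1, 7, 7]
def rw4954 : List ℕ := [10, 4, 0, 0, 5, 2, 1, 11, 5, 3, 0, 6, 9, 2, 5, 3, 9, 7]
def rw4955 : List ℕ := [10, 3, 3, 9, 2, 6, 5, 11, 2, 7, 9, 1, 1, 3, 6, 0, 9, 3]
def rw4956 : List ℕ := [10, 1, 8, 8, 4, 0, 8, 3, 9, 5, 6, 5, 7, 4, 8, 2, 9, 1, 5, 9, 9, 0, 11, 11, 11, 6, 6, 0, 11, 4, 10, 1, 7, 7, 10, 10]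
def rw4957 : List ℕ := [10, 2, 7, 3, 8, 1, 1, 9, 2, 6, 5, 11, 2, 7, 2, 5, 5, 8]
def rw4958 : List ℕ := [10, 8, 3, 8, 5, 1, 2, 8, 4, 2, 8, 1, 9, 3, 5, 9, 3, 0, 4, 9, 2, 9, 11, 5, 3, 7, 10, 1, 11, 0, 10, 0, 11, 6, 2, 4]
def rw4959 : List ℕ := [10, 5, 5, 3, 5, 5, 2, 11, 0, 6, 4, 8, 6, 1, 9, 3, 8, 3]
def rw4960 : List ℕ := [10, 10, 1, 8, 8, 4, 0, 8, 3, 9, 5, 6, 1, 7, 4, 8, 2, 9, 1, 5, 9, 9, 0, 11, 11, 11, 6, 6, 0, 11, 0, 10, 1, 7, 7, 10]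
def rw4961 : List ℕ := [10, 2, 2, 0, 3, 11, 7, 7, 1, 1, 1, 6, 9, 1, 8, 6]
def rw4962 : List ℕ := [10, 4, 7, 3, 8, 0, 0, 9, 2, 6, 3, 11, 9, 4, 4, 3, 6, 3]
def rw4963 : List ℕ := [10, 1, 1, 4, 6, 0, 0, 11, 2, 1, 8, 8, 0, 7, 2, 7, 9, 6]
def rw4964 : List ℕ := [10, 2, 1, 1, 1, 3, 1, 11, 7, 7, 1, 1, 1, 6, 9, 1, 8, 6]
def rw4965 : List ℕ := [10, 0, 2, 0, 0, 3, 3, 11, 7, 7, 1, 1, 1, 6, 9, 1, 8, 6]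
def rw4966 : List ℕ := [10, 6, 2, 2, 4, 1, 7, 11, 4, 4, 0, 7, 7, 2, 8, 5, 1]
def rw4967 : List ℕ := [10, 1, 10, 0, 11, 0, 11, 1, 2, 5, 11, 9, 6, 6, 2, 1, 8, 7, 2, 7, 1, 6, 3, 6, 9, 0, 3, 7, 7, 8, 10, 4, 3, 0]
def rw4968 : List ℕ := [10, 3, 6, 0, 10, 7, 0, 9, 3, 1, 4, 9, 6, 2, 10, 3, 7, 8, 5, 0, 2, 8, 1, 6, 11, 1, 7, 2, 11, 9, 11, 11, 10, 8]
def rw4969 : List ℕ := [10, 2, 5, 5, 3, 4, 11, 5, 3, 0, 6, 9, 2, 5, 3, 9, 7]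
def rw4970 : List ℕ := [10, 0, 5, 5, 1, 3, 4, 11, 7, 9, 0, 8, 7, 0, 0, 0, 6, 6]
def rw4971 : List ℕ := [10, 10, 10, 1, 8, 8, 4, 0, 8, 3, 9, 5, 6, 5, 7, 4, 8, 2, 9, 1, 5, 9, 9, 0, 11, 11, 11, 6, 6, 0, 11, 4, 10, 1, 7, 7]
def rw4972 : List ℕ := [10, 8, 10, 3, 6, 0, 10, 4, 11, 1, 7, 2, 11, 9, 11, 3, 7, 8, 5, 0, 2, 8, 1, 6, 5, 7, 0, 9, 3, 1, 4, 9, 6, 2]
def rw4973 : List ℕ := [10, 4, 1, 7, 3, 3, 7, 11, 9, 7, 1, 8, 2, 0, 8, 1, 6, 8]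
def rw4974 : List ℕ := [10, 0, 2, 0, 0, 0, 3, 11, 7, 9, 0, 8, 7, 0, 0, 0, 6, 6]
def rw4975 : List ℕ := [10, 1, 5, 0, 4, 0, 5, 11, 6, 8, 2, 4, 3, 8, 7, 1, 2, 4]
def rw4976 : List ℕ := [10, 9, 4, 2, 1, 1, 8, 11, 6, 8, 3, 4, 1, 5, 9, 0, 4, 8]
def rw4977 : List ℕ := [10, 10, 10, 1, 8, 8, 4, 0, 8, 3, 9, 5, 6, 1, 7, 4, 8, 2, 9, 1, 5, 9, 9, 0, 11, 11, 11, 6, 6, 0, 11, 0, 10, 1, 7, 7]
def rw4978 : List ℕ := [10, 6, 2, 5, 1, 7, 11, 6, 1, 9, 4, 8, 0, 8, 1, 6, 5]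
def rw4979 : List ℕ := [10, 3, 3, 6, 1, 6, 5, 11, 8, 0, 7, 9, 1, 3, 4, 7, 3, 5]
def rw4980 : List ℕ := [10, 2, 2, 5, 5, 3, 5, 11, 2, 9, 2, 8, 0, 7, 9, 5, 7, 1]
def rw4981 : List ℕ := [10, 4, 3, 0, 10, 1, 10, 2, 11, 0, 11, 1, 2, 5, 11, 9, 6, 6, 2, 1, 8, 7, 2, 7, 3, 6, 3, 6, 9, 0, 3, 7, 7, 8]
def rw4982 : List ℕ := [10, 3, 6, 0, 10, 7, 0, 9, 3, 1, 4, 9, 6, 2, 2, 3, 7, 8, 5, 0, 2, 8, 1, 6, 11, 1, 7, 2, 11, 9, 11, 3, 10, 8]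
def rw4983 : List ℕ := [10, 4, 4, 3, 5, 5, 3, 11, 0, 6, 4, 8, 6, 1, 9, 3, 8, 3]
def rw4984 : List ℕ := [10, 1, 5, 7, 5, 2, 6, 11, 9, 1, 4, 4, 2, 7, 9, 2, 0]
def rw4985 : List ℕ := [10, 1, 8, 8, 4, 0, 8, 3, 9, 5, 6, 11, 7, 4, 8, 2, 9, 1, 5, 9, 9, 0, 11, 11, 11, 6, 6, 0, 11, 10, 10, 1, 7, 7, 10, 10]
def rw4986 : List ℕ := [10, 1, 10, 10, 11, 0, 11, 1, 2, 5, 11, 9, 6, 6, 2, 1, 8, 7, 2, 7, 11, 6, 3, 6, 9, 0, 3, 7, 7, 8, 10, 4, 3, 0]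
def rw4987 : List ℕ := [10, 2, 1, 2, 0, 11, 7, 7, 1, 1, 1, 6, 9, 1, 8, 6]
def rw4988 : List ℕ := [10, 1, 8, 8, 4, 0, 8, 3, 9, 5, 6, 2, 7, 4, 8, 2, 9, 1, 5, 9, 9, 0, 11, 11, 11, 6, 6, 0, 11, 3, 10, 1, 7, 7, 10, 10]
def rw4989 : List ℕ := [10, 4, 2, 1, 6, 1, 3, 11, 9, 0, 3, 8, 7, 0, 7, 1, 2, 8]
def rw4990 : List ℕ := [10, 3, 6, 0, 10, 7, 0, 9, 3, 1, 4, 9, 6, 2, 0, 3, 7, 8, 5, 0, 2, 8, 1, 6, 11, 1, 7, 2, 11, 9, 11, 1, 10, 8]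
def rw4991 : List ℕ := [10, 1, 11, 5, 10, 0, 11, 6, 2, 4, 10, 8, 3, 8, 5, 1, 2, 8, 4, 2, 8, 4, 9, 3, 5, 9, 3, 0, 4, 9, 2, 9, 11, 5, 3, 7]
def rw4992 : List ℕ := [10, 1, 7, 7, 10, 10, 10, 1, 8, 8, 4, 0, 8, 3, 9, 5, 6, 7, 7, 4, 8, 2, 9, 1, 5, 9, 9, 0, 11, 11, 11, 6, 6, 0, 11, 6]
def rw4993 : List ℕ := [10, 4, 3, 3, 3, 4, 0, 11, 7, 9, 0, 8, 7, 0, 0, 0, 6, 6]
def rw4994 : List ℕ := [10, 1, 10, 1, 11, 0, 11, 1, 2, 5, 11, 9, 6, 6, 2, 1, 8, 7, 2, 7, 0, 6, 3, 6, 9, 0, 3, 7, 7, 8, 10, 4, 3, 0]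
def rw4995 : List ℕ := [10, 4, 3, 0, 10, 1, 10, 0, 11, 0, 11, 1, 2, 5, 11, 9, 6, 6, 2, 1, 8, 7, 2, 7, 1, 6, 3, 6, 9, 0, 3, 7, 7, 8]
def rw4996 : List ℕ := [10, 10, 10, 1, 8, 8, 4, 0, 8, 3, 9, 5, 6, 8, 7, 4, 8, 2, 9, 1, 5, 9, 9, 0, 11, 11, 11, 6, 6, 0, 11, 9, 10, 1, 7, 7]
def rw4997 : List ℕ := [10, 1, 5, 3, 5, 0, 11, 9, 4, 4, 8, 3, 3, 9, 0, 8, 0]
def rw4998 : List ℕ := [10, 3, 4, 1, 4, 0, 4, 11, 7, 9, 0, 8, 7, 0, 0, 0, 6, 6]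
def rw4999 : List ℕ := [10, 8, 3, 8, 7, 10, 1, 11, 6, 9, 2, 9, 11, 0, 4, 1, 7, 9, 0, 5, 6, 8, 0, 9, 7, 4, 1, 8, 6, 0, 5, 1]
def rw5000 : List ℕ := [10, 7, 1, 8, 3, 5, 8, 0, 7, 9, 11, 1, 7, 8, 8, 7, 0]
def rw5001 : List ℕ := [10, 10, 1, 8, 8, 4, 0, 8, 3, 9, 5, 6, 6, 7, 4, 8, 2, 9, 1, 5, 9, 9, 0, 11, 11, 11, 6, 6, 0, 11, 7, 10, 1, 7, 7, 10]
def rw5002 : List ℕ := [10, 7, 0, 9, 3, 1, 4, 9, 6, 2, 1, 3, 7, 8, 5, 0, 2, 8, 1, 6, 11, 1, 7, 2, 11, 9, 11, 0, 10, 8, 10, 3, 6, 0]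
def rw5003 : List ℕ := [10, 0, 3, 6, 2, 6, 4, 11, 2, 1, 9, 7, 1, 9, 7, 1, 9, 7]
def rw5004 : List ℕ := [10, 8, 3, 8, 5, 1, 2, 8, 4, 2, 8, 5, 9, 3, 5, 9, 3, 0, 4, 9, 2, 9, 11, 5, 3, 7, 10, 1, 11, 4, 10, 0, 11, 6, 2, 4]
def rw5005 : List ℕ := [10, 0, 3, 7, 5, 2, 5, 11, 2, 1, 9, 7, 1, 9, 7, 1, 9, 7]
def rw5006 : List ℕ := [10, 10, 1, 8, 8, 4, 0, 8, 3, 9, 5, 6, 4, 7, 4, 8, 2, 9, 1, 5, 9, 9, 0, 11, 11, 11, 6, 6, 0, 11, 5, 10, 1, 7, 7, 10]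
def rw5007 : List ℕ := [10, 1, 8, 8, 4, 0, 8, 3, 9, 5, 6, 6, 7, 4, 8, 2, 9, 1, 5, 9, 9, 0, 11, 11, 11, 6, 6, 0, 11, 7, 10, 1, 7, 7, 10, 10]
def rw5008 : List ℕ := [10, 7, 0, 8, 1, 7, 0, 8, 2, 7, 8, 11, 5, 6, 2, 5, 8, 7]
def rw5009 : List ℕ := [10, 4, 3, 0, 10, 1, 10, 3, 11, 0, 11, 1, 2, 5, 11, 9, 6, 6, 2, 1, 8, 7, 2, 7, 2, 6, 3, 6, 9, 0, 3, 7, 7, 8]
def rw5010 : List ℕ := [10, 1, 10, 6, 3, 6, 9, 0, 3, 7, 7, 8, 3, 9, 6, 6, 2, 1, 8, 7, 2, 7, 11, 0, 11, 1, 2, 5, 11, 2, 10, 4, 3, 0]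
def rw5011 : List ℕ := [10, 3, 6, 0, 10, 5, 11, 1, 7, 2, 11, 9, 11, 3, 7, 8, 5, 0, 2, 8, 1, 6, 4, 7, 0, 9, 3, 1, 4, 9, 6, 2, 10, 8]
def rw5012 : List ℕ := [10, 3, 6, 0, 10, 7, 0, 9, 3, 1, 4, 9, 6, 2, 7, 3, 7, 8, 5, 0, 2, 8, 1, 6, 11, 1, 7, 2, 11, 9, 11, 6, 10, 8]
def rw5013 : List ℕ := [10, 9, 7, 4, 1, 8, 6, 0, 5, 1, 9, 0, 4, 1, 7, 9, 0, 5, 6, 8, 11, 6, 9, 2, 9, 11, 8, 10, 8, 3, 8, 7]
def rw5014 : List ℕ := [10, 1, 7, 5, 7, 2, 6, 11, 9, 1, 4, 4, 2, 7, 9, 2, 0]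
def rw5015 : List ℕ := [10, 7, 11, 0, 11, 1, 2, 5, 11, 9, 6, 6, 2, 1, 8, 7, 2, 7, 6, 6, 3, 6, 9, 0, 3, 7, 7, 8, 10, 4, 3, 0, 10, 1]
def rw5016 : List ℕ := [10, 10, 1, 8, 8, 4, 0, 8, 3, 9, 5, 6, 3, 7, 4, 8, 2, 9, 1, 5, 9, 9, 0, 11, 11, 11, 6, 6, 0, 11, 2, 10, 1, 7, 7, 10]
def rw5017 : List ℕ := [10, 8, 10, 3, 6, 0, 10, 7, 0, 9, 3, 1, 4, 9, 6, 2, 4, 3, 7, 8, 5, 0, 2, 8, 1, 6, 11, 1, 7, 2, 11, 9, 11, 5]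
def rw5018 : List ℕ := [10, 3, 6, 4, 4, 6, 11, 6, 8, 2, 4, 3, 8, 7, 1, 2, 4]
def rw5019 : List ℕ := [10, 1, 3, 0, 3, 11, 7, 9, 0, 8, 7, 0, 0, 0, 6, 6]
def rw5020 : List ℕ := [10, 1, 8, 8, 4, 0, 8, 3, 9, 5, 6, 4, 7, 4, 8, 2, 9, 1, 5, 9, 9, 0, 11, 11, 11, 6, 6, 0, 11, 5, 10, 1, 7, 7, 10, 10]
def rw5021 : List ℕ := [10, 4, 11, 6, 9, 2, 9, 11, 0, 4, 1, 7, 9, 0, 5, 6, 8, 5, 9, 7, 4, 1, 8, 6, 0, 5, 1, 10, 8, 3, 8, 7]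
def rw5022 : List ℕ := [10, 1, 10, 2, 11, 0, 11, 1, 2, 5, 11, 9, 6, 6, 2, 1, 8, 7, 2, 7, 3, 6, 3, 6, 9, 0, 3, 7, 7, 8, 10, 4, 3, 0]
def rw5023 : List ℕ := [10, 10, 1, 8, 8, 4, 0, 8, 3, 9, 5, 6, 11, 7, 4, 8, 2, 9, 1, 5, 9, 9, 0, 11, 11, 11, 6, 6, 0, 11, 10, 10, 1, 7, 7, 10]
def rw5024 : List ℕ := [10, 2, 7, 3, 8, 1, 1, 9, 2, 6, 5, 11, 7, 2, 2, 7, 2, 8]
def rw5025 : List ℕ := [10, 1, 11, 4, 10, 0, 11, 6, 2, 4, 10, 8, 3, 8, 5, 1, 2, 8, 4, 2, 8, 5, 9, 3, 5, 9, 3, 0, 4, 9, 2, 9, 11, 5, 3, 7]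
def rw5026 : List ℕ := [10, 1, 8, 8, 4, 0, 8, 3, 9, 5, 6, 1, 7, 4, 8, 2, 9, 1, 5, 9, 9, 0, 11, 11, 11, 6, 6, 0, 11, 0, 10, 1, 7, 7, 10, 10]
def rw5027 : List ℕ := [10, 10, 10, 1, 8, 8, 4, 0, 8, 3, 9, 5, 6, 4, 7, 4, 8, 2, 9, 1, 5, 9, 9, 0, 11, 11, 11, 6, 6, 0, 11, 5, 10, 1, 7, 7]
def rw5028 : List ℕ := [10, 6, 2, 6, 3, 6, 6, 11, 6, 8, 2, 4, 3, 8, 7, 1, 2, 4]
def rw5029 : List ℕ := [10, 3, 4, 1, 5, 3, 1, 11, 0, 6, 4, 8, 6, 1, 9, 3, 8, 3]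
def rw5030 : List ℕ := [10, 1, 10, 6, 11, 0, 11, 1, 2, 5, 11, 9, 6, 6, 2, 1, 8, 7, 2, 7, 7, 6, 3, 6, 9, 0, 3, 7, 7, 8, 10, 4, 3, 0]
def rw5031 : List ℕ := [10, 1, 11, 0, 11, 1, 2, 5, 11, 9, 6, 6, 2, 1, 8, 7, 2, 7, 0, 6, 3, 6, 9, 0, 3, 7, 7, 8, 10, 4, 3, 0, 10, 1]
def rw5032 : List ℕ := [10, 5, 6, 2, 5, 6, 1, 9, 2, 4, 7, 11, 4, 3, 9, 4, 2, 5]
def rw5033 : List ℕ := [10, 10, 10, 1, 8, 8, 4, 0, 8, 3, 9, 5, 6, 9, 7, 4, 8, 2, 9, 1, 5, 9, 9, 0, 11, 11, 11, 6, 6, 0, 11, 8, 10, 1, 7, 7]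
def rw5034 : List ℕ := [10, 7, 3, 4, 6, 4, 0, 11, 1, 3, 8, 6, 3, 5, 5, 0, 8]
def rw5035 : List ℕ := [10, 7, 0, 9, 3, 1, 4, 9, 6, 2, 2, 3, 7, 8, 5, 0, 2, 8, 1, 6, 11, 1, 7, 2, 11, 9, 11, 3, 10, 8, 10, 3, 6, 0]
def rw5036 : List ℕ := [10, 3, 6, 0, 10, 1, 11, 1, 7, 2, 11, 9, 11, 3, 7, 8, 5, 0, 2, 8, 1, 6, 0, 7, 0, 9, 3, 1, 4, 9, 6, 2, 10, 8]
def rw5037 : List ℕ := [10, 4, 11, 0, 11, 1, 2, 5, 11, 9, 6, 6, 2, 1, 8, 7, 2, 7, 5, 6, 3, 6, 9, 0, 3, 7, 7, 8, 10, 4, 3, 0, 10, 1]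
def rw5038 : List ℕ := [10, 1, 10, 6, 3, 6, 9, 0, 3, 7, 7, 8, 5, 9, 6, 6, 2, 1, 8, 7, 2, 7, 11, 0, 11, 1, 2, 5, 11, 4, 10, 4, 3, 0]
def rw5039 : List ℕ := [10, 6, 3, 6, 9, 0, 3, 7, 7, 8, 1, 9, 6, 6, 2, 1, 8, 7, 2, 7, 11, 0, 11, 1, 2, 5, 11, 0, 10, 4, 3, 0, 10, 1]
def rw5040 : List ℕ := [10, 6, 5, 3, 8, 5, 6, 11, 2, 8, 1, 7, 1, 1, 3, 8, 6, 3]
def rw5041 : List ℕ := [10, 7, 0, 9, 3, 1, 4, 9, 6, 2, 9, 3, 7, 8, 5, 0, 2, 8, 1, 6, 11, 1, 7, 2, 11, 9, 11, 8, 10, 8, 10, 3, 6, 0]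
def rw5042 : List ℕ := [10, 2, 6, 6, 0, 0, 5, 11, 8, 2, 8, 5, 7, 1, 1, 7, 8]
def rw5043 : List ℕ := [10, 5, 8, 4, 7, 5, 2, 11, 7, 8, 0, 2, 0, 7, 5, 8, 1, 1]
def rw5044 : List ℕ := [10, 7, 4, 2, 5, 6, 6, 11, 6, 8, 2, 4, 3, 8, 7, 1, 2, 4]
def rw5045 : List ℕ := [10, 4, 7, 3, 8, 2, 2, 11, 2, 8, 1, 7, 2, 0, 0, 8, 6, 3]
def rw5046 : List ℕ := [10, 1, 10, 7, 11, 0, 11, 1, 2, 5, 11, 9, 6, 6, 2, 1, 8, 7, 2, 7, 6, 6, 3, 6, 9, 0, 3, 7, 7, 8, 10, 4, 3, 0]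
def rw5047 : List ℕ := [10, 4, 7, 0, 7, 2, 2, 11, 4, 2, 6, 5, 2, 0, 8, 6, 1, 9]
def rw5048 : List ℕ := [10, 1, 4, 1, 4, 4, 4, 11, 1, 9, 1, 8, 2, 2, 9, 5, 5, 8]
def rw5049 : List ℕ := [10, 6, 3, 6, 9, 0, 3, 7, 7, 8, 0, 9, 6, 6, 2, 1, 8, 7, 2, 7, 11, 0, 11, 1, 2, 5, 11, 1, 10, 4, 3, 0, 10, 1]
def rw5050 : List ℕ := [10, 8, 3, 8, 7, 10, 9, 7, 4, 1, 8, 6, 0, 5, 1, 11, 0, 4, 1, 7, 9, 0, 5, 6, 8, 11, 6, 9, 2, 9, 11, 10]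
def rw5051 : List ℕ := [10, 1, 6, 4, 6, 2, 6, 11, 9, 1, 4, 4, 2, 7, 9, 2, 0]
def rw5052 : List ℕ := [10, 5, 5, 3, 4, 4, 4, 11, 2, 9, 2, 8, 0, 7, 9, 5, 7, 1]
def rw5053 : List ℕ := [10, 0, 11, 6, 2, 4, 10, 8, 3, 8, 5, 1, 2, 8, 4, 2, 8, 6, 9, 3, 5, 9, 3, 0, 4, 9, 2, 9, 11, 5, 3, 7, 10, 1, 11, 7]
def rw5054 : List ℕ := [10, 5, 2, 0, 4, 4, 1, 11, 7, 7, 1, 1, 1, 6, 9, 1, 8, 6]
def rw5055 : List ℕ := [10, 9, 6, 3, 9, 1, 6, 0, 9, 1, 6, 11, 6, 9, 4, 3, 7, 4]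
def rw5056 : List ℕ := [10, 8, 4, 7, 3, 8, 8, 7, 0, 8, 0, 11, 8, 1, 5, 6, 1, 5]
def rw5057 : List ℕ := [10, 5, 1, 5, 0, 5, 2, 11, 7, 7, 1, 1, 1, 6, 9, 1, 8, 6]
def rw5058 : List ℕ := [10, 10, 1, 8, 8, 4, 0, 8, 3, 9, 5, 6, 5, 7, 4, 8, 2, 9, 1, 5, 9, 9, 0, 11, 11, 11, 6, 6, 0, 11, 4, 10, 1, 7, 7, 10]
def rw5059 : List ℕ := [10, 4, 1, 7, 4, 1, 7, 11, 6, 8, 2, 4, 3, 8, 7, 1, 2, 4]
def rw5060 : List ℕ := [10, 8, 3, 8, 7, 10, 3, 11, 6, 9, 2, 9, 11, 0, 4, 1, 7, 9, 0, 5, 6, 8, 2, 9, 7, 4, 1, 8, 6, 0, 5, 1]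
def rw5061 : List ℕ := [10, 6, 0, 5, 6, 0, 5, 11, 5, 3, 0, 6, 9, 2, 5, 3, 9, 7]
def rw5062 : List ℕ := [10, 4, 2, 4, 4, 3, 3, 11, 0, 6, 4, 8, 6, 1, 9, 3, 8, 3]
def rw5063 : List ℕ := [10, 1, 11, 2, 10, 0, 11, 6, 2, 4, 10, 8, 3, 8, 5, 1, 2, 8, 4, 2, 8, 3, 9, 3, 5, 9, 3, 0, 4, 9, 2, 9, 11, 5, 3, 7]
def rw5064 : List ℕ := [10, 8, 3, 8, 7, 10, 8, 11, 6, 9, 2, 9, 11, 0, 4, 1, 7, 9, 0, 5, 6, 8, 9, 9, 7, 4, 1, 8, 6, 0, 5, 1]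
def rw5065 : List ℕ := [10, 2, 2, 0, 2, 0, 3, 11, 7, 9, 0, 8, 7, 0, 0, 0, 6, 6]
def rw5066 : List ℕ := [10, 1, 5, 2, 9, 9, 5, 11, 8, 2, 8, 1, 2, 8, 7, 3, 4]
def rw5067 : List ℕ := [10, 6, 3, 6, 9, 0, 3, 7, 7, 8, 9, 9, 6, 6, 2, 1, 8, 7, 2, 7, 11, 0, 11, 1, 2, 5, 11, 8, 10, 4, 3, 0, 10, 1]
def rw5068 : List ℕ := [10, 5, 8, 7, 5, 6, 2, 11, 7, 8, 0, 2, 0, 7, 5, 8, 1, 1]
def rw5069 : List ℕ := [10, 1, 11, 8, 10, 0, 11, 6, 2, 4, 10, 8, 3, 8, 5, 1, 2, 8, 4, 2, 8, 9, 9, 3, 5, 9, 3, 0, 4, 9, 2, 9, 11, 5, 3, 7]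
def rw5070 : List ℕ := [10, 8, 10, 3, 6, 0, 10, 7, 0, 9, 3, 1, 4, 9, 6, 2, 0, 3, 7, 8, 5, 0, 2, 8, 1, 6, 11, 1, 7, 2, 11, 9, 11, 1]
def rw5071 : List ℕ := [10, 1, 10, 6, 3, 6, 9, 0, 3, 7, 7, 8, 2, 9, 6, 6, 2, 1, 8, 7, 2, 7, 11, 0, 11, 1, 2, 5, 11, 3, 10, 4, 3, 0]
def rw5072 : List ℕ := [10, 2, 11, 6, 9, 2, 9, 11, 0, 4, 1, 7, 9, 0, 5, 6, 8, 3, 9, 7, 4, 1, 8, 6, 0, 5, 1, 10, 8, 3, 8, 7]
def rw5073 : List ℕ := [10, 1, 10, 6, 3, 6, 9, 0, 3, 7, 7, 8, 0, 9, 6, 6, 2, 1, 8, 7, 2, 7, 11, 0, 11, 1, 2, 5, 11, 1, 10, 4, 3, 0]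
def rw5074 : List ℕ := [10, 7, 2, 7, 3, 6, 1, 11, 3, 0, 7, 0, 6, 8, 0, 4, 8]
def rw5075 : List ℕ := [10, 7, 0, 9, 3, 1, 4, 9, 6, 2, 10, 3, 7, 8, 5, 0, 2, 8, 1, 6, 11, 1, 7, 2, 11, 9, 11, 11, 10, 8, 10, 3, 6, 0]
def rw5076 : List ℕ := [10, 0, 11, 6, 9, 2, 9, 11, 0, 4, 1, 7, 9, 0, 5, 6, 8, 1, 9, 7, 4, 1, 8, 6, 0, 5, 1, 10, 8, 3, 8, 7]
def rw5077 : List ℕ := [10, 9, 7, 4, 1, 8, 6, 0, 5, 1, 3, 0, 4, 1, 7, 9, 0, 5, 6, 8, 11, 6, 9, 2, 9, 11, 2, 10, 8, 3, 8, 7]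
def rw5078 : List ℕ := [10, 0, 11, 6, 2, 4, 10, 8, 3, 8, 5, 1, 2, 8, 4, 2, 8, 9, 9, 3, 5, 9, 3, 0, 4, 9, 2, 9, 11, 5, 3, 7, 10, 1, 11, 8]
def rw5079 : List ℕ := [10, 8, 10, 3, 6, 0, 10, 6, 11, 1, 7, 2, 11, 9, 11, 3, 7, 8, 5, 0, 2, 8, 1, 6, 7, 7, 0, 9, 3, 1, 4, 9, 6, 2]
def rw5080 : List ℕ := [10, 8, 10, 3, 6, 0, 10, 7, 11, 1, 7, 2, 11, 9, 11, 3, 7, 8, 5, 0, 2, 8, 1, 6, 6, 7, 0, 9, 3, 1, 4, 9, 6, 2]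
def rw5081 : List ℕ := [10, 7, 11, 6, 9, 2, 9, 11, 0, 4, 1, 7, 9, 0, 5, 6, 8, 6, 9, 7, 4, 1, 8, 6, 0, 5, 1, 10, 8, 3, 8, 7]
def rw5082 : List ℕ := [10, 5, 5, 1, 4, 1, 4, 11, 9, 4, 4, 8, 3, 3, 9, 0, 8, 0]
def rw5083 : List ℕ := [10, 1, 11, 7, 10, 0, 11, 6, 2, 4, 10, 8, 3, 8, 5, 1, 2, 8, 4, 2, 8, 6, 9, 3, 5, 9, 3, 0, 4, 9, 2, 9, 11, 5, 3, 7]
def rw5084 : List ℕ := [10, 7, 0, 9, 3, 1, 4, 9, 6, 2, 4, 3, 7, 8, 5, 0, 2, 8, 1, 6, 11, 1, 7, 2, 11, 9, 11, 5, 10, 8, 10, 3, 6, 0]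
def rw5085 : List ℕ := [10, 9, 7, 4, 1, 8, 6, 0, 5, 1, 5, 0, 4, 1, 7, 9, 0, 5, 6, 8, 11, 6, 9, 2, 9, 11, 4, 10, 8, 3, 8, 7]
def rw5086 : List ℕ := [10, 8, 10, 3, 6, 0, 10, 7, 0, 9, 3, 1, 4, 9, 6, 2, 11, 3, 7, 8, 5, 0, 2, 8, 1, 6, 11, 1, 7, 2, 11, 9, 11, 10]
def rw5087 : List ℕ := [10, 2, 2, 1, 3, 1, 3, 11, 7, 9, 0, 8, 7, 0, 0, 0, 6, 6]
def rw5088 : List ℕ := [10, 3, 6, 0, 10, 0, 11, 1, 7, 2, 11, 9, 11, 3, 7, 8, 5, 0, 2, 8, 1, 6, 1, 7, 0, 9, 3, 1, 4, 9, 6, 2, 10, 8]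
def rw5089 : List ℕ := [10, 7, 2, 5, 3, 7, 3, 11, 0, 6, 4, 8, 6, 1, 9, 3, 8, 3]
def rw5090 : List ℕ := [10, 9, 7, 4, 1, 8, 6, 0, 5, 1, 7, 0, 4, 1, 7, 9, 0, 5, 6, 8, 11, 6, 9, 2, 9, 11, 6, 10, 8, 3, 8, 7]
def rw5091 : List ℕ := [10, 6, 5, 3, 8, 0, 7, 4, 3, 7, 4, 11, 4, 3, 5, 8, 2, 5]
def rw5092 : List ℕ := [10, 1, 11, 10, 10, 0, 11, 6, 2, 4, 10, 8, 3, 8, 5, 1, 2, 8, 4, 2, 8, 11, 9, 3, 5, 9, 3, 0, 4, 9, 2, 9, 11, 5, 3, 7]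
def rw5093 : List ℕ := [10, 7, 3, 7, 5, 7, 0, 11, 1, 3, 8, 6, 3, 5, 5, 0, 8]
def rw5094 : List ℕ := [10, 7, 7, 4, 3, 5, 6, 11, 5, 3, 0, 6, 9, 2, 5, 3, 9, 7]
def rw5095 : List ℕ := [10, 1, 11, 11, 10, 0, 11, 6, 2, 4, 10, 8, 3, 8, 5, 1, 2, 8, 4, 2, 8, 10, 9, 3, 5, 9, 3, 0, 4, 9, 2, 9, 11, 5, 3, 7]
def rw5096 : List ℕ := [10, 0, 11, 6, 2, 4, 10, 8, 3, 8, 5, 1, 2, 8, 4, 2, 8, 4, 9, 3, 5, 9, 3, 0, 4, 9, 2, 9, 11, 5, 3, 7, 10, 1, 11, 5]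
def rw5097 : List ℕ := [10, 2, 2, 1, 1, 3, 1, 11, 7, 9, 0, 8, 7, 0, 0, 0, 6, 6]
def rw5098 : List ℕ := [10, 6, 4, 2, 8, 5, 6, 11, 1, 7, 1, 1, 1, 4, 8, 8, 0, 9]
def rw5099 : List ℕ := [10, 1, 2, 9, 1, 5, 8, 4, 1, 3, 0, 11, 2, 0, 7, 4, 2, 8]
def rw5100 : List ℕ := [10, 3, 6, 0, 10, 7, 0, 9, 3, 1, 4, 9, 6, 2, 3, 3, 7, 8, 5, 0, 2, 8, 1, 6, 11, 1, 7, 2, 11, 9, 11, 2, 10, 8]
def rw5101 : List ℕ := [10, 1, 3, 3, 1, 2, 0, 11, 7, 9, 0, 8, 7, 0, 0, 0, 6, 6]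
def rw5102 : List ℕ := [10, 1, 4, 2, 4, 0, 11, 1, 9, 1, 8, 2, 2, 9, 5, 5, 8]
def rw5103 : List ℕ := [10, 9, 7, 4, 1, 8, 6, 0, 5, 1, 4, 0, 4, 1, 7, 9, 0, 5, 6, 8, 11, 6, 9, 2, 9, 11, 5, 10, 8, 3, 8, 7]
def rw5104 : List ℕ := [10, 1, 10, 6, 3, 6, 9, 0, 3, 7, 7, 8, 11, 9, 6, 6, 2, 1, 8, 7, 2, 7, 11, 0, 11, 1, 2, 5, 11, 10, 10, 4, 3, 0]
def rw5105 : List ℕ := [10, 1, 8, 8, 4, 0, 8, 3, 9, 5, 6, 3, 7, 4, 8, 2, 9, 1, 5, 9, 9, 0, 11, 11, 11, 6, 6, 0, 11, 2, 10, 1, 7, 7, 10, 10]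
def rw5106 : List ℕ := [10, 9, 7, 4, 1, 8, 6, 0, 5, 1, 0, 0, 4, 1, 7, 9, 0, 5, 6, 8, 11, 6, 9, 2, 9, 11, 1, 10, 8, 3, 8, 7]
def rw5107 : List ℕ := [10, 9, 7, 4, 1, 8, 6, 0, 5, 1, 1, 0, 4, 1, 7, 9, 0, 5, 6, 8, 11, 6, 9, 2, 9, 11, 0, 10, 8, 3, 8, 7]
def rw5108 : List ℕ := [10, 4, 1, 5, 1, 4, 0, 11, 5, 3, 0, 6, 9, 2, 5, 3, 9, 7]
def rw5109 : List ℕ := [10, 0, 3, 0, 3, 0, 0, 11, 7, 7, 1, 1, 1, 6, 9, 1, 8, 6]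
def rw5110 : List ℕ := [10, 8, 10, 3, 6, 0, 10, 0, 11, 1, 7, 2, 11, 9, 11, 3, 7, 8, 5, 0, 2, 8, 1, 6, 1, 7, 0, 9, 3, 1, 4, 9, 6, 2]
def rw5111 : List ℕ := [10, 3, 11, 0, 11, 1, 2, 5, 11, 9, 6, 6, 2, 1, 8, 7, 2, 7, 2, 6, 3, 6, 9, 0, 3, 7, 7, 8, 10, 4, 3, 0, 10, 1]
def rw5112 : List ℕ := [10, 8, 3, 8, 7, 10, 9, 7, 4, 1, 8, 6, 0, 5, 1, 0, 0, 4, 1, 7, 9, 0, 5, 6, 8, 11, 6, 9, 2, 9, 11, 1]
def rw5113 : List ℕ := [10, 3, 6, 0, 10, 7, 0, 9, 3, 1, 4, 9, 6, 2, 1, 3, 7, 8, 5, 0, 2, 8, 1, 6, 11, 1, 7, 2, 11, 9, 11, 0, 10, 8]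
def rw5114 : List ℕ := [10, 8, 10, 3, 6, 0, 10, 2, 11, 1, 7, 2, 11, 9, 11, 3, 7, 8, 5, 0, 2, 8, 1, 6, 3, 7, 0, 9, 3, 1, 4, 9, 6, 2]
def rw5115 : List ℕ := [10, 3, 4, 4, 4, 4, 4, 11, 6, 8, 2, 4, 3, 8, 7, 1, 2, 4]
def rw5116 : List ℕ := [10, 8, 3, 8, 5, 1, 2, 8, 4, 2, 8, 10, 9, 3, 5, 9, 3, 0, 4, 9, 2, 9, 11, 5, 3, 7, 10, 1, 11, 11, 10, 0, 11, 6, 2, 4]
def rw5117 : List ℕ := [10, 3, 5, 5, 11, 0, 6, 4, 8, 6, 1, 9, 3, 8, 3]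
def rw5118 : List ℕ := [10, 4, 3, 0, 10, 1, 10, 11, 11, 0, 11, 1, 2, 5, 11, 9, 6, 6, 2, 1, 8, 7, 2, 7, 10, 6, 3, 6, 9, 0, 3, 7, 7, 8]
def rw5119 : List ℕ := [10, 1, 11, 6, 9, 2, 9, 11, 0, 4, 1, 7, 9, 0, 5, 6, 8, 0, 9, 7, 4, 1, 8, 6, 0, 5, 1, 10, 8, 3, 8, 7]
def rw5120 : List ℕ := [10, 2, 6, 2, 4, 3, 6, 11, 2, 9, 2, 8, 0, 7, 9, 5, 7, 1]
def rw5121 : List ℕ := [10, 4, 3, 0, 10, 1, 10, 9, 11, 0, 11, 1, 2, 5, 11, 9, 6, 6, 2, 1, 8, 7, 2, 7, 8, 6, 3, 6, 9, 0, 3, 7, 7, 8]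
def rw5122 : List ℕ := [10, 8, 3, 8, 7, 10, 4, 11, 6, 9, 2, 9, 11, 0, 4, 1, 7, 9, 0, 5, 6, 8, 5, 9, 7, 4, 1, 8, 6, 0, 5, 1]
def rw5123 : List ℕ := [10, 8, 3, 8, 7, 10, 10, 11, 6, 9, 2, 9, 11, 0, 4, 1, 7, 9, 0, 5, 6, 8, 11, 9, 7, 4, 1, 8, 6, 0, 5, 1]
def rw5124 : List ℕ := [10, 8, 3, 8, 5, 1, 2, 8, 4, 2, 8, 4, 9, 3, 5, 9, 3, 0, 4, 9, 2, 9, 11, 5, 3, 7, 10, 1, 11, 5, 10, 0, 11, 6, 2, 4]
def rw5125 : List ℕ := [10, 4, 3, 0, 10, 1, 10, 6, 3, 6, 9, 0, 3, 7, 7, 8, 11, 9, 6, 6, 2, 1, 8, 7, 2, 7, 11, 0, 11, 1, 2, 5, 11, 10]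
def rw5126 : List ℕ := [10, 5, 2, 4, 4, 3, 11, 0, 6, 4, 8, 6, 1, 9, 3, 8, 3]
def rw5127 : List ℕ := [10, 4, 3, 0, 10, 1, 10, 6, 3, 6, 9, 0, 3, 7, 7, 8, 4, 9, 6, 6, 2, 1, 8, 7, 2, 7, 11, 0, 11, 1, 2, 5, 11, 5]
def rw5128 : List ℕ := [10, 8, 10, 3, 6, 0, 10, 7, 0, 9, 3, 1, 4, 9, 6, 2, 8, 3, 7, 8, 5, 0, 2, 8, 1, 6, 11, 1, 7, 2, 11, 9, 11, 9]
def rw5129 : List ℕ := [10, 1, 10, 6, 3, 6, 9, 0, 3, 7, 7, 8, 4, 9, 6, 6, 2, 1, 8, 7, 2, 7, 11, 0, 11, 1, 2, 5, 11, 5, 10, 4, 3, 0]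
def rw5130 : List ℕ := [10, 2, 4, 4, 2, 2, 11, 0, 6, 4, 8, 6, 1, 9, 3, 8, 3]
def rw5131 : List ℕ := [10, 8, 3, 8, 7, 10, 0, 11, 6, 9, 2, 9, 11, 0, 4, 1, 7, 9, 0, 5, 6, 8, 1, 9, 7, 4, 1, 8, 6, 0, 5, 1]
def rw5132 : List ℕ := [10, 2, 5, 0, 0, 5, 11, 7, 7, 1, 1, 1, 6, 9, 1, 8, 6]
def rw5133 : List ℕ := [10, 1, 2, 2, 2, 2, 11, 7, 7, 1, 1, 1, 6, 9, 1, 8, 6]
def rw5134 : List ℕ := [10, 7, 0, 9, 3, 1, 4, 9, 6, 2, 11, 3, 7, 8, 5, 0, 2, 8, 1, 6, 11, 1, 7, 2, 11, 9, 11, 10, 10, 8, 10, 3, 6, 0]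
def rw5135 : List ℕ := [10, 7, 0, 9, 3, 1, 4, 9, 6, 2, 0, 3, 7, 8, 5, 0, 2, 8, 1, 6, 11, 1, 7, 2, 11, 9, 11, 1, 10, 8, 10, 3, 6, 0]
def rw5136 : List ℕ := [10, 1, 8, 8, 4, 0, 8, 3, 9, 5, 6, 10, 7, 4, 8, 2, 9, 1, 5, 9, 9, 0, 11, 11, 11, 6, 6, 0, 11, 11, 10, 1, 7, 7, 10, 10]
def rw5137 : List ℕ := [10, 1, 8, 8, 4, 0, 8, 3, 9, 5, 6, 7, 7, 4, 8, 2, 9, 1, 5, 9, 9, 0, 11, 11, 11, 6, 6, 0, 11, 6, 10, 1, 7, 7, 10, 10]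
def rw5138 : List ℕ := [10, 9, 7, 4, 1, 8, 6, 0, 5, 1, 6, 0, 4, 1, 7, 9, 0, 5, 6, 8, 11, 6, 9, 2, 9, 11, 7, 10, 8, 3, 8, 7]
def rw5139 : List ℕ := [10, 8, 10, 3, 6, 0, 10, 7, 0, 9, 3, 1, 4, 9, 6, 2, 1, 3, 7, 8, 5, 0, 2, 8, 1, 6, 11, 1, 7, 2, 11, 9, 11, 0]
def rw5140 : List ℕ := [10, 4, 3, 0, 10, 1, 10, 6, 3, 6, 9, 0, 3, 7, 7, 8, 6, 9, 6, 6, 2, 1, 8, 7, 2, 7, 11, 0, 11, 1, 2, 5, 11, 7]
def rw5141 : List ℕ := [10, 2, 0, 2, 0, 3, 3, 11, 7, 7, 1, 1, 1, 6, 9, 1, 8, 6]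
def rw5142 : List ℕ := [10, 3, 11, 6, 9, 2, 9, 11, 0, 4, 1, 7, 9, 0, 5, 6, 8, 2, 9, 7, 4, 1, 8, 6, 0, 5, 1, 10, 8, 3, 8, 7]
def rw5143 : List ℕ := [10, 6, 3, 6, 9, 0, 3, 7, 7, 8, 10, 9, 6, 6, 2, 1, 8, 7, 2, 7, 11, 0, 11, 1, 2, 5, 11, 11, 10, 4, 3, 0, 10, 1]
def rw5144 : List ℕ := [10, 3, 6, 0, 10, 7, 0, 9, 3, 1, 4, 9, 6, 2, 6, 3, 7, 8, 5, 0, 2, 8, 1, 6, 11, 1, 7, 2, 11, 9, 11, 7, 10, 8]
def rw5145 : List ℕ := [10, 1, 10, 3, 11, 0, 11, 1, 2, 5, 11, 9, 6, 6, 2, 1, 8, 7, 2, 7, 2, 6, 3, 6, 9, 0, 3, 7, 7, 8, 10, 4, 3, 0]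
def rw5146 : List ℕ := [10, 8, 10, 3, 6, 0, 10, 8, 11, 1, 7, 2, 11, 9, 11, 3, 7, 8, 5, 0, 2, 8, 1, 6, 9, 7, 0, 9, 3, 1, 4, 9, 6, 2]
def rw5147 : List ℕ := [10, 2, 1, 1, 2, 0, 2, 11, 7, 7, 1, 1, 1, 6, 9, 1, 8, 6]
def rw5148 : List ℕ := [10, 3, 7, 4, 6, 9, 4, 11, 0, 0, 9, 4, 6, 1, 3, 1, 9, 6]
def rw5149 : List ℕ := [10, 3, 6, 0, 10, 7, 11, 1, 7, 2, 11, 9, 11, 3, 7, 8, 5, 0, 2, 8, 1, 6, 6, 7, 0, 9, 3, 1, 4, 9, 6, 2, 10, 8]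
def rw5150 : List ℕ := [10, 8, 3, 8, 7, 10, 7, 11, 6, 9, 2, 9, 11, 0, 4, 1, 7, 9, 0, 5, 6, 8, 6, 9, 7, 4, 1, 8, 6, 0, 5, 1]
def rw5151 : List ℕ := [10, 1, 10, 6, 3, 6, 9, 0, 3, 7, 7, 8, 6, 9, 6, 6, 2, 1, 8, 7, 2, 7, 11, 0, 11, 1, 2, 5, 11, 7, 10, 4, 3, 0]
def rw5152 : List ℕ := [10, 2, 11, 0, 11, 1, 2, 5, 11, 9, 6, 6, 2, 1, 8, 7, 2, 7, 3, 6, 3, 6, 9, 0, 3, 7, 7, 8, 10, 4, 3, 0, 10, 1]
def rw5153 : List ℕ := [10, 3, 6, 0, 10, 7, 0, 9, 3, 1, 4, 9, 6, 2, 11, 3, 7, 8, 5, 0, 2, 8, 1, 6, 11, 1, 7, 2, 11, 9, 11, 10, 10, 8]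
def rw5154 : List ℕ := [10, 10, 10, 10, 10, 10, 10, 10, 10, 10, 10, 10, 10, 10, 10, 10, 10, 10, 10, 10, 10, 10, 10]
def rw5155 : List ℕ := [10, 8, 10, 3, 6, 0, 10, 10, 11, 1, 7, 2, 11, 9, 11, 3, 7, 8, 5, 0, 2, 8, 1, 6, 11, 7, 0, 9, 3, 1, 4, 9, 6, 2]
def rw5156 : List ℕ := [10, 3, 6, 0, 10, 7, 0, 9, 3, 1, 4, 9, 6, 2, 4, 3, 7, 8, 5, 0, 2, 8, 1, 6, 11, 1, 7, 2, 11, 9, 11, 5, 10, 8]
def rw5157 : List ℕ := [10, 7, 11, 1, 7, 2, 11, 9, 11, 3, 7, 8, 5, 0, 2, 8, 1, 6, 6, 7, 0, 9, 3, 1, 4, 9, 6, 2, 10, 8, 10, 3, 6, 0]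
def rw5158 : List ℕ := [10, 3, 1, 5, 3, 1, 4, 11, 6, 8, 2, 4, 3, 8, 7, 1, 2, 4]
def rw5159 : List ℕ := [10, 4, 3, 4, 6, 2, 1, 11, 6, 8, 0, 6, 8, 0, 6, 8, 0, 3]
def rw5160 : List ℕ := [10, 5, 5, 5, 2, 4, 4, 11, 0, 6, 4, 8, 6, 1, 9, 3, 8, 3]
def rw5161 : List ℕ := [10, 8, 3, 8, 5, 1, 2, 8, 4, 2, 8, 0, 9, 3, 5, 9, 3, 0, 4, 9, 2, 9, 11, 5, 3, 7, 10, 1, 11, 1, 10, 0, 11, 6, 2, 4]
def rw5162 : List ℕ := [10, 3, 1, 3, 0, 0, 3, 11, 7, 9, 0, 8, 7, 0, 0, 0, 6, 6]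
def rw5163 : List ℕ := [10, 9, 11, 1, 7, 2, 11, 9, 11, 3, 7, 8, 5, 0, 2, 8, 1, 6, 8, 7, 0, 9, 3, 1, 4, 9, 6, 2, 10, 8, 10, 3, 6, 0]
def rw5164 : List ℕ := [10, 5, 11, 0, 11, 1, 2, 5, 11, 9, 6, 6, 2, 1, 8, 7, 2, 7, 4, 6, 3, 6, 9, 0, 3, 7, 7, 8, 10, 4, 3, 0, 10, 1]
def rw5165 : List ℕ := [10, 7, 0, 9, 3, 1, 4, 9, 6, 2, 5, 3, 7, 8, 5, 0, 2, 8, 1, 6, 11, 1, 7, 2, 11, 9, 11, 4, 10, 8, 10, 3, 6, 0]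
def rw5166 : List ℕ := [10, 3, 6, 0, 10, 9, 11, 1, 7, 2, 11, 9, 11, 3, 7, 8, 5, 0, 2, 8, 1, 6, 8, 7, 0, 9, 3, 1, 4, 9, 6, 2, 10, 8]
def rw5167 : List ℕ := [10, 8, 10, 3, 6, 0, 10, 9, 11, 1, 7, 2, 11, 9, 11, 3, 7, 8, 5, 0, 2, 8, 1, 6, 8, 7, 0, 9, 3, 1, 4, 9, 6, 2]
def rw5168 : List ℕ := [10, 6, 3, 6, 9, 0, 3, 7, 7, 8, 6, 9, 6, 6, 2, 1, 8, 7, 2, 7, 11, 0, 11, 1, 2, 5, 11, 7, 10, 4, 3, 0, 10, 1]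
def rw5169 : List ℕ := [10, 5, 11, 6, 9, 2, 9, 11, 0, 4, 1, 7, 9, 0, 5, 6, 8, 4, 9, 7, 4, 1, 8, 6, 0, 5, 1, 10, 8, 3, 8, 7]
def rw5170 : List ℕ := [10, 3, 6, 0, 10, 7, 0, 9, 3, 1, 4, 9, 6, 2, 8, 3, 7, 8, 5, 0, 2, 8, 1, 6, 11, 1, 7, 2, 11, 9, 11, 9, 10, 8]
def rw5171 : List ℕ := [10, 1, 10, 11, 11, 0, 11, 1, 2, 5, 11, 9, 6, 6, 2, 1, 8, 7, 2, 7, 10, 6, 3, 6, 9, 0, 3, 7, 7, 8, 10, 4, 3, 0]
def rw5172 : List ℕ := [10, 8, 3, 8, 7, 10, 9, 7, 4, 1, 8, 6, 0, 5, 1, 7, 0, 4, 1, 7, 9, 0, 5, 6, 8, 11, 6, 9, 2, 9, 11, 6]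
def rw5173 : List ℕ := [10, 4, 3, 0, 10, 1, 10, 6, 3, 6, 9, 0, 3, 7, 7, 8, 3, 9, 6, 6, 2, 1, 8, 7, 2, 7, 11, 0, 11, 1, 2, 5, 11, 2]
def rw5174 : List ℕ := [10, 1, 1, 2, 1, 2, 1, 11, 7, 9, 0, 8, 7, 0, 0, 0, 6, 6]
def rw5175 : List ℕ := [10, 8, 11, 1, 7, 2, 11, 9, 11, 3, 7, 8, 5, 0, 2, 8, 1, 6, 9, 7, 0, 9, 3, 1, 4, 9, 6, 2, 10, 8, 10, 3, 6, 0]
def rw5176 : List ℕ := [10, 5, 7, 3, 7, 2, 1, 11, 6, 8, 0, 6, 8, 0, 6, 8, 0, 3]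
def rw5177 : List ℕ := [10, 9, 7, 4, 1, 8, 6, 0, 5, 1, 11, 0, 4, 1, 7, 9, 0, 5, 6, 8, 11, 6, 9, 2, 9, 11, 10, 10, 8, 3, 8, 7]
def rw5178 : List ℕ := [10, 0, 11, 6, 2, 4, 10, 8, 3, 8, 5, 1, 2, 8, 4, 2, 8, 7, 9, 3, 5, 9, 3, 0, 4, 9, 2, 9, 11, 5, 3, 7, 10, 1, 11, 6]
def rw5179 : List ℕ := [10, 2, 5, 2, 6, 2, 1, 11, 6, 8, 0, 6, 8, 0, 6, 8, 0, 3]
def rw5180 : List ℕ := [10, 8, 3, 8, 5, 1, 2, 8, 4, 2, 8, 2, 9, 3, 5, 9, 3, 0, 4, 9, 2, 9, 11, 5, 3, 7, 10, 1, 11, 3, 10, 0, 11, 6, 2, 4]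
def rw5181 : List ℕ := [10, 1, 7, 7, 10, 10, 10, 1, 8, 8, 4, 0, 8, 3, 9, 5, 6, 0, 7, 4, 8, 2, 9, 1, 5, 9, 9, 0, 11, 11, 11, 6, 6, 0, 11, 1]
def rw5182 : List ℕ := [10, 8, 3, 8, 5, 1, 2, 8, 4, 2, 8, 6, 9, 3, 5, 9, 3, 0, 4, 9, 2, 9, 11, 5, 3, 7, 10, 1, 11, 7, 10, 0, 11, 6, 2, 4]
def rw5183 : List ℕ := [10, 10, 10, 10, 10, 10, 10, 10, 10, 10, 10, 10, 10, 10, 10, 10, 10, 10, 10, 10, 10, 10, 10]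
def rw5184 : List ℕ := [10, 1, 8, 8, 4, 0, 8, 3, 9, 5, 6, 8, 7, 4, 8, 2, 9, 1, 5, 9, 9, 0, 11, 11, 11, 6, 6, 0, 11, 9, 10, 1, 7, 7, 10, 10]
def rw5185 : List ℕ := [10, 3, 6, 0, 10, 7, 0, 9, 3, 1, 4, 9, 6, 2, 9, 3, 7, 8, 5, 0, 2, 8, 1, 6, 11, 1, 7, 2, 11, 9, 11, 8, 10, 8]
def rw5186 : List ℕ := [10, 10, 10, 10, 10, 10, 10, 10, 10, 10, 10, 10, 10, 10, 10, 10, 10, 10, 10, 10, 10, 10, 10]
def rw5187 : List ℕ := [10, 8, 3, 8, 5, 1, 2, 8, 4, 2, 8, 11, 9, 3, 5, 9, 3, 0, 4, 9, 2, 9, 11, 5, 3, 7, 10, 1, 11, 10, 10, 0, 11, 6, 2, 4]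
def rw5188 : List ℕ := [10, 7, 0, 9, 3, 1, 4, 9, 6, 2, 6, 3, 7, 8, 5, 0, 2, 8, 1, 6, 11, 1, 7, 2, 11, 9, 11, 7, 10, 8, 10, 3, 6, 0]
def rw5189 : List ℕ := [10, 2, 2, 1, 2, 0, 2, 11, 7, 9, 0, 8, 7, 0, 0, 0, 6, 6]
def rw5190 : List ℕ := [10, 6, 3, 6, 9, 0, 3, 7, 7, 8, 5, 9, 6, 6, 2, 1, 8, 7, 2, 7, 11, 0, 11, 1, 2, 5, 11, 4, 10, 4, 3, 0, 10, 1]
def rw5191 : List ℕ := [10, 3, 6, 0, 10, 2, 11, 1, 7, 2, 11, 9, 11, 3, 7, 8, 5, 0, 2, 8, 1, 6, 3, 7, 0, 9, 3, 1, 4, 9, 6, 2, 10, 8]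
def rw5192 : List ℕ := [10, 9, 11, 6, 9, 2, 9, 11, 0, 4, 1, 7, 9, 0, 5, 6, 8, 8, 9, 7, 4, 1, 8, 6, 0, 5, 1, 10, 8, 3, 8, 7]
def rw5193 : List ℕ := [10, 9, 11, 0, 11, 1, 2, 5, 11, 9, 6, 6, 2, 1, 8, 7, 2, 7, 8, 6, 3, 6, 9, 0, 3, 7, 7, 8, 10, 4, 3, 0, 10, 1]
def rw5194 : List ℕ := [10, 10, 10, 10, 10, 10, 10, 10, 10, 10, 10, 10, 10, 10, 10, 10, 10, 10, 10, 10, 10, 10, 10]
def rw5195 : List ℕ := [10, 4, 3, 0, 10, 1, 10, 5, 11, 0, 11, 1, 2, 5, 11, 9, 6, 6, 2, 1, 8, 7, 2, 7, 4, 6, 3, 6, 9, 0, 3, 7, 7, 8]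
def rw5196 : List ℕ := [10, 4, 3, 0, 10, 1, 10, 6, 3, 6, 9, 0, 3, 7, 7, 8, 1, 9, 6, 6, 2, 1, 8, 7, 2, 7, 11, 0, 11, 1, 2, 5, 11, 0]
def rw5197 : List ℕ := [10, 1, 10, 6, 3, 6, 9, 0, 3, 7, 7, 8, 7, 9, 6, 6, 2, 1, 8, 7, 2, 7, 11, 0, 11, 1, 2, 5, 11, 6, 10, 4, 3, 0]
def rw5198 : List ℕ := [10, 0, 3, 4, 1, 1, 5, 11, 6, 8, 2, 4, 3, 8, 7, 1, 2, 4]
def rw5199 : List ℕ := [10, 10, 10, 10, 10, 10, 10, 10, 10, 10, 10, 10, 10, 10, 10, 10, 10, 10, 10, 10, 10, 10, 10]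
def rw5200 : List ℕ := [10, 10, 10, 10, 10, 10, 10, 10, 10, 10, 10, 10, 10, 10, 10, 10, 10, 10, 10, 10, 10, 10, 10]
def rw5201 : List ℕ := [10, 9, 7, 4, 1, 8, 6, 0, 5, 1, 2, 0, 4, 1, 7, 9, 0, 5, 6, 8, 11, 6, 9, 2, 9, 11, 3, 10, 8, 3, 8, 7]
def rw5202 : List ℕ := [10, 3, 6, 0, 10, 4, 11, 1, 7, 2, 11, 9, 11, 3, 7, 8, 5, 0, 2, 8, 1, 6, 5, 7, 0, 9, 3, 1, 4, 9, 6, 2, 10, 8]
def rw5203 : List ℕ := [10, 8, 3, 8, 7, 10, 2, 11, 6, 9, 2, 9, 11, 0, 4, 1, 7, 9, 0, 5, 6, 8, 3, 9, 7, 4, 1, 8, 6, 0, 5, 1]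
def rw5204 : List ℕ := [10, 8, 10, 3, 6, 0, 10, 5, 11, 1, 7, 2, 11, 9, 11, 3, 7, 8, 5, 0, 2, 8, 1, 6, 4, 7, 0, 9, 3, 1, 4, 9, 6, 2]
def rw5205 : List ℕ := [10, 3, 3, 5, 5, 3, 11, 2, 9, 2, 8, 0, 7, 9, 5, 7, 1]
def rw5206 : List ℕ := [10, 3, 11, 1, 7, 2, 11, 9, 11, 3, 7, 8, 5, 0, 2, 8, 1, 6, 2, 7, 0, 9, 3, 1, 4, 9, 6, 2, 10, 8, 10, 3, 6, 0]
def rw5207 : List ℕ := [10, 10, 10, 10, 10, 10, 10, 10, 10, 10, 10, 10, 10, 10, 10, 10, 10, 10, 10, 10, 10, 10, 10]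
def rw5208 : List ℕ := [10, 8, 11, 0, 11, 1, 2, 5, 11, 9, 6, 6, 2, 1, 8, 7, 2, 7, 9, 6, 3, 6, 9, 0, 3, 7, 7, 8, 10, 4, 3, 0, 10, 1]
def rw5209 : List ℕ := [10, 2, 0, 2, 0, 0, 3, 11, 7, 9, 0, 8, 7, 0, 0, 0, 6, 6]
def rw5210 : List ℕ := [10, 1, 10, 6, 3, 6, 9, 0, 3, 7, 7, 8, 10, 9, 6, 6, 2, 1, 8, 7, 2, 7, 11, 0, 11, 1, 2, 5, 11, 11, 10, 4, 3, 0]
def rw5211 : List ℕ := [10, 3, 6, 4, 4, 6, 11, 0, 6, 4, 8, 6, 1, 9, 3, 8, 3]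
def rw5212 : List ℕ := [10, 4, 3, 0, 10, 1, 10, 10, 11, 0, 11, 1, 2, 5, 11, 9, 6, 6, 2, 1, 8, 7, 2, 7, 11, 6, 3, 6, 9, 0, 3, 7, 7, 8]
def rw5213 : List ℕ := [10, 0, 11, 0, 11, 1, 2, 5, 11, 9, 6, 6, 2, 1, 8, 7, 2, 7, 1, 6, 3, 6, 9, 0, 3, 7, 7, 8, 10, 4, 3, 0, 10, 1]
def rw5214 : List ℕ := [10, 7, 0, 9, 3, 1, 4, 9, 6, 2, 3, 3, 7, 8, 5, 0, 2, 8, 1, 6, 11, 1, 7, 2, 11, 9, 11, 2, 10, 8, 10, 3, 6, 0]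
def rw5215 : List ℕ := [10, 8, 3, 8, 7, 10, 9, 7, 4, 1, 8, 6, 0, 5, 1, 4, 0, 4, 1, 7, 9, 0, 5, 6, 8, 11, 6, 9, 2, 9, 11, 5]
def rw5216 : List ℕ := [10, 3, 6, 0, 10, 6, 11, 1, 7, 2, 11, 9, 11, 3, 7, 8, 5, 0, 2, 8, 1, 6, 7, 7, 0, 9, 3, 1, 4, 9, 6, 2, 10, 8]
def rw5217 : List ℕ := [10, 10, 11, 1, 7, 2, 11, 9, 11, 3, 7, 8, 5, 0, 2, 8, 1, 6, 11, 7, 0, 9, 3, 1, 4, 9, 6, 2, 10, 8, 10, 3, 6, 0]
def rw5218 : List ℕ := [10, 6, 3, 6, 9, 0, 3, 7, 7, 8, 3, 9, 6, 6, 2, 1, 8, 7, 2, 7, 11, 0, 11, 1, 2, 5, 11, 2, 10, 4, 3, 0, 10, 1]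
def rw5219 : List ℕ := [10, 10, 11, 6, 9, 2, 9, 11, 0, 4, 1, 7, 9, 0, 5, 6, 8, 11, 9, 7, 4, 1, 8, 6, 0, 5, 1, 10, 8, 3, 8, 7]
def rw5220 : List ℕ := [10, 3, 6, 0, 10, 10, 11, 1, 7, 2, 11, 9, 11, 3, 7, 8, 5, 0, 2, 8, 1, 6, 11, 7, 0, 9, 3, 1, 4, 9, 6, 2, 10, 8]
def rw5221 : List ℕ := [10, 6, 11, 6, 9, 2, 9, 11, 0, 4, 1, 7, 9, 0, 5, 6, 8, 7, 9, 7, 4, 1, 8, 6, 0, 5, 1, 10, 8, 3, 8, 7]
def rw5222 : List ℕ := [10, 10, 10, 10, 10, 10, 10, 10, 10, 10, 10, 10, 10, 10, 10, 10, 10, 10, 10, 10, 10, 10, 10]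
def rw5223 : List ℕ := [10, 7, 5, 5, 7, 2, 11, 2, 9, 2, 8, 0, 7, 9, 5, 7, 1]
def rw5224 : List ℕ := [10, 6, 3, 6, 9, 0, 3, 7, 7, 8, 8, 9, 6, 6, 2, 1, 8, 7, 2, 7, 11, 0, 11, 1, 2, 5, 11, 9, 10, 4, 3, 0, 10, 1]
def rw5225 : List ℕ := [10, 7, 0, 9, 3, 1, 4, 9, 6, 2, 7, 3, 7, 8, 5, 0, 2, 8, 1, 6, 11, 1, 7, 2, 11, 9, 11, 6, 10, 8, 10, 3, 6, 0]
def rw5226 : List ℕ := [10, 2, 1, 3, 1, 3, 3, 11, 7, 7, 1, 1, 1, 6, 9, 1, 8, 6]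
def rw5227 : List ℕ := [10, 8, 3, 8, 7, 10, 11, 11, 6, 9, 2, 9, 11, 0, 4, 1, 7, 9, 0, 5, 6, 8, 10, 9, 7, 4, 1, 8, 6, 0, 5, 1]
def rw5228 : List ℕ := [10, 8, 3, 8, 7, 10, 9, 7, 4, 1, 8, 6, 0, 5, 1, 1, 0, 4, 1, 7, 9, 0, 5, 6, 8, 11, 6, 9, 2, 9, 11, 0]
def rw5229 : List ℕ := [10, 4, 3, 0, 10, 1, 10, 1, 11, 0, 11, 1, 2, 5, 11, 9, 6, 6, 2, 1, 8, 7, 2, 7, 0, 6, 3, 6, 9, 0, 3, 7, 7, 8]
def rw5230 : List ℕ := [10, 10, 10, 10, 10, 10, 10, 10, 10, 10, 10, 10, 10, 10, 10, 10, 10, 10, 10, 10, 10, 10, 10]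
def rw5231 : List ℕ := [10, 3, 6, 0, 10, 8, 11, 1, 7, 2, 11, 9, 11, 3, 7, 8, 5, 0, 2, 8, 1, 6, 9, 7, 0, 9, 3, 1, 4, 9, 6, 2, 10, 8]
def rw5232 : List ℕ := [10, 4, 3, 0, 10, 1, 10, 4, 11, 0, 11, 1, 2, 5, 11, 9, 6, 6, 2, 1, 8, 7, 2, 7, 5, 6, 3, 6, 9, 0, 3, 7, 7, 8]
def rw5233 : List ℕ := [10, 4, 3, 0, 10, 1, 10, 6, 3, 6, 9, 0, 3, 7, 7, 8, 5, 9, 6, 6, 2, 1, 8, 7, 2, 7, 11, 0, 11, 1, 2, 5, 11, 4]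
def rw5234 : List ℕ := [10, 8, 11, 6, 9, 2, 9, 11, 0, 4, 1, 7, 9, 0, 5, 6, 8, 9, 9, 7, 4, 1, 8, 6, 0, 5, 1, 10, 8, 3, 8, 7]
def rw5235 : List ℕ := [10, 8, 10, 3, 6, 0, 10, 7, 0, 9, 3, 1, 4, 9, 6, 2, 7, 3, 7, 8, 5, 0, 2, 8, 1, 6, 11, 1, 7, 2, 11, 9, 11, 6]
def rw5236 : List ℕ := [10, 8, 3, 8, 7, 10, 9, 7, 4, 1, 8, 6, 0, 5, 1, 2, 0, 4, 1, 7, 9, 0, 5, 6, 8, 11, 6, 9, 2, 9, 11, 3]
def rw5237 : List ℕ := [10, 2, 1, 1, 3, 1, 3, 11, 7, 7, 1, 1, 1, 6, 9, 1, 8, 6]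
def rw5238 : List ℕ := [10, 7, 0, 9, 3, 1, 4, 9, 6, 2, 8, 3, 7, 8, 5, 0, 2, 8, 1, 6, 11, 1, 7, 2, 11, 9, 11, 9, 10, 8, 10, 3, 6, 0]
def rw5239 : List ℕ := [10, 9, 7, 4, 1, 8, 6, 0, 5, 1, 8, 0, 4, 1, 7, 9, 0, 5, 6, 8, 11, 6, 9, 2, 9, 11, 9, 10, 8, 3, 8, 7]
def rw5240 : List ℕ := [10, 8, 3, 8, 5, 1, 2, 8, 4, 2, 8, 7, 9, 3, 5, 9, 3, 0, 4, 9, 2, 9, 11, 5, 3, 7, 10, 1, 11, 6, 10, 0, 11, 6, 2, 4]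
def rw5241 : List ℕ := [10, 8, 10, 3, 6, 0, 10, 3, 11, 1, 7, 2, 11, 9, 11, 3, 7, 8, 5, 0, 2, 8, 1, 6, 2, 7, 0, 9, 3, 1, 4, 9, 6, 2]
def rw5242 : List ℕ := [10, 8, 3, 8, 5, 1, 2, 8, 4, 2, 8, 8, 9, 3, 5, 9, 3, 0, 4, 9, 2, 9, 11, 5, 3, 7, 10, 1, 11, 9, 10, 0, 11, 6, 2, 4]
def rw5243 : List ℕ := [10, 4, 3, 0, 10, 1, 10, 6, 3, 6, 9, 0, 3, 7, 7, 8, 2, 9, 6, 6, 2, 1, 8, 7, 2, 7, 11, 0, 11, 1, 2, 5, 11, 3]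
def rw5244 : List ℕ := [10, 1, 7, 7, 10, 10, 10, 1, 8, 8, 4, 0, 8, 3, 9, 5, 6, 4, 7, 4, 8, 2, 9, 1, 5, 9, 9, 0, 11, 11, 11, 6, 6, 0, 11, 5]
def rw5245 : List ℕ := [10, 8, 3, 8, 7, 10, 9, 11, 6, 9, 2, 9, 11, 0, 4, 1, 7, 9, 0, 5, 6, 8, 8, 9, 7, 4, 1, 8, 6, 0, 5, 1]
def rw5246 : List ℕ := [10, 8, 3, 8, 5, 1, 2, 8, 4, 2, 8, 9, 9, 3, 5, 9, 3, 0, 4, 9, 2, 9, 11, 5, 3, 7, 10, 1, 11, 8, 10, 0, 11, 6, 2, 4]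
def rw5247 : List ℕ := [10, 3, 6, 0, 10, 3, 11, 1, 7, 2, 11, 9, 11, 3, 7, 8, 5, 0, 2, 8, 1, 6, 2, 7, 0, 9, 3, 1, 4, 9, 6, 2, 10, 8]
def rw5248 : List ℕ := [10, 4, 4, 2, 4, 4, 2, 11, 0, 6, 4, 8, 6, 1, 9, 3, 8, 3]
def rw5249 : List ℕ := [10, 8, 3, 8, 7, 10, 6, 11, 6, 9, 2, 9, 11, 0, 4, 1, 7, 9, 0, 5, 6, 8, 7, 9, 7, 4, 1, 8, 6, 0, 5, 1]
def rw5250 : List ℕ := [10, 8, 3, 8, 7, 10, 9, 7, 4, 1, 8, 6, 0, 5, 1, 3, 0, 4, 1, 7, 9, 0, 5, 6, 8, 11, 6, 9, 2, 9, 11, 2]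
def rw5251 : List ℕ := [10, 6, 11, 1, 7, 2, 11, 9, 11, 3, 7, 8, 5, 0, 2, 8, 1, 6, 7, 7, 0, 9, 3, 1, 4, 9, 6, 2, 10, 8, 10, 3, 6, 0]
def rw5252 : List ℕ := [10, 4, 3, 0, 10, 1, 10, 6, 3, 6, 9, 0, 3, 7, 7, 8, 0, 9, 6, 6, 2, 1, 8, 7, 2, 7, 11, 0, 11, 1, 2, 5, 11, 1]
def rw5253 : List ℕ := [10, 10, 10, 10, 10, 10, 10, 10, 10, 10, 10, 10, 10, 10, 10, 10, 10, 10, 10, 10, 10, 10, 10]
def rw5254 : List ℕ := [10, 4, 3, 0, 10, 1, 10, 8, 11, 0, 11, 1, 2, 5, 11, 9, 6, 6, 2, 1, 8, 7, 2, 7, 9, 6, 3, 6, 9, 0, 3, 7, 7, 8]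
def rw5255 : List ℕ := [10, 10, 10, 10, 10, 10, 10, 10, 10, 10, 10, 10, 10, 10, 10, 10, 10, 10, 10, 10, 10, 10, 10]
def rw5256 : List ℕ := [10, 10, 10, 10, 10, 10, 10, 10, 10, 10, 10, 10, 10, 10, 10, 10, 10, 10, 10, 10, 10, 10, 10]
def rw5257 : List ℕ := [10, 10, 10, 10, 10, 10, 10, 10, 10, 10, 10, 10, 10, 10, 10, 10, 10, 10, 10, 10, 10, 10, 10]
def rw5258 : List ℕ := [10, 10, 10, 10, 10, 10, 10, 10, 10, 10, 10, 10, 10, 10, 10, 10, 10, 10, 10, 10, 10, 10, 10]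
def rw5259 : List ℕ := [10, 3, 5, 5, 3, 5, 5, 11, 2, 9, 2, 8, 0, 7, 9, 5, 7, 1]
def rw5260 : List ℕ := [10, 10, 10, 10, 10, 10, 10, 10, 10, 10, 10, 10, 10, 10, 10, 10, 10, 10, 10, 10, 10, 10, 10]
def rw5261 : List ℕ := [10, 6, 11, 0, 11, 1, 2, 5, 11, 9, 6, 6, 2, 1, 8, 7, 2, 7, 7, 6, 3, 6, 9, 0, 3, 7, 7, 8, 10, 4, 3, 0, 10, 1]
def rw5262 : List ℕ := [10, 8, 3, 8, 7, 10, 9, 7, 4, 1, 8, 6, 0, 5, 1, 8, 0, 4, 1, 7, 9, 0, 5, 6, 8, 11, 6, 9, 2, 9, 11, 9]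
def rw5263 : List ℕ := [10, 2, 11, 1, 7, 2, 11, 9, 11, 3, 7, 8, 5, 0, 2, 8, 1, 6, 3, 7, 0, 9, 3, 1, 4, 9, 6, 2, 10, 8, 10, 3, 6, 0]
def rw5264 : List ℕ := [10, 8, 3, 8, 5, 1, 2, 8, 4, 2, 8, 3, 9, 3, 5, 9, 3, 0, 4, 9, 2, 9, 11, 5, 3, 7, 10, 1, 11, 2, 10, 0, 11, 6, 2, 4]
def rw5265 : List ℕ := [10, 8, 3, 8, 7, 10, 9, 7, 4, 1, 8, 6, 0, 5, 1, 6, 0, 4, 1, 7, 9, 0, 5, 6, 8, 11, 6, 9, 2, 9, 11, 7]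
def rw5266 : List ℕ := [10, 10, 10, 10, 10, 10, 10, 10, 10, 10, 10, 10, 10, 10, 10, 10, 10, 10, 10, 10, 10, 10, 10]
def rw5267 : List ℕ := [10, 5, 11, 1, 7, 2, 11, 9, 11, 3, 7, 8, 5, 0, 2, 8, 1, 6, 4, 7, 0, 9, 3, 1, 4, 9, 6, 2, 10, 8, 10, 3, 6, 0]
def rw5268 : List ℕ := [10, 1, 7, 7, 10, 10, 10, 1, 8, 8, 4, 0, 8, 3, 9, 5, 6, 2, 7, 4, 8, 2, 9, 1, 5, 9, 9, 0, 11, 11, 11, 6, 6, 0, 11, 3]
def rw5269 : List ℕ := [10, 1, 7, 7, 10, 10, 10, 1, 8, 8, 4, 0, 8, 3, 9, 5, 6, 8, 7, 4, 8, 2, 9, 1, 5, 9, 9, 0, 11, 11, 11, 6, 6, 0, 11, 9]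
def rw5270 : List ℕ := [10, 8, 3, 8, 7, 10, 5, 11, 6, 9, 2, 9, 11, 0, 4, 1, 7, 9, 0, 5, 6, 8, 4, 9, 7, 4, 1, 8, 6, 0, 5, 1]
def rw5271 : List ℕ := [10, 1, 7, 7, 10, 10, 10, 1, 8, 8, 4, 0, 8, 3, 9, 5, 6, 1, 7, 4, 8, 2, 9, 1, 5, 9, 9, 0, 11, 11, 11, 6, 6, 0, 11, 0]
def rw5272 : List ℕ := [10, 4, 3, 0, 10, 1, 10, 6, 3, 6, 9, 0, 3, 7, 7, 8, 8, 9, 6, 6, 2, 1, 8, 7, 2, 7, 11, 0, 11, 1, 2, 5, 11, 9]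
def rw5273 : List ℕ := [10, 1, 7, 7, 10, 10, 10, 1, 8, 8, 4, 0, 8, 3, 9, 5, 6, 6, 7, 4, 8, 2, 9, 1, 5, 9, 9, 0, 11, 11, 11, 6, 6, 0, 11, 7]
def rw5274 : List ℕ := [11, 9, 0, 3, 8, 7, 0, 7, 1, 2, 8, 10, 4, 2, 1, 6, 1, 3]
def rw5275 : List ℕ := [11, 6, 8, 2, 4, 3, 8, 7, 1, 2, 4, 10, 3, 5, 5]
def rw5276 : List ℕ := [11, 1, 3, 8, 6, 3, 5, 5, 0, 8, 10, 7, 3, 5, 7, 5, 0]
def rw5277 : List ℕ := [11, 6, 9, 2, 9, 11, 0, 4, 1, 7, 9, 0, 5, 6, 8, 0, 9, 7, 4, 1, 8, 6, 0, 5, 1, 10, 8, 3, 8, 7, 10, 1]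
def rw5278 : List ℕ := [11, 2, 0, 7, 4, 2, 8, 10, 1, 2, 9, 1, 5, 8, 4, 1, 3, 0]
def rw5279 : List ℕ := [11, 4, 3, 5, 8, 2, 5, 10, 6, 5, 3, 8, 0, 7, 4, 3, 7, 4]
def rw5280 : List ℕ := [11, 0, 11, 1, 2, 5, 11, 7, 10, 4, 3, 0, 10, 1, 10, 6, 3, 6, 9, 0, 3, 7, 7, 8, 6, 9, 6, 6, 2, 1, 8, 7, 2, 7]
def rw5281 : List ℕ := [11, 1, 9, 1, 8, 2, 2, 9, 5, 5, 8, 10, 1, 4, 1, 4, 4, 4]
def rw5282 : List ℕ := [11, 7, 9, 0, 8, 7, 0, 0, 0, 6, 6, 10, 1, 3, 0, 3]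
def rw5283 : List ℕ := [11, 9, 11, 3, 7, 8, 5, 0, 2, 8, 1, 6, 6, 7, 0, 9, 3, 1, 4, 9, 6, 2, 10, 8, 10, 3, 6, 0, 10, 7, 11, 1, 7, 2]
def rw5284 : List ℕ := [11, 6, 2, 4, 10, 8, 3, 8, 5, 1, 2, 8, 4, 2, 8, 7, 9, 3, 5, 9, 3, 0, 4, 9, 2, 9, 11, 5, 3, 7, 10, 1, 11, 6, 10, 0]
def rw5285 : List ℕ := [11, 6, 6, 0, 11, 8, 10, 1, 7, 7, 10, 10, 10, 1, 8, 8, 4, 0, 8, 3, 9, 5, 6, 9, 7, 4, 8, 2, 9, 1, 5, 9, 9, 0, 11, 11]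
def rw5286 : List ℕ := [11, 9, 1, 4, 4, 2, 7, 9, 2, 0, 10, 1, 5, 7, 5, 2, 6]
def rw5287 : List ℕ := [11, 3, 0, 7, 0, 6, 8, 0, 4, 8, 10, 7, 2, 7, 3, 6, 1]
def rw5288 : List ℕ := [11, 0, 11, 1, 2, 5, 11, 0, 10, 4, 3, 0, 10, 1, 10, 6, 3, 6, 9, 0, 3, 7, 7, 8, 1, 9, 6, 6, 2, 1, 8, 7, 2, 7]
def rw5289 : List ℕ := [11, 11, 0, 2, 9, 10, 8, 3, 1]
def rw5290 : List ℕ := [11, 9, 11, 3, 7, 8, 5, 0, 2, 8, 1, 6, 9, 7, 0, 9, 3, 1, 4, 9, 6, 2, 10, 8, 10, 3, 6, 0, 10, 8, 11, 1, 7, 2]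
def rw5291 : List ℕ := [11, 8, 2, 8, 1, 2, 8, 7, 3, 4, 10, 1, 5, 2, 9, 9, 5]
def rw5292 : List ℕ := [11, 5, 3, 0, 6, 9, 2, 5, 3, 9, 7, 10, 6, 0, 5, 6, 0, 5]
def rw5293 : List ℕ := [11, 5, 10, 0, 11, 6, 2, 4, 10, 8, 3, 8, 5, 1, 2, 8, 4, 2, 8, 4, 9, 3, 5, 9, 3, 0, 4, 9, 2, 9, 11, 5, 3, 7, 10, 1]
def rw5294 : List ℕ := [11, 5, 3, 0, 6, 9, 2, 5, 3, 9, 7, 10, 3, 3, 5, 5, 3]
def rw5295 : List ℕ := [11, 7, 9, 0, 8, 7, 0, 0, 0, 6, 6, 10, 2, 1, 3, 3]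
def rw5296 : List ℕ := [11, 6, 6, 0, 11, 7, 10, 1, 7, 7, 10, 10, 10, 1, 8, 8, 4, 0, 8, 3, 9, 5, 6, 6, 7, 4, 8, 2, 9, 1, 5, 9, 9, 0, 11, 11]
def rw5297 : List ℕ := [11, 6, 2, 1, 7, 9, 1, 5, 6, 6, 3, 10, 6, 5, 2, 7, 8, 5]
def rw5298 : List ℕ := [11, 11, 6, 6, 0, 11, 1, 10, 1, 7, 7, 10, 10, 10, 1, 8, 8, 4, 0, 8, 3, 9, 5, 6, 0, 7, 4, 8, 2, 9, 1, 5, 9, 9, 0, 11]
def rw5299 : List ℕ := [11, 6, 6, 0, 11, 4, 10, 1, 7, 7, 10, 10, 10, 1, 8, 8, 4, 0, 8, 3, 9, 5, 6, 5, 7, 4, 8, 2, 9, 1, 5, 9, 9, 0, 11, 11]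
def rw5300 : List ℕ := [11, 0, 4, 9, 3, 6, 6, 1, 5, 5, 10, 6, 0, 5, 3, 3, 7]
def rw5301 : List ℕ := [11, 6, 2, 4, 10, 8, 3, 8, 5, 1, 2, 8, 4, 2, 8, 5, 9, 3, 5, 9, 3, 0, 4, 9, 2, 9, 11, 5, 3, 7, 10, 1, 11, 4, 10, 0]
def rw5302 : List ℕ := [11, 1, 7, 2, 11, 9, 11, 3, 7, 8, 5, 0, 2, 8, 1, 6, 10, 7, 0, 9, 3, 1, 4, 9, 6, 2, 10, 8, 10, 3, 6, 0, 10, 11]
def rw5303 : List ℕ := [11, 0, 2, 9, 10, 8, 3, 1, 11]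
def rw5304 : List ℕ := [11, 9, 11, 2, 10, 8, 10, 3, 6, 0, 10, 7, 0, 9, 3, 1, 4, 9, 6, 2, 3, 3, 7, 8, 5, 0, 2, 8, 1, 6, 11, 1, 7, 2]
def rw5305 : List ℕ := [11, 0, 11, 1, 2, 5, 11, 2, 10, 4, 3, 0, 10, 1, 10, 6, 3, 6, 9, 0, 3, 7, 7, 8, 3, 9, 6, 6, 2, 1, 8, 7, 2, 7]
def rw5306 : List ℕ := [11, 8, 6, 4, 2, 2, 10, 0, 9, 3, 5, 1, 4, 2, 8, 2, 1]
def rw5307 : List ℕ := [11, 11, 6, 6, 0, 11, 11, 10, 1, 7, 7, 10, 10, 10, 1, 8, 8, 4, 0, 8, 3, 9, 5, 6, 10, 7, 4, 8, 2, 9, 1, 5, 9, 9, 0, 11]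
def rw5308 : List ℕ := [11, 0, 11, 1, 2, 5, 11, 9, 6, 6, 2, 1, 8, 7, 2, 7, 7, 6, 3, 6, 9, 0, 3, 7, 7, 8, 10, 4, 3, 0, 10, 1, 10, 6]
def rw5309 : List ℕ := [11, 1, 9, 1, 8, 2, 2, 9, 5, 5, 8, 10, 1, 4, 2, 4, 0]
def rw5310 : List ℕ := [11, 9, 4, 4, 3, 6, 3, 10, 4, 7, 3, 8, 0, 0, 9, 2, 6, 3]
def rw5311 : List ℕ := [11, 11, 6, 6, 0, 11, 0, 10, 1, 7, 7, 10, 10, 10, 1, 8, 8, 4, 0, 8, 3, 9, 5, 6, 1, 7, 4, 8, 2, 9, 1, 5, 9, 9, 0, 11]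
def rw5312 : List ℕ := [11, 9, 11, 7, 10, 8, 10, 3, 6, 0, 10, 7, 0, 9, 3, 1, 4, 9, 6, 2, 6, 3, 7, 8, 5, 0, 2, 8, 1, 6, 11, 1, 7, 2]
def rw5313 : List ℕ := [11, 9, 7, 0, 9, 1, 3, 9, 0, 6, 8, 10, 6, 2, 2, 6, 0, 5]
def rw5314 : List ℕ := [11, 11, 6, 6, 0, 11, 2, 10, 1, 7, 7, 10, 10, 10, 1, 8, 8, 4, 0, 8, 3, 9, 5, 6, 3, 7, 4, 8, 2, 9, 1, 5, 9, 9, 0, 11]
def rw5315 : List ℕ := [11, 11, 11, 6, 6, 0, 11, 4, 10, 1, 7, 7, 10, 10, 10, 1, 8, 8, 4, 0, 8, 3, 9, 5, 6, 5, 7, 4, 8, 2, 9, 1, 5, 9, 9, 0]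
def rw5316 : List ℕ := [11, 4, 3, 9, 4, 2, 5, 10, 5, 6, 2, 5, 6, 1, 9, 2, 4, 7]
def rw5317 : List ℕ := [11, 3, 1, 6, 1, 7, 9, 4, 2, 10, 1, 5, 6, 2, 2]
def rw5318 : List ℕ := [11, 6, 6, 0, 11, 5, 10, 1, 7, 7, 10, 10, 10, 1, 8, 8, 4, 0, 8, 3, 9, 5, 6, 4, 7, 4, 8, 2, 9, 1, 5, 9, 9, 0, 11, 11]
def rw5319 : List ℕ := [11, 7, 9, 0, 8, 7, 0, 0, 0, 6, 6, 10, 2, 2, 2, 0]
def rw5320 : List ℕ := [11, 7, 9, 0, 8, 7, 0, 0, 0, 6, 6, 10, 0, 5, 5, 1, 3, 4]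
def rw5321 : List ℕ := [11, 8, 3, 1, 10, 10, 0, 2, 9]
def rw5322 : List ℕ := [11, 1, 7, 2, 11, 9, 11, 7, 10, 8, 10, 3, 6, 0, 10, 7, 0, 9, 3, 1, 4, 9, 6, 2, 6, 3, 7, 8, 5, 0, 2, 8, 1, 6]
def rw5323 : List ℕ := [11, 1, 10, 0, 11, 6, 2, 4, 10, 8, 3, 8, 5, 1, 2, 8, 4, 2, 8, 0, 9, 3, 5, 9, 3, 0, 4, 9, 2, 9, 11, 5, 3, 7, 10, 1]
def rw5324 : List ℕ := [11, 1, 2, 5, 11, 9, 6, 6, 2, 1, 8, 7, 2, 7, 4, 6, 3, 6, 9, 0, 3, 7, 7, 8, 10, 4, 3, 0, 10, 1, 10, 5, 11, 0]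
def rw5325 : List ℕ := [11, 9, 9, 9, 4, 1, 8, 1, 8, 1, 1, 10, 7, 5, 1, 1, 6, 6]
def rw5326 : List ℕ := [11, 0, 11, 1, 2, 5, 11, 11, 10, 4, 3, 0, 10, 1, 10, 6, 3, 6, 9, 0, 3, 7, 7, 8, 10, 9, 6, 6, 2, 1, 8, 7, 2, 7]
def rw5327 : List ℕ := [11, 6, 6, 0, 11, 3, 10, 1, 7, 7, 10, 10, 10, 1, 8, 8, 4, 0, 8, 3, 9, 5, 6, 2, 7, 4, 8, 2, 9, 1, 5, 9, 9, 0, 11, 11]
def rw5328 : List ℕ := [11, 1, 2, 5, 11, 9, 6, 6, 2, 1, 8, 7, 2, 7, 8, 6, 3, 6, 9, 0, 3, 7, 7, 8, 10, 4, 3, 0, 10, 1, 10, 9, 11, 0]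
def rw5329 : List ℕ := [11, 9, 11, 11, 10, 8, 10, 3, 6, 0, 10, 7, 0, 9, 3, 1, 4, 9, 6, 2, 10, 3, 7, 8, 5, 0, 2, 8, 1, 6, 11, 1, 7, 2]
def rw5330 : List ℕ := [11, 9, 11, 9, 10, 8, 10, 3, 6, 0, 10, 7, 0, 9, 3, 1, 4, 9, 6, 2, 8, 3, 7, 8, 5, 0, 2, 8, 1, 6, 11, 1, 7, 2]
def rw5331 : List ℕ := [11, 4, 2, 8, 4, 3, 7, 10, 1, 5, 1, 9, 0, 7, 9, 6, 1, 2]
def rw5332 : List ℕ := [11, 7, 10, 8, 3, 8, 7, 10, 9, 7, 4, 1, 8, 6, 0, 5, 1, 6, 0, 4, 1, 7, 9, 0, 5, 6, 8, 11, 6, 9, 2, 9]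
def rw5333 : List ℕ := [11, 2, 1, 8, 8, 0, 7, 2, 7, 9, 6, 10, 1, 1, 4, 6, 0, 0]
def rw5334 : List ℕ := [11, 6, 9, 2, 9, 11, 3, 10, 8, 3, 8, 7, 10, 9, 7, 4, 1, 8, 6, 0, 5, 1, 2, 0, 4, 1, 7, 9, 0, 5, 6, 8]
def rw5335 : List ℕ := [11, 11, 11, 6, 6, 0, 11, 2, 10, 1, 7, 7, 10, 10, 10, 1, 8, 8, 4, 0, 8, 3, 9, 5, 6, 3, 7, 4, 8, 2, 9, 1, 5, 9, 9, 0]
def rw5336 : List ℕ := [11, 11, 6, 6, 0, 11, 5, 10, 1, 7, 7, 10, 10, 10, 1, 8, 8, 4, 0, 8, 3, 9, 5, 6, 4, 7, 4, 8, 2, 9, 1, 5, 9, 9, 0, 11]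
def rw5337 : List ℕ := [11, 3, 3, 5, 7, 9, 10, 0, 3, 9, 3, 5, 0, 4, 2, 8, 1]
def rw5338 : List ℕ := [11, 8, 0, 7, 9, 1, 3, 4, 7, 3, 5, 10, 3, 3, 6, 1, 6, 5]
def rw5339 : List ℕ := [11, 7, 2, 2, 7, 2, 8, 10, 2, 7, 3, 8, 1, 1, 9, 2, 6, 5]
def rw5340 : List ℕ := [11, 6, 1, 9, 4, 8, 0, 8, 1, 6, 5, 10, 6, 2, 5, 1, 7]
def rw5341 : List ℕ := [11, 6, 9, 2, 9, 11, 0, 4, 1, 7, 9, 0, 5, 6, 8, 3, 9, 7, 4, 1, 8, 6, 0, 5, 1, 10, 8, 3, 8, 7, 10, 2]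
def rw5342 : List ℕ := [11, 1, 7, 8, 8, 7, 0, 10, 7, 1, 8, 3, 5, 8, 0, 7, 9]
def rw5343 : List ℕ := [11, 6, 8, 3, 4, 1, 5, 9, 0, 4, 8, 10, 9, 4, 2, 1, 1, 8]
def rw5344 : List ℕ := [11, 11, 6, 6, 0, 11, 3, 10, 1, 7, 7, 10, 10, 10, 1, 8, 8, 4, 0, 8, 3, 9, 5, 6, 2, 7, 4, 8, 2, 9, 1, 5, 9, 9, 0, 11]
def rw5345 : List ℕ := [11, 3, 8, 6, 0, 7, 0, 2, 0, 9, 2, 10, 9, 6, 5, 1, 5, 8]
def rw5346 : List ℕ := [11, 5, 6, 2, 5, 8, 7, 10, 7, 0, 8, 1, 7, 0, 8, 2, 7, 8]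
def rw5347 : List ℕ := [11, 9, 11, 6, 10, 8, 10, 3, 6, 0, 10, 7, 0, 9, 3, 1, 4, 9, 6, 2, 7, 3, 7, 8, 5, 0, 2, 8, 1, 6, 11, 1, 7, 2]
def rw5348 : List ℕ := [11, 9, 5, 6, 9, 2, 2, 10, 2, 4, 0, 3, 9, 4, 8, 2, 1]
def rw5349 : List ℕ := [11, 9, 1, 4, 4, 2, 7, 9, 2, 0, 10, 1, 5, 6, 2, 5, 5]
def rw5350 : List ℕ := [11, 9, 5, 1, 8, 4, 0, 5, 2, 9, 7, 10, 9, 0, 0, 3, 5, 8]
def rw5351 : List ℕ := [11, 7, 7, 1, 1, 1, 6, 9, 1, 8, 6, 10, 1, 3, 3, 3]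
def rw5352 : List ℕ := [11, 0, 11, 1, 2, 5, 11, 9, 6, 6, 2, 1, 8, 7, 2, 7, 9, 6, 3, 6, 9, 0, 3, 7, 7, 8, 10, 4, 3, 0, 10, 1, 10, 8]
def rw5353 : List ℕ := [11, 1, 9, 1, 8, 2, 2, 9, 5, 5, 8, 10, 0, 5, 2, 1, 4, 0]
def rw5354 : List ℕ := [11, 6, 9, 4, 3, 7, 4, 10, 9, 6, 3, 9, 1, 6, 0, 9, 1, 6]
def rw5355 : List ℕ := [11, 9, 3, 0, 6, 1, 6, 9, 2, 1, 8, 10, 2, 0, 7, 0, 3, 5]
def rw5356 : List ℕ := [11, 6, 6, 0, 11, 1, 10, 1, 7, 7, 10, 10, 10, 1, 8, 8, 4, 0, 8, 3, 9, 5, 6, 0, 7, 4, 8, 2, 9, 1, 5, 9, 9, 0, 11, 11]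
def rw5357 : List ℕ := [11, 6, 8, 0, 6, 8, 0, 6, 8, 0, 3, 10, 4, 3, 4, 6, 2, 1]
def rw5358 : List ℕ := [11, 1, 2, 5, 11, 9, 6, 6, 2, 1, 8, 7, 2, 7, 9, 6, 3, 6, 9, 0, 3, 7, 7, 8, 10, 4, 3, 0, 10, 1, 10, 8, 11, 0]
def rw5359 : List ℕ := [11, 5, 3, 0, 6, 9, 2, 5, 3, 9, 7, 10, 4, 4, 2]
def rw5360 : List ℕ := [11, 11, 6, 6, 0, 11, 9, 10, 1, 7, 7, 10, 10, 10, 1, 8, 8, 4, 0, 8, 3, 9, 5, 6, 8, 7, 4, 8, 2, 9, 1, 5, 9, 9, 0, 11]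
def rw5361 : List ℕ := [11, 5, 3, 0, 6, 9, 2, 5, 3, 9, 7, 10, 7, 7, 2, 7, 3, 7]
def rw5362 : List ℕ := [11, 9, 3, 5, 6, 1, 3, 10, 1, 2, 0, 5, 9, 4, 0, 8, 3, 0]
def rw5363 : List ℕ := [11, 1, 7, 2, 11, 9, 11, 10, 10, 8, 10, 3, 6, 0, 10, 7, 0, 9, 3, 1, 4, 9, 6, 2, 11, 3, 7, 8, 5, 0, 2, 8, 1, 6]
def rw5364 : List ℕ := [11, 3, 7, 8, 5, 0, 2, 8, 1, 6, 1, 7, 0, 9, 3, 1, 4, 9, 6, 2, 10, 8, 10, 3, 6, 0, 10, 0, 11, 1, 7, 2, 11, 9]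
def rw5365 : List ℕ := [11, 2, 1, 9, 7, 1, 9, 7, 1, 9, 7, 10, 0, 3, 6, 2, 6, 4]
def rw5366 : List ℕ := [11, 6, 2, 4, 10, 8, 3, 8, 5, 1, 2, 8, 4, 2, 8, 8, 9, 3, 5, 9, 3, 0, 4, 9, 2, 9, 11, 5, 3, 7, 10, 1, 11, 9, 10, 0]
def rw5367 : List ℕ := [11, 0, 6, 4, 8, 6, 1, 9, 3, 8, 3, 10, 5, 2, 4, 4, 3]
def rw5368 : List ℕ := [11, 6, 10, 0, 11, 6, 2, 4, 10, 8, 3, 8, 5, 1, 2, 8, 4, 2, 8, 7, 9, 3, 5, 9, 3, 0, 4, 9, 2, 9, 11, 5, 3, 7, 10, 1]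
def rw5369 : List ℕ := [11, 0, 6, 4, 8, 6, 1, 9, 3, 8, 3, 10, 4, 2, 4, 4, 3, 3]
def rw5370 : List ℕ := [11, 6, 6, 0, 11, 11, 10, 1, 7, 7, 10, 10, 10, 1, 8, 8, 4, 0, 8, 3, 9, 5, 6, 10, 7, 4, 8, 2, 9, 1, 5, 9, 9, 0, 11, 11]
def rw5371 : List ℕ := [11, 9, 11, 0, 10, 8, 10, 3, 6, 0, 10, 7, 0, 9, 3, 1, 4, 9, 6, 2, 1, 3, 7, 8, 5, 0, 2, 8, 1, 6, 11, 1, 7, 2]
def rw5372 : List ℕ := [11, 1, 7, 2, 11, 9, 11, 3, 7, 8, 5, 0, 2, 8, 1, 6, 1, 7, 0, 9, 3, 1, 4, 9, 6, 2, 10, 8, 10, 3, 6, 0, 10, 0]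
def rw5373 : List ℕ := [11, 0, 0, 9, 0, 9, 0, 5, 8, 8, 8, 10, 7, 7, 0, 0, 4, 6]
def rw5374 : List ℕ := [11, 6, 8, 0, 6, 8, 0, 6, 8, 0, 3, 10, 5, 7, 3, 7, 2, 1]
def rw5375 : List ℕ := [11, 0, 6, 4, 8, 6, 1, 9, 3, 8, 3, 10, 3, 5, 5]
def rw5376 : List ℕ := [11, 5, 3, 0, 6, 9, 2, 5, 3, 9, 7, 10, 5, 0, 2, 4, 0, 2]
def rw5377 : List ℕ := [11, 1, 10, 8, 10, 3, 6, 0, 10, 7, 0, 9, 3, 1, 4, 9, 6, 2, 0, 3, 7, 8, 5, 0, 2, 8, 1, 6, 11, 1, 7, 2, 11, 9]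
def rw5378 : List ℕ := [11, 6, 9, 2, 9, 11, 0, 4, 1, 7, 9, 0, 5, 6, 8, 10, 9, 7, 4, 1, 8, 6, 0, 5, 1, 10, 8, 3, 8, 7, 10, 11]
def rw5379 : List ℕ := [11, 9, 11, 3, 7, 8, 5, 0, 2, 8, 1, 6, 3, 7, 0, 9, 3, 1, 4, 9, 6, 2, 10, 8, 10, 3, 6, 0, 10, 2, 11, 1, 7, 2]
def rw5380 : List ℕ := [11, 7, 8, 0, 2, 0, 7, 5, 8, 1, 1, 10, 5, 8, 4, 7, 5, 2]
def rw5381 : List ℕ := [11, 1, 2, 5, 11, 9, 6, 6, 2, 1, 8, 7, 2, 7, 0, 6, 3, 6, 9, 0, 3, 7, 7, 8, 10, 4, 3, 0, 10, 1, 10, 1, 11, 0]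
def rw5382 : List ℕ := [11, 11, 11, 11, 11, 11, 11, 11, 11, 11, 11, 11, 11, 11, 11, 11, 11, 11, 11, 11, 11, 11, 11]
def rw5383 : List ℕ := [11, 0, 11, 1, 2, 5, 11, 8, 10, 4, 3, 0, 10, 1, 10, 6, 3, 6, 9, 0, 3, 7, 7, 8, 9, 9, 6, 6, 2, 1, 8, 7, 2, 7]
def rw5384 : List ℕ := [11, 11, 6, 6, 0, 11, 8, 10, 1, 7, 7, 10, 10, 10, 1, 8, 8, 4, 0, 8, 3, 9, 5, 6, 9, 7, 4, 8, 2, 9, 1, 5, 9, 9, 0, 11]
def rw5385 : List ℕ := [11, 11, 10, 8, 3, 8, 7, 10, 9, 7, 4, 1, 8, 6, 0, 5, 1, 10, 0, 4, 1, 7, 9, 0, 5, 6, 8, 11, 6, 9, 2, 9]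
def rw5386 : List ℕ := [11, 1, 7, 2, 11, 9, 11, 1, 10, 8, 10, 3, 6, 0, 10, 7, 0, 9, 3, 1, 4, 9, 6, 2, 0, 3, 7, 8, 5, 0, 2, 8, 1, 6]
def rw5387 : List ℕ := [11, 11, 11, 6, 6, 0, 11, 9, 10, 1, 7, 7, 10, 10, 10, 1, 8, 8, 4, 0, 8, 3, 9, 5, 6, 8, 7, 4, 8, 2, 9, 1, 5, 9, 9, 0]
def rw5388 : List ℕ := [11, 0, 11, 1, 2, 5, 11, 9, 6, 6, 2, 1, 8, 7, 2, 7, 8, 6, 3, 6, 9, 0, 3, 7, 7, 8, 10, 4, 3, 0, 10, 1, 10, 9]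
def rw5389 : List ℕ := [11, 5, 3, 0, 6, 9, 2, 5, 3, 9, 7, 10, 4, 1, 5, 1, 4, 0]
def rw5390 : List ℕ := [11, 3, 8, 1, 3, 1, 6, 1, 7, 9, 2, 10, 9, 4, 0, 4, 7, 8]
def rw5391 : List ℕ := [11, 3, 5, 8, 6, 0, 7, 0, 2, 10, 3, 3, 7, 4, 0]
def rw5392 : List ℕ := [11, 6, 9, 2, 9, 11, 5, 10, 8, 3, 8, 7, 10, 9, 7, 4, 1, 8, 6, 0, 5, 1, 4, 0, 4, 1, 7, 9, 0, 5, 6, 8]
def rw5393 : List ℕ := [11, 8, 2, 8, 5, 7, 1, 1, 7, 8, 10, 2, 6, 6, 0, 0, 5]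
def rw5394 : List ℕ := [11, 8, 1, 5, 6, 1, 5, 10, 8, 4, 7, 3, 8, 8, 7, 0, 8, 0]
def rw5395 : List ℕ := [11, 6, 9, 2, 9, 11, 0, 4, 1, 7, 9, 0, 5, 6, 8, 9, 9, 7, 4, 1, 8, 6, 0, 5, 1, 10, 8, 3, 8, 7, 10, 8]
def rw5396 : List ℕ := [11, 6, 9, 2, 9, 11, 0, 4, 1, 7, 9, 0, 5, 6, 8, 1, 9, 7, 4, 1, 8, 6, 0, 5, 1, 10, 8, 3, 8, 7, 10, 0]
def rw5397 : List ℕ := [11, 0, 6, 4, 8, 6, 1, 9, 3, 8, 3, 10, 3, 6, 4, 4, 6]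
def rw5398 : List ℕ := [11, 4, 0, 7, 4, 0, 9, 10, 1, 9, 1, 6, 9, 9, 2, 6, 5, 9]
def rw5399 : List ℕ := [11, 6, 10, 8, 10, 3, 6, 0, 10, 7, 0, 9, 3, 1, 4, 9, 6, 2, 7, 3, 7, 8, 5, 0, 2, 8, 1, 6, 11, 1, 7, 2, 11, 9]
def rw5400 : List ℕ := [11, 11, 11, 6, 6, 0, 11, 7, 10, 1, 7, 7, 10, 10, 10, 1, 8, 8, 4, 0, 8, 3, 9, 5, 6, 6, 7, 4, 8, 2, 9, 1, 5, 9, 9, 0]
def rw5401 : List ℕ := [11, 11, 11, 6, 6, 0, 11, 3, 10, 1, 7, 7, 10, 10, 10, 1, 8, 8, 4, 0, 8, 3, 9, 5, 6, 2, 7, 4, 8, 2, 9, 1, 5, 9, 9, 0]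
def rw5402 : List ℕ := [11, 2, 7, 9, 1, 1, 3, 6, 0, 9, 3, 10, 3, 3, 9, 2, 6, 5]
def rw5403 : List ℕ := [11, 0, 11, 1, 2, 5, 11, 9, 10, 4, 3, 0, 10, 1, 10, 6, 3, 6, 9, 0, 3, 7, 7, 8, 8, 9, 6, 6, 2, 1, 8, 7, 2, 7]
def rw5404 : List ℕ := [11, 1, 2, 5, 11, 2, 10, 4, 3, 0, 10, 1, 10, 6, 3, 6, 9, 0, 3, 7, 7, 8, 3, 9, 6, 6, 2, 1, 8, 7, 2, 7, 11, 0]
def rw5405 : List ℕ := [11, 1, 2, 5, 11, 7, 10, 4, 3, 0, 10, 1, 10, 6, 3, 6, 9, 0, 3, 7, 7, 8, 6, 9, 6, 6, 2, 1, 8, 7, 2, 7, 11, 0]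
def rw5406 : List ℕ := [11, 11, 11, 6, 6, 0, 11, 1, 10, 1, 7, 7, 10, 10, 10, 1, 8, 8, 4, 0, 8, 3, 9, 5, 6, 0, 7, 4, 8, 2, 9, 1, 5, 9, 9, 0]
def rw5407 : List ℕ := [11, 9, 3, 6, 3, 3, 6, 10, 4, 7, 3, 8, 0, 0, 9, 2, 6, 3]
def rw5408 : List ℕ := [11, 2, 8, 1, 7, 1, 1, 3, 8, 6, 3, 10, 6, 5, 3, 8, 5, 6]
def rw5409 : List ℕ := [11, 1, 3, 8, 6, 3, 5, 5, 0, 8, 10, 4, 4, 3, 7, 4, 0]
def rw5410 : List ℕ := [11, 5, 3, 7, 10, 1, 11, 9, 10, 0, 11, 6, 2, 4, 10, 8, 3, 8, 5, 1, 2, 8, 4, 2, 8, 8, 9, 3, 5, 9, 3, 0, 4, 9, 2, 9]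
def rw5411 : List ℕ := [11, 11, 11, 6, 6, 0, 11, 8, 10, 1, 7, 7, 10, 10, 10, 1, 8, 8, 4, 0, 8, 3, 9, 5, 6, 9, 7, 4, 8, 2, 9, 1, 5, 9, 9, 0]
def rw5412 : List ℕ := [11, 4, 4, 0, 7, 7, 2, 8, 5, 1, 10, 6, 2, 2, 4, 1, 7]
def rw5413 : List ℕ := [11, 9, 11, 3, 7, 8, 5, 0, 2, 8, 1, 6, 10, 7, 0, 9, 3, 1, 4, 9, 6, 2, 10, 8, 10, 3, 6, 0, 10, 11, 11, 1, 7, 2]
def rw5414 : List ℕ := [11, 11, 6, 6, 0, 11, 7, 10, 1, 7, 7, 10, 10, 10, 1, 8, 8, 4, 0, 8, 3, 9, 5, 6, 6, 7, 4, 8, 2, 9, 1, 5, 9, 9, 0, 11]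
def rw5415 : List ℕ := [11, 0, 11, 1, 2, 5, 11, 10, 10, 4, 3, 0, 10, 1, 10, 6, 3, 6, 9, 0, 3, 7, 7, 8, 11, 9, 6, 6, 2, 1, 8, 7, 2, 7]
def rw5416 : List ℕ := [11, 6, 2, 5, 9, 3, 5, 10, 3, 0, 7, 8, 6, 1, 8, 0, 4, 0]
def rw5417 : List ℕ := [11, 7, 7, 1, 1, 1, 6, 9, 1, 8, 6, 10, 2, 5, 0, 0, 5]
def rw5418 : List ℕ := [11, 6, 6, 0, 11, 2, 10, 1, 7, 7, 10, 10, 10, 1, 8, 8, 4, 0, 8, 3, 9, 5, 6, 3, 7, 4, 8, 2, 9, 1, 5, 9, 9, 0, 11, 11]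
def rw5419 : List ℕ := [11, 9, 6, 6, 2, 1, 8, 7, 2, 7, 3, 6, 3, 6, 9, 0, 3, 7, 7, 8, 10, 4, 3, 0, 10, 1, 10, 2, 11, 0, 11, 1, 2, 5]
def rw5420 : List ℕ := [11, 0, 11, 1, 2, 5, 11, 9, 6, 6, 2, 1, 8, 7, 2, 7, 6, 6, 3, 6, 9, 0, 3, 7, 7, 8, 10, 4, 3, 0, 10, 1, 10, 7]
def rw5421 : List ℕ := [11, 6, 2, 4, 10, 8, 3, 8, 5, 1, 2, 8, 4, 2, 8, 2, 9, 3, 5, 9, 3, 0, 4, 9, 2, 9, 11, 5, 3, 7, 10, 1, 11, 3, 10, 0]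
def rw5422 : List ℕ := [11, 0, 11, 1, 2, 5, 11, 9, 6, 6, 2, 1, 8, 7, 2, 7, 4, 6, 3, 6, 9, 0, 3, 7, 7, 8, 10, 4, 3, 0, 10, 1, 10, 5]
def rw5423 : List ℕ := [11, 0, 6, 4, 8, 6, 1, 9, 3, 8, 3, 10, 5, 5, 5, 2, 4, 4]
def rw5424 : List ℕ := [11, 1, 2, 5, 11, 0, 10, 4, 3, 0, 10, 1, 10, 6, 3, 6, 9, 0, 3, 7, 7, 8, 1, 9, 6, 6, 2, 1, 8, 7, 2, 7, 11, 0]
def rw5425 : List ℕ := [11, 1, 7, 2, 11, 9, 11, 11, 10, 8, 10, 3, 6, 0, 10, 7, 0, 9, 3, 1, 4, 9, 6, 2, 10, 3, 7, 8, 5, 0, 2, 8, 1, 6]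
def rw5426 : List ℕ := [11, 0, 11, 1, 2, 5, 11, 4, 10, 4, 3, 0, 10, 1, 10, 6, 3, 6, 9, 0, 3, 7, 7, 8, 5, 9, 6, 6, 2, 1, 8, 7, 2, 7]
def rw5427 : List ℕ := [11, 6, 2, 4, 10, 8, 3, 8, 5, 1, 2, 8, 4, 2, 8, 11, 9, 3, 5, 9, 3, 0, 4, 9, 2, 9, 11, 5, 3, 7, 10, 1, 11, 10, 10, 0]
def rw5428 : List ℕ := [11, 6, 9, 2, 9, 11, 0, 10, 8, 3, 8, 7, 10, 9, 7, 4, 1, 8, 6, 0, 5, 1, 1, 0, 4, 1, 7, 9, 0, 5, 6, 8]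
def rw5429 : List ℕ := [11, 1, 7, 1, 1, 1, 4, 8, 8, 0, 9, 10, 6, 4, 2, 8, 5, 6]
def rw5430 : List ℕ := [11, 7, 9, 0, 8, 7, 0, 0, 0, 6, 6, 10, 3, 4, 1, 4, 0, 4]
def rw5431 : List ℕ := [11, 3, 10, 0, 11, 6, 2, 4, 10, 8, 3, 8, 5, 1, 2, 8, 4, 2, 8, 2, 9, 3, 5, 9, 3, 0, 4, 9, 2, 9, 11, 5, 3, 7, 10, 1]
def rw5432 : List ℕ := [11, 5, 3, 0, 6, 9, 2, 5, 3, 9, 7, 10, 2, 5, 5, 3, 4]
def rw5433 : List ℕ := [11, 1, 2, 5, 11, 9, 6, 6, 2, 1, 8, 7, 2, 7, 11, 6, 3, 6, 9, 0, 3, 7, 7, 8, 10, 4, 3, 0, 10, 1, 10, 10, 11, 0]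
def rw5434 : List ℕ := [11, 1, 7, 2, 11, 9, 11, 6, 10, 8, 10, 3, 6, 0, 10, 7, 0, 9, 3, 1, 4, 9, 6, 2, 7, 3, 7, 8, 5, 0, 2, 8, 1, 6]
def rw5435 : List ℕ := [11, 1, 2, 5, 11, 1, 10, 4, 3, 0, 10, 1, 10, 6, 3, 6, 9, 0, 3, 7, 7, 8, 0, 9, 6, 6, 2, 1, 8, 7, 2, 7, 11, 0]
def rw5436 : List ℕ := [11, 2, 7, 2, 5, 5, 8, 10, 2, 7, 3, 8, 1, 1, 9, 2, 6, 5]
def rw5437 : List ℕ := [11, 3, 7, 8, 5, 0, 2, 8, 1, 6, 5, 7, 0, 9, 3, 1, 4, 9, 6, 2, 10, 8, 10, 3, 6, 0, 10, 4, 11, 1, 7, 2, 11, 9]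
def rw5438 : List ℕ := [11, 3, 3, 8, 7, 4, 8, 10, 0, 3, 9, 5, 8, 2, 1, 5, 3]
def rw5439 : List ℕ := [11, 9, 6, 0, 0, 6, 4, 9, 3, 9, 10, 4, 1, 1, 7, 7, 3]
def rw5440 : List ℕ := [11, 0, 10, 0, 11, 6, 2, 4, 10, 8, 3, 8, 5, 1, 2, 8, 4, 2, 8, 1, 9, 3, 5, 9, 3, 0, 4, 9, 2, 9, 11, 5, 3, 7, 10, 1]
def rw5441 : List ℕ := [11, 7, 7, 1, 1, 1, 6, 9, 1, 8, 6, 10, 0, 2, 0, 0, 3, 3]
def rw5442 : List ℕ := [11, 4, 10, 8, 10, 3, 6, 0, 10, 7, 0, 9, 3, 1, 4, 9, 6, 2, 5, 3, 7, 8, 5, 0, 2, 8, 1, 6, 11, 1, 7, 2, 11, 9]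
def rw5443 : List ℕ := [11, 7, 8, 0, 2, 0, 7, 5, 8, 1, 1, 10, 5, 8, 7, 5, 6, 2]
def rw5444 : List ℕ := [11, 9, 11, 3, 7, 8, 5, 0, 2, 8, 1, 6, 4, 7, 0, 9, 3, 1, 4, 9, 6, 2, 10, 8, 10, 3, 6, 0, 10, 5, 11, 1, 7, 2]
def rw5445 : List ℕ := [11, 6, 9, 2, 9, 11, 2, 10, 8, 3, 8, 7, 10, 9, 7, 4, 1, 8, 6, 0, 5, 1, 3, 0, 4, 1, 7, 9, 0, 5, 6, 8]
def rw5446 : List ℕ := [11, 5, 3, 0, 6, 9, 2, 5, 3, 9, 7, 10, 4, 0, 0, 5, 2, 1]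
def rw5447 : List ℕ := [11, 6, 2, 4, 10, 8, 3, 8, 5, 1, 2, 8, 4, 2, 8, 0, 9, 3, 5, 9, 3, 0, 4, 9, 2, 9, 11, 5, 3, 7, 10, 1, 11, 1, 10, 0]
def rw5448 : List ℕ := [11, 5, 3, 0, 6, 9, 2, 5, 3, 9, 7, 10, 5, 5, 5, 5, 5, 2]
def rw5449 : List ℕ := [11, 9, 1, 4, 4, 2, 7, 9, 2, 0, 10, 1, 4, 6, 4, 2, 6]
def rw5450 : List ℕ := [11, 2, 9, 2, 8, 0, 7, 9, 5, 7, 1, 10, 0, 2, 4, 0, 5, 2]
def rw5451 : List ℕ := [11, 6, 8, 2, 4, 3, 8, 7, 1, 2, 4, 10, 1, 5, 0, 4, 0, 5]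
def rw5452 : List ℕ := [11, 7, 9, 0, 8, 7, 0, 0, 0, 6, 6, 10, 2, 2, 1, 1, 3, 1]
def rw5453 : List ℕ := [11, 2, 9, 2, 8, 0, 7, 9, 5, 7, 1, 10, 2, 5, 5, 3, 4]
def rw5454 : List ℕ := [11, 1, 3, 8, 6, 3, 5, 5, 0, 8, 10, 7, 3, 4, 6, 4, 0]
def rw5455 : List ℕ := [11, 2, 7, 9, 2, 0, 0, 6, 0, 9, 3, 10, 7, 4, 9, 2, 4, 7]
def rw5456 : List ℕ := [11, 11, 11, 6, 6, 0, 11, 0, 10, 1, 7, 7, 10, 10, 10, 1, 8, 8, 4, 0, 8, 3, 9, 5, 6, 1, 7, 4, 8, 2, 9, 1, 5, 9, 9, 0]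
def rw5457 : List ℕ := [11, 9, 6, 6, 2, 1, 8, 7, 2, 7, 1, 6, 3, 6, 9, 0, 3, 7, 7, 8, 10, 4, 3, 0, 10, 1, 10, 0, 11, 0, 11, 1, 2, 5]
def rw5458 : List ℕ := [11, 6, 8, 2, 4, 3, 8, 7, 1, 2, 4, 10, 3, 6, 4, 4, 6]
def rw5459 : List ℕ := [11, 9, 11, 1, 10, 8, 10, 3, 6, 0, 10, 7, 0, 9, 3, 1, 4, 9, 6, 2, 0, 3, 7, 8, 5, 0, 2, 8, 1, 6, 11, 1, 7, 2]
def rw5460 : List ℕ := [11, 6, 9, 2, 9, 11, 8, 10, 8, 3, 8, 7, 10, 9, 7, 4, 1, 8, 6, 0, 5, 1, 9, 0, 4, 1, 7, 9, 0, 5, 6, 8]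
def rw5461 : List ℕ := [11, 9, 4, 4, 8, 3, 3, 9, 0, 8, 0, 10, 1, 5, 0, 3, 4, 1]
def rw5462 : List ℕ := [11, 0, 11, 1, 2, 5, 11, 5, 10, 4, 3, 0, 10, 1, 10, 6, 3, 6, 9, 0, 3, 7, 7, 8, 4, 9, 6, 6, 2, 1, 8, 7, 2, 7]
def rw5463 : List ℕ := [11, 2, 9, 2, 8, 0, 7, 9, 5, 7, 1, 10, 3, 4, 4, 2, 4, 4]
def rw5464 : List ℕ := [11, 9, 6, 6, 2, 1, 8, 7, 2, 7, 4, 6, 3, 6, 9, 0, 3, 7, 7, 8, 10, 4, 3, 0, 10, 1, 10, 5, 11, 0, 11, 1, 2, 5]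
def rw5465 : List ℕ := [11, 11, 11, 6, 6, 0, 11, 10, 10, 1, 7, 7, 10, 10, 10, 1, 8, 8, 4, 0, 8, 3, 9, 5, 6, 11, 7, 4, 8, 2, 9, 1, 5, 9, 9, 0]
def rw5466 : List ℕ := [11, 0, 0, 9, 4, 6, 1, 3, 1, 9, 6, 10, 3, 4, 6, 5, 9, 4]
def rw5467 : List ℕ := [11, 9, 11, 3, 10, 8, 10, 3, 6, 0, 10, 7, 0, 9, 3, 1, 4, 9, 6, 2, 2, 3, 7, 8, 5, 0, 2, 8, 1, 6, 11, 1, 7, 2]
def rw5468 : List ℕ := [11, 6, 9, 2, 9, 11, 11, 10, 8, 3, 8, 7, 10, 9, 7, 4, 1, 8, 6, 0, 5, 1, 10, 0, 4, 1, 7, 9, 0, 5, 6, 8]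
def rw5469 : List ℕ := [11, 9, 1, 4, 4, 2, 7, 9, 2, 0, 10, 1, 6, 4, 6, 2, 6]
def rw5470 : List ℕ := [11, 9, 11, 8, 10, 8, 10, 3, 6, 0, 10, 7, 0, 9, 3, 1, 4, 9, 6, 2, 9, 3, 7, 8, 5, 0, 2, 8, 1, 6, 11, 1, 7, 2]
def rw5471 : List ℕ := [11, 6, 6, 0, 11, 9, 10, 1, 7, 7, 10, 10, 10, 1, 8, 8, 4, 0, 8, 3, 9, 5, 6, 8, 7, 4, 8, 2, 9, 1, 5, 9, 9, 0, 11, 11]
def rw5472 : List ℕ := [11, 1, 6, 9, 9, 6, 0, 10, 8, 6, 1, 9, 4, 2, 9, 0, 6]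
def rw5473 : List ℕ := [11, 7, 7, 1, 1, 1, 6, 9, 1, 8, 6, 10, 5, 2, 0, 4, 4, 1]
def rw5474 : List ℕ := [11, 8, 1, 9, 9, 5, 0, 0, 0, 6, 0, 10, 7, 4, 9, 3, 5, 7]
def rw5475 : List ℕ := [11, 1, 2, 5, 11, 9, 6, 6, 2, 1, 8, 7, 2, 7, 1, 6, 3, 6, 9, 0, 3, 7, 7, 8, 10, 4, 3, 0, 10, 1, 10, 0, 11, 0]
def rw5476 : List ℕ := [11, 11, 11, 6, 6, 0, 11, 11, 10, 1, 7, 7, 10, 10, 10, 1, 8, 8, 4, 0, 8, 3, 9, 5, 6, 10, 7, 4, 8, 2, 9, 1, 5, 9, 9, 0]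
def rw5477 : List ℕ := [11, 0, 11, 1, 2, 5, 11, 9, 6, 6, 2, 1, 8, 7, 2, 7, 5, 6, 3, 6, 9, 0, 3, 7, 7, 8, 10, 4, 3, 0, 10, 1, 10, 4]
def rw5478 : List ℕ := [11, 6, 9, 2, 9, 11, 10, 10, 8, 3, 8, 7, 10, 9, 7, 4, 1, 8, 6, 0, 5, 1, 11, 0, 4, 1, 7, 9, 0, 5, 6, 8]
def rw5479 : List ℕ := [11, 5, 3, 0, 6, 9, 2, 5, 3, 9, 7, 10, 7, 5, 5, 7, 2]
def rw5480 : List ℕ := [11, 9, 6, 6, 2, 1, 8, 7, 2, 7, 7, 6, 3, 6, 9, 0, 3, 7, 7, 8, 10, 4, 3, 0, 10, 1, 10, 6, 11, 0, 11, 1, 2, 5]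
def rw5481 : List ℕ := [11, 0, 4, 1, 7, 9, 0, 5, 6, 8, 10, 9, 7, 4, 1, 8, 6, 0, 5, 1, 10, 8, 3, 8, 7, 10, 11, 11, 6, 9, 2, 9]
def rw5482 : List ℕ := [11, 7, 7, 1, 1, 1, 6, 9, 1, 8, 6, 10, 2, 1, 2, 0]
def rw5483 : List ℕ := [11, 9, 10, 0, 11, 6, 2, 4, 10, 8, 3, 8, 5, 1, 2, 8, 4, 2, 8, 8, 9, 3, 5, 9, 3, 0, 4, 9, 2, 9, 11, 5, 3, 7, 10, 1]
def rw5484 : List ℕ := [11, 4, 7, 0, 9, 1, 9, 5, 8, 0, 7, 10, 6, 0, 4, 3, 7]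
def rw5485 : List ℕ := [11, 2, 9, 2, 8, 0, 7, 9, 5, 7, 1, 10, 5, 5, 3, 4, 4, 4]
def rw5486 : List ℕ := [11, 0, 6, 4, 8, 6, 1, 9, 3, 8, 3, 10, 3, 4, 1, 5, 3, 1]
def rw5487 : List ℕ := [11, 11, 6, 6, 0, 11, 10, 10, 1, 7, 7, 10, 10, 10, 1, 8, 8, 4, 0, 8, 3, 9, 5, 6, 11, 7, 4, 8, 2, 9, 1, 5, 9, 9, 0, 11]
def rw5488 : List ℕ := [11, 6, 8, 2, 4, 3, 8, 7, 1, 2, 4, 10, 4, 1, 7, 4, 1, 7]
def rw5489 : List ℕ := [11, 9, 5, 1, 9, 7, 1, 6, 1, 2, 10, 0, 7, 2, 6, 3, 6]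
def rw5490 : List ℕ := [11, 6, 2, 4, 10, 8, 3, 8, 5, 1, 2, 8, 4, 2, 8, 6, 9, 3, 5, 9, 3, 0, 4, 9, 2, 9, 11, 5, 3, 7, 10, 1, 11, 7, 10, 0]
def rw5491 : List ℕ := [11, 6, 6, 0, 11, 0, 10, 1, 7, 7, 10, 10, 10, 1, 8, 8, 4, 0, 8, 3, 9, 5, 6, 1, 7, 4, 8, 2, 9, 1, 5, 9, 9, 0, 11, 11]
def rw5492 : List ℕ := [11, 1, 2, 5, 11, 4, 10, 4, 3, 0, 10, 1, 10, 6, 3, 6, 9, 0, 3, 7, 7, 8, 5, 9, 6, 6, 2, 1, 8, 7, 2, 7, 11, 0]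
def rw5493 : List ℕ := [11, 6, 8, 2, 4, 3, 8, 7, 1, 2, 4, 10, 2, 4, 4, 2, 2]
def rw5494 : List ℕ := [11, 7, 7, 1, 1, 1, 6, 9, 1, 8, 6, 10, 2, 2, 0, 3]
def rw5495 : List ℕ := [11, 11, 6, 6, 0, 11, 4, 10, 1, 7, 7, 10, 10, 10, 1, 8, 8, 4, 0, 8, 3, 9, 5, 6, 5, 7, 4, 8, 2, 9, 1, 5, 9, 9, 0, 11]
def rw5496 : List ℕ := [11, 6, 9, 2, 9, 11, 0, 4, 1, 7, 9, 0, 5, 6, 8, 7, 9, 7, 4, 1, 8, 6, 0, 5, 1, 10, 8, 3, 8, 7, 10, 6]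
def rw5497 : List ℕ := [11, 6, 2, 4, 10, 8, 3, 8, 5, 1, 2, 8, 4, 2, 8, 4, 9, 3, 5, 9, 3, 0, 4, 9, 2, 9, 11, 5, 3, 7, 10, 1, 11, 5, 10, 0]
def rw5498 : List ℕ := [11, 5, 10, 8, 3, 8, 7, 10, 9, 7, 4, 1, 8, 6, 0, 5, 1, 4, 0, 4, 1, 7, 9, 0, 5, 6, 8, 11, 6, 9, 2, 9]
def rw5499 : List ℕ := [11, 4, 2, 6, 5, 2, 0, 8, 6, 1, 9, 10, 4, 7, 0, 7, 2, 2]
def rw5500 : List ℕ := [11, 11, 11, 6, 6, 0, 11, 6, 10, 1, 7, 7, 10, 10, 10, 1, 8, 8, 4, 0, 8, 3, 9, 5, 6, 7, 7, 4, 8, 2, 9, 1, 5, 9, 9, 0]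
def rw5501 : List ℕ := [11, 4, 10, 0, 11, 6, 2, 4, 10, 8, 3, 8, 5, 1, 2, 8, 4, 2, 8, 5, 9, 3, 5, 9, 3, 0, 4, 9, 2, 9, 11, 5, 3, 7, 10, 1]
def rw5502 : List ℕ := [11, 1, 2, 5, 11, 9, 6, 6, 2, 1, 8, 7, 2, 7, 7, 6, 3, 6, 9, 0, 3, 7, 7, 8, 10, 4, 3, 0, 10, 1, 10, 6, 11, 0]
def rw5503 : List ℕ := [11, 9, 7, 1, 8, 2, 0, 8, 1, 6, 8, 10, 4, 1, 7, 3, 3, 7]
def rw5504 : List ℕ := [11, 1, 7, 2, 11, 9, 11, 2, 10, 8, 10, 3, 6, 0, 10, 7, 0, 9, 3, 1, 4, 9, 6, 2, 3, 3, 7, 8, 5, 0, 2, 8, 1, 6]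
def rw5505 : List ℕ := [11, 0, 11, 1, 2, 5, 11, 3, 10, 4, 3, 0, 10, 1, 10, 6, 3, 6, 9, 0, 3, 7, 7, 8, 2, 9, 6, 6, 2, 1, 8, 7, 2, 7]
def rw5506 : List ℕ := [11, 0, 11, 1, 2, 5, 11, 9, 6, 6, 2, 1, 8, 7, 2, 7, 2, 6, 3, 6, 9, 0, 3, 7, 7, 8, 10, 4, 3, 0, 10, 1, 10, 3]
def rw5507 : List ℕ := [11, 2, 9, 2, 8, 0, 7, 9, 5, 7, 1, 10, 4, 4, 2]
def rw5508 : List ℕ := [11, 1, 2, 5, 11, 9, 10, 4, 3, 0, 10, 1, 10, 6, 3, 6, 9, 0, 3, 7, 7, 8, 8, 9, 6, 6, 2, 1, 8, 7, 2, 7, 11, 0]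
def rw5509 : List ℕ := [11, 1, 7, 2, 11, 9, 11, 3, 7, 8, 5, 0, 2, 8, 1, 6, 8, 7, 0, 9, 3, 1, 4, 9, 6, 2, 10, 8, 10, 3, 6, 0, 10, 9]
def rw5510 : List ℕ := [11, 6, 8, 0, 6, 8, 0, 6, 8, 0, 3, 10, 6, 6, 3, 6, 5, 1]
def rw5511 : List ℕ := [11, 7, 8, 6, 3, 6, 1, 9, 9, 0, 3, 10, 1, 1, 7, 5, 0, 0]
def rw5512 : List ℕ := [11, 0, 4, 1, 7, 9, 0, 5, 6, 8, 3, 9, 7, 4, 1, 8, 6, 0, 5, 1, 10, 8, 3, 8, 7, 10, 2, 11, 6, 9, 2, 9]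
def rw5513 : List ℕ := [11, 9, 6, 6, 2, 1, 8, 7, 2, 7, 8, 6, 3, 6, 9, 0, 3, 7, 7, 8, 10, 4, 3, 0, 10, 1, 10, 9, 11, 0, 11, 1, 2, 5]
def rw5514 : List ℕ := [11, 2, 8, 1, 7, 2, 0, 0, 8, 6, 3, 10, 4, 7, 3, 8, 2, 2]
def rw5515 : List ℕ := [11, 2, 9, 2, 8, 0, 7, 9, 5, 7, 1, 10, 3, 5, 5, 3, 5, 5]
def rw5516 : List ℕ := [11, 0, 4, 1, 7, 9, 0, 5, 6, 8, 2, 9, 7, 4, 1, 8, 6, 0, 5, 1, 10, 8, 3, 8, 7, 10, 3, 11, 6, 9, 2, 9]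
def rw5517 : List ℕ := [11, 5, 3, 7, 10, 1, 11, 4, 10, 0, 11, 6, 2, 4, 10, 8, 3, 8, 5, 1, 2, 8, 4, 2, 8, 5, 9, 3, 5, 9, 3, 0, 4, 9, 2, 9]
def rw5518 : List ℕ := [11, 6, 8, 2, 4, 3, 8, 7, 1, 2, 4, 10, 3, 1, 5, 3, 1, 4]
def rw5519 : List ℕ := [11, 0, 6, 4, 8, 6, 1, 9, 3, 8, 3, 10, 5, 5, 3, 5, 5, 2]
def rw5520 : List ℕ := [11, 5, 3, 7, 10, 1, 11, 0, 10, 0, 11, 6, 2, 4, 10, 8, 3, 8, 5, 1, 2, 8, 4, 2, 8, 1, 9, 3, 5, 9, 3, 0, 4, 9, 2, 9]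
def rw5521 : List ℕ := [11, 3, 7, 8, 5, 0, 2, 8, 1, 6, 11, 7, 0, 9, 3, 1, 4, 9, 6, 2, 10, 8, 10, 3, 6, 0, 10, 10, 11, 1, 7, 2, 11, 9]
def rw5522 : List ℕ := [11, 11, 11, 6, 6, 0, 11, 5, 10, 1, 7, 7, 10, 10, 10, 1, 8, 8, 4, 0, 8, 3, 9, 5, 6, 4, 7, 4, 8, 2, 9, 1, 5, 9, 9, 0]
def rw5523 : List ℕ := [11, 9, 6, 6, 2, 1, 8, 7, 2, 7, 11, 6, 3, 6, 9, 0, 3, 7, 7, 8, 10, 4, 3, 0, 10, 1, 10, 10, 11, 0, 11, 1, 2, 5]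
def rw5524 : List ℕ := [11, 9, 11, 3, 7, 8, 5, 0, 2, 8, 1, 6, 5, 7, 0, 9, 3, 1, 4, 9, 6, 2, 10, 8, 10, 3, 6, 0, 10, 4, 11, 1, 7, 2]
def rw5525 : List ℕ := [11, 1, 7, 2, 11, 9, 11, 4, 10, 8, 10, 3, 6, 0, 10, 7, 0, 9, 3, 1, 4, 9, 6, 2, 5, 3, 7, 8, 5, 0, 2, 8, 1, 6]
def rw5526 : List ℕ := [11, 0, 6, 4, 8, 6, 1, 9, 3, 8, 3, 10, 4, 4, 3, 5, 5, 3]
def rw5527 : List ℕ := [11, 6, 9, 2, 9, 11, 4, 10, 8, 3, 8, 7, 10, 9, 7, 4, 1, 8, 6, 0, 5, 1, 5, 0, 4, 1, 7, 9, 0, 5, 6, 8]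
def rw5528 : List ℕ := [11, 9, 4, 4, 8, 3, 3, 9, 0, 8, 0, 10, 1, 5, 3, 5, 0]
def rw5529 : List ℕ := [11, 1, 7, 2, 11, 9, 11, 3, 10, 8, 10, 3, 6, 0, 10, 7, 0, 9, 3, 1, 4, 9, 6, 2, 2, 3, 7, 8, 5, 0, 2, 8, 1, 6]
def rw5530 : List ℕ := [11, 0, 6, 4, 8, 6, 1, 9, 3, 8, 3, 10, 4, 4, 2, 4, 4, 2]
def rw5531 : List ℕ := [11, 0, 11, 1, 2, 5, 11, 1, 10, 4, 3, 0, 10, 1, 10, 6, 3, 6, 9, 0, 3, 7, 7, 8, 0, 9, 6, 6, 2, 1, 8, 7, 2, 7]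
def rw5532 : List ℕ := [11, 1, 2, 5, 11, 9, 6, 6, 2, 1, 8, 7, 2, 7, 10, 6, 3, 6, 9, 0, 3, 7, 7, 8, 10, 4, 3, 0, 10, 1, 10, 11, 11, 0]
def rw5533 : List ℕ := [11, 6, 2, 4, 10, 8, 3, 8, 5, 1, 2, 8, 4, 2, 8, 1, 9, 3, 5, 9, 3, 0, 4, 9, 2, 9, 11, 5, 3, 7, 10, 1, 11, 0, 10, 0]
def rw5534 : List ℕ := [11, 1, 2, 5, 11, 10, 10, 4, 3, 0, 10, 1, 10, 6, 3, 6, 9, 0, 3, 7, 7, 8, 11, 9, 6, 6, 2, 1, 8, 7, 2, 7, 11, 0]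
def rw5535 : List ℕ := [11, 1, 9, 1, 8, 2, 2, 9, 5, 5, 8, 10, 5, 0, 5, 0, 4, 4]
def rw5536 : List ℕ := [11, 5, 3, 7, 10, 1, 11, 1, 10, 0, 11, 6, 2, 4, 10, 8, 3, 8, 5, 1, 2, 8, 4, 2, 8, 0, 9, 3, 5, 9, 3, 0, 4, 9, 2, 9]
def rw5537 : List ℕ := [11, 0, 11, 1, 2, 5, 11, 6, 10, 4, 3, 0, 10, 1, 10, 6, 3, 6, 9, 0, 3, 7, 7, 8, 7, 9, 6, 6, 2, 1, 8, 7, 2, 7]
def rw5538 : List ℕ := [11, 0, 11, 1, 2, 5, 11, 9, 6, 6, 2, 1, 8, 7, 2, 7, 1, 6, 3, 6, 9, 0, 3, 7, 7, 8, 10, 4, 3, 0, 10, 1, 10, 0]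
def rw5539 : List ℕ := [11, 6, 2, 4, 10, 8, 3, 8, 5, 1, 2, 8, 4, 2, 8, 3, 9, 3, 5, 9, 3, 0, 4, 9, 2, 9, 11, 5, 3, 7, 10, 1, 11, 2, 10, 0]
def rw5540 : List ℕ := [11, 9, 11, 3, 7, 8, 5, 0, 2, 8, 1, 6, 8, 7, 0, 9, 3, 1, 4, 9, 6, 2, 10, 8, 10, 3, 6, 0, 10, 9, 11, 1, 7, 2]
def rw5541 : List ℕ := [11, 9, 6, 6, 2, 1, 8, 7, 2, 7, 0, 6, 3, 6, 9, 0, 3, 7, 7, 8, 10, 4, 3, 0, 10, 1, 10, 1, 11, 0, 11, 1, 2, 5]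
def rw5542 : List ℕ := [11, 0, 6, 4, 8, 6, 1, 9, 3, 8, 3, 10, 2, 4, 4, 2, 2]
def rw5543 : List ℕ := [11, 2, 10, 8, 3, 8, 7, 10, 9, 7, 4, 1, 8, 6, 0, 5, 1, 3, 0, 4, 1, 7, 9, 0, 5, 6, 8, 11, 6, 9, 2, 9]
def rw5544 : List ℕ := [11, 6, 6, 0, 11, 6, 10, 1, 7, 7, 10, 10, 10, 1, 8, 8, 4, 0, 8, 3, 9, 5, 6, 7, 7, 4, 8, 2, 9, 1, 5, 9, 9, 0, 11, 11]
def rw5545 : List ℕ := [11, 9, 1, 4, 4, 2, 7, 9, 2, 0, 10, 1, 7, 5, 7, 2, 6]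
def rw5546 : List ℕ := [11, 5, 2, 6, 9, 3, 0, 9, 3, 9, 10, 4, 8, 8, 3, 4, 0]
def rw5547 : List ℕ := [11, 9, 4, 4, 8, 3, 3, 9, 0, 8, 0, 10, 5, 5, 5, 0, 5, 0]
def rw5548 : List ℕ := [11, 5, 3, 7, 10, 1, 11, 3, 10, 0, 11, 6, 2, 4, 10, 8, 3, 8, 5, 1, 2, 8, 4, 2, 8, 2, 9, 3, 5, 9, 3, 0, 4, 9, 2, 9]
def rw5549 : List ℕ := [11, 2, 9, 2, 8, 0, 7, 9, 5, 7, 1, 10, 3, 3, 5, 5, 3]
def rw5550 : List ℕ := [11, 6, 9, 2, 9, 11, 0, 4, 1, 7, 9, 0, 5, 6, 8, 5, 9, 7, 4, 1, 8, 6, 0, 5, 1, 10, 8, 3, 8, 7, 10, 4]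
def rw5551 : List ℕ := [11, 9, 4, 4, 8, 3, 3, 9, 0, 8, 0, 10, 5, 5, 1, 4, 1, 4]
def rw5552 : List ℕ := [11, 6, 8, 0, 6, 8, 0, 6, 8, 0, 3, 10, 2, 5, 2, 6, 2, 1]
def rw5553 : List ℕ := [11, 6, 8, 2, 4, 3, 8, 7, 1, 2, 4, 10, 3, 4, 4, 4, 4, 4]
def rw5554 : List ℕ := [11, 7, 9, 0, 8, 7, 0, 0, 0, 6, 6, 10, 3, 3, 3, 3, 0]
def rw5555 : List ℕ := [11, 9, 11, 5, 10, 8, 10, 3, 6, 0, 10, 7, 0, 9, 3, 1, 4, 9, 6, 2, 4, 3, 7, 8, 5, 0, 2, 8, 1, 6, 11, 1, 7, 2]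
def rw5556 : List ℕ := [11, 11, 11, 11, 11, 11, 11, 11, 11, 11, 11, 11, 11, 11, 11, 11, 11, 11, 11, 11, 11, 11, 11]
def rw5557 : List ℕ := [11, 5, 3, 7, 10, 1, 11, 2, 10, 0, 11, 6, 2, 4, 10, 8, 3, 8, 5, 1, 2, 8, 4, 2, 8, 3, 9, 3, 5, 9, 3, 0, 4, 9, 2, 9]
def rw5558 : List ℕ := [11, 5, 3, 7, 10, 1, 11, 10, 10, 0, 11, 6, 2, 4, 10, 8, 3, 8, 5, 1, 2, 8, 4, 2, 8, 11, 9, 3, 5, 9, 3, 0, 4, 9, 2, 9]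
def rw5559 : List ℕ := [11, 7, 9, 0, 8, 7, 0, 0, 0, 6, 6, 10, 2, 0, 2, 0, 0, 3]
def rw5560 : List ℕ := [11, 2, 9, 2, 8, 0, 7, 9, 5, 7, 1, 10, 2, 6, 2, 4, 3, 6]
def rw5561 : List ℕ := [11, 3, 10, 8, 10, 3, 6, 0, 10, 7, 0, 9, 3, 1, 4, 9, 6, 2, 2, 3, 7, 8, 5, 0, 2, 8, 1, 6, 11, 1, 7, 2, 11, 9]
def rw5562 : List ℕ := [11, 9, 11, 4, 10, 8, 10, 3, 6, 0, 10, 7, 0, 9, 3, 1, 4, 9, 6, 2, 5, 3, 7, 8, 5, 0, 2, 8, 1, 6, 11, 1, 7, 2]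
def rw5563 : List ℕ := [11, 1, 2, 5, 11, 3, 10, 4, 3, 0, 10, 1, 10, 6, 3, 6, 9, 0, 3, 7, 7, 8, 2, 9, 6, 6, 2, 1, 8, 7, 2, 7, 11, 0]
def rw5564 : List ℕ := [11, 7, 9, 0, 8, 7, 0, 0, 0, 6, 6, 10, 1, 1, 2, 1, 2, 1]
def rw5565 : List ℕ := [11, 6, 2, 4, 10, 8, 3, 8, 5, 1, 2, 8, 4, 2, 8, 9, 9, 3, 5, 9, 3, 0, 4, 9, 2, 9, 11, 5, 3, 7, 10, 1, 11, 8, 10, 0]
def rw5566 : List ℕ := [11, 6, 8, 2, 4, 3, 8, 7, 1, 2, 4, 10, 0, 3, 4, 1, 1, 5]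
def rw5567 : List ℕ := [11, 1, 7, 2, 11, 9, 11, 8, 10, 8, 10, 3, 6, 0, 10, 7, 0, 9, 3, 1, 4, 9, 6, 2, 9, 3, 7, 8, 5, 0, 2, 8, 1, 6]
def rw5568 : List ℕ := [11, 9, 11, 3, 7, 8, 5, 0, 2, 8, 1, 6, 11, 7, 0, 9, 3, 1, 4, 9, 6, 2, 10, 8, 10, 3, 6, 0, 10, 10, 11, 1, 7, 2]
def rw5569 : List ℕ := [11, 6, 9, 2, 9, 11, 0, 4, 1, 7, 9, 0, 5, 6, 8, 4, 9, 7, 4, 1, 8, 6, 0, 5, 1, 10, 8, 3, 8, 7, 10, 5]
def rw5570 : List ℕ := [11, 5, 10, 8, 10, 3, 6, 0, 10, 7, 0, 9, 3, 1, 4, 9, 6, 2, 4, 3, 7, 8, 5, 0, 2, 8, 1, 6, 11, 1, 7, 2, 11, 9]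
def rw5571 : List ℕ := [11, 1, 7, 2, 11, 9, 11, 3, 7, 8, 5, 0, 2, 8, 1, 6, 4, 7, 0, 9, 3, 1, 4, 9, 6, 2, 10, 8, 10, 3, 6, 0, 10, 5]
def rw5572 : List ℕ := [11, 7, 7, 1, 1, 1, 6, 9, 1, 8, 6, 10, 0, 3, 0, 3, 0, 0]
def rw5573 : List ℕ := [11, 6, 8, 2, 4, 3, 8, 7, 1, 2, 4, 10, 7, 4, 2, 5, 6, 6]
def rw5574 : List ℕ := [11, 1, 2, 5, 11, 6, 10, 4, 3, 0, 10, 1, 10, 6, 3, 6, 9, 0, 3, 7, 7, 8, 7, 9, 6, 6, 2, 1, 8, 7, 2, 7, 11, 0]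
def rw5575 : List ℕ := [11, 11, 11, 11, 11, 11, 11, 11, 11, 11, 11, 11, 11, 11, 11, 11, 11, 11, 11, 11, 11, 11, 11]
def rw5576 : List ℕ := [11, 5, 3, 7, 10, 1, 11, 7, 10, 0, 11, 6, 2, 4, 10, 8, 3, 8, 5, 1, 2, 8, 4, 2, 8, 6, 9, 3, 5, 9, 3, 0, 4, 9, 2, 9]
def rw5577 : List ℕ := [11, 11, 10, 0, 11, 6, 2, 4, 10, 8, 3, 8, 5, 1, 2, 8, 4, 2, 8, 10, 9, 3, 5, 9, 3, 0, 4, 9, 2, 9, 11, 5, 3, 7, 10, 1]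
def rw5578 : List ℕ := [11, 3, 7, 8, 5, 0, 2, 8, 1, 6, 9, 7, 0, 9, 3, 1, 4, 9, 6, 2, 10, 8, 10, 3, 6, 0, 10, 8, 11, 1, 7, 2, 11, 9]
def rw5579 : List ℕ := [11, 11, 6, 6, 0, 11, 6, 10, 1, 7, 7, 10, 10, 10, 1, 8, 8, 4, 0, 8, 3, 9, 5, 6, 7, 7, 4, 8, 2, 9, 1, 5, 9, 9, 0, 11]
def rw5580 : List ℕ := [11, 0, 11, 1, 2, 5, 11, 9, 6, 6, 2, 1, 8, 7, 2, 7, 10, 6, 3, 6, 9, 0, 3, 7, 7, 8, 10, 4, 3, 0, 10, 1, 10, 11]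
def rw5581 : List ℕ := [11, 0, 11, 1, 2, 5, 11, 9, 6, 6, 2, 1, 8, 7, 2, 7, 3, 6, 3, 6, 9, 0, 3, 7, 7, 8, 10, 4, 3, 0, 10, 1, 10, 2]
def rw5582 : List ℕ := [11, 5, 3, 0, 6, 9, 2, 5, 3, 9, 7, 10, 7, 7, 4, 3, 5, 6]
def rw5583 : List ℕ := [11, 9, 11, 3, 7, 8, 5, 0, 2, 8, 1, 6, 0, 7, 0, 9, 3, 1, 4, 9, 6, 2, 10, 8, 10, 3, 6, 0, 10, 1, 11, 1, 7, 2]
def rw5584 : List ℕ := [11, 1, 7, 2, 11, 9, 11, 3, 7, 8, 5, 0, 2, 8, 1, 6, 7, 7, 0, 9, 3, 1, 4, 9, 6, 2, 10, 8, 10, 3, 6, 0, 10, 6]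
def rw5585 : List ℕ := [11, 1, 2, 5, 11, 9, 6, 6, 2, 1, 8, 7, 2, 7, 3, 6, 3, 6, 9, 0, 3, 7, 7, 8, 10, 4, 3, 0, 10, 1, 10, 2, 11, 0]
def rw5586 : List ℕ := [11, 7, 7, 1, 1, 1, 6, 9, 1, 8, 6, 10, 1, 5, 2, 2, 2, 5]
def rw5587 : List ℕ := [11, 2, 1, 9, 7, 1, 9, 7, 1, 9, 7, 10, 0, 4, 7, 2, 7, 7]
def rw5588 : List ℕ := [11, 7, 9, 0, 8, 7, 0, 0, 0, 6, 6, 10, 0, 2, 0, 0, 0, 3]
def rw5589 : List ℕ := [11, 1, 2, 5, 11, 8, 10, 4, 3, 0, 10, 1, 10, 6, 3, 6, 9, 0, 3, 7, 7, 8, 9, 9, 6, 6, 2, 1, 8, 7, 2, 7, 11, 0]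
def rw5590 : List ℕ := [11, 0, 6, 4, 8, 6, 1, 9, 3, 8, 3, 10, 7, 2, 5, 3, 7, 3]
def rw5591 : List ℕ := [11, 1, 2, 5, 11, 9, 6, 6, 2, 1, 8, 7, 2, 7, 5, 6, 3, 6, 9, 0, 3, 7, 7, 8, 10, 4, 3, 0, 10, 1, 10, 4, 11, 0]
def rw5592 : List ℕ := [11, 2, 9, 2, 8, 0, 7, 9, 5, 7, 1, 10, 2, 2, 5, 5, 3, 5]
def rw5593 : List ℕ := [11, 1, 2, 5, 11, 5, 10, 4, 3, 0, 10, 1, 10, 6, 3, 6, 9, 0, 3, 7, 7, 8, 4, 9, 6, 6, 2, 1, 8, 7, 2, 7, 11, 0]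
def rw5594 : List ℕ := [11, 2, 7, 7, 4, 0, 8, 6, 0, 3, 7, 10, 4, 9, 6, 3, 4, 7]
def rw5595 : List ℕ := [11, 7, 7, 1, 1, 1, 6, 9, 1, 8, 6, 10, 2, 0, 2, 0, 3, 3]
def rw5596 : List ℕ := [11, 9, 11, 3, 7, 8, 5, 0, 2, 8, 1, 6, 7, 7, 0, 9, 3, 1, 4, 9, 6, 2, 10, 8, 10, 3, 6, 0, 10, 6, 11, 1, 7, 2]
def rw5597 : List ℕ := [11, 0, 11, 1, 2, 5, 11, 9, 6, 6, 2, 1, 8, 7, 2, 7, 0, 6, 3, 6, 9, 0, 3, 7, 7, 8, 10, 4, 3, 0, 10, 1, 10, 1]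
def rw5598 : List ℕ := [11, 9, 11, 3, 7, 8, 5, 0, 2, 8, 1, 6, 1, 7, 0, 9, 3, 1, 4, 9, 6, 2, 10, 8, 10, 3, 6, 0, 10, 0, 11, 1, 7, 2]
def rw5599 : List ℕ := [11, 5, 3, 7, 10, 1, 11, 6, 10, 0, 11, 6, 2, 4, 10, 8, 3, 8, 5, 1, 2, 8, 4, 2, 8, 7, 9, 3, 5, 9, 3, 0, 4, 9, 2, 9]
def rw5600 : List ℕ := [11, 2, 10, 8, 10, 3, 6, 0, 10, 7, 0, 9, 3, 1, 4, 9, 6, 2, 3, 3, 7, 8, 5, 0, 2, 8, 1, 6, 11, 1, 7, 2, 11, 9]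
def rw5601 : List ℕ := [11, 0, 4, 1, 7, 9, 0, 5, 6, 8, 4, 9, 7, 4, 1, 8, 6, 0, 5, 1, 10, 8, 3, 8, 7, 10, 5, 11, 6, 9, 2, 9]
def rw5602 : List ℕ := [11, 6, 9, 2, 9, 11, 7, 10, 8, 3, 8, 7, 10, 9, 7, 4, 1, 8, 6, 0, 5, 1, 6, 0, 4, 1, 7, 9, 0, 5, 6, 8]
def rw5603 : List ℕ := [11, 7, 9, 0, 8, 7, 0, 0, 0, 6, 6, 10, 2, 2, 1, 3, 1, 3]
def rw5604 : List ℕ := [11, 1, 2, 5, 11, 9, 6, 6, 2, 1, 8, 7, 2, 7, 6, 6, 3, 6, 9, 0, 3, 7, 7, 8, 10, 4, 3, 0, 10, 1, 10, 7, 11, 0]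
def rw5605 : List ℕ := [11, 5, 3, 7, 10, 1, 11, 5, 10, 0, 11, 6, 2, 4, 10, 8, 3, 8, 5, 1, 2, 8, 4, 2, 8, 4, 9, 3, 5, 9, 3, 0, 4, 9, 2, 9]
def rw5606 : List ℕ := [11, 3, 7, 8, 5, 0, 2, 8, 1, 6, 10, 7, 0, 9, 3, 1, 4, 9, 6, 2, 10, 8, 10, 3, 6, 0, 10, 11, 11, 1, 7, 2, 11, 9]
def rw5607 : List ℕ := [11, 1, 7, 2, 11, 9, 11, 5, 10, 8, 10, 3, 6, 0, 10, 7, 0, 9, 3, 1, 4, 9, 6, 2, 4, 3, 7, 8, 5, 0, 2, 8, 1, 6]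
def rw5608 : List ℕ := [11, 3, 7, 8, 5, 0, 2, 8, 1, 6, 2, 7, 0, 9, 3, 1, 4, 9, 6, 2, 10, 8, 10, 3, 6, 0, 10, 3, 11, 1, 7, 2, 11, 9]
def rw5609 : List ℕ := [11, 6, 9, 2, 9, 11, 6, 10, 8, 3, 8, 7, 10, 9, 7, 4, 1, 8, 6, 0, 5, 1, 7, 0, 4, 1, 7, 9, 0, 5, 6, 8]
def rw5610 : List ℕ := [11, 2, 1, 9, 7, 1, 9, 7, 1, 9, 7, 10, 0, 3, 7, 5, 2, 5]
def rw5611 : List ℕ := [11, 0, 4, 1, 7, 9, 0, 5, 6, 8, 11, 9, 7, 4, 1, 8, 6, 0, 5, 1, 10, 8, 3, 8, 7, 10, 10, 11, 6, 9, 2, 9]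
def rw5612 : List ℕ := [11, 2, 10, 0, 11, 6, 2, 4, 10, 8, 3, 8, 5, 1, 2, 8, 4, 2, 8, 3, 9, 3, 5, 9, 3, 0, 4, 9, 2, 9, 11, 5, 3, 7, 10, 1]
def rw5613 : List ℕ := [11, 11, 10, 4, 3, 0, 10, 1, 10, 6, 3, 6, 9, 0, 3, 7, 7, 8, 10, 9, 6, 6, 2, 1, 8, 7, 2, 7, 11, 0, 11, 1, 2, 5]
def rw5614 : List ℕ := [11, 1, 2, 5, 11, 9, 6, 6, 2, 1, 8, 7, 2, 7, 2, 6, 3, 6, 9, 0, 3, 7, 7, 8, 10, 4, 3, 0, 10, 1, 10, 3, 11, 0]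
def rw5615 : List ℕ := [11, 6, 9, 2, 9, 11, 1, 10, 8, 3, 8, 7, 10, 9, 7, 4, 1, 8, 6, 0, 5, 1, 0, 0, 4, 1, 7, 9, 0, 5, 6, 8]
def rw5616 : List ℕ := [11, 1, 7, 2, 11, 9, 11, 0, 10, 8, 10, 3, 6, 0, 10, 7, 0, 9, 3, 1, 4, 9, 6, 2, 1, 3, 7, 8, 5, 0, 2, 8, 1, 6]
def rw5617 : List ℕ := [11, 6, 9, 2, 9, 11, 0, 4, 1, 7, 9, 0, 5, 6, 8, 8, 9, 7, 4, 1, 8, 6, 0, 5, 1, 10, 8, 3, 8, 7, 10, 9]
def rw5618 : List ℕ := [11, 3, 10, 1, 7, 7, 10, 10, 10, 1, 8, 8, 4, 0, 8, 3, 9, 5, 6, 2, 7, 4, 8, 2, 9, 1, 5, 9, 9, 0, 11, 11, 11, 6, 6, 0]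
def rw5619 : List ℕ := [11, 2, 1, 9, 7, 1, 9, 7, 1, 9, 7, 10, 0, 3, 7, 3, 4, 3]
def rw5620 : List ℕ := [11, 6, 9, 2, 9, 11, 0, 4, 1, 7, 9, 0, 5, 6, 8, 6, 9, 7, 4, 1, 8, 6, 0, 5, 1, 10, 8, 3, 8, 7, 10, 7]
def rw5621 : List ℕ := [11, 1, 3, 8, 6, 3, 5, 5, 0, 8, 10, 7, 3, 7, 5, 7, 0]
def rw5622 : List ℕ := [11, 6, 8, 2, 4, 3, 8, 7, 1, 2, 4, 10, 5, 2, 4, 4, 3]
def rw5623 : List ℕ := [11, 0, 0, 9, 4, 6, 1, 3, 1, 9, 6, 10, 3, 7, 4, 6, 9, 4]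
def rw5624 : List ℕ := [11, 2, 9, 2, 8, 0, 7, 9, 5, 7, 1, 10, 2, 4, 4, 2, 5, 5]
def rw5625 : List ℕ := [11, 6, 10, 1, 7, 7, 10, 10, 10, 1, 8, 8, 4, 0, 8, 3, 9, 5, 6, 7, 7, 4, 8, 2, 9, 1, 5, 9, 9, 0, 11, 11, 11, 6, 6, 0]
def rw5626 : List ℕ := [11, 1, 7, 2, 11, 9, 11, 3, 7, 8, 5, 0, 2, 8, 1, 6, 6, 7, 0, 9, 3, 1, 4, 9, 6, 2, 10, 8, 10, 3, 6, 0, 10, 7]
def rw5627 : List ℕ := [11, 11, 11, 11, 11, 11, 11, 11, 11, 11, 11, 11, 11, 11, 11, 11, 11, 11, 11, 11, 11, 11, 11]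
def rw5628 : List ℕ := [11, 6, 6, 0, 11, 10, 10, 1, 7, 7, 10, 10, 10, 1, 8, 8, 4, 0, 8, 3, 9, 5, 6, 11, 7, 4, 8, 2, 9, 1, 5, 9, 9, 0, 11, 11]
def rw5629 : List ℕ := [11, 3, 7, 8, 5, 0, 2, 8, 1, 6, 0, 7, 0, 9, 3, 1, 4, 9, 6, 2, 10, 8, 10, 3, 6, 0, 10, 1, 11, 1, 7, 2, 11, 9]
def rw5630 : List ℕ := [11, 7, 10, 0, 11, 6, 2, 4, 10, 8, 3, 8, 5, 1, 2, 8, 4, 2, 8, 6, 9, 3, 5, 9, 3, 0, 4, 9, 2, 9, 11, 5, 3, 7, 10, 1]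
def rw5631 : List ℕ := [11, 7, 9, 0, 8, 7, 0, 0, 0, 6, 6, 10, 4, 3, 3, 3, 4, 0]
def rw5632 : List ℕ := [11, 6, 2, 4, 10, 8, 3, 8, 5, 1, 2, 8, 4, 2, 8, 10, 9, 3, 5, 9, 3, 0, 4, 9, 2, 9, 11, 5, 3, 7, 10, 1, 11, 11, 10, 0]
def rw5633 : List ℕ := [11, 0, 4, 1, 7, 9, 0, 5, 6, 8, 6, 9, 7, 4, 1, 8, 6, 0, 5, 1, 10, 8, 3, 8, 7, 10, 7, 11, 6, 9, 2, 9]
def rw5634 : List ℕ := [11, 5, 10, 4, 3, 0, 10, 1, 10, 6, 3, 6, 9, 0, 3, 7, 7, 8, 4, 9, 6, 6, 2, 1, 8, 7, 2, 7, 11, 0, 11, 1, 2, 5]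
def rw5635 : List ℕ := [11, 9, 10, 8, 10, 3, 6, 0, 10, 7, 0, 9, 3, 1, 4, 9, 6, 2, 8, 3, 7, 8, 5, 0, 2, 8, 1, 6, 11, 1, 7, 2, 11, 9]
def rw5636 : List ℕ := [11, 11, 11, 11, 11, 11, 11, 11, 11, 11, 11, 11, 11, 11, 11, 11, 11, 11, 11, 11, 11, 11, 11]
def rw5637 : List ℕ := [11, 0, 4, 1, 7, 9, 0, 5, 6, 8, 1, 9, 7, 4, 1, 8, 6, 0, 5, 1, 10, 8, 3, 8, 7, 10, 0, 11, 6, 9, 2, 9]
def rw5638 : List ℕ := [11, 9, 6, 6, 2, 1, 8, 7, 2, 7, 5, 6, 3, 6, 9, 0, 3, 7, 7, 8, 10, 4, 3, 0, 10, 1, 10, 4, 11, 0, 11, 1, 2, 5]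
def rw5639 : List ℕ := [11, 1, 10, 8, 3, 8, 7, 10, 9, 7, 4, 1, 8, 6, 0, 5, 1, 0, 0, 4, 1, 7, 9, 0, 5, 6, 8, 11, 6, 9, 2, 9]
def rw5640 : List ℕ := [11, 1, 2, 5, 11, 11, 10, 4, 3, 0, 10, 1, 10, 6, 3, 6, 9, 0, 3, 7, 7, 8, 10, 9, 6, 6, 2, 1, 8, 7, 2, 7, 11, 0]
def rw5641 : List ℕ := [11, 1, 7, 2, 11, 9, 11, 3, 7, 8, 5, 0, 2, 8, 1, 6, 5, 7, 0, 9, 3, 1, 4, 9, 6, 2, 10, 8, 10, 3, 6, 0, 10, 4]
def rw5642 : List ℕ := [11, 6, 8, 2, 4, 3, 8, 7, 1, 2, 4, 10, 6, 2, 6, 3, 6, 6]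
def rw5643 : List ℕ := [11, 2, 9, 2, 8, 0, 7, 9, 5, 7, 1, 10, 7, 5, 5, 7, 2]
def rw5644 : List ℕ := [11, 7, 9, 0, 8, 7, 0, 0, 0, 6, 6, 10, 2, 2, 1, 2, 0, 2]
def rw5645 : List ℕ := [11, 3, 10, 4, 3, 0, 10, 1, 10, 6, 3, 6, 9, 0, 3, 7, 7, 8, 2, 9, 6, 6, 2, 1, 8, 7, 2, 7, 11, 0, 11, 1, 2, 5]
def rw5646 : List ℕ := [11, 6, 9, 2, 9, 11, 9, 10, 8, 3, 8, 7, 10, 9, 7, 4, 1, 8, 6, 0, 5, 1, 8, 0, 4, 1, 7, 9, 0, 5, 6, 8]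
def rw5647 : List ℕ := [11, 1, 3, 8, 6, 3, 5, 5, 0, 8, 10, 7, 3, 6, 4, 6, 0]
def rw5648 : List ℕ := [11, 1, 7, 2, 11, 9, 11, 9, 10, 8, 10, 3, 6, 0, 10, 7, 0, 9, 3, 1, 4, 9, 6, 2, 8, 3, 7, 8, 5, 0, 2, 8, 1, 6]
def rw5649 : List ℕ := [11, 8, 10, 4, 3, 0, 10, 1, 10, 6, 3, 6, 9, 0, 3, 7, 7, 8, 9, 9, 6, 6, 2, 1, 8, 7, 2, 7, 11, 0, 11, 1, 2, 5]
def rw5650 : List ℕ := [11, 7, 7, 1, 1, 1, 6, 9, 1, 8, 6, 10, 3, 1, 3, 0, 3, 3]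
def rw5651 : List ℕ := [11, 0, 10, 4, 3, 0, 10, 1, 10, 6, 3, 6, 9, 0, 3, 7, 7, 8, 1, 9, 6, 6, 2, 1, 8, 7, 2, 7, 11, 0, 11, 1, 2, 5]
def rw5652 : List ℕ := [11, 0, 10, 1, 7, 7, 10, 10, 10, 1, 8, 8, 4, 0, 8, 3, 9, 5, 6, 1, 7, 4, 8, 2, 9, 1, 5, 9, 9, 0, 11, 11, 11, 6, 6, 0]
def rw5653 : List ℕ := [11, 7, 9, 0, 8, 7, 0, 0, 0, 6, 6, 10, 1, 3, 3, 1, 2, 0]
def rw5654 : List ℕ := [11, 7, 7, 1, 1, 1, 6, 9, 1, 8, 6, 10, 1, 2, 2, 2, 2]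
def rw5655 : List ℕ := [11, 3, 7, 8, 5, 0, 2, 8, 1, 6, 7, 7, 0, 9, 3, 1, 4, 9, 6, 2, 10, 8, 10, 3, 6, 0, 10, 6, 11, 1, 7, 2, 11, 9]
def rw5656 : List ℕ := [11, 7, 10, 8, 10, 3, 6, 0, 10, 7, 0, 9, 3, 1, 4, 9, 6, 2, 6, 3, 7, 8, 5, 0, 2, 8, 1, 6, 11, 1, 7, 2, 11, 9]
def rw5657 : List ℕ := [11, 6, 10, 4, 3, 0, 10, 1, 10, 6, 3, 6, 9, 0, 3, 7, 7, 8, 7, 9, 6, 6, 2, 1, 8, 7, 2, 7, 11, 0, 11, 1, 2, 5]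
def rw5658 : List ℕ := [11, 3, 7, 8, 5, 0, 2, 8, 1, 6, 4, 7, 0, 9, 3, 1, 4, 9, 6, 2, 10, 8, 10, 3, 6, 0, 10, 5, 11, 1, 7, 2, 11, 9]
def rw5659 : List ℕ := [11, 11, 11, 11, 11, 11, 11, 11, 11, 11, 11, 11, 11, 11, 11, 11, 11, 11, 11, 11, 11, 11, 11]
def rw5660 : List ℕ := [11, 7, 7, 1, 1, 1, 6, 9, 1, 8, 6, 10, 5, 1, 5, 0, 5, 2]
def rw5661 : List ℕ := [11, 7, 10, 4, 3, 0, 10, 1, 10, 6, 3, 6, 9, 0, 3, 7, 7, 8, 6, 9, 6, 6, 2, 1, 8, 7, 2, 7, 11, 0, 11, 1, 2, 5]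
def rw5662 : List ℕ := [11, 6, 9, 2, 9, 11, 0, 4, 1, 7, 9, 0, 5, 6, 8, 2, 9, 7, 4, 1, 8, 6, 0, 5, 1, 10, 8, 3, 8, 7, 10, 3]
def rw5663 : List ℕ := [11, 0, 10, 8, 10, 3, 6, 0, 10, 7, 0, 9, 3, 1, 4, 9, 6, 2, 1, 3, 7, 8, 5, 0, 2, 8, 1, 6, 11, 1, 7, 2, 11, 9]
def rw5664 : List ℕ := [11, 11, 10, 8, 10, 3, 6, 0, 10, 7, 0, 9, 3, 1, 4, 9, 6, 2, 10, 3, 7, 8, 5, 0, 2, 8, 1, 6, 11, 1, 7, 2, 11, 9]
def rw5665 : List ℕ := [11, 11, 11, 11, 11, 11, 11, 11, 11, 11, 11, 11, 11, 11, 11, 11, 11, 11, 11, 11, 11, 11, 11]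
def rw5666 : List ℕ := [11, 11, 11, 11, 11, 11, 11, 11, 11, 11, 11, 11, 11, 11, 11, 11, 11, 11, 11, 11, 11, 11, 11]
def rw5667 : List ℕ := [11, 8, 10, 8, 10, 3, 6, 0, 10, 7, 0, 9, 3, 1, 4, 9, 6, 2, 9, 3, 7, 8, 5, 0, 2, 8, 1, 6, 11, 1, 7, 2, 11, 9]
def rw5668 : List ℕ := [11, 3, 7, 8, 5, 0, 2, 8, 1, 6, 8, 7, 0, 9, 3, 1, 4, 9, 6, 2, 10, 8, 10, 3, 6, 0, 10, 9, 11, 1, 7, 2, 11, 9]
def rw5669 : List ℕ := [11, 7, 10, 1, 7, 7, 10, 10, 10, 1, 8, 8, 4, 0, 8, 3, 9, 5, 6, 6, 7, 4, 8, 2, 9, 1, 5, 9, 9, 0, 11, 11, 11, 6, 6, 0]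
def rw5670 : List ℕ := [11, 1, 10, 4, 3, 0, 10, 1, 10, 6, 3, 6, 9, 0, 3, 7, 7, 8, 0, 9, 6, 6, 2, 1, 8, 7, 2, 7, 11, 0, 11, 1, 2, 5]
def rw5671 : List ℕ := [11, 11, 11, 11, 11, 11, 11, 11, 11, 11, 11, 11, 11, 11, 11, 11, 11, 11, 11, 11, 11, 11, 11]
def rw5672 : List ℕ := [11, 11, 11, 11, 11, 11, 11, 11, 11, 11, 11, 11, 11, 11, 11, 11, 11, 11, 11, 11, 11, 11, 11]
def rw5673 : List ℕ := [11, 0, 4, 1, 7, 9, 0, 5, 6, 8, 8, 9, 7, 4, 1, 8, 6, 0, 5, 1, 10, 8, 3, 8, 7, 10, 9, 11, 6, 9, 2, 9]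
def rw5674 : List ℕ := [11, 0, 4, 1, 7, 9, 0, 5, 6, 8, 0, 9, 7, 4, 1, 8, 6, 0, 5, 1, 10, 8, 3, 8, 7, 10, 1, 11, 6, 9, 2, 9]
def rw5675 : List ℕ := [11, 2, 10, 1, 7, 7, 10, 10, 10, 1, 8, 8, 4, 0, 8, 3, 9, 5, 6, 3, 7, 4, 8, 2, 9, 1, 5, 9, 9, 0, 11, 11, 11, 6, 6, 0]
def rw5676 : List ℕ := [11, 7, 7, 1, 1, 1, 6, 9, 1, 8, 6, 10, 2, 1, 1, 1, 3, 1]
def rw5677 : List ℕ := [11, 11, 11, 11, 11, 11, 11, 11, 11, 11, 11, 11, 11, 11, 11, 11, 11, 11, 11, 11, 11, 11, 11]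
def rw5678 : List ℕ := [11, 0, 4, 1, 7, 9, 0, 5, 6, 8, 7, 9, 7, 4, 1, 8, 6, 0, 5, 1, 10, 8, 3, 8, 7, 10, 6, 11, 6, 9, 2, 9]
def rw5679 : List ℕ := [11, 7, 9, 0, 8, 7, 0, 0, 0, 6, 6, 10, 4, 1, 1, 4, 3]
def rw5680 : List ℕ := [11, 1, 10, 1, 7, 7, 10, 10, 10, 1, 8, 8, 4, 0, 8, 3, 9, 5, 6, 0, 7, 4, 8, 2, 9, 1, 5, 9, 9, 0, 11, 11, 11, 6, 6, 0]
def rw5681 : List ℕ := [11, 3, 10, 8, 3, 8, 7, 10, 9, 7, 4, 1, 8, 6, 0, 5, 1, 2, 0, 4, 1, 7, 9, 0, 5, 6, 8, 11, 6, 9, 2, 9]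
def rw5682 : List ℕ := [11, 9, 6, 6, 2, 1, 8, 7, 2, 7, 2, 6, 3, 6, 9, 0, 3, 7, 7, 8, 10, 4, 3, 0, 10, 1, 10, 3, 11, 0, 11, 1, 2, 5]
def rw5683 : List ℕ := [11, 5, 3, 7, 10, 1, 11, 11, 10, 0, 11, 6, 2, 4, 10, 8, 3, 8, 5, 1, 2, 8, 4, 2, 8, 10, 9, 3, 5, 9, 3, 0, 4, 9, 2, 9]
def rw5684 : List ℕ := [11, 1, 7, 2, 11, 9, 11, 3, 7, 8, 5, 0, 2, 8, 1, 6, 0, 7, 0, 9, 3, 1, 4, 9, 6, 2, 10, 8, 10, 3, 6, 0, 10, 1]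
def rw5685 : List ℕ := [11, 8, 10, 0, 11, 6, 2, 4, 10, 8, 3, 8, 5, 1, 2, 8, 4, 2, 8, 9, 9, 3, 5, 9, 3, 0, 4, 9, 2, 9, 11, 5, 3, 7, 10, 1]
def rw5686 : List ℕ := [11, 7, 7, 1, 1, 1, 6, 9, 1, 8, 6, 10, 2, 1, 1, 2, 0, 2]
def rw5687 : List ℕ := [11, 9, 6, 6, 2, 1, 8, 7, 2, 7, 9, 6, 3, 6, 9, 0, 3, 7, 7, 8, 10, 4, 3, 0, 10, 1, 10, 8, 11, 0, 11, 1, 2, 5]
def rw5688 : List ℕ := [11, 9, 11, 3, 7, 8, 5, 0, 2, 8, 1, 6, 2, 7, 0, 9, 3, 1, 4, 9, 6, 2, 10, 8, 10, 3, 6, 0, 10, 3, 11, 1, 7, 2]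
def rw5689 : List ℕ := [11, 3, 7, 8, 5, 0, 2, 8, 1, 6, 6, 7, 0, 9, 3, 1, 4, 9, 6, 2, 10, 8, 10, 3, 6, 0, 10, 7, 11, 1, 7, 2, 11, 9]
def rw5690 : List ℕ := [11, 7, 9, 0, 8, 7, 0, 0, 0, 6, 6, 10, 3, 1, 3, 0, 0, 3]
def rw5691 : List ℕ := [11, 7, 7, 1, 1, 1, 6, 9, 1, 8, 6, 10, 2, 1, 1, 3, 1, 3]
def rw5692 : List ℕ := [11, 9, 10, 8, 3, 8, 7, 10, 9, 7, 4, 1, 8, 6, 0, 5, 1, 8, 0, 4, 1, 7, 9, 0, 5, 6, 8, 11, 6, 9, 2, 9]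
def rw5693 : List ℕ := [11, 7, 9, 0, 8, 7, 0, 0, 0, 6, 6, 10, 2, 2, 0, 2, 0, 3]
def rw5694 : List ℕ := [11, 7, 7, 1, 1, 1, 6, 9, 1, 8, 6, 10, 1, 3, 0, 2, 2, 0]
def rw5695 : List ℕ := [11, 5, 3, 7, 10, 1, 11, 8, 10, 0, 11, 6, 2, 4, 10, 8, 3, 8, 5, 1, 2, 8, 4, 2, 8, 9, 9, 3, 5, 9, 3, 0, 4, 9, 2, 9]
def rw5696 : List ℕ := [11, 11, 11, 11, 11, 11, 11, 11, 11, 11, 11, 11, 11, 11, 11, 11, 11, 11, 11, 11, 11, 11, 11]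
def rw5697 : List ℕ := [11, 2, 10, 4, 3, 0, 10, 1, 10, 6, 3, 6, 9, 0, 3, 7, 7, 8, 3, 9, 6, 6, 2, 1, 8, 7, 2, 7, 11, 0, 11, 1, 2, 5]
def rw5698 : List ℕ := [11, 1, 7, 2, 11, 9, 11, 3, 7, 8, 5, 0, 2, 8, 1, 6, 2, 7, 0, 9, 3, 1, 4, 9, 6, 2, 10, 8, 10, 3, 6, 0, 10, 3]
def rw5699 : List ℕ := [11, 3, 7, 8, 5, 0, 2, 8, 1, 6, 3, 7, 0, 9, 3, 1, 4, 9, 6, 2, 10, 8, 10, 3, 6, 0, 10, 2, 11, 1, 7, 2, 11, 9]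
def rw5700 : List ℕ := [11, 0, 4, 1, 7, 9, 0, 5, 6, 8, 5, 9, 7, 4, 1, 8, 6, 0, 5, 1, 10, 8, 3, 8, 7, 10, 4, 11, 6, 9, 2, 9]
def rw5701 : List ℕ := [11, 9, 6, 6, 2, 1, 8, 7, 2, 7, 10, 6, 3, 6, 9, 0, 3, 7, 7, 8, 10, 4, 3, 0, 10, 1, 10, 11, 11, 0, 11, 1, 2, 5]
def rw5702 : List ℕ := [11, 0, 4, 1, 7, 9, 0, 5, 6, 8, 9, 9, 7, 4, 1, 8, 6, 0, 5, 1, 10, 8, 3, 8, 7, 10, 8, 11, 6, 9, 2, 9]
def rw5703 : List ℕ := [10, 3, 6, 0, 10, 11, 11, 1, 7, 2, 11, 9, 11, 3, 7, 8, 5, 0, 2, 8, 1, 6, 10, 7, 0, 9, 3, 1, 4, 9, 6, 2, 10, 8]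
def rw5704 : List ℕ := [2, 9, 1, 5, 9, 9, 0, 11, 11, 11, 6, 6, 0, 11, 9, 10, 1, 7, 7, 10, 10, 10, 1, 8, 8, 4, 0, 8, 3, 9, 5, 6, 8, 7, 4, 8]
def rw5705 : List ℕ := [7, 7, 1, 1, 1, 6, 9, 1, 8, 6, 10, 2, 1, 3, 1, 3, 3, 11]
def rw5706 : List ℕ := [1, 1, 1, 6, 9, 1, 8, 6, 10, 3, 1, 3, 0, 3, 3, 11, 7, 7]
def rw5707 : List ℕ := [1, 8, 8, 4, 0, 8, 3, 9, 5, 6, 3, 7, 4, 8, 2, 9, 1, 5, 9, 9, 0, 11, 11, 11, 6, 6, 0, 11, 2, 10, 1, 7, 7, 10, 10, 10]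
def rw5708 : List ℕ := [11, 8, 10, 8, 3, 8, 7, 10, 9, 7, 4, 1, 8, 6, 0, 5, 1, 9, 0, 4, 1, 7, 9, 0, 5, 6, 8, 11, 6, 9, 2, 9]
def rw5709 : List ℕ := [9, 11, 5, 3, 7, 10, 1, 11, 6, 10, 0, 11, 6, 2, 4, 10, 8, 3, 8, 5, 1, 2, 8, 4, 2, 8, 7, 9, 3, 5, 9, 3, 0, 4, 9, 2]
def rw5710 : List ℕ := [0, 4, 1, 7, 9, 0, 5, 6, 8, 11, 6, 9, 2, 9, 11, 10, 10, 8, 3, 8, 7, 10, 9, 7, 4, 1, 8, 6, 0, 5, 1, 11]
def rw5711 : List ℕ := [7, 2, 7, 0, 6, 3, 6, 9, 0, 3, 7, 7, 8, 10, 4, 3, 0, 10, 1, 10, 1, 11, 0, 11, 1, 2, 5, 11, 9, 6, 6, 2, 1, 8]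
def rw5712 : List ℕ := [9, 9, 9, 9, 9, 9, 9]
def rw5713 : List ℕ := [10, 10, 11, 0, 11, 1, 2, 5, 11, 9, 6, 6, 2, 1, 8, 7, 2, 7, 11, 6, 3, 6, 9, 0, 3, 7, 7, 8, 10, 4, 3, 0, 10, 1]
def rw5714 : List ℕ := [1, 4, 9, 6, 2, 10, 8, 10, 3, 6, 0, 10, 9, 11, 1, 7, 2, 11, 9, 11, 3, 7, 8, 5, 0, 2, 8, 1, 6, 8, 7, 0, 9, 3]
def rw5715 : List ℕ := [10, 4, 3, 0, 10, 1, 10, 6, 3, 6, 9, 0, 3, 7, 7, 8, 9, 9, 6, 6, 2, 1, 8, 7, 2, 7, 11, 0, 11, 1, 2, 5, 11, 8]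
def rw5716 : List ℕ := [2, 10, 0, 11, 6, 2, 4, 10, 8, 3, 8, 5, 1, 2, 8, 4, 2, 8, 3, 9, 3, 5, 9, 3, 0, 4, 9, 2, 9, 11, 5, 3, 7, 10, 1, 11]
def rw5717 : List ℕ := [3, 10, 0, 11, 6, 2, 4, 10, 8, 3, 8, 5, 1, 2, 8, 4, 2, 8, 2, 9, 3, 5, 9, 3, 0, 4, 9, 2, 9, 11, 5, 3, 7, 10, 1, 11]
def rw5718 : List ℕ := [8, 2, 4, 3, 8, 7, 1, 2, 4, 10, 4, 1, 7, 4, 1, 7, 11, 6]
def rw5719 : List ℕ := [7, 8, 6, 3, 6, 9, 0, 3, 7, 7, 8, 10, 4, 3, 0, 10, 1, 10, 9, 11, 0, 11, 1, 2, 5, 11, 9, 6, 6, 2, 1, 8, 7, 2]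
def rw5720 : List ℕ := [1, 8, 8, 4, 0, 8, 3, 9, 5, 6, 7, 7, 4, 8, 2, 9, 1, 5, 9, 9, 0, 11, 11, 11, 6, 6, 0, 11, 6, 10, 1, 7, 7, 10, 10, 10]
def rw5721 : List ℕ := [8, 10, 4, 3, 0, 10, 1, 10, 6, 3, 6, 9, 0, 3, 7, 7, 8, 9, 9, 6, 6, 2, 1, 8, 7, 2, 7, 11, 0, 11, 1, 2, 5, 11]
def rw5722 : List ℕ := [0, 4, 1, 7, 9, 0, 5, 6, 8, 3, 9, 7, 4, 1, 8, 6, 0, 5, 1, 10, 8, 3, 8, 7, 10, 2, 11, 6, 9, 2, 9, 11]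
def rw5723 : List ℕ := [9, 5, 6, 1, 7, 4, 8, 2, 9, 1, 5, 9, 9, 0, 11, 11, 11, 6, 6, 0, 11, 0, 10, 1, 7, 7, 10, 10, 10, 1, 8, 8, 4, 0, 8, 3]
def rw5724 : List ℕ := [8, 10, 0, 11, 6, 2, 4, 10, 8, 3, 8, 5, 1, 2, 8, 4, 2, 8, 9, 9, 3, 5, 9, 3, 0, 4, 9, 2, 9, 11, 5, 3, 7, 10, 1, 11]
def rw5725 : List ℕ := [10, 9, 7, 4, 1, 8, 6, 0, 5, 1, 10, 8, 3, 8, 7, 10, 11, 11, 6, 9, 2, 9, 11, 0, 4, 1, 7, 9, 0, 5, 6, 8]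
def rw5726 : List ℕ := [2, 10, 8, 3, 8, 7, 10, 9, 7, 4, 1, 8, 6, 0, 5, 1, 3, 0, 4, 1, 7, 9, 0, 5, 6, 8, 11, 6, 9, 2, 9, 11]
def rw5727 : List ℕ := [7, 11, 1, 7, 2, 11, 9, 11, 3, 7, 8, 5, 0, 2, 8, 1, 6, 6, 7, 0, 9, 3, 1, 4, 9, 6, 2, 10, 8, 10, 3, 6, 0, 10]
def rw5728 : List ℕ := [1, 2, 8, 4, 2, 8, 2, 9, 3, 5, 9, 3, 0, 4, 9, 2, 9, 11, 5, 3, 7, 10, 1, 11, 3, 10, 0, 11, 6, 2, 4, 10, 8, 3, 8, 5]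
def rw5729 : List ℕ := [6, 8, 11, 6, 9, 2, 9, 11, 5, 10, 8, 3, 8, 7, 10, 9, 7, 4, 1, 8, 6, 0, 5, 1, 4, 0, 4, 1, 7, 9, 0, 5]
def rw5730 : List ℕ := [6, 2, 0, 3, 7, 8, 5, 0, 2, 8, 1, 6, 11, 1, 7, 2, 11, 9, 11, 1, 10, 8, 10, 3, 6, 0, 10, 7, 0, 9, 3, 1, 4, 9]
def rw5731 : List ℕ := [8, 2, 9, 1, 5, 9, 9, 0, 11, 11, 11, 6, 6, 0, 11, 9, 10, 1, 7, 7, 10, 10, 10, 1, 8, 8, 4, 0, 8, 3, 9, 5, 6, 8, 7, 4]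
def rw5732 : List ℕ := [7, 10, 0, 11, 6, 2, 4, 10, 8, 3, 8, 5, 1, 2, 8, 4, 2, 8, 6, 9, 3, 5, 9, 3, 0, 4, 9, 2, 9, 11, 5, 3, 7, 10, 1, 11]
def rw5733 : List ℕ := [0, 0, 6, 6, 10, 3, 1, 3, 0, 0, 3, 11, 7, 9, 0, 8, 7, 0]
def rw5734 : List ℕ := [7, 7, 1, 1, 1, 6, 9, 1, 8, 6, 10, 2, 2, 0, 3, 11]
def rw5735 : List ℕ := [1, 10, 0, 11, 6, 2, 4, 10, 8, 3, 8, 5, 1, 2, 8, 4, 2, 8, 0, 9, 3, 5, 9, 3, 0, 4, 9, 2, 9, 11, 5, 3, 7, 10, 1, 11]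
def rw5736 : List ℕ := [4, 1, 8, 6, 0, 5, 1, 9, 0, 4, 1, 7, 9, 0, 5, 6, 8, 11, 6, 9, 2, 9, 11, 8, 10, 8, 3, 8, 7, 10, 9, 7]
def rw5737 : List ℕ := [5, 1, 2, 8, 4, 2, 8, 5, 9, 3, 5, 9, 3, 0, 4, 9, 2, 9, 11, 5, 3, 7, 10, 1, 11, 4, 10, 0, 11, 6, 2, 4, 10, 8, 3, 8]
def rw5738 : List ℕ := [11, 9, 7, 4, 1, 8, 6, 0, 5, 1, 10, 8, 3, 8, 7, 10, 10, 11, 6, 9, 2, 9, 11, 0, 4, 1, 7, 9, 0, 5, 6, 8]
def rw5739 : List ℕ := [1, 8, 8, 4, 0, 8, 3, 9, 5, 6, 5, 7, 4, 8, 2, 9, 1, 5, 9, 9, 0, 11, 11, 11, 6, 6, 0, 11, 4, 10, 1, 7, 7, 10, 10, 10]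
def rw5740 : List ℕ := [3, 7, 8, 5, 0, 2, 8, 1, 6, 5, 7, 0, 9, 3, 1, 4, 9, 6, 2, 10, 8, 10, 3, 6, 0, 10, 4, 11, 1, 7, 2, 11, 9, 11]
def rw5741 : List ℕ := [10, 4, 3, 0, 10, 1, 10, 6, 11, 0, 11, 1, 2, 5, 11, 9, 6, 6, 2, 1, 8, 7, 2, 7, 7, 6, 3, 6, 9, 0, 3, 7, 7, 8]
def rw5742 : List ℕ := [7, 10, 8, 3, 8, 7, 10, 9, 7, 4, 1, 8, 6, 0, 5, 1, 6, 0, 4, 1, 7, 9, 0, 5, 6, 8, 11, 6, 9, 2, 9, 11]
def rw5743 : List ℕ := [8, 11, 0, 11, 1, 2, 5, 11, 9, 6, 6, 2, 1, 8, 7, 2, 7, 9, 6, 3, 6, 9, 0, 3, 7, 7, 8, 10, 4, 3, 0, 10, 1, 10]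
def rw5744 : List ℕ := [5, 10, 8, 3, 8, 7, 10, 9, 7, 4, 1, 8, 6, 0, 5, 1, 4, 0, 4, 1, 7, 9, 0, 5, 6, 8, 11, 6, 9, 2, 9, 11]
def rw5745 : List ℕ := [0, 6, 4, 8, 6, 1, 9, 3, 8, 3, 10, 4, 2, 4, 4, 3, 3, 11]
def rw5746 : List ℕ := [6, 6, 10, 2, 1, 3, 3, 11, 7, 9, 0, 8, 7, 0, 0, 0]
def rw5747 : List ℕ := [1, 1, 6, 9, 1, 8, 6, 10, 2, 0, 2, 0, 3, 3, 11, 7, 7, 1]
def rw5748 : List ℕ := [3, 6, 9, 0, 3, 7, 7, 8, 8, 9, 6, 6, 2, 1, 8, 7, 2, 7, 11, 0, 11, 1, 2, 5, 11, 9, 10, 4, 3, 0, 10, 1, 10, 6]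
def rw5749 : List ℕ := [3, 5, 5, 0, 8, 10, 7, 3, 7, 5, 7, 0, 11, 1, 3, 8, 6]
def rw5750 : List ℕ := [1, 4, 9, 6, 2, 8, 3, 7, 8, 5, 0, 2, 8, 1, 6, 11, 1, 7, 2, 11, 9, 11, 9, 10, 8, 10, 3, 6, 0, 10, 7, 0, 9, 3]
def rw5751 : List ℕ := [6, 11, 0, 11, 1, 2, 5, 11, 9, 6, 6, 2, 1, 8, 7, 2, 7, 7, 6, 3, 6, 9, 0, 3, 7, 7, 8, 10, 4, 3, 0, 10, 1, 10]
def rw5752 : List ℕ := [3, 1, 4, 9, 6, 2, 10, 8, 10, 3, 6, 0, 10, 7, 11, 1, 7, 2, 11, 9, 11, 3, 7, 8, 5, 0, 2, 8, 1, 6, 6, 7, 0, 9]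
def rw5753 : List ℕ := [3, 1, 4, 9, 6, 2, 10, 8, 10, 3, 6, 0, 10, 3, 11, 1, 7, 2, 11, 9, 11, 3, 7, 8, 5, 0, 2, 8, 1, 6, 2, 7, 0, 9]
def rw5754 : List ℕ := [7, 2, 7, 3, 6, 3, 6, 9, 0, 3, 7, 7, 8, 10, 4, 3, 0, 10, 1, 10, 2, 11, 0, 11, 1, 2, 5, 11, 9, 6, 6, 2, 1, 8]
def rw5755 : List ℕ := [8, 8, 4, 0, 8, 3, 9, 5, 6, 9, 7, 4, 8, 2, 9, 1, 5, 9, 9, 0, 11, 11, 11, 6, 6, 0, 11, 8, 10, 1, 7, 7, 10, 10, 10, 1]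
def rw5756 : List ℕ := [6, 0, 5, 1, 4, 0, 4, 1, 7, 9, 0, 5, 6, 8, 11, 6, 9, 2, 9, 11, 5, 10, 8, 3, 8, 7, 10, 9, 7, 4, 1, 8]
def rw5757 : List ℕ := [1, 2, 8, 4, 2, 8, 7, 9, 3, 5, 9, 3, 0, 4, 9, 2, 9, 11, 5, 3, 7, 10, 1, 11, 6, 10, 0, 11, 6, 2, 4, 10, 8, 3, 8, 5]
def rw5758 : List ℕ := [5, 10, 8, 10, 3, 6, 0, 10, 7, 0, 9, 3, 1, 4, 9, 6, 2, 4, 3, 7, 8, 5, 0, 2, 8, 1, 6, 11, 1, 7, 2, 11, 9, 11]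
def rw5759 : List ℕ := [1, 1, 1, 6, 9, 1, 8, 6, 10, 0, 2, 0, 0, 3, 3, 11, 7, 7]
def rw5760 : List ℕ := [8, 3, 8, 7, 10, 11, 11, 6, 9, 2, 9, 11, 0, 4, 1, 7, 9, 0, 5, 6, 8, 10, 9, 7, 4, 1, 8, 6, 0, 5, 1, 10]
def rw5761 : List ℕ := [9, 0, 3, 7, 7, 8, 10, 4, 3, 0, 10, 1, 10, 0, 11, 0, 11, 1, 2, 5, 11, 9, 6, 6, 2, 1, 8, 7, 2, 7, 1, 6, 3, 6]
def rw5762 : List ℕ := [5, 1, 10, 8, 3, 8, 7, 10, 9, 11, 6, 9, 2, 9, 11, 0, 4, 1, 7, 9, 0, 5, 6, 8, 8, 9, 7, 4, 1, 8, 6, 0]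
def rw5763 : List ℕ := [9, 0, 3, 7, 7, 8, 7, 9, 6, 6, 2, 1, 8, 7, 2, 7, 11, 0, 11, 1, 2, 5, 11, 6, 10, 4, 3, 0, 10, 1, 10, 6, 3, 6]
def rw5764 : List ℕ := [3, 7, 8, 5, 0, 2, 8, 1, 6, 7, 7, 0, 9, 3, 1, 4, 9, 6, 2, 10, 8, 10, 3, 6, 0, 10, 6, 11, 1, 7, 2, 11, 9, 11]
def rw5765 : List ℕ := [6, 11, 1, 7, 2, 11, 9, 11, 6, 10, 8, 10, 3, 6, 0, 10, 7, 0, 9, 3, 1, 4, 9, 6, 2, 7, 3, 7, 8, 5, 0, 2, 8, 1]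
def rw5766 : List ℕ := [1, 7, 2, 11, 9, 11, 3, 7, 8, 5, 0, 2, 8, 1, 6, 5, 7, 0, 9, 3, 1, 4, 9, 6, 2, 10, 8, 10, 3, 6, 0, 10, 4, 11]
def rw5767 : List ℕ := [1, 10, 1, 7, 7, 10, 10, 10, 1, 8, 8, 4, 0, 8, 3, 9, 5, 6, 0, 7, 4, 8, 2, 9, 1, 5, 9, 9, 0, 11, 11, 11, 6, 6, 0, 11]
def rw5768 : List ℕ := [0, 3, 7, 7, 8, 10, 4, 3, 0, 10, 1, 10, 4, 11, 0, 11, 1, 2, 5, 11, 9, 6, 6, 2, 1, 8, 7, 2, 7, 5, 6, 3, 6, 9]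
def rw5769 : List ℕ := [0, 0, 6, 6, 10, 1, 3, 3, 1, 2, 0, 11, 7, 9, 0, 8, 7, 0]
def rw5770 : List ℕ := [8, 10, 8, 10, 3, 6, 0, 10, 7, 0, 9, 3, 1, 4, 9, 6, 2, 9, 3, 7, 8, 5, 0, 2, 8, 1, 6, 11, 1, 7, 2, 11, 9, 11]
def rw5771 : List ℕ := [6, 10, 8, 10, 3, 6, 0, 10, 7, 0, 9, 3, 1, 4, 9, 6, 2, 7, 3, 7, 8, 5, 0, 2, 8, 1, 6, 11, 1, 7, 2, 11, 9, 11]
def rw5772 : List ℕ := [1, 6, 8, 7, 0, 9, 3, 1, 4, 9, 6, 2, 10, 8, 10, 3, 6, 0, 10, 9, 11, 1, 7, 2, 11, 9, 11, 3, 7, 8, 5, 0, 2, 8]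
def rw5773 : List ℕ := [0, 10, 1, 7, 7, 10, 10, 10, 1, 8, 8, 4, 0, 8, 3, 9, 5, 6, 1, 7, 4, 8, 2, 9, 1, 5, 9, 9, 0, 11, 11, 11, 6, 6, 0, 11]
def rw5774 : List ℕ := [4, 10, 8, 10, 3, 6, 0, 10, 7, 0, 9, 3, 1, 4, 9, 6, 2, 5, 3, 7, 8, 5, 0, 2, 8, 1, 6, 11, 1, 7, 2, 11, 9, 11]
def rw5775 : List ℕ := [7, 10, 5, 5, 5, 5, 5, 2, 11, 5, 3, 0, 6, 9, 2, 5, 3, 9]
def rw5776 : List ℕ := [3, 1, 4, 9, 6, 2, 3, 3, 7, 8, 5, 0, 2, 8, 1, 6, 11, 1, 7, 2, 11, 9, 11, 2, 10, 8, 10, 3, 6, 0, 10, 7, 0, 9]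
def rw5777 : List ℕ := [9, 1, 5, 9, 9, 0, 11, 11, 11, 6, 6, 0, 11, 11, 10, 1, 7, 7, 10, 10, 10, 1, 8, 8, 4, 0, 8, 3, 9, 5, 6, 10, 7, 4, 8, 2]
def rw5778 : List ℕ := [8, 6, 3, 5, 5, 0, 8, 10, 7, 3, 4, 6, 4, 0, 11, 1, 3]
def rw5779 : List ℕ := [2, 1, 8, 7, 2, 7, 0, 6, 3, 6, 9, 0, 3, 7, 7, 8, 10, 4, 3, 0, 10, 1, 10, 1, 11, 0, 11, 1, 2, 5, 11, 9, 6, 6]
def rw5780 : List ℕ := [2, 2, 2, 2, 2, 2, 2]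
def rw5781 : List ℕ := [5, 10, 0, 11, 6, 2, 4, 10, 8, 3, 8, 5, 1, 2, 8, 4, 2, 8, 4, 9, 3, 5, 9, 3, 0, 4, 9, 2, 9, 11, 5, 3, 7, 10, 1, 11]
def rw5782 : List ℕ := [8, 9, 7, 4, 1, 8, 6, 0, 5, 1, 10, 8, 3, 8, 7, 10, 9, 11, 6, 9, 2, 9, 11, 0, 4, 1, 7, 9, 0, 5, 6, 8]
def rw5783 : List ℕ := [6, 10, 0, 11, 6, 2, 4, 10, 8, 3, 8, 5, 1, 2, 8, 4, 2, 8, 7, 9, 3, 5, 9, 3, 0, 4, 9, 2, 9, 11, 5, 3, 7, 10, 1, 11]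
def rw5784 : List ℕ := [6, 6, 2, 1, 8, 7, 2, 7, 9, 6, 3, 6, 9, 0, 3, 7, 7, 8, 10, 4, 3, 0, 10, 1, 10, 8, 11, 0, 11, 1, 2, 5, 11, 9]
def rw5785 : List ℕ := [3, 11, 0, 11, 1, 2, 5, 11, 9, 6, 6, 2, 1, 8, 7, 2, 7, 2, 6, 3, 6, 9, 0, 3, 7, 7, 8, 10, 4, 3, 0, 10, 1, 10]
def rw5786 : List ℕ := [0, 5, 6, 8, 2, 9, 7, 4, 1, 8, 6, 0, 5, 1, 10, 8, 3, 8, 7, 10, 3, 11, 6, 9, 2, 9, 11, 0, 4, 1, 7, 9]
def rw5787 : List ℕ := [8, 8, 8, 8, 8, 8, 8]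
def rw5788 : List ℕ := [4, 4, 4, 4, 4, 4, 4]
def rw5789 : List ℕ := [9, 3, 8, 3, 10, 4, 2, 4, 4, 3, 3, 11, 0, 6, 4, 8, 6, 1]
def rw5790 : List ℕ := [1, 7, 2, 11, 9, 11, 3, 7, 8, 5, 0, 2, 8, 1, 6, 0, 7, 0, 9, 3, 1, 4, 9, 6, 2, 10, 8, 10, 3, 6, 0, 10, 1, 11]
def rw5791 : List ℕ := [0, 3, 7, 7, 8, 10, 4, 3, 0, 10, 1, 10, 10, 11, 0, 11, 1, 2, 5, 11, 9, 6, 6, 2, 1, 8, 7, 2, 7, 11, 6, 3, 6, 9]
def rw5792 : List ℕ := [4, 10, 0, 11, 6, 2, 4, 10, 8, 3, 8, 5, 1, 2, 8, 4, 2, 8, 5, 9, 3, 5, 9, 3, 0, 4, 9, 2, 9, 11, 5, 3, 7, 10, 1, 11]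
def rw5793 : List ℕ := [6, 8, 2, 4, 3, 8, 7, 1, 2, 4, 10, 3, 1, 5, 3, 1, 4, 11]
def rw5794 : List ℕ := [4, 0, 8, 3, 9, 5, 6, 9, 7, 4, 8, 2, 9, 1, 5, 9, 9, 0, 11, 11, 11, 6, 6, 0, 11, 8, 10, 1, 7, 7, 10, 10, 10, 1, 8, 8]
def rw5795 : List ℕ := [7, 8, 5, 0, 2, 8, 1, 6, 8, 7, 0, 9, 3, 1, 4, 9, 6, 2, 10, 8, 10, 3, 6, 0, 10, 9, 11, 1, 7, 2, 11, 9, 11, 3]
def rw5796 : List ℕ := [1, 10, 8, 10, 3, 6, 0, 10, 7, 0, 9, 3, 1, 4, 9, 6, 2, 0, 3, 7, 8, 5, 0, 2, 8, 1, 6, 11, 1, 7, 2, 11, 9, 11]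
def rw5797 : List ℕ := [10, 0, 11, 1, 7, 2, 11, 9, 11, 3, 7, 8, 5, 0, 2, 8, 1, 6, 1, 7, 0, 9, 3, 1, 4, 9, 6, 2, 10, 8, 10, 3, 6, 0]
def rw5798 : List ℕ := [6, 8, 8, 9, 7, 4, 1, 8, 6, 0, 5, 1, 10, 8, 3, 8, 7, 10, 9, 11, 6, 9, 2, 9, 11, 0, 4, 1, 7, 9, 0, 5]
def rw5799 : List ℕ := [9, 6, 6, 2, 1, 8, 7, 2, 7, 7, 6, 3, 6, 9, 0, 3, 7, 7, 8, 10, 4, 3, 0, 10, 1, 10, 6, 11, 0, 11, 1, 2, 5, 11]
def rw5800 : List ℕ := [9, 10, 8, 3, 8, 7, 10, 9, 7, 4, 1, 8, 6, 0, 5, 1, 8, 0, 4, 1, 7, 9, 0, 5, 6, 8, 11, 6, 9, 2, 9, 11]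
def rw5801 : List ℕ := [3, 3, 11, 7, 7, 1, 1, 1, 6, 9, 1, 8, 6, 10, 2, 0, 2, 0]
def rw5802 : List ℕ := [3, 6, 9, 0, 3, 7, 7, 8, 5, 9, 6, 6, 2, 1, 8, 7, 2, 7, 11, 0, 11, 1, 2, 5, 11, 4, 10, 4, 3, 0, 10, 1, 10, 6]
def rw5803 : List ℕ := [6, 10, 1, 3, 0, 2, 2, 0, 11, 7, 7, 1, 1, 1, 6, 9, 1, 8]
def rw5804 : List ℕ := [6, 6, 0, 11, 10, 10, 1, 7, 7, 10, 10, 10, 1, 8, 8, 4, 0, 8, 3, 9, 5, 6, 11, 7, 4, 8, 2, 9, 1, 5, 9, 9, 0, 11, 11, 11]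
def rw5805 : List ℕ := [7, 11, 0, 11, 1, 2, 5, 11, 9, 6, 6, 2, 1, 8, 7, 2, 7, 6, 6, 3, 6, 9, 0, 3, 7, 7, 8, 10, 4, 3, 0, 10, 1, 10]
def rw5806 : List ℕ := [3, 8, 5, 1, 2, 8, 4, 2, 8, 4, 9, 3, 5, 9, 3, 0, 4, 9, 2, 9, 11, 5, 3, 7, 10, 1, 11, 5, 10, 0, 11, 6, 2, 4, 10, 8]
def rw5807 : List ℕ := [2, 10, 8, 10, 3, 6, 0, 10, 5, 11, 1, 7, 2, 11, 9, 11, 3, 7, 8, 5, 0, 2, 8, 1, 6, 4, 7, 0, 9, 3, 1, 4, 9, 6]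
def rw5808 : List ℕ := [1, 7, 0, 4, 1, 7, 9, 0, 5, 6, 8, 11, 6, 9, 2, 9, 11, 6, 10, 8, 3, 8, 7, 10, 9, 7, 4, 1, 8, 6, 0, 5]
def rw5809 : List ℕ := [0, 11, 0, 11, 1, 2, 5, 11, 9, 6, 6, 2, 1, 8, 7, 2, 7, 1, 6, 3, 6, 9, 0, 3, 7, 7, 8, 10, 4, 3, 0, 10, 1, 10]
def rw5810 : List ℕ := [11, 10, 8, 3, 8, 7, 10, 9, 7, 4, 1, 8, 6, 0, 5, 1, 10, 0, 4, 1, 7, 9, 0, 5, 6, 8, 11, 6, 9, 2, 9, 11]
def rw5811 : List ℕ := [2, 11, 9, 11, 7, 10, 8, 10, 3, 6, 0, 10, 7, 0, 9, 3, 1, 4, 9, 6, 2, 6, 3, 7, 8, 5, 0, 2, 8, 1, 6, 11, 1, 7]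
def rw5812 : List ℕ := [7, 7, 8, 9, 9, 6, 6, 2, 1, 8, 7, 2, 7, 11, 0, 11, 1, 2, 5, 11, 8, 10, 4, 3, 0, 10, 1, 10, 6, 3, 6, 9, 0, 3]
def rw5813 : List ℕ := [6, 3, 6, 9, 0, 3, 7, 7, 8, 7, 9, 6, 6, 2, 1, 8, 7, 2, 7, 11, 0, 11, 1, 2, 5, 11, 6, 10, 4, 3, 0, 10, 1, 10]
def rw5814 : List ℕ := [8, 3, 8, 7, 10, 9, 7, 4, 1, 8, 6, 0, 5, 1, 9, 0, 4, 1, 7, 9, 0, 5, 6, 8, 11, 6, 9, 2, 9, 11, 8, 10]
def rw5815 : List ℕ := [9, 11, 5, 3, 7, 10, 1, 11, 3, 10, 0, 11, 6, 2, 4, 10, 8, 3, 8, 5, 1, 2, 8, 4, 2, 8, 2, 9, 3, 5, 9, 3, 0, 4, 9, 2]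
def rw5816 : List ℕ := [11, 7, 0, 9, 3, 1, 4, 9, 6, 2, 10, 8, 10, 3, 6, 0, 10, 10, 11, 1, 7, 2, 11, 9, 11, 3, 7, 8, 5, 0, 2, 8, 1, 6]
def rw5817 : List ℕ := [0, 0, 0, 6, 6, 10, 1, 1, 2, 1, 2, 1, 11, 7, 9, 0, 8, 7]
def rw5818 : List ℕ := [8, 11, 9, 6, 6, 2, 1, 8, 7, 2, 7, 11, 0, 11, 1, 2, 5, 11, 10, 10, 4, 3, 0, 10, 1, 10, 6, 3, 6, 9, 0, 3, 7, 7]
def rw5819 : List ℕ := [2, 5, 11, 9, 6, 6, 2, 1, 8, 7, 2, 7, 10, 6, 3, 6, 9, 0, 3, 7, 7, 8, 10, 4, 3, 0, 10, 1, 10, 11, 11, 0, 11, 1]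
def rw5820 : List ℕ := [4, 10, 8, 3, 8, 7, 10, 9, 7, 4, 1, 8, 6, 0, 5, 1, 5, 0, 4, 1, 7, 9, 0, 5, 6, 8, 11, 6, 9, 2, 9, 11]
def rw5821 : List ℕ := [6, 0, 5, 1, 10, 8, 3, 8, 7, 10, 5, 11, 6, 9, 2, 9, 11, 0, 4, 1, 7, 9, 0, 5, 6, 8, 4, 9, 7, 4, 1, 8]
def rw5822 : List ℕ := [2, 1, 8, 7, 2, 7, 8, 6, 3, 6, 9, 0, 3, 7, 7, 8, 10, 4, 3, 0, 10, 1, 10, 9, 11, 0, 11, 1, 2, 5, 11, 9, 6, 6]
def rw5823 : List ℕ := [7, 8, 5, 0, 2, 8, 1, 6, 7, 7, 0, 9, 3, 1, 4, 9, 6, 2, 10, 8, 10, 3, 6, 0, 10, 6, 11, 1, 7, 2, 11, 9, 11, 3]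
def rw5824 : List ℕ := [8, 3, 8, 5, 1, 2, 8, 4, 2, 8, 9, 9, 3, 5, 9, 3, 0, 4, 9, 2, 9, 11, 5, 3, 7, 10, 1, 11, 8, 10, 0, 11, 6, 2, 4, 10]
def rw5825 : List ℕ := [1, 1, 1, 6, 9, 1, 8, 6, 10, 1, 3, 0, 2, 2, 0, 11, 7, 7]
def rw5826 : List ℕ := [9, 0, 5, 6, 8, 8, 9, 7, 4, 1, 8, 6, 0, 5, 1, 10, 8, 3, 8, 7, 10, 9, 11, 6, 9, 2, 9, 11, 0, 4, 1, 7]
def rw5827 : List ℕ := [10, 7, 4, 8, 2, 9, 1, 5, 9, 9, 0, 11, 11, 11, 6, 6, 0, 11, 11, 10, 1, 7, 7, 10, 10, 10, 1, 8, 8, 4, 0, 8, 3, 9, 5, 6]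
def rw5828 : List ℕ := [1, 6, 7, 7, 0, 9, 3, 1, 4, 9, 6, 2, 10, 8, 10, 3, 6, 0, 10, 6, 11, 1, 7, 2, 11, 9, 11, 3, 7, 8, 5, 0, 2, 8]
def rw5829 : List ℕ := [1, 6, 1, 7, 0, 9, 3, 1, 4, 9, 6, 2, 10, 8, 10, 3, 6, 0, 10, 0, 11, 1, 7, 2, 11, 9, 11, 3, 7, 8, 5, 0, 2, 8]
def rw5830 : List ℕ := [4, 10, 8, 3, 8, 5, 1, 2, 8, 4, 2, 8, 7, 9, 3, 5, 9, 3, 0, 4, 9, 2, 9, 11, 5, 3, 7, 10, 1, 11, 6, 10, 0, 11, 6, 2]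
def rw5831 : List ℕ := [0, 9, 3, 1, 4, 9, 6, 2, 2, 3, 7, 8, 5, 0, 2, 8, 1, 6, 11, 1, 7, 2, 11, 9, 11, 3, 10, 8, 10, 3, 6, 0, 10, 7]
def rw5832 : List ℕ := [2, 5, 3, 9, 7, 10, 5, 5, 5, 5, 5, 2, 11, 5, 3, 0, 6, 9]
def rw5833 : List ℕ := [5, 9, 3, 0, 4, 9, 2, 9, 11, 5, 3, 7, 10, 1, 11, 2, 10, 0, 11, 6, 2, 4, 10, 8, 3, 8, 5, 1, 2, 8, 4, 2, 8, 3, 9, 3]
def rw5834 : List ℕ := [2, 9, 2, 8, 0, 7, 9, 5, 7, 1, 10, 2, 6, 2, 4, 3, 6, 11]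
def rw5835 : List ℕ := [0, 5, 1, 1, 0, 4, 1, 7, 9, 0, 5, 6, 8, 11, 6, 9, 2, 9, 11, 0, 10, 8, 3, 8, 7, 10, 9, 7, 4, 1, 8, 6]
def rw5836 : List ℕ := [9, 6, 2, 10, 8, 10, 3, 6, 0, 10, 1, 11, 1, 7, 2, 11, 9, 11, 3, 7, 8, 5, 0, 2, 8, 1, 6, 0, 7, 0, 9, 3, 1, 4]
def rw5837 : List ℕ := [5, 9, 3, 0, 4, 9, 2, 9, 11, 5, 3, 7, 10, 1, 11, 3, 10, 0, 11, 6, 2, 4, 10, 8, 3, 8, 5, 1, 2, 8, 4, 2, 8, 2, 9, 3]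
def rw5838 : List ℕ := [8, 9, 9, 7, 4, 1, 8, 6, 0, 5, 1, 10, 8, 3, 8, 7, 10, 8, 11, 6, 9, 2, 9, 11, 0, 4, 1, 7, 9, 0, 5, 6]
def rw5839 : List ℕ := [11, 5, 10, 1, 7, 7, 10, 10, 10, 1, 8, 8, 4, 0, 8, 3, 9, 5, 6, 4, 7, 4, 8, 2, 9, 1, 5, 9, 9, 0, 11, 11, 11, 6, 6, 0]
def rw5840 : List ℕ := [5, 1, 2, 8, 4, 2, 8, 0, 9, 3, 5, 9, 3, 0, 4, 9, 2, 9, 11, 5, 3, 7, 10, 1, 11, 1, 10, 0, 11, 6, 2, 4, 10, 8, 3, 8]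
def rw5841 : List ℕ := [0, 11, 6, 9, 2, 9, 11, 0, 4, 1, 7, 9, 0, 5, 6, 8, 1, 9, 7, 4, 1, 8, 6, 0, 5, 1, 10, 8, 3, 8, 7, 10]
def rw5842 : List ℕ := [11, 9, 11, 10, 10, 8, 10, 3, 6, 0, 10, 7, 0, 9, 3, 1, 4, 9, 6, 2, 11, 3, 7, 8, 5, 0, 2, 8, 1, 6, 11, 1, 7, 2]
def rw5843 : List ℕ := [6, 9, 0, 3, 7, 7, 8, 10, 4, 3, 0, 10, 1, 10, 10, 11, 0, 11, 1, 2, 5, 11, 9, 6, 6, 2, 1, 8, 7, 2, 7, 11, 6, 3]
def rw5844 : List ℕ := [6, 2, 1, 8, 7, 2, 7, 8, 6, 3, 6, 9, 0, 3, 7, 7, 8, 10, 4, 3, 0, 10, 1, 10, 9, 11, 0, 11, 1, 2, 5, 11, 9, 6]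
def rw5845 : List ℕ := [11, 10, 0, 11, 6, 2, 4, 10, 8, 3, 8, 5, 1, 2, 8, 4, 2, 8, 10, 9, 3, 5, 9, 3, 0, 4, 9, 2, 9, 11, 5, 3, 7, 10, 1, 11]
def rw5846 : List ℕ := [4, 1, 8, 6, 0, 5, 1, 2, 0, 4, 1, 7, 9, 0, 5, 6, 8, 11, 6, 9, 2, 9, 11, 3, 10, 8, 3, 8, 7, 10, 9, 7]
def rw5847 : List ℕ := [5, 11, 0, 11, 1, 2, 5, 11, 9, 6, 6, 2, 1, 8, 7, 2, 7, 4, 6, 3, 6, 9, 0, 3, 7, 7, 8, 10, 4, 3, 0, 10, 1, 10]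
def rw5848 : List ℕ := [6, 1, 9, 3, 8, 3, 10, 4, 4, 3, 5, 5, 3, 11, 0, 6, 4, 8]
def rw5849 : List ℕ := [0, 5, 6, 8, 6, 9, 7, 4, 1, 8, 6, 0, 5, 1, 10, 8, 3, 8, 7, 10, 7, 11, 6, 9, 2, 9, 11, 0, 4, 1, 7, 9]
def rw5850 : List ℕ := [10, 11, 0, 11, 1, 2, 5, 11, 9, 6, 6, 2, 1, 8, 7, 2, 7, 11, 6, 3, 6, 9, 0, 3, 7, 7, 8, 10, 4, 3, 0, 10, 1, 10]
def rw5851 : List ℕ := [10, 9, 3, 5, 9, 3, 0, 4, 9, 2, 9, 11, 5, 3, 7, 10, 1, 11, 11, 10, 0, 11, 6, 2, 4, 10, 8, 3, 8, 5, 1, 2, 8, 4, 2, 8]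
def rw5852 : List ℕ := [2, 9, 11, 5, 3, 7, 10, 1, 11, 8, 10, 0, 11, 6, 2, 4, 10, 8, 3, 8, 5, 1, 2, 8, 4, 2, 8, 9, 9, 3, 5, 9, 3, 0, 4, 9]
def rw5853 : List ℕ := [2, 9, 11, 0, 4, 1, 7, 9, 0, 5, 6, 8, 11, 9, 7, 4, 1, 8, 6, 0, 5, 1, 10, 8, 3, 8, 7, 10, 10, 11, 6, 9]
def rw5854 : List ℕ := [0, 10, 0, 11, 6, 2, 4, 10, 8, 3, 8, 5, 1, 2, 8, 4, 2, 8, 1, 9, 3, 5, 9, 3, 0, 4, 9, 2, 9, 11, 5, 3, 7, 10, 1, 11]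
def rw5855 : List ℕ := [0, 0, 6, 6, 10, 2, 2, 1, 3, 1, 3, 11, 7, 9, 0, 8, 7, 0]
def rw5856 : List ℕ := [5, 1, 10, 8, 3, 8, 7, 10, 4, 11, 6, 9, 2, 9, 11, 0, 4, 1, 7, 9, 0, 5, 6, 8, 5, 9, 7, 4, 1, 8, 6, 0]
def rw5857 : List ℕ := [10, 4, 11, 1, 7, 2, 11, 9, 11, 3, 7, 8, 5, 0, 2, 8, 1, 6, 5, 7, 0, 9, 3, 1, 4, 9, 6, 2, 10, 8, 10, 3, 6, 0]
def rw5858 : List ℕ := [6, 10, 2, 1, 1, 3, 1, 3, 11, 7, 7, 1, 1, 1, 6, 9, 1, 8]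
def rw5859 : List ℕ := [4, 1, 8, 6, 0, 5, 1, 10, 8, 3, 8, 7, 10, 1, 11, 6, 9, 2, 9, 11, 0, 4, 1, 7, 9, 0, 5, 6, 8, 0, 9, 7]
def rw5860 : List ℕ := [8, 0, 9, 7, 4, 1, 8, 6, 0, 5, 1, 10, 8, 3, 8, 7, 10, 1, 11, 6, 9, 2, 9, 11, 0, 4, 1, 7, 9, 0, 5, 6]
def rw5861 : List ℕ := [1, 1, 1, 6, 9, 1, 8, 6, 10, 2, 1, 1, 1, 3, 1, 11, 7, 7]
def rw5862 : List ℕ := [3, 9, 7, 10, 7, 5, 5, 7, 2, 11, 5, 3, 0, 6, 9, 2, 5]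
def rw5863 : List ℕ := [2, 1, 8, 7, 2, 7, 5, 6, 3, 6, 9, 0, 3, 7, 7, 8, 10, 4, 3, 0, 10, 1, 10, 4, 11, 0, 11, 1, 2, 5, 11, 9, 6, 6]
def rw5864 : List ℕ := [5, 9, 9, 0, 11, 11, 11, 6, 6, 0, 11, 9, 10, 1, 7, 7, 10, 10, 10, 1, 8, 8, 4, 0, 8, 3, 9, 5, 6, 8, 7, 4, 8, 2, 9, 1]
def rw5865 : List ℕ := [10, 0, 4, 1, 7, 9, 0, 5, 6, 8, 11, 6, 9, 2, 9, 11, 11, 10, 8, 3, 8, 7, 10, 9, 7, 4, 1, 8, 6, 0, 5, 1]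
def rw5866 : List ℕ := [7, 8, 10, 4, 3, 0, 10, 1, 10, 11, 11, 0, 11, 1, 2, 5, 11, 9, 6, 6, 2, 1, 8, 7, 2, 7, 10, 6, 3, 6, 9, 0, 3, 7]
def rw5867 : List ℕ := [1, 9, 0, 4, 1, 7, 9, 0, 5, 6, 8, 11, 6, 9, 2, 9, 11, 8, 10, 8, 3, 8, 7, 10, 9, 7, 4, 1, 8, 6, 0, 5]
def rw5868 : List ℕ := [0, 5, 6, 8, 11, 6, 9, 2, 9, 11, 0, 10, 8, 3, 8, 7, 10, 9, 7, 4, 1, 8, 6, 0, 5, 1, 1, 0, 4, 1, 7, 9]
def rw5869 : List ℕ := [4, 2, 8, 9, 9, 3, 5, 9, 3, 0, 4, 9, 2, 9, 11, 5, 3, 7, 10, 1, 11, 8, 10, 0, 11, 6, 2, 4, 10, 8, 3, 8, 5, 1, 2, 8]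
def rw5870 : List ℕ := [3, 10, 8, 10, 3, 6, 0, 10, 7, 0, 9, 3, 1, 4, 9, 6, 2, 2, 3, 7, 8, 5, 0, 2, 8, 1, 6, 11, 1, 7, 2, 11, 9, 11]
def rw5871 : List ℕ := [7, 0, 9, 3, 1, 4, 9, 6, 2, 2, 3, 7, 8, 5, 0, 2, 8, 1, 6, 11, 1, 7, 2, 11, 9, 11, 3, 10, 8, 10, 3, 6, 0, 10]
def rw5872 : List ℕ := [7, 2, 7, 11, 0, 11, 1, 2, 5, 11, 0, 10, 4, 3, 0, 10, 1, 10, 6, 3, 6, 9, 0, 3, 7, 7, 8, 1, 9, 6, 6, 2, 1, 8]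
def rw5873 : List ℕ := [4, 0, 8, 3, 9, 5, 6, 7, 7, 4, 8, 2, 9, 1, 5, 9, 9, 0, 11, 11, 11, 6, 6, 0, 11, 6, 10, 1, 7, 7, 10, 10, 10, 1, 8, 8]
def rw5874 : List ℕ := [11, 9, 6, 6, 2, 1, 8, 7, 2, 7, 6, 6, 3, 6, 9, 0, 3, 7, 7, 8, 10, 4, 3, 0, 10, 1, 10, 7, 11, 0, 11, 1, 2, 5]
def rw5875 : List ℕ := [7, 0, 6, 3, 6, 9, 0, 3, 7, 7, 8, 10, 4, 3, 0, 10, 1, 10, 1, 11, 0, 11, 1, 2, 5, 11, 9, 6, 6, 2, 1, 8, 7, 2]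
def rw5876 : List ℕ := [9, 0, 3, 7, 7, 8, 10, 9, 6, 6, 2, 1, 8, 7, 2, 7, 11, 0, 11, 1, 2, 5, 11, 11, 10, 4, 3, 0, 10, 1, 10, 6, 3, 6]
def rw5877 : List ℕ := [10, 4, 3, 0, 10, 1, 10, 6, 3, 6, 9, 0, 3, 7, 7, 8, 7, 9, 6, 6, 2, 1, 8, 7, 2, 7, 11, 0, 11, 1, 2, 5, 11, 6]
def rw5878 : List ℕ := [6, 9, 1, 8, 6, 10, 2, 1, 1, 2, 0, 2, 11, 7, 7, 1, 1, 1]
def rw5879 : List ℕ := [0, 2, 8, 1, 6, 1, 7, 0, 9, 3, 1, 4, 9, 6, 2, 10, 8, 10, 3, 6, 0, 10, 0, 11, 1, 7, 2, 11, 9, 11, 3, 7, 8, 5]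
def rw5880 : List ℕ := [3, 5, 9, 3, 0, 4, 9, 2, 9, 11, 5, 3, 7, 10, 1, 11, 10, 10, 0, 11, 6, 2, 4, 10, 8, 3, 8, 5, 1, 2, 8, 4, 2, 8, 11, 9]
def rw5881 : List ℕ := [6, 6, 10, 2, 2, 1, 3, 1, 3, 11, 7, 9, 0, 8, 7, 0, 0, 0]
def rw5882 : List ℕ := [5, 0, 8, 10, 7, 3, 6, 4, 6, 0, 11, 1, 3, 8, 6, 3, 5]
def rw5883 : List ℕ := [3, 0, 4, 9, 2, 9, 11, 5, 3, 7, 10, 1, 11, 3, 10, 0, 11, 6, 2, 4, 10, 8, 3, 8, 5, 1, 2, 8, 4, 2, 8, 2, 9, 3, 5, 9]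
def rw5884 : List ℕ := [6, 8, 10, 9, 7, 4, 1, 8, 6, 0, 5, 1, 10, 8, 3, 8, 7, 10, 11, 11, 6, 9, 2, 9, 11, 0, 4, 1, 7, 9, 0, 5]
def rw5885 : List ℕ := [1, 10, 8, 3, 8, 7, 10, 9, 7, 4, 1, 8, 6, 0, 5, 1, 0, 0, 4, 1, 7, 9, 0, 5, 6, 8, 11, 6, 9, 2, 9, 11]
def rw5886 : List ℕ := [9, 7, 10, 5, 0, 2, 4, 0, 2, 11, 5, 3, 0, 6, 9, 2, 5, 3]
def rw5887 : List ℕ := [10, 1, 11, 1, 7, 2, 11, 9, 11, 3, 7, 8, 5, 0, 2, 8, 1, 6, 0, 7, 0, 9, 3, 1, 4, 9, 6, 2, 10, 8, 10, 3, 6, 0]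
def rw5888 : List ℕ := [10, 11, 6, 9, 2, 9, 11, 0, 4, 1, 7, 9, 0, 5, 6, 8, 11, 9, 7, 4, 1, 8, 6, 0, 5, 1, 10, 8, 3, 8, 7, 10]
def rw5889 : List ℕ := [3, 7, 7, 8, 10, 4, 3, 0, 10, 1, 10, 11, 11, 0, 11, 1, 2, 5, 11, 9, 6, 6, 2, 1, 8, 7, 2, 7, 10, 6, 3, 6, 9, 0]
def rw5890 : List ℕ := [6, 8, 1, 9, 7, 4, 1, 8, 6, 0, 5, 1, 10, 8, 3, 8, 7, 10, 0, 11, 6, 9, 2, 9, 11, 0, 4, 1, 7, 9, 0, 5]
def rw5891 : List ℕ := [6, 2, 7, 3, 7, 8, 5, 0, 2, 8, 1, 6, 11, 1, 7, 2, 11, 9, 11, 6, 10, 8, 10, 3, 6, 0, 10, 7, 0, 9, 3, 1, 4, 9]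
def rw5892 : List ℕ := [0, 6, 4, 8, 6, 1, 9, 3, 8, 3, 10, 4, 4, 3, 5, 5, 3, 11]
def rw5893 : List ℕ := [0, 5, 1, 7, 0, 4, 1, 7, 9, 0, 5, 6, 8, 11, 6, 9, 2, 9, 11, 6, 10, 8, 3, 8, 7, 10, 9, 7, 4, 1, 8, 6]
def rw5894 : List ℕ := [2, 11, 1, 7, 2, 11, 9, 11, 3, 7, 8, 5, 0, 2, 8, 1, 6, 3, 7, 0, 9, 3, 1, 4, 9, 6, 2, 10, 8, 10, 3, 6, 0, 10]
def rw5895 : List ℕ := [2, 1, 8, 7, 2, 7, 6, 6, 3, 6, 9, 0, 3, 7, 7, 8, 10, 4, 3, 0, 10, 1, 10, 7, 11, 0, 11, 1, 2, 5, 11, 9, 6, 6]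
def rw5896 : List ℕ := [1, 5, 0, 4, 1, 7, 9, 0, 5, 6, 8, 11, 6, 9, 2, 9, 11, 4, 10, 8, 3, 8, 7, 10, 9, 7, 4, 1, 8, 6, 0, 5]
def rw5897 : List ℕ := [0, 3, 7, 7, 8, 0, 9, 6, 6, 2, 1, 8, 7, 2, 7, 11, 0, 11, 1, 2, 5, 11, 1, 10, 4, 3, 0, 10, 1, 10, 6, 3, 6, 9]
def rw5898 : List ℕ := [6, 0, 11, 10, 10, 1, 7, 7, 10, 10, 10, 1, 8, 8, 4, 0, 8, 3, 9, 5, 6, 11, 7, 4, 8, 2, 9, 1, 5, 9, 9, 0, 11, 11, 11, 6]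
def rw5899 : List ℕ := [8, 4, 9, 3, 5, 9, 3, 0, 4, 9, 2, 9, 11, 5, 3, 7, 10, 1, 11, 5, 10, 0, 11, 6, 2, 4, 10, 8, 3, 8, 5, 1, 2, 8, 4, 2]
def rw5900 : List ℕ := [9, 0, 5, 6, 8, 11, 6, 9, 2, 9, 11, 4, 10, 8, 3, 8, 7, 10, 9, 7, 4, 1, 8, 6, 0, 5, 1, 5, 0, 4, 1, 7]
def rw5901 : List ℕ := [9, 0, 5, 6, 8, 11, 6, 9, 2, 9, 11, 7, 10, 8, 3, 8, 7, 10, 9, 7, 4, 1, 8, 6, 0, 5, 1, 6, 0, 4, 1, 7]
def rw5902 : List ℕ := [7, 7, 7, 7, 7, 7, 7]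
def rw5903 : List ℕ := [7, 8, 10, 4, 3, 0, 10, 1, 10, 6, 11, 0, 11, 1, 2, 5, 11, 9, 6, 6, 2, 1, 8, 7, 2, 7, 7, 6, 3, 6, 9, 0, 3, 7]
def rw5904 : List ℕ := [1, 8, 7, 2, 7, 10, 6, 3, 6, 9, 0, 3, 7, 7, 8, 10, 4, 3, 0, 10, 1, 10, 11, 11, 0, 11, 1, 2, 5, 11, 9, 6, 6, 2]
def rw5905 : List ℕ := [0, 6, 6, 10, 3, 1, 3, 0, 0, 3, 11, 7, 9, 0, 8, 7, 0, 0]
def rw5906 : List ℕ := [2, 11, 3, 7, 8, 5, 0, 2, 8, 1, 6, 11, 1, 7, 2, 11, 9, 11, 10, 10, 8, 10, 3, 6, 0, 10, 7, 0, 9, 3, 1, 4, 9, 6]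
def rw5907 : List ℕ := [1, 2, 8, 4, 2, 8, 0, 9, 3, 5, 9, 3, 0, 4, 9, 2, 9, 11, 5, 3, 7, 10, 1, 11, 1, 10, 0, 11, 6, 2, 4, 10, 8, 3, 8, 5]
def rw5908 : List ℕ := [5, 9, 3, 0, 4, 9, 2, 9, 11, 5, 3, 7, 10, 1, 11, 9, 10, 0, 11, 6, 2, 4, 10, 8, 3, 8, 5, 1, 2, 8, 4, 2, 8, 8, 9, 3]
def rw5909 : List ℕ := [2, 11, 9, 11, 3, 7, 8, 5, 0, 2, 8, 1, 6, 8, 7, 0, 9, 3, 1, 4, 9, 6, 2, 10, 8, 10, 3, 6, 0, 10, 9, 11, 1, 7]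
def rw5910 : List ℕ := [2, 7, 9, 2, 0, 10, 1, 6, 4, 6, 2, 6, 11, 9, 1, 4, 4]
def rw5911 : List ℕ := [7, 0, 9, 3, 1, 4, 9, 6, 2, 4, 3, 7, 8, 5, 0, 2, 8, 1, 6, 11, 1, 7, 2, 11, 9, 11, 5, 10, 8, 10, 3, 6, 0, 10]
def rw5912 : List ℕ := [2, 11, 9, 11, 3, 7, 8, 5, 0, 2, 8, 1, 6, 11, 7, 0, 9, 3, 1, 4, 9, 6, 2, 10, 8, 10, 3, 6, 0, 10, 10, 11, 1, 7]
def rw5913 : List ℕ := [0, 0, 0, 0, 0, 0, 0]
def rw5914 : List ℕ := [1, 11, 0, 4, 1, 7, 9, 0, 5, 6, 8, 11, 6, 9, 2, 9, 11, 10, 10, 8, 3, 8, 7, 10, 9, 7, 4, 1, 8, 6, 0, 5]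
def rw5915 : List ℕ := [1, 4, 9, 6, 2, 7, 3, 7, 8, 5, 0, 2, 8, 1, 6, 11, 1, 7, 2, 11, 9, 11, 6, 10, 8, 10, 3, 6, 0, 10, 7, 0, 9, 3]
def rw5916 : List ℕ := [4, 1, 8, 6, 0, 5, 1, 0, 0, 4, 1, 7, 9, 0, 5, 6, 8, 11, 6, 9, 2, 9, 11, 1, 10, 8, 3, 8, 7, 10, 9, 7]
def rw5917 : List ℕ := [2, 9, 11, 5, 3, 7, 10, 1, 11, 9, 10, 0, 11, 6, 2, 4, 10, 8, 3, 8, 5, 1, 2, 8, 4, 2, 8, 8, 9, 3, 5, 9, 3, 0, 4, 9]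
def rw5918 : List ℕ := [6, 10, 3, 1, 3, 0, 0, 3, 11, 7, 9, 0, 8, 7, 0, 0, 0, 6]
def rw5919 : List ℕ := [4, 2, 8, 4, 9, 3, 5, 9, 3, 0, 4, 9, 2, 9, 11, 5, 3, 7, 10, 1, 11, 5, 10, 0, 11, 6, 2, 4, 10, 8, 3, 8, 5, 1, 2, 8]
def rw5920 : List ℕ := [9, 6, 6, 2, 1, 8, 7, 2, 7, 9, 6, 3, 6, 9, 0, 3, 7, 7, 8, 10, 4, 3, 0, 10, 1, 10, 8, 11, 0, 11, 1, 2, 5, 11]
def rw5921 : List ℕ := [1, 1, 1, 1, 1, 1, 1]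
def rw5922 : List ℕ := [8, 5, 9, 7, 4, 1, 8, 6, 0, 5, 1, 10, 8, 3, 8, 7, 10, 4, 11, 6, 9, 2, 9, 11, 0, 4, 1, 7, 9, 0, 5, 6]
def rw5923 : List ℕ := [9, 10, 4, 3, 0, 10, 1, 10, 6, 3, 6, 9, 0, 3, 7, 7, 8, 8, 9, 6, 6, 2, 1, 8, 7, 2, 7, 11, 0, 11, 1, 2, 5, 11]
def rw5924 : List ℕ := [4, 9, 6, 2, 10, 8, 10, 3, 6, 0, 10, 10, 11, 1, 7, 2, 11, 9, 11, 3, 7, 8, 5, 0, 2, 8, 1, 6, 11, 7, 0, 9, 3, 1]
def rw5925 : List ℕ := [1, 8, 7, 2, 7, 4, 6, 3, 6, 9, 0, 3, 7, 7, 8, 10, 4, 3, 0, 10, 1, 10, 5, 11, 0, 11, 1, 2, 5, 11, 9, 6, 6, 2]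
def rw5926 : List ℕ := [8, 1, 6, 6, 7, 0, 9, 3, 1, 4, 9, 6, 2, 10, 8, 10, 3, 6, 0, 10, 7, 11, 1, 7, 2, 11, 9, 11, 3, 7, 8, 5, 0, 2]
def rw5927 : List ℕ := [8, 3, 9, 7, 4, 1, 8, 6, 0, 5, 1, 10, 8, 3, 8, 7, 10, 2, 11, 6, 9, 2, 9, 11, 0, 4, 1, 7, 9, 0, 5, 6]
def rw5928 : List ℕ := [7, 7, 8, 7, 9, 6, 6, 2, 1, 8, 7, 2, 7, 11, 0, 11, 1, 2, 5, 11, 6, 10, 4, 3, 0, 10, 1, 10, 6, 3, 6, 9, 0, 3]
def rw5929 : List ℕ := [6, 2, 1, 8, 7, 2, 7, 6, 6, 3, 6, 9, 0, 3, 7, 7, 8, 10, 4, 3, 0, 10, 1, 10, 7, 11, 0, 11, 1, 2, 5, 11, 9, 6]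
def rw5930 : List ℕ := [2, 1, 8, 7, 2, 7, 11, 0, 11, 1, 2, 5, 11, 0, 10, 4, 3, 0, 10, 1, 10, 6, 3, 6, 9, 0, 3, 7, 7, 8, 1, 9, 6, 6]
def rw5931 : List ℕ := [9, 11, 0, 4, 1, 7, 9, 0, 5, 6, 8, 11, 9, 7, 4, 1, 8, 6, 0, 5, 1, 10, 8, 3, 8, 7, 10, 10, 11, 6, 9, 2]
def rw5932 : List ℕ := [11, 6, 10, 8, 3, 8, 7, 10, 9, 7, 4, 1, 8, 6, 0, 5, 1, 7, 0, 4, 1, 7, 9, 0, 5, 6, 8, 11, 6, 9, 2, 9]
def rw5933 : List ℕ := [8, 7, 4, 8, 2, 9, 1, 5, 9, 9, 0, 11, 11, 11, 6, 6, 0, 11, 9, 10, 1, 7, 7, 10, 10, 10, 1, 8, 8, 4, 0, 8, 3, 9, 5, 6]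
def rw5934 : List ℕ := [7, 0, 0, 0, 6, 6, 10, 1, 3, 3, 1, 2, 0, 11, 7, 9, 0, 8]
def rw5935 : List ℕ := [3, 10, 8, 3, 8, 7, 10, 9, 7, 4, 1, 8, 6, 0, 5, 1, 2, 0, 4, 1, 7, 9, 0, 5, 6, 8, 11, 6, 9, 2, 9, 11]
def rw5936 : List ℕ := [9, 11, 9, 10, 8, 3, 8, 7, 10, 9, 7, 4, 1, 8, 6, 0, 5, 1, 8, 0, 4, 1, 7, 9, 0, 5, 6, 8, 11, 6, 9, 2]
def rw5937 : List ℕ := [6, 0, 10, 7, 0, 9, 3, 1, 4, 9, 6, 2, 11, 3, 7, 8, 5, 0, 2, 8, 1, 6, 11, 1, 7, 2, 11, 9, 11, 10, 10, 8, 10, 3]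
def rw5938 : List ℕ := [2, 11, 9, 11, 3, 7, 8, 5, 0, 2, 8, 1, 6, 9, 7, 0, 9, 3, 1, 4, 9, 6, 2, 10, 8, 10, 3, 6, 0, 10, 8, 11, 1, 7]
def rw5939 : List ℕ := [2, 11, 6, 9, 2, 9, 11, 0, 4, 1, 7, 9, 0, 5, 6, 8, 3, 9, 7, 4, 1, 8, 6, 0, 5, 1, 10, 8, 3, 8, 7, 10]
def rw5940 : List ℕ := [1, 6, 11, 1, 7, 2, 11, 9, 11, 9, 10, 8, 10, 3, 6, 0, 10, 7, 0, 9, 3, 1, 4, 9, 6, 2, 8, 3, 7, 8, 5, 0, 2, 8]
def rw5941 : List ℕ := [7, 0, 9, 3, 1, 4, 9, 6, 2, 1, 3, 7, 8, 5, 0, 2, 8, 1, 6, 11, 1, 7, 2, 11, 9, 11, 0, 10, 8, 10, 3, 6, 0, 10]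
def rw5942 : List ℕ := [11, 11, 11, 11, 11, 11, 11, 11, 11, 11, 11, 11, 11, 11, 11, 11, 11, 11, 11, 11, 11, 11, 11]
def rw5943 : List ℕ := [3, 3, 3, 3, 3, 3, 3]
def rw5944 : List ℕ := [6, 9, 0, 3, 7, 7, 8, 4, 9, 6, 6, 2, 1, 8, 7, 2, 7, 11, 0, 11, 1, 2, 5, 11, 5, 10, 4, 3, 0, 10, 1, 10, 6, 3]
noncomputable def relW (i : ℕ) : List ℕ := (Bool.rec (motive := fun _ => List ℕ) (Bool.rec (motive := fun _ => List ℕ) (Bool.rec (motive := fun _ => List ℕ) (Bool.rec (motive := fun _ => List ℕ) (Bool.rec (motive := fun _ => List ℕ) (Bool.rec (motive := fun _ => List ℕ) (Bool.rec (motive := fun _ => List ℕ) (Bool.rec (motive := fun _ => List ℕ) (Bool.rec (motive := fun _ => List ℕ) (Bool.rec (motive := fun _ => List ℕ) (Bool.rec (motive := fun _ => List ℕ) (Bool.rec (motive := fun _ => List ℕ) (Bool.rec (motive := fun _ => List ℕ) (rw0) (rw1) (Nat.ble 1 i)) (Bool.rec (motive := fun _ => List ℕ) (rw2) (rw3) (Nat.ble 3 i)) (Nat.ble 2 i)) (Bool.rec (motive := fun _ => List ℕ) (Bool.rec (motive := fun _ => List ℕ) (rw4) (rw5) (Nat.ble 5 i)) (Bool.rec (motive := fun _ => List ℕ) (rw6) (rw7) (Nat.ble 7 i)) (Nat.ble 6 i)) (Nat.ble 4 i)) (Bool.rec (motive := fun _ => List ℕ) (Bool.rec (motive := fun _ => List ℕ) (Bool.rec (motive := fun _ => List ℕ) (rw8) (rw9) (Nat.ble 9 i)) (Bool.rec (motive := fun _ => List ℕ) (rw10) (rw11) (Nat.ble 11 i)) (Nat.ble 10 i)) (Bool.rec (motive := fun _ => List ℕ) (Bool.rec (motive := fun _ => List ℕ) (rw12) (rw13) (Nat.ble 13 i)) (Bool.rec (motive := fun _ => List ℕ) (rw14) (rw15) (Nat.ble 15 i)) (Nat.ble 14 i)) (Nat.ble 12 i)) (Nat.ble 8 i)) (Bool.rec (motive := fun _ => List ℕ) (Bool.rec (motive := fun _ => List ℕ) (Bool.rec (motive := fun _ => List ℕ) (Bool.rec (motive := fun _ => List ℕ) (rw16) (rw17) (Nat.ble 17 i)) (Bool.rec (motive := fun _ => List ℕ) (rw18) (rw19) (Nat.ble 19 i)) (Nat.ble 18 i)) (Bool.rec (motive := fun _ => List ℕ) (Bool.rec (motive := fun _ => List ℕ) (rw20) (rw21) (Nat.ble 21 i)) (Bool.rec (motive := fun _ => List ℕ) (rw22) (rw23) (Nat.ble 23 i)) (Nat.ble 22 i)) (Nat.ble 20 i)) (Bool.rec (motive := fun _ => List ℕ) (Bool.rec (motive := fun _ => List ℕ) (Bool.rec (motive := fun _ => List ℕ) (rw24) (rw25) (Nat.ble 25 i)) (Bool.rec (motive := fun _ => List ℕ) (rw26) (rw27) (Nat.ble 27 i)) (Nat.ble 26 i)) (Bool.rec (motive := fun _ => List ℕ) (Bool.rec (motive := fun _ => List ℕ) (rw28) (rw29) (Nat.ble 29 i)) (Bool.rec (motive := fun _ => List ℕ) (rw30) (rw31) (Nat.ble 31 i)) (Nat.ble 30 i)) (Nat.ble 28 i)) (Nat.ble 24 i)) (Nat.ble 16 i)) (Bool.rec (motive := fun _ => List ℕ) (Bool.rec (motive := fun _ => List ℕ) (Bool.rec (motive := fun _ => List ℕ) (Bool.rec (motive := fun _ => List ℕ) (Bool.rec (motive := fun _ => List ℕ) (rw32) (rw33) (Nat.ble 33 i)) (Bool.rec (motive := fun _ => List ℕ) (rw34) (rw35) (Nat.ble 35 i)) (Nat.ble 34 i)) (Bool.rec (motive := fun _ => List ℕ) (Bool.rec (motive := fun _ => List ℕ) (rw36) (rw37) (Nat.ble 37 i)) (Bool.rec (motive := fun _ => List ℕ) (rw38) (rw39) (Nat.ble 39 i)) (Nat.ble 38 i)) (Nat.ble 36 i)) (Bool.rec (motive := fun _ => List ℕ) (Bool.rec (motive := fun _ => List ℕ) (Bool.rec (motive := fun _ => List ℕ) (rw40) (rw41) (Nat.ble 41 i)) (Bool.rec (motive := fun _ => List ℕ) (rw42) (rw43) (Nat.ble 43 i)) (Nat.ble 42 i)) (Bool.rec (motive := fun _ => List ℕ) (Bool.rec (motive := fun _ => List ℕ) (rw44) (rw45) (Nat.ble 45 i)) (Bool.rec (motive := fun _ => List ℕ) (rw46) (rw47) (Nat.ble 47 i)) (Nat.ble 46 i)) (Nat.ble 44 i)) (Nat.ble 40 i)) (Bool.rec (motive := fun _ => List ℕ) (Bool.rec (motive := fun _ => List ℕ) (Bool.rec (motive := fun _ => List ℕ) (Bool.rec (motive := fun _ => List ℕ) (rw48) (rw49) (Nat.ble 49 i)) (Bool.rec (motive := fun _ => List ℕ) (rw50) (rw51) (Nat.ble 51 i)) (Nat.ble 50 i)) (Bool.rec (motive := fun _ => List ℕ) (Bool.rec (motive := fun _ => List ℕ) (rw52) (rw53) (Nat.ble 53 i)) (Bool.rec (motive := fun _ => List ℕ) (rw54) (rw55) (Nat.ble 55 i)) (Nat.ble 54 i)) (Nat.ble 52 i)) (Bool.rec (motive := fun _ => List ℕ) (Bool.rec (motive := fun _ => List ℕ) (Bool.rec (motive := fun _ => List ℕ) (rw56) (rw57) (Nat.ble 57 i)) (Bool.rec (motive := fun _ => List ℕ) (rw58) (rw59) (Nat.ble 59 i)) (Nat.ble 58 i)) (Bool.rec (motive := fun _ => List ℕ) (Bool.rec (motive := fun _ => List ℕ) (rw60) (rw61) (Nat.ble 61 i)) (Bool.rec (motive := fun _ => List ℕ) (rw62) (rw63) (Nat.ble 63 i)) (Nat.ble 62 i)) (Nat.ble 60 i)) (Nat.ble 56 i)) (Nat.ble 48 i)) (Nat.ble 32 i)) (Bool.rec (motive := fun _ => List ℕ) (Bool.rec (motive := fun _ => List ℕ) (Bool.rec (motive := fun _ => List ℕ) (Bool.rec (motive := fun _ => List ℕ) (Bool.rec (motive := fun _ => List ℕ) (Bool.rec (motive := fun _ => List ℕ) (rw64) (rw65) (Nat.ble 65 i)) (Bool.rec (motive := fun _ => List ℕ) (rw66) (rw67) (Nat.ble 67 i)) (Nat.ble 66 i)) (Bool.rec (motive := fun _ => List ℕ) (Bool.rec (motive := fun _ => List ℕ) (rw68) (rw69) (Nat.ble 69 i)) (Bool.rec (motive := fun _ => List ℕ) (rw70) (rw71) (Nat.ble 71 i)) (Nat.ble 70 i)) (Nat.ble 68 i)) (Bool.rec (motive := fun _ => List ℕ) (Bool.rec (motive := fun _ => List ℕ) (Bool.rec (motive := fun _ => List ℕ) (rw72) (rw73) (Nat.ble 73 i)) (Bool.rec (motive := fun _ => List ℕ) (rw74) (rw75) (Nat.ble 75 i)) (Nat.ble 74 i)) (Bool.rec (motive := fun _ => List ℕ) (Bool.rec (motive := fun _ => List ℕ) (rw76) (rw77) (Nat.ble 77 i)) (Bool.rec (motive := fun _ => List ℕ) (rw78) (rw79) (Nat.ble 79 i)) (Nat.ble 78 i)) (Nat.ble 76 i)) (Nat.ble 72 i)) (Bool.rec (motive := fun _ => List ℕ) (Bool.rec (motive := fun _ => List ℕ) (Bool.rec (motive := fun _ => List ℕ) (Bool.rec (motive := fun _ => List ℕ) (rw80) (rw81) (Nat.ble 81 i)) (Bool.rec (motive := fun _ => List ℕ) (rw82) (rw83) (Nat.ble 83 i)) (Nat.ble 82 i)) (Bool.rec (motive := fun _ => List ℕ) (Bool.rec (motive := fun _ => List ℕ) (rw84) (rw85) (Nat.ble 85 i)) (Bool.rec (motive := fun _ => List ℕ) (rw86) (rw87) (Nat.ble 87 i)) (Nat.ble 86 i)) (Nat.ble 84 i)) (Bool.rec (motive := fun _ => List ℕ) (Bool.rec (motive := fun _ => List ℕ) (Bool.rec (motive := fun _ => List ℕ) (rw88) (rw89) (Nat.ble 89 i)) (Bool.rec (motive := fun _ => List ℕ) (rw90) (rw91) (Nat.ble 91 i)) (Nat.ble 90 i)) (Bool.rec (motive := fun _ => List ℕ) (Bool.rec (motive := fun _ => List ℕ) (rw92) (rw93) (Nat.ble 93 i)) (Bool.rec (motive := fun _ => List ℕ) (rw94) (rw95) (Nat.ble 95 i)) (Nat.ble 94 i)) (Nat.ble 92 i)) (Nat.ble 88 i)) (Nat.ble 80 i)) (Bool.rec (motive := fun _ => List ℕ) (Bool.rec (motive := fun _ => List ℕ) (Bool.rec (motive := fun _ => List ℕ) (Bool.rec (motive := fun _ => List ℕ) (Bool.rec (motive := fun _ => List ℕ) (rw96) (rw97) (Nat.ble 97 i)) (Bool.rec (motive := fun _ => List ℕ) (rw98) (rw99) (Nat.ble 99 i)) (Nat.ble 98 i)) (Bool.rec (motive := fun _ => List ℕ) (Bool.rec (motive := fun _ => List ℕ) (rw100) (rw101) (Nat.ble 101 i)) (Bool.rec (motive := fun _ => List ℕ) (rw102) (rw103) (Nat.ble 103 i)) (Nat.ble 102 i)) (Nat.ble 100 i)) (Bool.rec (motive := fun _ => List ℕ) (Bool.rec (motive := fun _ => List ℕ) (Bool.rec (motive := fun _ => List ℕ) (rw104) (rw105) (Nat.ble 105 i)) (Bool.rec (motive := fun _ => List ℕ) (rw106) (rw107) (Nat.ble 107 i)) (Nat.ble 106 i)) (Bool.rec (motive := fun _ => List ℕ) (Bool.rec (motive := fun _ => List ℕ) (rw108) (rw109) (Nat.ble 109 i)) (Bool.rec (motive := fun _ => List ℕ) (rw110) (rw111) (Nat.ble 111 i)) (Nat.ble 110 i)) (Nat.ble 108 i)) (Nat.ble 104 i)) (Bool.rec (motive := fun _ => List ℕ) (Bool.rec (motive := fun _ => List ℕ) (Bool.rec (motive := fun _ => List ℕ) (Bool.rec (motive := fun _ => List ℕ) (rw112) (rw113) (Nat.ble 113 i)) (Bool.rec (motive := fun _ => List ℕ) (rw114) (rw115) (Nat.ble 115 i)) (Nat.ble 114 i)) (Bool.rec (motive := fun _ => List ℕ) (Bool.rec (motive := fun _ => List ℕ) (rw116) (rw117) (Nat.ble 117 i)) (Bool.rec (motive := fun _ => List ℕ) (rw118) (rw119) (Nat.ble 119 i)) (Nat.ble 118 i)) (Nat.ble 116 i)) (Bool.rec (motive := fun _ => List ℕ) (Bool.rec (motive := fun _ => List ℕ) (Bool.rec (motive := fun _ => List ℕ) (rw120) (rw121) (Nat.ble 121 i)) (Bool.rec (motive := fun _ => List ℕ) (rw122) (rw123) (Nat.ble 123 i)) (Nat.ble 122 i)) (Bool.rec (motive := fun _ => List ℕ) (Bool.rec (motive := fun _ => List ℕ) (rw124) (rw125) (Nat.ble 125 i)) (Bool.rec (motive := fun _ => List ℕ) (rw126) (rw127) (Nat.ble 127 i)) (Nat.ble 126 i)) (Nat.ble 124 i)) (Nat.ble 120 i)) (Nat.ble 112 i)) (Nat.ble 96 i)) (Nat.ble 64 i)) (Bool.rec (motive := fun _ => List ℕ) (Bool.rec (motive := fun _ => List ℕ) (Bool.rec (motive := fun _ => List ℕ) (Bool.rec (motive := fun _ => List ℕ) (Bool.rec (motive := fun _ => List ℕ) (Bool.rec (motive := fun _ => List ℕ) (Bool.rec (motive := fun _ => List ℕ) (rw128) (rw129) (Nat.ble 129 i)) (Bool.rec (motive := fun _ => List ℕ) (rw130) (rw131) (Nat.ble 131 i)) (Nat.ble 130 i)) (Bool.rec (motive := fun _ => List ℕ) (Bool.rec (motive := fun _ => List ℕ) (rw132) (rw133) (Nat.ble 133 i)) (Bool.rec (motive := fun _ => List ℕ) (rw134) (rw135) (Nat.ble 135 i)) (Nat.ble 134 i)) (Nat.ble 132 i)) (Bool.rec (motive := fun _ => List ℕ) (Bool.rec (motive := fun _ => List ℕ) (Bool.rec (motive := fun _ => List ℕ) (rw136) (rw137) (Nat.ble 137 i)) (Bool.rec (motive := fun _ => List ℕ) (rw138) (rw139) (Nat.ble 139 i)) (Nat.ble 138 i)) (Bool.rec (motive := fun _ => List ℕ) (Bool.rec (motive := fun _ => List ℕ) (rw140) (rw141) (Nat.ble 141 i)) (Bool.rec (motive := fun _ => List ℕ) (rw142) (rw143) (Nat.ble 143 i)) (Nat.ble 142 i)) (Nat.ble 140 i)) (Nat.ble 136 i)) (Bool.rec (motive := fun _ => List ℕ) (Bool.rec (motive := fun _ => List ℕ) (Bool.rec (motive := fun _ => List ℕ) (Bool.rec (motive := fun _ => List ℕ) (rw144) (rw145) (Nat.ble 145 i)) (Bool.rec (motive := fun _ => List ℕ) (rw146) (rw147) (Nat.ble 147 i)) (Nat.ble 146 i)) (Bool.rec (motive := fun _ => List ℕ) (Bool.rec (motive := fun _ => List ℕ) (rw148) (rw149) (Nat.ble 149 i)) (Bool.rec (motive := fun _ => List ℕ) (rw150) (rw151) (Nat.ble 151 i)) (Nat.ble 150 i)) (Nat.ble 148 i)) (Bool.rec (motive := fun _ => List ℕ) (Bool.rec (motive := fun _ => List ℕ) (Bool.rec (motive := fun _ => List ℕ) (rw152) (rw153) (Nat.ble 153 i)) (Bool.rec (motive := fun _ => List ℕ) (rw154) (rw155) (Nat.ble 155 i)) (Nat.ble 154 i)) (Bool.rec (motive := fun _ => List ℕ) (Bool.rec (motive := fun _ => List ℕ) (rw156) (rw157) (Nat.ble 157 i)) (Bool.rec (motive := fun _ => List ℕ) (rw158) (rw159) (Nat.ble 159 i)) (Nat.ble 158 i)) (Nat.ble 156 i)) (Nat.ble 152 i)) (Nat.ble 144 i)) (Bool.rec (motive := fun _ => List ℕ) (Bool.rec (motive := fun _ => List ℕ) (Bool.rec (motive := fun _ => List ℕ) (Bool.rec (motive := fun _ => List ℕ) (Bool.rec (motive := fun _ => List ℕ) (rw160) (rw161) (Nat.ble 161 i)) (Bool.rec (motive := fun _ => List ℕ) (rw162) (rw163) (Nat.ble 163 i)) (Nat.ble 162 i)) (Bool.rec (motive := fun _ => List ℕ) (Bool.rec (motive := fun _ => List ℕ) (rw164) (rw165) (Nat.ble 165 i)) (Bool.rec (motive := fun _ => List ℕ) (rw166) (rw167) (Nat.ble 167 i)) (Nat.ble 166 i)) (Nat.ble 164 i)) (Bool.rec (motive := fun _ => List ℕ) (Bool.rec (motive := fun _ => List ℕ) (Bool.rec (motive := fun _ => List ℕ) (rw168) (rw169) (Nat.ble 169 i)) (Bool.rec (motive := fun _ => List ℕ) (rw170) (rw171) (Nat.ble 171 i)) (Nat.ble 170 i)) (Bool.rec (motive := fun _ => List ℕ) (Bool.rec (motive := fun _ => List ℕ) (rw172) (rw173) (Nat.ble 173 i)) (Bool.rec (motive := fun _ => List ℕ) (rw174) (rw175) (Nat.ble 175 i)) (Nat.ble 174 i)) (Nat.ble 172 i)) (Nat.ble 168 i)) (Bool.rec (motive := fun _ => List ℕ) (Bool.rec (motive := fun _ => List ℕ) (Bool.rec (motive := fun _ => List ℕ) (Bool.rec (motive := fun _ => List ℕ) (rw176) (rw177) (Nat.ble 177 i)) (Bool.rec (motive := fun _ => List ℕ) (rw178) (rw179) (Nat.ble 179 i)) (Nat.ble 178 i)) (Bool.rec (motive := fun _ => List ℕ) (Bool.rec (motive := fun _ => List ℕ) (rw180) (rw181) (Nat.ble 181 i)) (Bool.rec (motive := fun _ => List ℕ) (rw182) (rw183) (Nat.ble 183 i)) (Nat.ble 182 i)) (Nat.ble 180 i)) (Bool.rec (motive := fun _ => List ℕ) (Bool.rec (motive := fun _ => List ℕ) (Bool.rec (motive := fun _ => List ℕ) (rw184) (rw185) (Nat.ble 185 i)) (Bool.rec (motive := fun _ => List ℕ) (rw186) (rw187) (Nat.ble 187 i)) (Nat.ble 186 i)) (Bool.rec (motive := fun _ => List ℕ) (Bool.rec (motive := fun _ => List ℕ) (rw188) (rw189) (Nat.ble 189 i)) (Bool.rec (motive := fun _ => List ℕ) (rw190) (rw191) (Nat.ble 191 i)) (Nat.ble 190 i)) (Nat.ble 188 i)) (Nat.ble 184 i)) (Nat.ble 176 i)) (Nat.ble 160 i)) (Bool.rec (motive := fun _ => List ℕ) (Bool.rec (motive := fun _ => List ℕ) (Bool.rec (motive := fun _ => List ℕ) (Bool.rec (motive := fun _ => List ℕ) (Bool.rec (motive := fun _ => List ℕ) (Bool.rec (motive := fun _ => List ℕ) (rw192) (rw193) (Nat.ble 193 i)) (Bool.rec (motive := fun _ => List ℕ) (rw194) (rw195) (Nat.ble 195 i)) (Nat.ble 194 i)) (Bool.rec (motive := fun _ => List ℕ) (Bool.rec (motive := fun _ => List ℕ) (rw196) (rw197) (Nat.ble 197 i)) (Bool.rec (motive := fun _ => List ℕ) (rw198) (rw199) (Nat.ble 199 i)) (Nat.ble 198 i)) (Nat.ble 196 i)) (Bool.rec (motive := fun _ => List ℕ) (Bool.rec (motive := fun _ => List ℕ) (Bool.rec (motive := fun _ => List ℕ) (rw200) (rw201) (Nat.ble 201 i)) (Bool.rec (motive := fun _ => List ℕ) (rw202) (rw203) (Nat.ble 203 i)) (Nat.ble 202 i)) (Bool.rec (motive := fun _ => List ℕ) (Bool.rec (motive := fun _ => List ℕ) (rw204) (rw205) (Nat.ble 205 i)) (Bool.rec (motive := fun _ => List ℕ) (rw206) (rw207) (Nat.ble 207 i)) (Nat.ble 206 i)) (Nat.ble 204 i)) (Nat.ble 200 i)) (Bool.rec (motive := fun _ => List ℕ) (Bool.rec (motive := fun _ => List ℕ) (Bool.rec (motive := fun _ => List ℕ) (Bool.rec (motive := fun _ => List ℕ) (rw208) (rw209) (Nat.ble 209 i)) (Bool.rec (motive := fun _ => List ℕ) (rw210) (rw211) (Nat.ble 211 i)) (Nat.ble 210 i)) (Bool.rec (motive := fun _ => List ℕ) (Bool.rec (motive := fun _ => List ℕ) (rw212) (rw213) (Nat.ble 213 i)) (Bool.rec (motive := fun _ => List ℕ) (rw214) (rw215) (Nat.ble 215 i)) (Nat.ble 214 i)) (Nat.ble 212 i)) (Bool.rec (motive := fun _ => List ℕ) (Bool.rec (motive := fun _ => List ℕ) (Bool.rec (motive := fun _ => List ℕ) (rw216) (rw217) (Nat.ble 217 i)) (Bool.rec (motive := fun _ => List ℕ) (rw218) (rw219) (Nat.ble 219 i)) (Nat.ble 218 i)) (Bool.rec (motive := fun _ => List ℕ) (Bool.rec (motive := fun _ => List ℕ) (rw220) (rw221) (Nat.ble 221 i)) (Bool.rec (motive := fun _ => List ℕ) (rw222) (rw223) (Nat.ble 223 i)) (Nat.ble 222 i)) (Nat.ble 220 i)) (Nat.ble 216 i)) (Nat.ble 208 i)) (Bool.rec (motive := fun _ => List ℕ) (Bool.rec (motive := fun _ => List ℕ) (Bool.rec (motive := fun _ => List ℕ) (Bool.rec (motive := fun _ => List ℕ) (Bool.rec (motive := fun _ => List ℕ) (rw224) (rw225) (Nat.ble 225 i)) (Bool.rec (motive := fun _ => List ℕ) (rw226) (rw227) (Nat.ble 227 i)) (Nat.ble 226 i)) (Bool.rec (motive := fun _ => List ℕ) (Bool.rec (motive := fun _ => List ℕ) (rw228) (rw229) (Nat.ble 229 i)) (Bool.rec (motive := fun _ => List ℕ) (rw230) (rw231) (Nat.ble 231 i)) (Nat.ble 230 i)) (Nat.ble 228 i)) (Bool.rec (motive := fun _ => List ℕ) (Bool.rec (motive := fun _ => List ℕ) (Bool.rec (motive := fun _ => List ℕ) (rw232) (rw233) (Nat.ble 233 i)) (Bool.rec (motive := fun _ => List ℕ) (rw234) (rw235) (Nat.ble 235 i)) (Nat.ble 234 i)) (Bool.rec (motive := fun _ => List ℕ) (Bool.rec (motive := fun _ => List ℕ) (rw236) (rw237) (Nat.ble 237 i)) (Bool.rec (motive := fun _ => List ℕ) (rw238) (rw239) (Nat.ble 239 i)) (Nat.ble 238 i)) (Nat.ble 236 i)) (Nat.ble 232 i)) (Bool.rec (motive := fun _ => List ℕ) (Bool.rec (motive := fun _ => List ℕ) (Bool.rec (motive := fun _ => List ℕ) (Bool.rec (motive := fun _ => List ℕ) (rw240) (rw241) (Nat.ble 241 i)) (Bool.rec (motive := fun _ => List ℕ) (rw242) (rw243) (Nat.ble 243 i)) (Nat.ble 242 i)) (Bool.rec (motive := fun _ => List ℕ) (Bool.rec (motive := fun _ => List ℕ) (rw244) (rw245) (Nat.ble 245 i)) (Bool.rec (motive := fun _ => List ℕ) (rw246) (rw247) (Nat.ble 247 i)) (Nat.ble 246 i)) (Nat.ble 244 i)) (Bool.rec (motive := fun _ => List ℕ) (Bool.rec (motive := fun _ => List ℕ) (Bool.rec (motive := fun _ => List ℕ) (rw248) (rw249) (Nat.ble 249 i)) (Bool.rec (motive := fun _ => List ℕ) (rw250) (rw251) (Nat.ble 251 i)) (Nat.ble 250 i)) (Bool.rec (motive := fun _ => List ℕ) (Bool.rec (motive := fun _ => List ℕ) (rw252) (rw253) (Nat.ble 253 i)) (Bool.rec (motive := fun _ => List ℕ) (rw254) (rw255) (Nat.ble 255 i)) (Nat.ble 254 i)) (Nat.ble 252 i)) (Nat.ble 248 i)) (Nat.ble 240 i)) (Nat.ble 224 i)) (Nat.ble 192 i)) (Nat.ble 128 i)) (Bool.rec (motive := fun _ => List ℕ) (Bool.rec (motive := fun _ => List ℕ) (Bool.rec (motive := fun _ => List ℕ) (Bool.rec (motive := fun _ => List ℕ) (Bool.rec (motive := fun _ => List ℕ) (Bool.rec (motive := fun _ => List ℕ) (Bool.rec (motive := fun _ => List ℕ) (Bool.rec (motive := fun _ => List ℕ) (rw256) (rw257) (Nat.ble 257 i)) (Bool.rec (motive := fun _ => List ℕ) (rw258) (rw259) (Nat.ble 259 i)) (Nat.ble 258 i)) (Bool.rec (motive := fun _ => List ℕ) (Bool.rec (motive := fun _ => List ℕ) (rw260) (rw261) (Nat.ble 261 i)) (Bool.rec (motive := fun _ => List ℕ) (rw262) (rw263) (Nat.ble 263 i)) (Nat.ble 262 i)) (Nat.ble 260 i)) (Bool.rec (motive := fun _ => List ℕ) (Bool.rec (motive := fun _ => List ℕ) (Bool.rec (motive := fun _ => List ℕ) (rw264) (rw265) (Nat.ble 265 i)) (Bool.rec (motive := fun _ => List ℕ) (rw266) (rw267) (Nat.ble 267 i)) (Nat.ble 266 i)) (Bool.rec (motive := fun _ => List ℕ) (Bool.rec (motive := fun _ => List ℕ) (rw268) (rw269) (Nat.ble 269 i)) (Bool.rec (motive := fun _ => List ℕ) (rw270) (rw271) (Nat.ble 271 i)) (Nat.ble 270 i)) (Nat.ble 268 i)) (Nat.ble 264 i)) (Bool.rec (motive := fun _ => List ℕ) (Bool.rec (motive := fun _ => List ℕ) (Bool.rec (motive := fun _ => List ℕ) (Bool.rec (motive := fun _ => List ℕ) (rw272) (rw273) (Nat.ble 273 i)) (Bool.rec (motive := fun _ => List ℕ) (rw274) (rw275) (Nat.ble 275 i)) (Nat.ble 274 i)) (Bool.rec (motive := fun _ => List ℕ) (Bool.rec (motive := fun _ => List ℕ) (rw276) (rw277) (Nat.ble 277 i)) (Bool.rec (motive := fun _ => List ℕ) (rw278) (rw279) (Nat.ble 279 i)) (Nat.ble 278 i)) (Nat.ble 276 i)) (Bool.rec (motive := fun _ => List ℕ) (Bool.rec (motive := fun _ => List ℕ) (Bool.rec (motive := fun _ => List ℕ) (rw280) (rw281) (Nat.ble 281 i)) (Bool.rec (motive := fun _ => List ℕ) (rw282) (rw283) (Nat.ble 283 i)) (Nat.ble 282 i)) (Bool.rec (motive := fun _ => List ℕ) (Bool.rec (motive := fun _ => List ℕ) (rw284) (rw285) (Nat.ble 285 i)) (Bool.rec (motive := fun _ => List ℕ) (rw286) (rw287) (Nat.ble 287 i)) (Nat.ble 286 i)) (Nat.ble 284 i)) (Nat.ble 280 i)) (Nat.ble 272 i)) (Bool.rec (motive := fun _ => List ℕ) (Bool.rec (motive := fun _ => List ℕ) (Bool.rec (motive := fun _ => List ℕ) (Bool.rec (motive := fun _ => List ℕ) (Bool.rec (motive := fun _ => List ℕ) (rw288) (rw289) (Nat.ble 289 i)) (Bool.rec (motive := fun _ => List ℕ) (rw290) (rw291) (Nat.ble 291 i)) (Nat.ble 290 i)) (Bool.rec (motive := fun _ => List ℕ) (Bool.rec (motive := fun _ => List ℕ) (rw292) (rw293) (Nat.ble 293 i)) (Bool.rec (motive := fun _ => List ℕ) (rw294) (rw295) (Nat.ble 295 i)) (Nat.ble 294 i)) (Nat.ble 292 i)) (Bool.rec (motive := fun _ => List ℕ) (Bool.rec (motive := fun _ => List ℕ) (Bool.rec (motive := fun _ => List ℕ) (rw296) (rw297) (Nat.ble 297 i)) (Bool.rec (motive := fun _ => List ℕ) (rw298) (rw299) (Nat.ble 299 i)) (Nat.ble 298 i)) (Bool.rec (motive := fun _ => List ℕ) (Bool.rec (motive := fun _ => List ℕ) (rw300) (rw301) (Nat.ble 301 i)) (Bool.rec (motive := fun _ => List ℕ) (rw302) (rw303) (Nat.ble 303 i)) (Nat.ble 302 i)) (Nat.ble 300 i)) (Nat.ble 296 i)) (Bool.rec (motive := fun _ => List ℕ) (Bool.rec (motive := fun _ => List ℕ) (Bool.rec (motive := fun _ => List ℕ) (Bool.rec (motive := fun _ => List ℕ) (rw304) (rw305) (Nat.ble 305 i)) (Bool.rec (motive := fun _ => List ℕ) (rw306) (rw307) (Nat.ble 307 i)) (Nat.ble 306 i)) (Bool.rec (motive := fun _ => List ℕ) (Bool.rec (motive := fun _ => List ℕ) (rw308) (rw309) (Nat.ble 309 i)) (Bool.rec (motive := fun _ => List ℕ) (rw310) (rw311) (Nat.ble 311 i)) (Nat.ble 310 i)) (Nat.ble 308 i)) (Bool.rec (motive := fun _ => List ℕ) (Bool.rec (motive := fun _ => List ℕ) (Bool.rec (motive := fun _ => List ℕ) (rw312) (rw313) (Nat.ble 313 i)) (Bool.rec (motive := fun _ => List ℕ) (rw314) (rw315) (Nat.ble 315 i)) (Nat.ble 314 i)) (Bool.rec (motive := fun _ => List ℕ) (Bool.rec (motive := fun _ => List ℕ) (rw316) (rw317) (Nat.ble 317 i)) (Bool.rec (motive := fun _ => List ℕ) (rw318) (rw319) (Nat.ble 319 i)) (Nat.ble 318 i)) (Nat.ble 316 i)) (Nat.ble 312 i)) (Nat.ble 304 i)) (Nat.ble 288 i)) (Bool.rec (motive := fun _ => List ℕ) (Bool.rec (motive := fun _ => List ℕ) (Bool.rec (motive := fun _ => List ℕ) (Bool.rec (motive := fun _ => List ℕ) (Bool.rec (motive := fun _ => List ℕ) (Bool.rec (motive := fun _ => List ℕ) (rw320) (rw321) (Nat.ble 321 i)) (Bool.rec (motive := fun _ => List ℕ) (rw322) (rw323) (Nat.ble 323 i)) (Nat.ble 322 i)) (Bool.rec (motive := fun _ => List ℕ) (Bool.rec (motive := fun _ => List ℕ) (rw324) (rw325) (Nat.ble 325 i)) (Bool.rec (motive := fun _ => List ℕ) (rw326) (rw327) (Nat.ble 327 i)) (Nat.ble 326 i)) (Nat.ble 324 i)) (Bool.rec (motive := fun _ => List ℕ) (Bool.rec (motive := fun _ => List ℕ) (Bool.rec (motive := fun _ => List ℕ) (rw328) (rw329) (Nat.ble 329 i)) (Bool.rec (motive := fun _ => List ℕ) (rw330) (rw331) (Nat.ble 331 i)) (Nat.ble 330 i)) (Bool.rec (motive := fun _ => List ℕ) (Bool.rec (motive := fun _ => List ℕ) (rw332) (rw333) (Nat.ble 333 i)) (Bool.rec (motive := fun _ => List ℕ) (rw334) (rw335) (Nat.ble 335 i)) (Nat.ble 334 i)) (Nat.ble 332 i)) (Nat.ble 328 i)) (Bool.rec (motive := fun _ => List ℕ) (Bool.rec (motive := fun _ => List ℕ) (Bool.rec (motive := fun _ => List ℕ) (Bool.rec (motive := fun _ => List ℕ) (rw336) (rw337) (Nat.ble 337 i)) (Bool.rec (motive := fun _ => List ℕ) (rw338) (rw339) (Nat.ble 339 i)) (Nat.ble 338 i)) (Bool.rec (motive := fun _ => List ℕ) (Bool.rec (motive := fun _ => List ℕ) (rw340) (rw341) (Nat.ble 341 i)) (Bool.rec (motive := fun _ => List ℕ) (rw342) (rw343) (Nat.ble 343 i)) (Nat.ble 342 i)) (Nat.ble 340 i)) (Bool.rec (motive := fun _ => List ℕ) (Bool.rec (motive := fun _ => List ℕ) (Bool.rec (motive := fun _ => List ℕ) (rw344) (rw345) (Nat.ble 345 i)) (Bool.rec (motive := fun _ => List ℕ) (rw346) (rw347) (Nat.ble 347 i)) (Nat.ble 346 i)) (Bool.rec (motive := fun _ => List ℕ) (Bool.rec (motive := fun _ => List ℕ) (rw348) (rw349) (Nat.ble 349 i)) (Bool.rec (motive := fun _ => List ℕ) (rw350) (rw351) (Nat.ble 351 i)) (Nat.ble 350 i)) (Nat.ble 348 i)) (Nat.ble 344 i)) (Nat.ble 336 i)) (Bool.rec (motive := fun _ => List ℕ) (Bool.rec (motive := fun _ => List ℕ) (Bool.rec (motive := fun _ => List ℕ) (Bool.rec (motive := fun _ => List ℕ) (Bool.rec (motive := fun _ => List ℕ) (rw352) (rw353) (Nat.ble 353 i)) (Bool.rec (motive := fun _ => List ℕ) (rw354) (rw355) (Nat.ble 355 i)) (Nat.ble 354 i)) (Bool.rec (motive := fun _ => List ℕ) (Bool.rec (motive := fun _ => List ℕ) (rw356) (rw357) (Nat.ble 357 i)) (Bool.rec (motive := fun _ => List ℕ) (rw358) (rw359) (Nat.ble 359 i)) (Nat.ble 358 i)) (Nat.ble 356 i)) (Bool.rec (motive := fun _ => List ℕ) (Bool.rec (motive := fun _ => List ℕ) (Bool.rec (motive := fun _ => List ℕ) (rw360) (rw361) (Nat.ble 361 i)) (Bool.rec (motive := fun _ => List ℕ) (rw362) (rw363) (Nat.ble 363 i)) (Nat.ble 362 i)) (Bool.rec (motive := fun _ => List ℕ) (Bool.rec (motive := fun _ => List ℕ) (rw364) (rw365) (Nat.ble 365 i)) (Bool.rec (motive := fun _ => List ℕ) (rw366) (rw367) (Nat.ble 367 i)) (Nat.ble 366 i)) (Nat.ble 364 i)) (Nat.ble 360 i)) (Bool.rec (motive := fun _ => List ℕ) (Bool.rec (motive := fun _ => List ℕ) (Bool.rec (motive := fun _ => List ℕ) (Bool.rec (motive := fun _ => List ℕ) (rw368) (rw369) (Nat.ble 369 i)) (Bool.rec (motive := fun _ => List ℕ) (rw370) (rw371) (Nat.ble 371 i)) (Nat.ble 370 i)) (Bool.rec (motive := fun _ => List ℕ) (Bool.rec (motive := fun _ => List ℕ) (rw372) (rw373) (Nat.ble 373 i)) (Bool.rec (motive := fun _ => List ℕ) (rw374) (rw375) (Nat.ble 375 i)) (Nat.ble 374 i)) (Nat.ble 372 i)) (Bool.rec (motive := fun _ => List ℕ) (Bool.rec (motive := fun _ => List ℕ) (Bool.rec (motive := fun _ => List ℕ) (rw376) (rw377) (Nat.ble 377 i)) (Bool.rec (motive := fun _ => List ℕ) (rw378) (rw379) (Nat.ble 379 i)) (Nat.ble 378 i)) (Bool.rec (motive := fun _ => List ℕ) (Bool.rec (motive := fun _ => List ℕ) (rw380) (rw381) (Nat.ble 381 i)) (Bool.rec (motive := fun _ => List ℕ) (rw382) (rw383) (Nat.ble 383 i)) (Nat.ble 382 i)) (Nat.ble 380 i)) (Nat.ble 376 i)) (Nat.ble 368 i)) (Nat.ble 352 i)) (Nat.ble 320 i)) (Bool.rec (motive := fun _ => List ℕ) (Bool.rec (motive := fun _ => List ℕ) (Bool.rec (motive := fun _ => List ℕ) (Bool.rec (motive := fun _ => List ℕ) (Bool.rec (motive := fun _ => List ℕ) (Bool.rec (motive := fun _ => List ℕ) (Bool.rec (motive := fun _ => List ℕ) (rw384) (rw385) (Nat.ble 385 i)) (Bool.rec (motive := fun _ => List ℕ) (rw386) (rw387) (Nat.ble 387 i)) (Nat.ble 386 i)) (Bool.rec (motive := fun _ => List ℕ) (Bool.rec (motive := fun _ => List ℕ) (rw388) (rw389) (Nat.ble 389 i)) (Bool.rec (motive := fun _ => List ℕ) (rw390) (rw391) (Nat.ble 391 i)) (Nat.ble 390 i)) (Nat.ble 388 i)) (Bool.rec (motive := fun _ => List ℕ) (Bool.rec (motive := fun _ => List ℕ) (Bool.rec (motive := fun _ => List ℕ) (rw392) (rw393) (Nat.ble 393 i)) (Bool.rec (motive := fun _ => List ℕ) (rw394) (rw395) (Nat.ble 395 i)) (Nat.ble 394 i)) (Bool.rec (motive := fun _ => List ℕ) (Bool.rec (motive := fun _ => List ℕ) (rw396) (rw397) (Nat.ble 397 i)) (Bool.rec (motive := fun _ => List ℕ) (rw398) (rw399) (Nat.ble 399 i)) (Nat.ble 398 i)) (Nat.ble 396 i)) (Nat.ble 392 i)) (Bool.rec (motive := fun _ => List ℕ) (Bool.rec (motive := fun _ => List ℕ) (Bool.rec (motive := fun _ => List ℕ) (Bool.rec (motive := fun _ => List ℕ) (rw400) (rw401) (Nat.ble 401 i)) (Bool.rec (motive := fun _ => List ℕ) (rw402) (rw403) (Nat.ble 403 i)) (Nat.ble 402 i)) (Bool.rec (motive := fun _ => List ℕ) (Bool.rec (motive := fun _ => List ℕ) (rw404) (rw405) (Nat.ble 405 i)) (Bool.rec (motive := fun _ => List ℕ) (rw406) (rw407) (Nat.ble 407 i)) (Nat.ble 406 i)) (Nat.ble 404 i)) (Bool.rec (motive := fun _ => List ℕ) (Bool.rec (motive := fun _ => List ℕ) (Bool.rec (motive := fun _ => List ℕ) (rw408) (rw409) (Nat.ble 409 i)) (Bool.rec (motive := fun _ => List ℕ) (rw410) (rw411) (Nat.ble 411 i)) (Nat.ble 410 i)) (Bool.rec (motive := fun _ => List ℕ) (Bool.rec (motive := fun _ => List ℕ) (rw412) (rw413) (Nat.ble 413 i)) (Bool.rec (motive := fun _ => List ℕ) (rw414) (rw415) (Nat.ble 415 i)) (Nat.ble 414 i)) (Nat.ble 412 i)) (Nat.ble 408 i)) (Nat.ble 400 i)) (Bool.rec (motive := fun _ => List ℕ) (Bool.rec (motive := fun _ => List ℕ) (Bool.rec (motive := fun _ => List ℕ) (Bool.rec (motive := fun _ => List ℕ) (Bool.rec (motive := fun _ => List ℕ) (rw416) (rw417) (Nat.ble 417 i)) (Bool.rec (motive := fun _ => List ℕ) (rw418) (rw419) (Nat.ble 419 i)) (Nat.ble 418 i)) (Bool.rec (motive := fun _ => List ℕ) (Bool.rec (motive := fun _ => List ℕ) (rw420) (rw421) (Nat.ble 421 i)) (Bool.rec (motive := fun _ => List ℕ) (rw422) (rw423) (Nat.ble 423 i)) (Nat.ble 422 i)) (Nat.ble 420 i)) (Bool.rec (motive := fun _ => List ℕ) (Bool.rec (motive := fun _ => List ℕ) (Bool.rec (motive := fun _ => List ℕ) (rw424) (rw425) (Nat.ble 425 i)) (Bool.rec (motive := fun _ => List ℕ) (rw426) (rw427) (Nat.ble 427 i)) (Nat.ble 426 i)) (Bool.rec (motive := fun _ => List ℕ) (Bool.rec (motive := fun _ => List ℕ) (rw428) (rw429) (Nat.ble 429 i)) (Bool.rec (motive := fun _ => List ℕ) (rw430) (rw431) (Nat.ble 431 i)) (Nat.ble 430 i)) (Nat.ble 428 i)) (Nat.ble 424 i)) (Bool.rec (motive := fun _ => List ℕ) (Bool.rec (motive := fun _ => List ℕ) (Bool.rec (motive := fun _ => List ℕ) (Bool.rec (motive := fun _ => List ℕ) (rw432) (rw433) (Nat.ble 433 i)) (Bool.rec (motive := fun _ => List ℕ) (rw434) (rw435) (Nat.ble 435 i)) (Nat.ble 434 i)) (Bool.rec (motive := fun _ => List ℕ) (Bool.rec (motive := fun _ => List ℕ) (rw436) (rw437) (Nat.ble 437 i)) (Bool.rec (motive := fun _ => List ℕ) (rw438) (rw439) (Nat.ble 439 i)) (Nat.ble 438 i)) (Nat.ble 436 i)) (Bool.rec (motive := fun _ => List ℕ) (Bool.rec (motive := fun _ => List ℕ) (Bool.rec (motive := fun _ => List ℕ) (rw440) (rw441) (Nat.ble 441 i)) (Bool.rec (motive := fun _ => List ℕ) (rw442) (rw443) (Nat.ble 443 i)) (Nat.ble 442 i)) (Bool.rec (motive := fun _ => List ℕ) (Bool.rec (motive := fun _ => List ℕ) (rw444) (rw445) (Nat.ble 445 i)) (Bool.rec (motive := fun _ => List ℕ) (rw446) (rw447) (Nat.ble 447 i)) (Nat.ble 446 i)) (Nat.ble 444 i)) (Nat.ble 440 i)) (Nat.ble 432 i)) (Nat.ble 416 i)) (Bool.rec (motive := fun _ => List ℕ) (Bool.rec (motive := fun _ => List ℕ) (Bool.rec (motive := fun _ => List ℕ) (Bool.rec (motive := fun _ => List ℕ) (Bool.rec (motive := fun _ => List ℕ) (Bool.rec (motive := fun _ => List ℕ) (rw448) (rw449) (Nat.ble 449 i)) (Bool.rec (motive := fun _ => List ℕ) (rw450) (rw451) (Nat.ble 451 i)) (Nat.ble 450 i)) (Bool.rec (motive := fun _ => List ℕ) (Bool.rec (motive := fun _ => List ℕ) (rw452) (rw453) (Nat.ble 453 i)) (Bool.rec (motive := fun _ => List ℕ) (rw454) (rw455) (Nat.ble 455 i)) (Nat.ble 454 i)) (Nat.ble 452 i)) (Bool.rec (motive := fun _ => List ℕ) (Bool.rec (motive := fun _ => List ℕ) (Bool.rec (motive := fun _ => List ℕ) (rw456) (rw457) (Nat.ble 457 i)) (Bool.rec (motive := fun _ => List ℕ) (rw458) (rw459) (Nat.ble 459 i)) (Nat.ble 458 i)) (Bool.rec (motive := fun _ => List ℕ) (Bool.rec (motive := fun _ => List ℕ) (rw460) (rw461) (Nat.ble 461 i)) (Bool.rec (motive := fun _ => List ℕ) (rw462) (rw463) (Nat.ble 463 i)) (Nat.ble 462 i)) (Nat.ble 460 i)) (Nat.ble 456 i)) (Bool.rec (motive := fun _ => List ℕ) (Bool.rec (motive := fun _ => List ℕ) (Bool.rec (motive := fun _ => List ℕ) (Bool.rec (motive := fun _ => List ℕ) (rw464) (rw465) (Nat.ble 465 i)) (Bool.rec (motive := fun _ => List ℕ) (rw466) (rw467) (Nat.ble 467 i)) (Nat.ble 466 i)) (Bool.rec (motive := fun _ => List ℕ) (Bool.rec (motive := fun _ => List ℕ) (rw468) (rw469) (Nat.ble 469 i)) (Bool.rec (motive := fun _ => List ℕ) (rw470) (rw471) (Nat.ble 471 i)) (Nat.ble 470 i)) (Nat.ble 468 i)) (Bool.rec (motive := fun _ => List ℕ) (Bool.rec (motive := fun _ => List ℕ) (Bool.rec (motive := fun _ => List ℕ) (rw472) (rw473) (Nat.ble 473 i)) (Bool.rec (motive := fun _ => List ℕ) (rw474) (rw475) (Nat.ble 475 i)) (Nat.ble 474 i)) (Bool.rec (motive := fun _ => List ℕ) (Bool.rec (motive := fun _ => List ℕ) (rw476) (rw477) (Nat.ble 477 i)) (Bool.rec (motive := fun _ => List ℕ) (rw478) (rw479) (Nat.ble 479 i)) (Nat.ble 478 i)) (Nat.ble 476 i)) (Nat.ble 472 i)) (Nat.ble 464 i)) (Bool.rec (motive := fun _ => List ℕ) (Bool.rec (motive := fun _ => List ℕ) (Bool.rec (motive := fun _ => List ℕ) (Bool.rec (motive := fun _ => List ℕ) (Bool.rec (motive := fun _ => List ℕ) (rw480) (rw481) (Nat.ble 481 i)) (Bool.rec (motive := fun _ => List ℕ) (rw482) (rw483) (Nat.ble 483 i)) (Nat.ble 482 i)) (Bool.rec (motive := fun _ => List ℕ) (Bool.rec (motive := fun _ => List ℕ) (rw484) (rw485) (Nat.ble 485 i)) (Bool.rec (motive := fun _ => List ℕ) (rw486) (rw487) (Nat.ble 487 i)) (Nat.ble 486 i)) (Nat.ble 484 i)) (Bool.rec (motive := fun _ => List ℕ) (Bool.rec (motive := fun _ => List ℕ) (Bool.rec (motive := fun _ => List ℕ) (rw488) (rw489) (Nat.ble 489 i)) (Bool.rec (motive := fun _ => List ℕ) (rw490) (rw491) (Nat.ble 491 i)) (Nat.ble 490 i)) (Bool.rec (motive := fun _ => List ℕ) (Bool.rec (motive := fun _ => List ℕ) (rw492) (rw493) (Nat.ble 493 i)) (Bool.rec (motive := fun _ => List ℕ) (rw494) (rw495) (Nat.ble 495 i)) (Nat.ble 494 i)) (Nat.ble 492 i)) (Nat.ble 488 i)) (Bool.rec (motive := fun _ => List ℕ) (Bool.rec (motive := fun _ => List ℕ) (Bool.rec (motive := fun _ => List ℕ) (Bool.rec (motive := fun _ => List ℕ) (rw496) (rw497) (Nat.ble 497 i)) (Bool.rec (motive := fun _ => List ℕ) (rw498) (rw499) (Nat.ble 499 i)) (Nat.ble 498 i)) (Bool.rec (motive := fun _ => List ℕ) (Bool.rec (motive := fun _ => List ℕ) (rw500) (rw501) (Nat.ble 501 i)) (Bool.rec (motive := fun _ => List ℕ) (rw502) (rw503) (Nat.ble 503 i)) (Nat.ble 502 i)) (Nat.ble 500 i)) (Bool.rec (motive := fun _ => List ℕ) (Bool.rec (motive := fun _ => List ℕ) (Bool.rec (motive := fun _ => List ℕ) (rw504) (rw505) (Nat.ble 505 i)) (Bool.rec (motive := fun _ => List ℕ) (rw506) (rw507) (Nat.ble 507 i)) (Nat.ble 506 i)) (Bool.rec (motive := fun _ => List ℕ) (Bool.rec (motive := fun _ => List ℕ) (rw508) (rw509) (Nat.ble 509 i)) (Bool.rec (motive := fun _ => List ℕ) (rw510) (rw511) (Nat.ble 511 i)) (Nat.ble 510 i)) (Nat.ble 508 i)) (Nat.ble 504 i)) (Nat.ble 496 i)) (Nat.ble 480 i)) (Nat.ble 448 i)) (Nat.ble 384 i)) (Nat.ble 256 i)) (Bool.rec (motive := fun _ => List ℕ) (Bool.rec (motive := fun _ => List ℕ) (Bool.rec (motive := fun _ => List ℕ) (Bool.rec (motive := fun _ => List ℕ) (Bool.rec (motive := fun _ => List ℕ) (Bool.rec (motive := fun _ => List ℕ) (Bool.rec (motive := fun _ => List ℕ) (Bool.rec (motive := fun _ => List ℕ) (Bool.rec (motive := fun _ => List ℕ) (rw512) (rw513) (Nat.ble 513 i)) (Bool.rec (motive := fun _ => List ℕ) (rw514) (rw515) (Nat.ble 515 i)) (Nat.ble 514 i)) (Bool.rec (motive := fun _ => List ℕ) (Bool.rec (motive := fun _ => List ℕ) (rw516) (rw517) (Nat.ble 517 i)) (Bool.rec (motive := fun _ => List ℕ) (rw518) (rw519) (Nat.ble 519 i)) (Nat.ble 518 i)) (Nat.ble 516 i)) (Bool.rec (motive := fun _ => List ℕ) (Bool.rec (motive := fun _ => List ℕ) (Bool.rec (motive := fun _ => List ℕ) (rw520) (rw521) (Nat.ble 521 i)) (Bool.rec (motive := fun _ => List ℕ) (rw522) (rw523) (Nat.ble 523 i)) (Nat.ble 522 i)) (Bool.rec (motive := fun _ => List ℕ) (Bool.rec (motive := fun _ => List ℕ) (rw524) (rw525) (Nat.ble 525 i)) (Bool.rec (motive := fun _ => List ℕ) (rw526) (rw527) (Nat.ble 527 i)) (Nat.ble 526 i)) (Nat.ble 524 i)) (Nat.ble 520 i)) (Bool.rec (motive := fun _ => List ℕ) (Bool.rec (motive := fun _ => List ℕ) (Bool.rec (motive := fun _ => List ℕ) (Bool.rec (motive := fun _ => List ℕ) (rw528) (rw529) (Nat.ble 529 i)) (Bool.rec (motive := fun _ => List ℕ) (rw530) (rw531) (Nat.ble 531 i)) (Nat.ble 530 i)) (Bool.rec (motive := fun _ => List ℕ) (Bool.rec (motive := fun _ => List ℕ) (rw532) (rw533) (Nat.ble 533 i)) (Bool.rec (motive := fun _ => List ℕ) (rw534) (rw535) (Nat.ble 535 i)) (Nat.ble 534 i)) (Nat.ble 532 i)) (Bool.rec (motive := fun _ => List ℕ) (Bool.rec (motive := fun _ => List ℕ) (Bool.rec (motive := fun _ => List ℕ) (rw536) (rw537) (Nat.ble 537 i)) (Bool.rec (motive := fun _ => List ℕ) (rw538) (rw539) (Nat.ble 539 i)) (Nat.ble 538 i)) (Bool.rec (motive := fun _ => List ℕ) (Bool.rec (motive := fun _ => List ℕ) (rw540) (rw541) (Nat.ble 541 i)) (Bool.rec (motive := fun _ => List ℕ) (rw542) (rw543) (Nat.ble 543 i)) (Nat.ble 542 i)) (Nat.ble 540 i)) (Nat.ble 536 i)) (Nat.ble 528 i)) (Bool.rec (motive := fun _ => List ℕ) (Bool.rec (motive := fun _ => List ℕ) (Bool.rec (motive := fun _ => List ℕ) (Bool.rec (motive := fun _ => List ℕ) (Bool.rec (motive := fun _ => List ℕ) (rw544) (rw545) (Nat.ble 545 i)) (Bool.rec (motive := fun _ => List ℕ) (rw546) (rw547) (Nat.ble 547 i)) (Nat.ble 546 i)) (Bool.rec (motive := fun _ => List ℕ) (Bool.rec (motive := fun _ => List ℕ) (rw548) (rw549) (Nat.ble 549 i)) (Bool.rec (motive := fun _ => List ℕ) (rw550) (rw551) (Nat.ble 551 i)) (Nat.ble 550 i)) (Nat.ble 548 i)) (Bool.rec (motive := fun _ => List ℕ) (Bool.rec (motive := fun _ => List ℕ) (Bool.rec (motive := fun _ => List ℕ) (rw552) (rw553) (Nat.ble 553 i)) (Bool.rec (motive := fun _ => List ℕ) (rw554) (rw555) (Nat.ble 555 i)) (Nat.ble 554 i)) (Bool.rec (motive := fun _ => List ℕ) (Bool.rec (motive := fun _ => List ℕ) (rw556) (rw557) (Nat.ble 557 i)) (Bool.rec (motive := fun _ => List ℕ) (rw558) (rw559) (Nat.ble 559 i)) (Nat.ble 558 i)) (Nat.ble 556 i)) (Nat.ble 552 i)) (Bool.rec (motive := fun _ => List ℕ) (Bool.rec (motive := fun _ => List ℕ) (Bool.rec (motive := fun _ => List ℕ) (Bool.rec (motive := fun _ => List ℕ) (rw560) (rw561) (Nat.ble 561 i)) (Bool.rec (motive := fun _ => List ℕ) (rw562) (rw563) (Nat.ble 563 i)) (Nat.ble 562 i)) (Bool.rec (motive := fun _ => List ℕ) (Bool.rec (motive := fun _ => List ℕ) (rw564) (rw565) (Nat.ble 565 i)) (Bool.rec (motive := fun _ => List ℕ) (rw566) (rw567) (Nat.ble 567 i)) (Nat.ble 566 i)) (Nat.ble 564 i)) (Bool.rec (motive := fun _ => List ℕ) (Bool.rec (motive := fun _ => List ℕ) (Bool.rec (motive := fun _ => List ℕ) (rw568) (rw569) (Nat.ble 569 i)) (Bool.rec (motive := fun _ => List ℕ) (rw570) (rw571) (Nat.ble 571 i)) (Nat.ble 570 i)) (Bool.rec (motive := fun _ => List ℕ) (Bool.rec (motive := fun _ => List ℕ) (rw572) (rw573) (Nat.ble 573 i)) (Bool.rec (motive := fun _ => List ℕ) (rw574) (rw575) (Nat.ble 575 i)) (Nat.ble 574 i)) (Nat.ble 572 i)) (Nat.ble 568 i)) (Nat.ble 560 i)) (Nat.ble 544 i)) (Bool.rec (motive := fun _ => List ℕ) (Bool.rec (motive := fun _ => List ℕ) (Bool.rec (motive := fun _ => List ℕ) (Bool.rec (motive := fun _ => List ℕ) (Bool.rec (motive := fun _ => List ℕ) (Bool.rec (motive := fun _ => List ℕ) (rw576) (rw577) (Nat.ble 577 i)) (Bool.rec (motive := fun _ => List ℕ) (rw578) (rw579) (Nat.ble 579 i)) (Nat.ble 578 i)) (Bool.rec (motive := fun _ => List ℕ) (Bool.rec (motive := fun _ => List ℕ) (rw580) (rw581) (Nat.ble 581 i)) (Bool.rec (motive := fun _ => List ℕ) (rw582) (rw583) (Nat.ble 583 i)) (Nat.ble 582 i)) (Nat.ble 580 i)) (Bool.rec (motive := fun _ => List ℕ) (Bool.rec (motive := fun _ => List ℕ) (Bool.rec (motive := fun _ => List ℕ) (rw584) (rw585) (Nat.ble 585 i)) (Bool.rec (motive := fun _ => List ℕ) (rw586) (rw587) (Nat.ble 587 i)) (Nat.ble 586 i)) (Bool.rec (motive := fun _ => List ℕ) (Bool.rec (motive := fun _ => List ℕ) (rw588) (rw589) (Nat.ble 589 i)) (Bool.rec (motive := fun _ => List ℕ) (rw590) (rw591) (Nat.ble 591 i)) (Nat.ble 590 i)) (Nat.ble 588 i)) (Nat.ble 584 i)) (Bool.rec (motive := fun _ => List ℕ) (Bool.rec (motive := fun _ => List ℕ) (Bool.rec (motive := fun _ => List ℕ) (Bool.rec (motive := fun _ => List ℕ) (rw592) (rw593) (Nat.ble 593 i)) (Bool.rec (motive := fun _ => List ℕ) (rw594) (rw595) (Nat.ble 595 i)) (Nat.ble 594 i)) (Bool.rec (motive := fun _ => List ℕ) (Bool.rec (motive := fun _ => List ℕ) (rw596) (rw597) (Nat.ble 597 i)) (Bool.rec (motive := fun _ => List ℕ) (rw598) (rw599) (Nat.ble 599 i)) (Nat.ble 598 i)) (Nat.ble 596 i)) (Bool.rec (motive := fun _ => List ℕ) (Bool.rec (motive := fun _ => List ℕ) (Bool.rec (motive := fun _ => List ℕ) (rw600) (rw601) (Nat.ble 601 i)) (Bool.rec (motive := fun _ => List ℕ) (rw602) (rw603) (Nat.ble 603 i)) (Nat.ble 602 i)) (Bool.rec (motive := fun _ => List ℕ) (Bool.rec (motive := fun _ => List ℕ) (rw604) (rw605) (Nat.ble 605 i)) (Bool.rec (motive := fun _ => List ℕ) (rw606) (rw607) (Nat.ble 607 i)) (Nat.ble 606 i)) (Nat.ble 604 i)) (Nat.ble 600 i)) (Nat.ble 592 i)) (Bool.rec (motive := fun _ => List ℕ) (Bool.rec (motive := fun _ => List ℕ) (Bool.rec (motive := fun _ => List ℕ) (Bool.rec (motive := fun _ => List ℕ) (Bool.rec (motive := fun _ => List ℕ) (rw608) (rw609) (Nat.ble 609 i)) (Bool.rec (motive := fun _ => List ℕ) (rw610) (rw611) (Nat.ble 611 i)) (Nat.ble 610 i)) (Bool.rec (motive := fun _ => List ℕ) (Bool.rec (motive := fun _ => List ℕ) (rw612) (rw613) (Nat.ble 613 i)) (Bool.rec (motive := fun _ => List ℕ) (rw614) (rw615) (Nat.ble 615 i)) (Nat.ble 614 i)) (Nat.ble 612 i)) (Bool.rec (motive := fun _ => List ℕ) (Bool.rec (motive := fun _ => List ℕ) (Bool.rec (motive := fun _ => List ℕ) (rw616) (rw617) (Nat.ble 617 i)) (Bool.rec (motive := fun _ => List ℕ) (rw618) (rw619) (Nat.ble 619 i)) (Nat.ble 618 i)) (Bool.rec (motive := fun _ => List ℕ) (Bool.rec (motive := fun _ => List ℕ) (rw620) (rw621) (Nat.ble 621 i)) (Bool.rec (motive := fun _ => List ℕ) (rw622) (rw623) (Nat.ble 623 i)) (Nat.ble 622 i)) (Nat.ble 620 i)) (Nat.ble 616 i)) (Bool.rec (motive := fun _ => List ℕ) (Bool.rec (motive := fun _ => List ℕ) (Bool.rec (motive := fun _ => List ℕ) (Bool.rec (motive := fun _ => List ℕ) (rw624) (rw625) (Nat.ble 625 i)) (Bool.rec (motive := fun _ => List ℕ) (rw626) (rw627) (Nat.ble 627 i)) (Nat.ble 626 i)) (Bool.rec (motive := fun _ => List ℕ) (Bool.rec (motive := fun _ => List ℕ) (rw628) (rw629) (Nat.ble 629 i)) (Bool.rec (motive := fun _ => List ℕ) (rw630) (rw631) (Nat.ble 631 i)) (Nat.ble 630 i)) (Nat.ble 628 i)) (Bool.rec (motive := fun _ => List ℕ) (Bool.rec (motive := fun _ => List ℕ) (Bool.rec (motive := fun _ => List ℕ) (rw632) (rw633) (Nat.ble 633 i)) (Bool.rec (motive := fun _ => List ℕ) (rw634) (rw635) (Nat.ble 635 i)) (Nat.ble 634 i)) (Bool.rec (motive := fun _ => List ℕ) (Bool.rec (motive := fun _ => List ℕ) (rw636) (rw637) (Nat.ble 637 i)) (Bool.rec (motive := fun _ => List ℕ) (rw638) (rw639) (Nat.ble 639 i)) (Nat.ble 638 i)) (Nat.ble 636 i)) (Nat.ble 632 i)) (Nat.ble 624 i)) (Nat.ble 608 i)) (Nat.ble 576 i)) (Bool.rec (motive := fun _ => List ℕ) (Bool.rec (motive := fun _ => List ℕ) (Bool.rec (motive := fun _ => List ℕ) (Bool.rec (motive := fun _ => List ℕ) (Bool.rec (motive := fun _ => List ℕ) (Bool.rec (motive := fun _ => List ℕ) (Bool.rec (motive := fun _ => List ℕ) (rw640) (rw641) (Nat.ble 641 i)) (Bool.rec (motive := fun _ => List ℕ) (rw642) (rw643) (Nat.ble 643 i)) (Nat.ble 642 i)) (Bool.rec (motive := fun _ => List ℕ) (Bool.rec (motive := fun _ => List ℕ) (rw644) (rw645) (Nat.ble 645 i)) (Bool.rec (motive := fun _ => List ℕ) (rw646) (rw647) (Nat.ble 647 i)) (Nat.ble 646 i)) (Nat.ble 644 i)) (Bool.rec (motive := fun _ => List ℕ) (Bool.rec (motive := fun _ => List ℕ) (Bool.rec (motive := fun _ => List ℕ) (rw648) (rw649) (Nat.ble 649 i)) (Bool.rec (motive := fun _ => List ℕ) (rw650) (rw651) (Nat.ble 651 i)) (Nat.ble 650 i)) (Bool.rec (motive := fun _ => List ℕ) (Bool.rec (motive := fun _ => List ℕ) (rw652) (rw653) (Nat.ble 653 i)) (Bool.rec (motive := fun _ => List ℕ) (rw654) (rw655) (Nat.ble 655 i)) (Nat.ble 654 i)) (Nat.ble 652 i)) (Nat.ble 648 i)) (Bool.rec (motive := fun _ => List ℕ) (Bool.rec (motive := fun _ => List ℕ) (Bool.rec (motive := fun _ => List ℕ) (Bool.rec (motive := fun _ => List ℕ) (rw656) (rw657) (Nat.ble 657 i)) (Bool.rec (motive := fun _ => List ℕ) (rw658) (rw659) (Nat.ble 659 i)) (Nat.ble 658 i)) (Bool.rec (motive := fun _ => List ℕ) (Bool.rec (motive := fun _ => List ℕ) (rw660) (rw661) (Nat.ble 661 i)) (Bool.rec (motive := fun _ => List ℕ) (rw662) (rw663) (Nat.ble 663 i)) (Nat.ble 662 i)) (Nat.ble 660 i)) (Bool.rec (motive := fun _ => List ℕ) (Bool.rec (motive := fun _ => List ℕ) (Bool.rec (motive := fun _ => List ℕ) (rw664) (rw665) (Nat.ble 665 i)) (Bool.rec (motive := fun _ => List ℕ) (rw666) (rw667) (Nat.ble 667 i)) (Nat.ble 666 i)) (Bool.rec (motive := fun _ => List ℕ) (Bool.rec (motive := fun _ => List ℕ) (rw668) (rw669) (Nat.ble 669 i)) (Bool.rec (motive := fun _ => List ℕ) (rw670) (rw671) (Nat.ble 671 i)) (Nat.ble 670 i)) (Nat.ble 668 i)) (Nat.ble 664 i)) (Nat.ble 656 i)) (Bool.rec (motive := fun _ => List ℕ) (Bool.rec (motive := fun _ => List ℕ) (Bool.rec (motive := fun _ => List ℕ) (Bool.rec (motive := fun _ => List ℕ) (Bool.rec (motive := fun _ => List ℕ) (rw672) (rw673) (Nat.ble 673 i)) (Bool.rec (motive := fun _ => List ℕ) (rw674) (rw675) (Nat.ble 675 i)) (Nat.ble 674 i)) (Bool.rec (motive := fun _ => List ℕ) (Bool.rec (motive := fun _ => List ℕ) (rw676) (rw677) (Nat.ble 677 i)) (Bool.rec (motive := fun _ => List ℕ) (rw678) (rw679) (Nat.ble 679 i)) (Nat.ble 678 i)) (Nat.ble 676 i)) (Bool.rec (motive := fun _ => List ℕ) (Bool.rec (motive := fun _ => List ℕ) (Bool.rec (motive := fun _ => List ℕ) (rw680) (rw681) (Nat.ble 681 i)) (Bool.rec (motive := fun _ => List ℕ) (rw682) (rw683) (Nat.ble 683 i)) (Nat.ble 682 i)) (Bool.rec (motive := fun _ => List ℕ) (Bool.rec (motive := fun _ => List ℕ) (rw684) (rw685) (Nat.ble 685 i)) (Bool.rec (motive := fun _ => List ℕ) (rw686) (rw687) (Nat.ble 687 i)) (Nat.ble 686 i)) (Nat.ble 684 i)) (Nat.ble 680 i)) (Bool.rec (motive := fun _ => List ℕ) (Bool.rec (motive := fun _ => List ℕ) (Bool.rec (motive := fun _ => List ℕ) (Bool.rec (motive := fun _ => List ℕ) (rw688) (rw689) (Nat.ble 689 i)) (Bool.rec (motive := fun _ => List ℕ) (rw690) (rw691) (Nat.ble 691 i)) (Nat.ble 690 i)) (Bool.rec (motive := fun _ => List ℕ) (Bool.rec (motive := fun _ => List ℕ) (rw692) (rw693) (Nat.ble 693 i)) (Bool.rec (motive := fun _ => List ℕ) (rw694) (rw695) (Nat.ble 695 i)) (Nat.ble 694 i)) (Nat.ble 692 i)) (Bool.rec (motive := fun _ => List ℕ) (Bool.rec (motive := fun _ => List ℕ) (Bool.rec (motive := fun _ => List ℕ) (rw696) (rw697) (Nat.ble 697 i)) (Bool.rec (motive := fun _ => List ℕ) (rw698) (rw699) (Nat.ble 699 i)) (Nat.ble 698 i)) (Bool.rec (motive := fun _ => List ℕ) (Bool.rec (motive := fun _ => List ℕ) (rw700) (rw701) (Nat.ble 701 i)) (Bool.rec (motive := fun _ => List ℕ) (rw702) (rw703) (Nat.ble 703 i)) (Nat.ble 702 i)) (Nat.ble 700 i)) (Nat.ble 696 i)) (Nat.ble 688 i)) (Nat.ble 672 i)) (Bool.rec (motive := fun _ => List ℕ) (Bool.rec (motive := fun _ => List ℕ) (Bool.rec (motive := fun _ => List ℕ) (Bool.rec (motive := fun _ => List ℕ) (Bool.rec (motive := fun _ => List ℕ) (Bool.rec (motive := fun _ => List ℕ) (rw704) (rw705) (Nat.ble 705 i)) (Bool.rec (motive := fun _ => List ℕ) (rw706) (rw707) (Nat.ble 707 i)) (Nat.ble 706 i)) (Bool.rec (motive := fun _ => List ℕ) (Bool.rec (motive := fun _ => List ℕ) (rw708) (rw709) (Nat.ble 709 i)) (Bool.rec (motive := fun _ => List ℕ) (rw710) (rw711) (Nat.ble 711 i)) (Nat.ble 710 i)) (Nat.ble 708 i)) (Bool.rec (motive := fun _ => List ℕ) (Bool.rec (motive := fun _ => List ℕ) (Bool.rec (motive := fun _ => List ℕ) (rw712) (rw713) (Nat.ble 713 i)) (Bool.rec (motive := fun _ => List ℕ) (rw714) (rw715) (Nat.ble 715 i)) (Nat.ble 714 i)) (Bool.rec (motive := fun _ => List ℕ) (Bool.rec (motive := fun _ => List ℕ) (rw716) (rw717) (Nat.ble 717 i)) (Bool.rec (motive := fun _ => List ℕ) (rw718) (rw719) (Nat.ble 719 i)) (Nat.ble 718 i)) (Nat.ble 716 i)) (Nat.ble 712 i)) (Bool.rec (motive := fun _ => List ℕ) (Bool.rec (motive := fun _ => List ℕ) (Bool.rec (motive := fun _ => List ℕ) (Bool.rec (motive := fun _ => List ℕ) (rw720) (rw721) (Nat.ble 721 i)) (Bool.rec (motive := fun _ => List ℕ) (rw722) (rw723) (Nat.ble 723 i)) (Nat.ble 722 i)) (Bool.rec (motive := fun _ => List ℕ) (Bool.rec (motive := fun _ => List ℕ) (rw724) (rw725) (Nat.ble 725 i)) (Bool.rec (motive := fun _ => List ℕ) (rw726) (rw727) (Nat.ble 727 i)) (Nat.ble 726 i)) (Nat.ble 724 i)) (Bool.rec (motive := fun _ => List ℕ) (Bool.rec (motive := fun _ => List ℕ) (Bool.rec (motive := fun _ => List ℕ) (rw728) (rw729) (Nat.ble 729 i)) (Bool.rec (motive := fun _ => List ℕ) (rw730) (rw731) (Nat.ble 731 i)) (Nat.ble 730 i)) (Bool.rec (motive := fun _ => List ℕ) (Bool.rec (motive := fun _ => List ℕ) (rw732) (rw733) (Nat.ble 733 i)) (Bool.rec (motive := fun _ => List ℕ) (rw734) (rw735) (Nat.ble 735 i)) (Nat.ble 734 i)) (Nat.ble 732 i)) (Nat.ble 728 i)) (Nat.ble 720 i)) (Bool.rec (motive := fun _ => List ℕ) (Bool.rec (motive := fun _ => List ℕ) (Bool.rec (motive := fun _ => List ℕ) (Bool.rec (motive := fun _ => List ℕ) (Bool.rec (motive := fun _ => List ℕ) (rw736) (rw737) (Nat.ble 737 i)) (Bool.rec (motive := fun _ => List ℕ) (rw738) (rw739) (Nat.ble 739 i)) (Nat.ble 738 i)) (Bool.rec (motive := fun _ => List ℕ) (Bool.rec (motive := fun _ => List ℕ) (rw740) (rw741) (Nat.ble 741 i)) (Bool.rec (motive := fun _ => List ℕ) (rw742) (rw743) (Nat.ble 743 i)) (Nat.ble 742 i)) (Nat.ble 740 i)) (Bool.rec (motive := fun _ => List ℕ) (Bool.rec (motive := fun _ => List ℕ) (Bool.rec (motive := fun _ => List ℕ) (rw744) (rw745) (Nat.ble 745 i)) (Bool.rec (motive := fun _ => List ℕ) (rw746) (rw747) (Nat.ble 747 i)) (Nat.ble 746 i)) (Bool.rec (motive := fun _ => List ℕ) (Bool.rec (motive := fun _ => List ℕ) (rw748) (rw749) (Nat.ble 749 i)) (Bool.rec (motive := fun _ => List ℕ) (rw750) (rw751) (Nat.ble 751 i)) (Nat.ble 750 i)) (Nat.ble 748 i)) (Nat.ble 744 i)) (Bool.rec (motive := fun _ => List ℕ) (Bool.rec (motive := fun _ => List ℕ) (Bool.rec (motive := fun _ => List ℕ) (Bool.rec (motive := fun _ => List ℕ) (rw752) (rw753) (Nat.ble 753 i)) (Bool.rec (motive := fun _ => List ℕ) (rw754) (rw755) (Nat.ble 755 i)) (Nat.ble 754 i)) (Bool.rec (motive := fun _ => List ℕ) (Bool.rec (motive := fun _ => List ℕ) (rw756) (rw757) (Nat.ble 757 i)) (Bool.rec (motive := fun _ => List ℕ) (rw758) (rw759) (Nat.ble 759 i)) (Nat.ble 758 i)) (Nat.ble 756 i)) (Bool.rec (motive := fun _ => List ℕ) (Bool.rec (motive := fun _ => List ℕ) (Bool.rec (motive := fun _ => List ℕ) (rw760) (rw761) (Nat.ble 761 i)) (Bool.rec (motive := fun _ => List ℕ) (rw762) (rw763) (Nat.ble 763 i)) (Nat.ble 762 i)) (Bool.rec (motive := fun _ => List ℕ) (Bool.rec (motive := fun _ => List ℕ) (rw764) (rw765) (Nat.ble 765 i)) (Bool.rec (motive := fun _ => List ℕ) (rw766) (rw767) (Nat.ble 767 i)) (Nat.ble 766 i)) (Nat.ble 764 i)) (Nat.ble 760 i)) (Nat.ble 752 i)) (Nat.ble 736 i)) (Nat.ble 704 i)) (Nat.ble 640 i)) (Bool.rec (motive := fun _ => List ℕ) (Bool.rec (motive := fun _ => List ℕ) (Bool.rec (motive := fun _ => List ℕ) (Bool.rec (motive := fun _ => List ℕ) (Bool.rec (motive := fun _ => List ℕ) (Bool.rec (motive := fun _ => List ℕ) (Bool.rec (motive := fun _ => List ℕ) (Bool.rec (motive := fun _ => List ℕ) (rw768) (rw769) (Nat.ble 769 i)) (Bool.rec (motive := fun _ => List ℕ) (rw770) (rw771) (Nat.ble 771 i)) (Nat.ble 770 i)) (Bool.rec (motive := fun _ => List ℕ) (Bool.rec (motive := fun _ => List ℕ) (rw772) (rw773) (Nat.ble 773 i)) (Bool.rec (motive := fun _ => List ℕ) (rw774) (rw775) (Nat.ble 775 i)) (Nat.ble 774 i)) (Nat.ble 772 i)) (Bool.rec (motive := fun _ => List ℕ) (Bool.rec (motive := fun _ => List ℕ) (Bool.rec (motive := fun _ => List ℕ) (rw776) (rw777) (Nat.ble 777 i)) (Bool.rec (motive := fun _ => List ℕ) (rw778) (rw779) (Nat.ble 779 i)) (Nat.ble 778 i)) (Bool.rec (motive := fun _ => List ℕ) (Bool.rec (motive := fun _ => List ℕ) (rw780) (rw781) (Nat.ble 781 i)) (Bool.rec (motive := fun _ => List ℕ) (rw782) (rw783) (Nat.ble 783 i)) (Nat.ble 782 i)) (Nat.ble 780 i)) (Nat.ble 776 i)) (Bool.rec (motive := fun _ => List ℕ) (Bool.rec (motive := fun _ => List ℕ) (Bool.rec (motive := fun _ => List ℕ) (Bool.rec (motive := fun _ => List ℕ) (rw784) (rw785) (Nat.ble 785 i)) (Bool.rec (motive := fun _ => List ℕ) (rw786) (rw787) (Nat.ble 787 i)) (Nat.ble 786 i)) (Bool.rec (motive := fun _ => List ℕ) (Bool.rec (motive := fun _ => List ℕ) (rw788) (rw789) (Nat.ble 789 i)) (Bool.rec (motive := fun _ => List ℕ) (rw790) (rw791) (Nat.ble 791 i)) (Nat.ble 790 i)) (Nat.ble 788 i)) (Bool.rec (motive := fun _ => List ℕ) (Bool.rec (motive := fun _ => List ℕ) (Bool.rec (motive := fun _ => List ℕ) (rw792) (rw793) (Nat.ble 793 i)) (Bool.rec (motive := fun _ => List ℕ) (rw794) (rw795) (Nat.ble 795 i)) (Nat.ble 794 i)) (Bool.rec (motive := fun _ => List ℕ) (Bool.rec (motive := fun _ => List ℕ) (rw796) (rw797) (Nat.ble 797 i)) (Bool.rec (motive := fun _ => List ℕ) (rw798) (rw799) (Nat.ble 799 i)) (Nat.ble 798 i)) (Nat.ble 796 i)) (Nat.ble 792 i)) (Nat.ble 784 i)) (Bool.rec (motive := fun _ => List ℕ) (Bool.rec (motive := fun _ => List ℕ) (Bool.rec (motive := fun _ => List ℕ) (Bool.rec (motive := fun _ => List ℕ) (Bool.rec (motive := fun _ => List ℕ) (rw800) (rw801) (Nat.ble 801 i)) (Bool.rec (motive := fun _ => List ℕ) (rw802) (rw803) (Nat.ble 803 i)) (Nat.ble 802 i)) (Bool.rec (motive := fun _ => List ℕ) (Bool.rec (motive := fun _ => List ℕ) (rw804) (rw805) (Nat.ble 805 i)) (Bool.rec (motive := fun _ => List ℕ) (rw806) (rw807) (Nat.ble 807 i)) (Nat.ble 806 i)) (Nat.ble 804 i)) (Bool.rec (motive := fun _ => List ℕ) (Bool.rec (motive := fun _ => List ℕ) (Bool.rec (motive := fun _ => List ℕ) (rw808) (rw809) (Nat.ble 809 i)) (Bool.rec (motive := fun _ => List ℕ) (rw810) (rw811) (Nat.ble 811 i)) (Nat.ble 810 i)) (Bool.rec (motive := fun _ => List ℕ) (Bool.rec (motive := fun _ => List ℕ) (rw812) (rw813) (Nat.ble 813 i)) (Bool.rec (motive := fun _ => List ℕ) (rw814) (rw815) (Nat.ble 815 i)) (Nat.ble 814 i)) (Nat.ble 812 i)) (Nat.ble 808 i)) (Bool.rec (motive := fun _ => List ℕ) (Bool.rec (motive := fun _ => List ℕ) (Bool.rec (motive := fun _ => List ℕ) (Bool.rec (motive := fun _ => List ℕ) (rw816) (rw817) (Nat.ble 817 i)) (Bool.rec (motive := fun _ => List ℕ) (rw818) (rw819) (Nat.ble 819 i)) (Nat.ble 818 i)) (Bool.rec (motive := fun _ => List ℕ) (Bool.rec (motive := fun _ => List ℕ) (rw820) (rw821) (Nat.ble 821 i)) (Bool.rec (motive := fun _ => List ℕ) (rw822) (rw823) (Nat.ble 823 i)) (Nat.ble 822 i)) (Nat.ble 820 i)) (Bool.rec (motive := fun _ => List ℕ) (Bool.rec (motive := fun _ => List ℕ) (Bool.rec (motive := fun _ => List ℕ) (rw824) (rw825) (Nat.ble 825 i)) (Bool.rec (motive := fun _ => List ℕ) (rw826) (rw827) (Nat.ble 827 i)) (Nat.ble 826 i)) (Bool.rec (motive := fun _ => List ℕ) (Bool.rec (motive := fun _ => List ℕ) (rw828) (rw829) (Nat.ble 829 i)) (Bool.rec (motive := fun _ => List ℕ) (rw830) (rw831) (Nat.ble 831 i)) (Nat.ble 830 i)) (Nat.ble 828 i)) (Nat.ble 824 i)) (Nat.ble 816 i)) (Nat.ble 800 i)) (Bool.rec (motive := fun _ => List ℕ) (Bool.rec (motive := fun _ => List ℕ) (Bool.rec (motive := fun _ => List ℕ) (Bool.rec (motive := fun _ => List ℕ) (Bool.rec (motive := fun _ => List ℕ) (Bool.rec (motive := fun _ => List ℕ) (rw832) (rw833) (Nat.ble 833 i)) (Bool.rec (motive := fun _ => List ℕ) (rw834) (rw835) (Nat.ble 835 i)) (Nat.ble 834 i)) (Bool.rec (motive := fun _ => List ℕ) (Bool.rec (motive := fun _ => List ℕ) (rw836) (rw837) (Nat.ble 837 i)) (Bool.rec (motive := fun _ => List ℕ) (rw838) (rw839) (Nat.ble 839 i)) (Nat.ble 838 i)) (Nat.ble 836 i)) (Bool.rec (motive := fun _ => List ℕ) (Bool.rec (motive := fun _ => List ℕ) (Bool.rec (motive := fun _ => List ℕ) (rw840) (rw841) (Nat.ble 841 i)) (Bool.rec (motive := fun _ => List ℕ) (rw842) (rw843) (Nat.ble 843 i)) (Nat.ble 842 i)) (Bool.rec (motive := fun _ => List ℕ) (Bool.rec (motive := fun _ => List ℕ) (rw844) (rw845) (Nat.ble 845 i)) (Bool.rec (motive := fun _ => List ℕ) (rw846) (rw847) (Nat.ble 847 i)) (Nat.ble 846 i)) (Nat.ble 844 i)) (Nat.ble 840 i)) (Bool.rec (motive := fun _ => List ℕ) (Bool.rec (motive := fun _ => List ℕ) (Bool.rec (motive := fun _ => List ℕ) (Bool.rec (motive := fun _ => List ℕ) (rw848) (rw849) (Nat.ble 849 i)) (Bool.rec (motive := fun _ => List ℕ) (rw850) (rw851) (Nat.ble 851 i)) (Nat.ble 850 i)) (Bool.rec (motive := fun _ => List ℕ) (Bool.rec (motive := fun _ => List ℕ) (rw852) (rw853) (Nat.ble 853 i)) (Bool.rec (motive := fun _ => List ℕ) (rw854) (rw855) (Nat.ble 855 i)) (Nat.ble 854 i)) (Nat.ble 852 i)) (Bool.rec (motive := fun _ => List ℕ) (Bool.rec (motive := fun _ => List ℕ) (Bool.rec (motive := fun _ => List ℕ) (rw856) (rw857) (Nat.ble 857 i)) (Bool.rec (motive := fun _ => List ℕ) (rw858) (rw859) (Nat.ble 859 i)) (Nat.ble 858 i)) (Bool.rec (motive := fun _ => List ℕ) (Bool.rec (motive := fun _ => List ℕ) (rw860) (rw861) (Nat.ble 861 i)) (Bool.rec (motive := fun _ => List ℕ) (rw862) (rw863) (Nat.ble 863 i)) (Nat.ble 862 i)) (Nat.ble 860 i)) (Nat.ble 856 i)) (Nat.ble 848 i)) (Bool.rec (motive := fun _ => List ℕ) (Bool.rec (motive := fun _ => List ℕ) (Bool.rec (motive := fun _ => List ℕ) (Bool.rec (motive := fun _ => List ℕ) (Bool.rec (motive := fun _ => List ℕ) (rw864) (rw865) (Nat.ble 865 i)) (Bool.rec (motive := fun _ => List ℕ) (rw866) (rw867) (Nat.ble 867 i)) (Nat.ble 866 i)) (Bool.rec (motive := fun _ => List ℕ) (Bool.rec (motive := fun _ => List ℕ) (rw868) (rw869) (Nat.ble 869 i)) (Bool.rec (motive := fun _ => List ℕ) (rw870) (rw871) (Nat.ble 871 i)) (Nat.ble 870 i)) (Nat.ble 868 i)) (Bool.rec (motive := fun _ => List ℕ) (Bool.rec (motive := fun _ => List ℕ) (Bool.rec (motive := fun _ => List ℕ) (rw872) (rw873) (Nat.ble 873 i)) (Bool.rec (motive := fun _ => List ℕ) (rw874) (rw875) (Nat.ble 875 i)) (Nat.ble 874 i)) (Bool.rec (motive := fun _ => List ℕ) (Bool.rec (motive := fun _ => List ℕ) (rw876) (rw877) (Nat.ble 877 i)) (Bool.rec (motive := fun _ => List ℕ) (rw878) (rw879) (Nat.ble 879 i)) (Nat.ble 878 i)) (Nat.ble 876 i)) (Nat.ble 872 i)) (Bool.rec (motive := fun _ => List ℕ) (Bool.rec (motive := fun _ => List ℕ) (Bool.rec (motive := fun _ => List ℕ) (Bool.rec (motive := fun _ => List ℕ) (rw880) (rw881) (Nat.ble 881 i)) (Bool.rec (motive := fun _ => List ℕ) (rw882) (rw883) (Nat.ble 883 i)) (Nat.ble 882 i)) (Bool.rec (motive := fun _ => List ℕ) (Bool.rec (motive := fun _ => List ℕ) (rw884) (rw885) (Nat.ble 885 i)) (Bool.rec (motive := fun _ => List ℕ) (rw886) (rw887) (Nat.ble 887 i)) (Nat.ble 886 i)) (Nat.ble 884 i)) (Bool.rec (motive := fun _ => List ℕ) (Bool.rec (motive := fun _ => List ℕ) (Bool.rec (motive := fun _ => List ℕ) (rw888) (rw889) (Nat.ble 889 i)) (Bool.rec (motive := fun _ => List ℕ) (rw890) (rw891) (Nat.ble 891 i)) (Nat.ble 890 i)) (Bool.rec (motive := fun _ => List ℕ) (Bool.rec (motive := fun _ => List ℕ) (rw892) (rw893) (Nat.ble 893 i)) (Bool.rec (motive := fun _ => List ℕ) (rw894) (rw895) (Nat.ble 895 i)) (Nat.ble 894 i)) (Nat.ble 892 i)) (Nat.ble 888 i)) (Nat.ble 880 i)) (Nat.ble 864 i)) (Nat.ble 832 i)) (Bool.rec (motive := fun _ => List ℕ) (Bool.rec (motive := fun _ => List ℕ) (Bool.rec (motive := fun _ => List ℕ) (Bool.rec (motive := fun _ => List ℕ) (Bool.rec (motive := fun _ => List ℕ) (Bool.rec (motive := fun _ => List ℕ) (Bool.rec (motive := fun _ => List ℕ) (rw896) (rw897) (Nat.ble 897 i)) (Bool.rec (motive := fun _ => List ℕ) (rw898) (rw899) (Nat.ble 899 i)) (Nat.ble 898 i)) (Bool.rec (motive := fun _ => List ℕ) (Bool.rec (motive := fun _ => List ℕ) (rw900) (rw901) (Nat.ble 901 i)) (Bool.rec (motive := fun _ => List ℕ) (rw902) (rw903) (Nat.ble 903 i)) (Nat.ble 902 i)) (Nat.ble 900 i)) (Bool.rec (motive := fun _ => List ℕ) (Bool.rec (motive := fun _ => List ℕ) (Bool.rec (motive := fun _ => List ℕ) (rw904) (rw905) (Nat.ble 905 i)) (Bool.rec (motive := fun _ => List ℕ) (rw906) (rw907) (Nat.ble 907 i)) (Nat.ble 906 i)) (Bool.rec (motive := fun _ => List ℕ) (Bool.rec (motive := fun _ => List ℕ) (rw908) (rw909) (Nat.ble 909 i)) (Bool.rec (motive := fun _ => List ℕ) (rw910) (rw911) (Nat.ble 911 i)) (Nat.ble 910 i)) (Nat.ble 908 i)) (Nat.ble 904 i)) (Bool.rec (motive := fun _ => List ℕ) (Bool.rec (motive := fun _ => List ℕ) (Bool.rec (motive := fun _ => List ℕ) (Bool.rec (motive := fun _ => List ℕ) (rw912) (rw913) (Nat.ble 913 i)) (Bool.rec (motive := fun _ => List ℕ) (rw914) (rw915) (Nat.ble 915 i)) (Nat.ble 914 i)) (Bool.rec (motive := fun _ => List ℕ) (Bool.rec (motive := fun _ => List ℕ) (rw916) (rw917) (Nat.ble 917 i)) (Bool.rec (motive := fun _ => List ℕ) (rw918) (rw919) (Nat.ble 919 i)) (Nat.ble 918 i)) (Nat.ble 916 i)) (Bool.rec (motive := fun _ => List ℕ) (Bool.rec (motive := fun _ => List ℕ) (Bool.rec (motive := fun _ => List ℕ) (rw920) (rw921) (Nat.ble 921 i)) (Bool.rec (motive := fun _ => List ℕ) (rw922) (rw923) (Nat.ble 923 i)) (Nat.ble 922 i)) (Bool.rec (motive := fun _ => List ℕ) (Bool.rec (motive := fun _ => List ℕ) (rw924) (rw925) (Nat.ble 925 i)) (Bool.rec (motive := fun _ => List ℕ) (rw926) (rw927) (Nat.ble 927 i)) (Nat.ble 926 i)) (Nat.ble 924 i)) (Nat.ble 920 i)) (Nat.ble 912 i)) (Bool.rec (motive := fun _ => List ℕ) (Bool.rec (motive := fun _ => List ℕ) (Bool.rec (motive := fun _ => List ℕ) (Bool.rec (motive := fun _ => List ℕ) (Bool.rec (motive := fun _ => List ℕ) (rw928) (rw929) (Nat.ble 929 i)) (Bool.rec (motive := fun _ => List ℕ) (rw930) (rw931) (Nat.ble 931 i)) (Nat.ble 930 i)) (Bool.rec (motive := fun _ => List ℕ) (Bool.rec (motive := fun _ => List ℕ) (rw932) (rw933) (Nat.ble 933 i)) (Bool.rec (motive := fun _ => List ℕ) (rw934) (rw935) (Nat.ble 935 i)) (Nat.ble 934 i)) (Nat.ble 932 i)) (Bool.rec (motive := fun _ => List ℕ) (Bool.rec (motive := fun _ => List ℕ) (Bool.rec (motive := fun _ => List ℕ) (rw936) (rw937) (Nat.ble 937 i)) (Bool.rec (motive := fun _ => List ℕ) (rw938) (rw939) (Nat.ble 939 i)) (Nat.ble 938 i)) (Bool.rec (motive := fun _ => List ℕ) (Bool.rec (motive := fun _ => List ℕ) (rw940) (rw941) (Nat.ble 941 i)) (Bool.rec (motive := fun _ => List ℕ) (rw942) (rw943) (Nat.ble 943 i)) (Nat.ble 942 i)) (Nat.ble 940 i)) (Nat.ble 936 i)) (Bool.rec (motive := fun _ => List ℕ) (Bool.rec (motive := fun _ => List ℕ) (Bool.rec (motive := fun _ => List ℕ) (Bool.rec (motive := fun _ => List ℕ) (rw944) (rw945) (Nat.ble 945 i)) (Bool.rec (motive := fun _ => List ℕ) (rw946) (rw947) (Nat.ble 947 i)) (Nat.ble 946 i)) (Bool.rec (motive := fun _ => List ℕ) (Bool.rec (motive := fun _ => List ℕ) (rw948) (rw949) (Nat.ble 949 i)) (Bool.rec (motive := fun _ => List ℕ) (rw950) (rw951) (Nat.ble 951 i)) (Nat.ble 950 i)) (Nat.ble 948 i)) (Bool.rec (motive := fun _ => List ℕ) (Bool.rec (motive := fun _ => List ℕ) (Bool.rec (motive := fun _ => List ℕ) (rw952) (rw953) (Nat.ble 953 i)) (Bool.rec (motive := fun _ => List ℕ) (rw954) (rw955) (Nat.ble 955 i)) (Nat.ble 954 i)) (Bool.rec (motive := fun _ => List ℕ) (Bool.rec (motive := fun _ => List ℕ) (rw956) (rw957) (Nat.ble 957 i)) (Bool.rec (motive := fun _ => List ℕ) (rw958) (rw959) (Nat.ble 959 i)) (Nat.ble 958 i)) (Nat.ble 956 i)) (Nat.ble 952 i)) (Nat.ble 944 i)) (Nat.ble 928 i)) (Bool.rec (motive := fun _ => List ℕ) (Bool.rec (motive := fun _ => List ℕ) (Bool.rec (motive := fun _ => List ℕ) (Bool.rec (motive := fun _ => List ℕ) (Bool.rec (motive := fun _ => List ℕ) (Bool.rec (motive := fun _ => List ℕ) (rw960) (rw961) (Nat.ble 961 i)) (Bool.rec (motive := fun _ => List ℕ) (rw962) (rw963) (Nat.ble 963 i)) (Nat.ble 962 i)) (Bool.rec (motive := fun _ => List ℕ) (Bool.rec (motive := fun _ => List ℕ) (rw964) (rw965) (Nat.ble 965 i)) (Bool.rec (motive := fun _ => List ℕ) (rw966) (rw967) (Nat.ble 967 i)) (Nat.ble 966 i)) (Nat.ble 964 i)) (Bool.rec (motive := fun _ => List ℕ) (Bool.rec (motive := fun _ => List ℕ) (Bool.rec (motive := fun _ => List ℕ) (rw968) (rw969) (Nat.ble 969 i)) (Bool.rec (motive := fun _ => List ℕ) (rw970) (rw971) (Nat.ble 971 i)) (Nat.ble 970 i)) (Bool.rec (motive := fun _ => List ℕ) (Bool.rec (motive := fun _ => List ℕ) (rw972) (rw973) (Nat.ble 973 i)) (Bool.rec (motive := fun _ => List ℕ) (rw974) (rw975) (Nat.ble 975 i)) (Nat.ble 974 i)) (Nat.ble 972 i)) (Nat.ble 968 i)) (Bool.rec (motive := fun _ => List ℕ) (Bool.rec (motive := fun _ => List ℕ) (Bool.rec (motive := fun _ => List ℕ) (Bool.rec (motive := fun _ => List ℕ) (rw976) (rw977) (Nat.ble 977 i)) (Bool.rec (motive := fun _ => List ℕ) (rw978) (rw979) (Nat.ble 979 i)) (Nat.ble 978 i)) (Bool.rec (motive := fun _ => List ℕ) (Bool.rec (motive := fun _ => List ℕ) (rw980) (rw981) (Nat.ble 981 i)) (Bool.rec (motive := fun _ => List ℕ) (rw982) (rw983) (Nat.ble 983 i)) (Nat.ble 982 i)) (Nat.ble 980 i)) (Bool.rec (motive := fun _ => List ℕ) (Bool.rec (motive := fun _ => List ℕ) (Bool.rec (motive := fun _ => List ℕ) (rw984) (rw985) (Nat.ble 985 i)) (Bool.rec (motive := fun _ => List ℕ) (rw986) (rw987) (Nat.ble 987 i)) (Nat.ble 986 i)) (Bool.rec (motive := fun _ => List ℕ) (Bool.rec (motive := fun _ => List ℕ) (rw988) (rw989) (Nat.ble 989 i)) (Bool.rec (motive := fun _ => List ℕ) (rw990) (rw991) (Nat.ble 991 i)) (Nat.ble 990 i)) (Nat.ble 988 i)) (Nat.ble 984 i)) (Nat.ble 976 i)) (Bool.rec (motive := fun _ => List ℕ) (Bool.rec (motive := fun _ => List ℕ) (Bool.rec (motive := fun _ => List ℕ) (Bool.rec (motive := fun _ => List ℕ) (Bool.rec (motive := fun _ => List ℕ) (rw992) (rw993) (Nat.ble 993 i)) (Bool.rec (motive := fun _ => List ℕ) (rw994) (rw995) (Nat.ble 995 i)) (Nat.ble 994 i)) (Bool.rec (motive := fun _ => List ℕ) (Bool.rec (motive := fun _ => List ℕ) (rw996) (rw997) (Nat.ble 997 i)) (Bool.rec (motive := fun _ => List ℕ) (rw998) (rw999) (Nat.ble 999 i)) (Nat.ble 998 i)) (Nat.ble 996 i)) (Bool.rec (motive := fun _ => List ℕ) (Bool.rec (motive := fun _ => List ℕ) (Bool.rec (motive := fun _ => List ℕ) (rw1000) (rw1001) (Nat.ble 1001 i)) (Bool.rec (motive := fun _ => List ℕ) (rw1002) (rw1003) (Nat.ble 1003 i)) (Nat.ble 1002 i)) (Bool.rec (motive := fun _ => List ℕ) (Bool.rec (motive := fun _ => List ℕ) (rw1004) (rw1005) (Nat.ble 1005 i)) (Bool.rec (motive := fun _ => List ℕ) (rw1006) (rw1007) (Nat.ble 1007 i)) (Nat.ble 1006 i)) (Nat.ble 1004 i)) (Nat.ble 1000 i)) (Bool.rec (motive := fun _ => List ℕ) (Bool.rec (motive := fun _ => List ℕ) (Bool.rec (motive := fun _ => List ℕ) (Bool.rec (motive := fun _ => List ℕ) (rw1008) (rw1009) (Nat.ble 1009 i)) (Bool.rec (motive := fun _ => List ℕ) (rw1010) (rw1011) (Nat.ble 1011 i)) (Nat.ble 1010 i)) (Bool.rec (motive := fun _ => List ℕ) (Bool.rec (motive := fun _ => List ℕ) (rw1012) (rw1013) (Nat.ble 1013 i)) (Bool.rec (motive := fun _ => List ℕ) (rw1014) (rw1015) (Nat.ble 1015 i)) (Nat.ble 1014 i)) (Nat.ble 1012 i)) (Bool.rec (motive := fun _ => List ℕ) (Bool.rec (motive := fun _ => List ℕ) (Bool.rec (motive := fun _ => List ℕ) (rw1016) (rw1017) (Nat.ble 1017 i)) (Bool.rec (motive := fun _ => List ℕ) (rw1018) (rw1019) (Nat.ble 1019 i)) (Nat.ble 1018 i)) (Bool.rec (motive := fun _ => List ℕ) (Bool.rec (motive := fun _ => List ℕ) (rw1020) (rw1021) (Nat.ble 1021 i)) (Bool.rec (motive := fun _ => List ℕ) (rw1022) (rw1023) (Nat.ble 1023 i)) (Nat.ble 1022 i)) (Nat.ble 1020 i)) (Nat.ble 1016 i)) (Nat.ble 1008 i)) (Nat.ble 992 i)) (Nat.ble 960 i)) (Nat.ble 896 i)) (Nat.ble 768 i)) (Nat.ble 512 i)) (Bool.rec (motive := fun _ => List ℕ) (Bool.rec (motive := fun _ => List ℕ) (Bool.rec (motive := fun _ => List ℕ) (Bool.rec (motive := fun _ => List ℕ) (Bool.rec (motive := fun _ => List ℕ) (Bool.rec (motive := fun _ => List ℕ) (Bool.rec (motive := fun _ => List ℕ) (Bool.rec (motive := fun _ => List ℕ) (Bool.rec (motive := fun _ => List ℕ) (Bool.rec (motive := fun _ => List ℕ) (rw1024) (rw1025) (Nat.ble 1025 i)) (Bool.rec (motive := fun _ => List ℕ) (rw1026) (rw1027) (Nat.ble 1027 i)) (Nat.ble 1026 i)) (Bool.rec (motive := fun _ => List ℕ) (Bool.rec (motive := fun _ => List ℕ) (rw1028) (rw1029) (Nat.ble 1029 i)) (Bool.rec (motive := fun _ => List ℕ) (rw1030) (rw1031) (Nat.ble 1031 i)) (Nat.ble 1030 i)) (Nat.ble 1028 i)) (Bool.rec (motive := fun _ => List ℕ) (Bool.rec (motive := fun _ => List ℕ) (Bool.rec (motive := fun _ => List ℕ) (rw1032) (rw1033) (Nat.ble 1033 i)) (Bool.rec (motive := fun _ => List ℕ) (rw1034) (rw1035) (Nat.ble 1035 i)) (Nat.ble 1034 i)) (Bool.rec (motive := fun _ => List ℕ) (Bool.rec (motive := fun _ => List ℕ) (rw1036) (rw1037) (Nat.ble 1037 i)) (Bool.rec (motive := fun _ => List ℕ) (rw1038) (rw1039) (Nat.ble 1039 i)) (Nat.ble 1038 i)) (Nat.ble 1036 i)) (Nat.ble 1032 i)) (Bool.rec (motive := fun _ => List ℕ) (Bool.rec (motive := fun _ => List ℕ) (Bool.rec (motive := fun _ => List ℕ) (Bool.rec (motive := fun _ => List ℕ) (rw1040) (rw1041) (Nat.ble 1041 i)) (Bool.rec (motive := fun _ => List ℕ) (rw1042) (rw1043) (Nat.ble 1043 i)) (Nat.ble 1042 i)) (Bool.rec (motive := fun _ => List ℕ) (Bool.rec (motive := fun _ => List ℕ) (rw1044) (rw1045) (Nat.ble 1045 i)) (Bool.rec (motive := fun _ => List ℕ) (rw1046) (rw1047) (Nat.ble 1047 i)) (Nat.ble 1046 i)) (Nat.ble 1044 i)) (Bool.rec (motive := fun _ => List ℕ) (Bool.rec (motive := fun _ => List ℕ) (Bool.rec (motive := fun _ => List ℕ) (rw1048) (rw1049) (Nat.ble 1049 i)) (Bool.rec (motive := fun _ => List ℕ) (rw1050) (rw1051) (Nat.ble 1051 i)) (Nat.ble 1050 i)) (Bool.rec (motive := fun _ => List ℕ) (Bool.rec (motive := fun _ => List ℕ) (rw1052) (rw1053) (Nat.ble 1053 i)) (Bool.rec (motive := fun _ => List ℕ) (rw1054) (rw1055) (Nat.ble 1055 i)) (Nat.ble 1054 i)) (Nat.ble 1052 i)) (Nat.ble 1048 i)) (Nat.ble 1040 i)) (Bool.rec (motive := fun _ => List ℕ) (Bool.rec (motive := fun _ => List ℕ) (Bool.rec (motive := fun _ => List ℕ) (Bool.rec (motive := fun _ => List ℕ) (Bool.rec (motive := fun _ => List ℕ) (rw1056) (rw1057) (Nat.ble 1057 i)) (Bool.rec (motive := fun _ => List ℕ) (rw1058) (rw1059) (Nat.ble 1059 i)) (Nat.ble 1058 i)) (Bool.rec (motive := fun _ => List ℕ) (Bool.rec (motive := fun _ => List ℕ) (rw1060) (rw1061) (Nat.ble 1061 i)) (Bool.rec (motive := fun _ => List ℕ) (rw1062) (rw1063) (Nat.ble 1063 i)) (Nat.ble 1062 i)) (Nat.ble 1060 i)) (Bool.rec (motive := fun _ => List ℕ) (Bool.rec (motive := fun _ => List ℕ) (Bool.rec (motive := fun _ => List ℕ) (rw1064) (rw1065) (Nat.ble 1065 i)) (Bool.rec (motive := fun _ => List ℕ) (rw1066) (rw1067) (Nat.ble 1067 i)) (Nat.ble 1066 i)) (Bool.rec (motive := fun _ => List ℕ) (Bool.rec (motive := fun _ => List ℕ) (rw1068) (rw1069) (Nat.ble 1069 i)) (Bool.rec (motive := fun _ => List ℕ) (rw1070) (rw1071) (Nat.ble 1071 i)) (Nat.ble 1070 i)) (Nat.ble 1068 i)) (Nat.ble 1064 i)) (Bool.rec (motive := fun _ => List ℕ) (Bool.rec (motive := fun _ => List ℕ) (Bool.rec (motive := fun _ => List ℕ) (Bool.rec (motive := fun _ => List ℕ) (rw1072) (rw1073) (Nat.ble 1073 i)) (Bool.rec (motive := fun _ => List ℕ) (rw1074) (rw1075) (Nat.ble 1075 i)) (Nat.ble 1074 i)) (Bool.rec (motive := fun _ => List ℕ) (Bool.rec (motive := fun _ => List ℕ) (rw1076) (rw1077) (Nat.ble 1077 i)) (Bool.rec (motive := fun _ => List ℕ) (rw1078) (rw1079) (Nat.ble 1079 i)) (Nat.ble 1078 i)) (Nat.ble 1076 i)) (Bool.rec (motive := fun _ => List ℕ) (Bool.rec (motive := fun _ => List ℕ) (Bool.rec (motive := fun _ => List ℕ) (rw1080) (rw1081) (Nat.ble 1081 i)) (Bool.rec (motive := fun _ => List ℕ) (rw1082) (rw1083) (Nat.ble 1083 i)) (Nat.ble 1082 i)) (Bool.rec (motive := fun _ => List ℕ) (Bool.rec (motive := fun _ => List ℕ) (rw1084) (rw1085) (Nat.ble 1085 i)) (Bool.rec (motive := fun _ => List ℕ) (rw1086) (rw1087) (Nat.ble 1087 i)) (Nat.ble 1086 i)) (Nat.ble 1084 i)) (Nat.ble 1080 i)) (Nat.ble 1072 i)) (Nat.ble 1056 i)) (Bool.rec (motive := fun _ => List ℕ) (Bool.rec (motive := fun _ => List ℕ) (Bool.rec (motive := fun _ => List ℕ) (Bool.rec (motive := fun _ => List ℕ) (Bool.rec (motive := fun _ => List ℕ) (Bool.rec (motive := fun _ => List ℕ) (rw1088) (rw1089) (Nat.ble 1089 i)) (Bool.rec (motive := fun _ => List ℕ) (rw1090) (rw1091) (Nat.ble 1091 i)) (Nat.ble 1090 i)) (Bool.rec (motive := fun _ => List ℕ) (Bool.rec (motive := fun _ => List ℕ) (rw1092) (rw1093) (Nat.ble 1093 i)) (Bool.rec (motive := fun _ => List ℕ) (rw1094) (rw1095) (Nat.ble 1095 i)) (Nat.ble 1094 i)) (Nat.ble 1092 i)) (Bool.rec (motive := fun _ => List ℕ) (Bool.rec (motive := fun _ => List ℕ) (Bool.rec (motive := fun _ => List ℕ) (rw1096) (rw1097) (Nat.ble 1097 i)) (Bool.rec (motive := fun _ => List ℕ) (rw1098) (rw1099) (Nat.ble 1099 i)) (Nat.ble 1098 i)) (Bool.rec (motive := fun _ => List ℕ) (Bool.rec (motive := fun _ => List ℕ) (rw1100) (rw1101) (Nat.ble 1101 i)) (Bool.rec (motive := fun _ => List ℕ) (rw1102) (rw1103) (Nat.ble 1103 i)) (Nat.ble 1102 i)) (Nat.ble 1100 i)) (Nat.ble 1096 i)) (Bool.rec (motive := fun _ => List ℕ) (Bool.rec (motive := fun _ => List ℕ) (Bool.rec (motive := fun _ => List ℕ) (Bool.rec (motive := fun _ => List ℕ) (rw1104) (rw1105) (Nat.ble 1105 i)) (Bool.rec (motive := fun _ => List ℕ) (rw1106) (rw1107) (Nat.ble 1107 i)) (Nat.ble 1106 i)) (Bool.rec (motive := fun _ => List ℕ) (Bool.rec (motive := fun _ => List ℕ) (rw1108) (rw1109) (Nat.ble 1109 i)) (Bool.rec (motive := fun _ => List ℕ) (rw1110) (rw1111) (Nat.ble 1111 i)) (Nat.ble 1110 i)) (Nat.ble 1108 i)) (Bool.rec (motive := fun _ => List ℕ) (Bool.rec (motive := fun _ => List ℕ) (Bool.rec (motive := fun _ => List ℕ) (rw1112) (rw1113) (Nat.ble 1113 i)) (Bool.rec (motive := fun _ => List ℕ) (rw1114) (rw1115) (Nat.ble 1115 i)) (Nat.ble 1114 i)) (Bool.rec (motive := fun _ => List ℕ) (Bool.rec (motive := fun _ => List ℕ) (rw1116) (rw1117) (Nat.ble 1117 i)) (Bool.rec (motive := fun _ => List ℕ) (rw1118) (rw1119) (Nat.ble 1119 i)) (Nat.ble 1118 i)) (Nat.ble 1116 i)) (Nat.ble 1112 i)) (Nat.ble 1104 i)) (Bool.rec (motive := fun _ => List ℕ) (Bool.rec (motive := fun _ => List ℕ) (Bool.rec (motive := fun _ => List ℕ) (Bool.rec (motive := fun _ => List ℕ) (Bool.rec (motive := fun _ => List ℕ) (rw1120) (rw1121) (Nat.ble 1121 i)) (Bool.rec (motive := fun _ => List ℕ) (rw1122) (rw1123) (Nat.ble 1123 i)) (Nat.ble 1122 i)) (Bool.rec (motive := fun _ => List ℕ) (Bool.rec (motive := fun _ => List ℕ) (rw1124) (rw1125) (Nat.ble 1125 i)) (Bool.rec (motive := fun _ => List ℕ) (rw1126) (rw1127) (Nat.ble 1127 i)) (Nat.ble 1126 i)) (Nat.ble 1124 i)) (Bool.rec (motive := fun _ => List ℕ) (Bool.rec (motive := fun _ => List ℕ) (Bool.rec (motive := fun _ => List ℕ) (rw1128) (rw1129) (Nat.ble 1129 i)) (Bool.rec (motive := fun _ => List ℕ) (rw1130) (rw1131) (Nat.ble 1131 i)) (Nat.ble 1130 i)) (Bool.rec (motive := fun _ => List ℕ) (Bool.rec (motive := fun _ => List ℕ) (rw1132) (rw1133) (Nat.ble 1133 i)) (Bool.rec (motive := fun _ => List ℕ) (rw1134) (rw1135) (Nat.ble 1135 i)) (Nat.ble 1134 i)) (Nat.ble 1132 i)) (Nat.ble 1128 i)) (Bool.rec (motive := fun _ => List ℕ) (Bool.rec (motive := fun _ => List ℕ) (Bool.rec (motive := fun _ => List ℕ) (Bool.rec (motive := fun _ => List ℕ) (rw1136) (rw1137) (Nat.ble 1137 i)) (Bool.rec (motive := fun _ => List ℕ) (rw1138) (rw1139) (Nat.ble 1139 i)) (Nat.ble 1138 i)) (Bool.rec (motive := fun _ => List ℕ) (Bool.rec (motive := fun _ => List ℕ) (rw1140) (rw1141) (Nat.ble 1141 i)) (Bool.rec (motive := fun _ => List ℕ) (rw1142) (rw1143) (Nat.ble 1143 i)) (Nat.ble 1142 i)) (Nat.ble 1140 i)) (Bool.rec (motive := fun _ => List ℕ) (Bool.rec (motive := fun _ => List ℕ) (Bool.rec (motive := fun _ => List ℕ) (rw1144) (rw1145) (Nat.ble 1145 i)) (Bool.rec (motive := fun _ => List ℕ) (rw1146) (rw1147) (Nat.ble 1147 i)) (Nat.ble 1146 i)) (Bool.rec (motive := fun _ => List ℕ) (Bool.rec (motive := fun _ => List ℕ) (rw1148) (rw1149) (Nat.ble 1149 i)) (Bool.rec (motive := fun _ => List ℕ) (rw1150) (rw1151) (Nat.ble 1151 i)) (Nat.ble 1150 i)) (Nat.ble 1148 i)) (Nat.ble 1144 i)) (Nat.ble 1136 i)) (Nat.ble 1120 i)) (Nat.ble 1088 i)) (Bool.rec (motive := fun _ => List ℕ) (Bool.rec (motive := fun _ => List ℕ) (Bool.rec (motive := fun _ => List ℕ) (Bool.rec (motive := fun _ => List ℕ) (Bool.rec (motive := fun _ => List ℕ) (Bool.rec (motive := fun _ => List ℕ) (Bool.rec (motive := fun _ => List ℕ) (rw1152) (rw1153) (Nat.ble 1153 i)) (Bool.rec (motive := fun _ => List ℕ) (rw1154) (rw1155) (Nat.ble 1155 i)) (Nat.ble 1154 i)) (Bool.rec (motive := fun _ => List ℕ) (Bool.rec (motive := fun _ => List ℕ) (rw1156) (rw1157) (Nat.ble 1157 i)) (Bool.rec (motive := fun _ => List ℕ) (rw1158) (rw1159) (Nat.ble 1159 i)) (Nat.ble 1158 i)) (Nat.ble 1156 i)) (Bool.rec (motive := fun _ => List ℕ) (Bool.rec (motive := fun _ => List ℕ) (Bool.rec (motive := fun _ => List ℕ) (rw1160) (rw1161) (Nat.ble 1161 i)) (Bool.rec (motive := fun _ => List ℕ) (rw1162) (rw1163) (Nat.ble 1163 i)) (Nat.ble 1162 i)) (Bool.rec (motive := fun _ => List ℕ) (Bool.rec (motive := fun _ => List ℕ) (rw1164) (rw1165) (Nat.ble 1165 i)) (Bool.rec (motive := fun _ => List ℕ) (rw1166) (rw1167) (Nat.ble 1167 i)) (Nat.ble 1166 i)) (Nat.ble 1164 i)) (Nat.ble 1160 i)) (Bool.rec (motive := fun _ => List ℕ) (Bool.rec (motive := fun _ => List ℕ) (Bool.rec (motive := fun _ => List ℕ) (Bool.rec (motive := fun _ => List ℕ) (rw1168) (rw1169) (Nat.ble 1169 i)) (Bool.rec (motive := fun _ => List ℕ) (rw1170) (rw1171) (Nat.ble 1171 i)) (Nat.ble 1170 i)) (Bool.rec (motive := fun _ => List ℕ) (Bool.rec (motive := fun _ => List ℕ) (rw1172) (rw1173) (Nat.ble 1173 i)) (Bool.rec (motive := fun _ => List ℕ) (rw1174) (rw1175) (Nat.ble 1175 i)) (Nat.ble 1174 i)) (Nat.ble 1172 i)) (Bool.rec (motive := fun _ => List ℕ) (Bool.rec (motive := fun _ => List ℕ) (Bool.rec (motive := fun _ => List ℕ) (rw1176) (rw1177) (Nat.ble 1177 i)) (Bool.rec (motive := fun _ => List ℕ) (rw1178) (rw1179) (Nat.ble 1179 i)) (Nat.ble 1178 i)) (Bool.rec (motive := fun _ => List ℕ) (Bool.rec (motive := fun _ => List ℕ) (rw1180) (rw1181) (Nat.ble 1181 i)) (Bool.rec (motive := fun _ => List ℕ) (rw1182) (rw1183) (Nat.ble 1183 i)) (Nat.ble 1182 i)) (Nat.ble 1180 i)) (Nat.ble 1176 i)) (Nat.ble 1168 i)) (Bool.rec (motive := fun _ => List ℕ) (Bool.rec (motive := fun _ => List ℕ) (Bool.rec (motive := fun _ => List ℕ) (Bool.rec (motive := fun _ => List ℕ) (Bool.rec (motive := fun _ => List ℕ) (rw1184) (rw1185) (Nat.ble 1185 i)) (Bool.rec (motive := fun _ => List ℕ) (rw1186) (rw1187) (Nat.ble 1187 i)) (Nat.ble 1186 i)) (Bool.rec (motive := fun _ => List ℕ) (Bool.rec (motive := fun _ => List ℕ) (rw1188) (rw1189) (Nat.ble 1189 i)) (Bool.rec (motive := fun _ => List ℕ) (rw1190) (rw1191) (Nat.ble 1191 i)) (Nat.ble 1190 i)) (Nat.ble 1188 i)) (Bool.rec (motive := fun _ => List ℕ) (Bool.rec (motive := fun _ => List ℕ) (Bool.rec (motive := fun _ => List ℕ) (rw1192) (rw1193) (Nat.ble 1193 i)) (Bool.rec (motive := fun _ => List ℕ) (rw1194) (rw1195) (Nat.ble 1195 i)) (Nat.ble 1194 i)) (Bool.rec (motive := fun _ => List ℕ) (Bool.rec (motive := fun _ => List ℕ) (rw1196) (rw1197) (Nat.ble 1197 i)) (Bool.rec (motive := fun _ => List ℕ) (rw1198) (rw1199) (Nat.ble 1199 i)) (Nat.ble 1198 i)) (Nat.ble 1196 i)) (Nat.ble 1192 i)) (Bool.rec (motive := fun _ => List ℕ) (Bool.rec (motive := fun _ => List ℕ) (Bool.rec (motive := fun _ => List ℕ) (Bool.rec (motive := fun _ => List ℕ) (rw1200) (rw1201) (Nat.ble 1201 i)) (Bool.rec (motive := fun _ => List ℕ) (rw1202) (rw1203) (Nat.ble 1203 i)) (Nat.ble 1202 i)) (Bool.rec (motive := fun _ => List ℕ) (Bool.rec (motive := fun _ => List ℕ) (rw1204) (rw1205) (Nat.ble 1205 i)) (Bool.rec (motive := fun _ => List ℕ) (rw1206) (rw1207) (Nat.ble 1207 i)) (Nat.ble 1206 i)) (Nat.ble 1204 i)) (Bool.rec (motive := fun _ => List ℕ) (Bool.rec (motive := fun _ => List ℕ) (Bool.rec (motive := fun _ => List ℕ) (rw1208) (rw1209) (Nat.ble 1209 i)) (Bool.rec (motive := fun _ => List ℕ) (rw1210) (rw1211) (Nat.ble 1211 i)) (Nat.ble 1210 i)) (Bool.rec (motive := fun _ => List ℕ) (Bool.rec (motive := fun _ => List ℕ) (rw1212) (rw1213) (Nat.ble 1213 i)) (Bool.rec (motive := fun _ => List ℕ) (rw1214) (rw1215) (Nat.ble 1215 i)) (Nat.ble 1214 i)) (Nat.ble 1212 i)) (Nat.ble 1208 i)) (Nat.ble 1200 i)) (Nat.ble 1184 i)) (Bool.rec (motive := fun _ => List ℕ) (Bool.rec (motive := fun _ => List ℕ) (Bool.rec (motive := fun _ => List ℕ) (Bool.rec (motive := fun _ => List ℕ) (Bool.rec (motive := fun _ => List ℕ) (Bool.rec (motive := fun _ => List ℕ) (rw1216) (rw1217) (Nat.ble 1217 i)) (Bool.rec (motive := fun _ => List ℕ) (rw1218) (rw1219) (Nat.ble 1219 i)) (Nat.ble 1218 i)) (Bool.rec (motive := fun _ => List ℕ) (Bool.rec (motive := fun _ => List ℕ) (rw1220) (rw1221) (Nat.ble 1221 i)) (Bool.rec (motive := fun _ => List ℕ) (rw1222) (rw1223) (Nat.ble 1223 i)) (Nat.ble 1222 i)) (Nat.ble 1220 i)) (Bool.rec (motive := fun _ => List ℕ) (Bool.rec (motive := fun _ => List ℕ) (Bool.rec (motive := fun _ => List ℕ) (rw1224) (rw1225) (Nat.ble 1225 i)) (Bool.rec (motive := fun _ => List ℕ) (rw1226) (rw1227) (Nat.ble 1227 i)) (Nat.ble 1226 i)) (Bool.rec (motive := fun _ => List ℕ) (Bool.rec (motive := fun _ => List ℕ) (rw1228) (rw1229) (Nat.ble 1229 i)) (Bool.rec (motive := fun _ => List ℕ) (rw1230) (rw1231) (Nat.ble 1231 i)) (Nat.ble 1230 i)) (Nat.ble 1228 i)) (Nat.ble 1224 i)) (Bool.rec (motive := fun _ => List ℕ) (Bool.rec (motive := fun _ => List ℕ) (Bool.rec (motive := fun _ => List ℕ) (Bool.rec (motive := fun _ => List ℕ) (rw1232) (rw1233) (Nat.ble 1233 i)) (Bool.rec (motive := fun _ => List ℕ) (rw1234) (rw1235) (Nat.ble 1235 i)) (Nat.ble 1234 i)) (Bool.rec (motive := fun _ => List ℕ) (Bool.rec (motive := fun _ => List ℕ) (rw1236) (rw1237) (Nat.ble 1237 i)) (Bool.rec (motive := fun _ => List ℕ) (rw1238) (rw1239) (Nat.ble 1239 i)) (Nat.ble 1238 i)) (Nat.ble 1236 i)) (Bool.rec (motive := fun _ => List ℕ) (Bool.rec (motive := fun _ => List ℕ) (Bool.rec (motive := fun _ => List ℕ) (rw1240) (rw1241) (Nat.ble 1241 i)) (Bool.rec (motive := fun _ => List ℕ) (rw1242) (rw1243) (Nat.ble 1243 i)) (Nat.ble 1242 i)) (Bool.rec (motive := fun _ => List ℕ) (Bool.rec (motive := fun _ => List ℕ) (rw1244) (rw1245) (Nat.ble 1245 i)) (Bool.rec (motive := fun _ => List ℕ) (rw1246) (rw1247) (Nat.ble 1247 i)) (Nat.ble 1246 i)) (Nat.ble 1244 i)) (Nat.ble 1240 i)) (Nat.ble 1232 i)) (Bool.rec (motive := fun _ => List ℕ) (Bool.rec (motive := fun _ => List ℕ) (Bool.rec (motive := fun _ => List ℕ) (Bool.rec (motive := fun _ => List ℕ) (Bool.rec (motive := fun _ => List ℕ) (rw1248) (rw1249) (Nat.ble 1249 i)) (Bool.rec (motive := fun _ => List ℕ) (rw1250) (rw1251) (Nat.ble 1251 i)) (Nat.ble 1250 i)) (Bool.rec (motive := fun _ => List ℕ) (Bool.rec (motive := fun _ => List ℕ) (rw1252) (rw1253) (Nat.ble 1253 i)) (Bool.rec (motive := fun _ => List ℕ) (rw1254) (rw1255) (Nat.ble 1255 i)) (Nat.ble 1254 i)) (Nat.ble 1252 i)) (Bool.rec (motive := fun _ => List ℕ) (Bool.rec (motive := fun _ => List ℕ) (Bool.rec (motive := fun _ => List ℕ) (rw1256) (rw1257) (Nat.ble 1257 i)) (Bool.rec (motive := fun _ => List ℕ) (rw1258) (rw1259) (Nat.ble 1259 i)) (Nat.ble 1258 i)) (Bool.rec (motive := fun _ => List ℕ) (Bool.rec (motive := fun _ => List ℕ) (rw1260) (rw1261) (Nat.ble 1261 i)) (Bool.rec (motive := fun _ => List ℕ) (rw1262) (rw1263) (Nat.ble 1263 i)) (Nat.ble 1262 i)) (Nat.ble 1260 i)) (Nat.ble 1256 i)) (Bool.rec (motive := fun _ => List ℕ) (Bool.rec (motive := fun _ => List ℕ) (Bool.rec (motive := fun _ => List ℕ) (Bool.rec (motive := fun _ => List ℕ) (rw1264) (rw1265) (Nat.ble 1265 i)) (Bool.rec (motive := fun _ => List ℕ) (rw1266) (rw1267) (Nat.ble 1267 i)) (Nat.ble 1266 i)) (Bool.rec (motive := fun _ => List ℕ) (Bool.rec (motive := fun _ => List ℕ) (rw1268) (rw1269) (Nat.ble 1269 i)) (Bool.rec (motive := fun _ => List ℕ) (rw1270) (rw1271) (Nat.ble 1271 i)) (Nat.ble 1270 i)) (Nat.ble 1268 i)) (Bool.rec (motive := fun _ => List ℕ) (Bool.rec (motive := fun _ => List ℕ) (Bool.rec (motive := fun _ => List ℕ) (rw1272) (rw1273) (Nat.ble 1273 i)) (Bool.rec (motive := fun _ => List ℕ) (rw1274) (rw1275) (Nat.ble 1275 i)) (Nat.ble 1274 i)) (Bool.rec (motive := fun _ => List ℕ) (Bool.rec (motive := fun _ => List ℕ) (rw1276) (rw1277) (Nat.ble 1277 i)) (Bool.rec (motive := fun _ => List ℕ) (rw1278) (rw1279) (Nat.ble 1279 i)) (Nat.ble 1278 i)) (Nat.ble 1276 i)) (Nat.ble 1272 i)) (Nat.ble 1264 i)) (Nat.ble 1248 i)) (Nat.ble 1216 i)) (Nat.ble 1152 i)) (Bool.rec (motive := fun _ => List ℕ) (Bool.rec (motive := fun _ => List ℕ) (Bool.rec (motive := fun _ => List ℕ) (Bool.rec (motive := fun _ => List ℕ) (Bool.rec (motive := fun _ => List ℕ) (Bool.rec (motive := fun _ => List ℕ) (Bool.rec (motive := fun _ => List ℕ) (Bool.rec (motive := fun _ => List ℕ) (rw1280) (rw1281) (Nat.ble 1281 i)) (Bool.rec (motive := fun _ => List ℕ) (rw1282) (rw1283) (Nat.ble 1283 i)) (Nat.ble 1282 i)) (Bool.rec (motive := fun _ => List ℕ) (Bool.rec (motive := fun _ => List ℕ) (rw1284) (rw1285) (Nat.ble 1285 i)) (Bool.rec (motive := fun _ => List ℕ) (rw1286) (rw1287) (Nat.ble 1287 i)) (Nat.ble 1286 i)) (Nat.ble 1284 i)) (Bool.rec (motive := fun _ => List ℕ) (Bool.rec (motive := fun _ => List ℕ) (Bool.rec (motive := fun _ => List ℕ) (rw1288) (rw1289) (Nat.ble 1289 i)) (Bool.rec (motive := fun _ => List ℕ) (rw1290) (rw1291) (Nat.ble 1291 i)) (Nat.ble 1290 i)) (Bool.rec (motive := fun _ => List ℕ) (Bool.rec (motive := fun _ => List ℕ) (rw1292) (rw1293) (Nat.ble 1293 i)) (Bool.rec (motive := fun _ => List ℕ) (rw1294) (rw1295) (Nat.ble 1295 i)) (Nat.ble 1294 i)) (Nat.ble 1292 i)) (Nat.ble 1288 i)) (Bool.rec (motive := fun _ => List ℕ) (Bool.rec (motive := fun _ => List ℕ) (Bool.rec (motive := fun _ => List ℕ) (Bool.rec (motive := fun _ => List ℕ) (rw1296) (rw1297) (Nat.ble 1297 i)) (Bool.rec (motive := fun _ => List ℕ) (rw1298) (rw1299) (Nat.ble 1299 i)) (Nat.ble 1298 i)) (Bool.rec (motive := fun _ => List ℕ) (Bool.rec (motive := fun _ => List ℕ) (rw1300) (rw1301) (Nat.ble 1301 i)) (Bool.rec (motive := fun _ => List ℕ) (rw1302) (rw1303) (Nat.ble 1303 i)) (Nat.ble 1302 i)) (Nat.ble 1300 i)) (Bool.rec (motive := fun _ => List ℕ) (Bool.rec (motive := fun _ => List ℕ) (Bool.rec (motive := fun _ => List ℕ) (rw1304) (rw1305) (Nat.ble 1305 i)) (Bool.rec (motive := fun _ => List ℕ) (rw1306) (rw1307) (Nat.ble 1307 i)) (Nat.ble 1306 i)) (Bool.rec (motive := fun _ => List ℕ) (Bool.rec (motive := fun _ => List ℕ) (rw1308) (rw1309) (Nat.ble 1309 i)) (Bool.rec (motive := fun _ => List ℕ) (rw1310) (rw1311) (Nat.ble 1311 i)) (Nat.ble 1310 i)) (Nat.ble 1308 i)) (Nat.ble 1304 i)) (Nat.ble 1296 i)) (Bool.rec (motive := fun _ => List ℕ) (Bool.rec (motive := fun _ => List ℕ) (Bool.rec (motive := fun _ => List ℕ) (Bool.rec (motive := fun _ => List ℕ) (Bool.rec (motive := fun _ => List ℕ) (rw1312) (rw1313) (Nat.ble 1313 i)) (Bool.rec (motive := fun _ => List ℕ) (rw1314) (rw1315) (Nat.ble 1315 i)) (Nat.ble 1314 i)) (Bool.rec (motive := fun _ => List ℕ) (Bool.rec (motive := fun _ => List ℕ) (rw1316) (rw1317) (Nat.ble 1317 i)) (Bool.rec (motive := fun _ => List ℕ) (rw1318) (rw1319) (Nat.ble 1319 i)) (Nat.ble 1318 i)) (Nat.ble 1316 i)) (Bool.rec (motive := fun _ => List ℕ) (Bool.rec (motive := fun _ => List ℕ) (Bool.rec (motive := fun _ => List ℕ) (rw1320) (rw1321) (Nat.ble 1321 i)) (Bool.rec (motive := fun _ => List ℕ) (rw1322) (rw1323) (Nat.ble 1323 i)) (Nat.ble 1322 i)) (Bool.rec (motive := fun _ => List ℕ) (Bool.rec (motive := fun _ => List ℕ) (rw1324) (rw1325) (Nat.ble 1325 i)) (Bool.rec (motive := fun _ => List ℕ) (rw1326) (rw1327) (Nat.ble 1327 i)) (Nat.ble 1326 i)) (Nat.ble 1324 i)) (Nat.ble 1320 i)) (Bool.rec (motive := fun _ => List ℕ) (Bool.rec (motive := fun _ => List ℕ) (Bool.rec (motive := fun _ => List ℕ) (Bool.rec (motive := fun _ => List ℕ) (rw1328) (rw1329) (Nat.ble 1329 i)) (Bool.rec (motive := fun _ => List ℕ) (rw1330) (rw1331) (Nat.ble 1331 i)) (Nat.ble 1330 i)) (Bool.rec (motive := fun _ => List ℕ) (Bool.rec (motive := fun _ => List ℕ) (rw1332) (rw1333) (Nat.ble 1333 i)) (Bool.rec (motive := fun _ => List ℕ) (rw1334) (rw1335) (Nat.ble 1335 i)) (Nat.ble 1334 i)) (Nat.ble 1332 i)) (Bool.rec (motive := fun _ => List ℕ) (Bool.rec (motive := fun _ => List ℕ) (Bool.rec (motive := fun _ => List ℕ) (rw1336) (rw1337) (Nat.ble 1337 i)) (Bool.rec (motive := fun _ => List ℕ) (rw1338) (rw1339) (Nat.ble 1339 i)) (Nat.ble 1338 i)) (Bool.rec (motive := fun _ => List ℕ) (Bool.rec (motive := fun _ => List ℕ) (rw1340) (rw1341) (Nat.ble 1341 i)) (Bool.rec (motive := fun _ => List ℕ) (rw1342) (rw1343) (Nat.ble 1343 i)) (Nat.ble 1342 i)) (Nat.ble 1340 i)) (Nat.ble 1336 i)) (Nat.ble 1328 i)) (Nat.ble 1312 i)) (Bool.rec (motive := fun _ => List ℕ) (Bool.rec (motive := fun _ => List ℕ) (Bool.rec (motive := fun _ => List ℕ) (Bool.rec (motive := fun _ => List ℕ) (Bool.rec (motive := fun _ => List ℕ) (Bool.rec (motive := fun _ => List ℕ) (rw1344) (rw1345) (Nat.ble 1345 i)) (Bool.rec (motive := fun _ => List ℕ) (rw1346) (rw1347) (Nat.ble 1347 i)) (Nat.ble 1346 i)) (Bool.rec (motive := fun _ => List ℕ) (Bool.rec (motive := fun _ => List ℕ) (rw1348) (rw1349) (Nat.ble 1349 i)) (Bool.rec (motive := fun _ => List ℕ) (rw1350) (rw1351) (Nat.ble 1351 i)) (Nat.ble 1350 i)) (Nat.ble 1348 i)) (Bool.rec (motive := fun _ => List ℕ) (Bool.rec (motive := fun _ => List ℕ) (Bool.rec (motive := fun _ => List ℕ) (rw1352) (rw1353) (Nat.ble 1353 i)) (Bool.rec (motive := fun _ => List ℕ) (rw1354) (rw1355) (Nat.ble 1355 i)) (Nat.ble 1354 i)) (Bool.rec (motive := fun _ => List ℕ) (Bool.rec (motive := fun _ => List ℕ) (rw1356) (rw1357) (Nat.ble 1357 i)) (Bool.rec (motive := fun _ => List ℕ) (rw1358) (rw1359) (Nat.ble 1359 i)) (Nat.ble 1358 i)) (Nat.ble 1356 i)) (Nat.ble 1352 i)) (Bool.rec (motive := fun _ => List ℕ) (Bool.rec (motive := fun _ => List ℕ) (Bool.rec (motive := fun _ => List ℕ) (Bool.rec (motive := fun _ => List ℕ) (rw1360) (rw1361) (Nat.ble 1361 i)) (Bool.rec (motive := fun _ => List ℕ) (rw1362) (rw1363) (Nat.ble 1363 i)) (Nat.ble 1362 i)) (Bool.rec (motive := fun _ => List ℕ) (Bool.rec (motive := fun _ => List ℕ) (rw1364) (rw1365) (Nat.ble 1365 i)) (Bool.rec (motive := fun _ => List ℕ) (rw1366) (rw1367) (Nat.ble 1367 i)) (Nat.ble 1366 i)) (Nat.ble 1364 i)) (Bool.rec (motive := fun _ => List ℕ) (Bool.rec (motive := fun _ => List ℕ) (Bool.rec (motive := fun _ => List ℕ) (rw1368) (rw1369) (Nat.ble 1369 i)) (Bool.rec (motive := fun _ => List ℕ) (rw1370) (rw1371) (Nat.ble 1371 i)) (Nat.ble 1370 i)) (Bool.rec (motive := fun _ => List ℕ) (Bool.rec (motive := fun _ => List ℕ) (rw1372) (rw1373) (Nat.ble 1373 i)) (Bool.rec (motive := fun _ => List ℕ) (rw1374) (rw1375) (Nat.ble 1375 i)) (Nat.ble 1374 i)) (Nat.ble 1372 i)) (Nat.ble 1368 i)) (Nat.ble 1360 i)) (Bool.rec (motive := fun _ => List ℕ) (Bool.rec (motive := fun _ => List ℕ) (Bool.rec (motive := fun _ => List ℕ) (Bool.rec (motive := fun _ => List ℕ) (Bool.rec (motive := fun _ => List ℕ) (rw1376) (rw1377) (Nat.ble 1377 i)) (Bool.rec (motive := fun _ => List ℕ) (rw1378) (rw1379) (Nat.ble 1379 i)) (Nat.ble 1378 i)) (Bool.rec (motive := fun _ => List ℕ) (Bool.rec (motive := fun _ => List ℕ) (rw1380) (rw1381) (Nat.ble 1381 i)) (Bool.rec (motive := fun _ => List ℕ) (rw1382) (rw1383) (Nat.ble 1383 i)) (Nat.ble 1382 i)) (Nat.ble 1380 i)) (Bool.rec (motive := fun _ => List ℕ) (Bool.rec (motive := fun _ => List ℕ) (Bool.rec (motive := fun _ => List ℕ) (rw1384) (rw1385) (Nat.ble 1385 i)) (Bool.rec (motive := fun _ => List ℕ) (rw1386) (rw1387) (Nat.ble 1387 i)) (Nat.ble 1386 i)) (Bool.rec (motive := fun _ => List ℕ) (Bool.rec (motive := fun _ => List ℕ) (rw1388) (rw1389) (Nat.ble 1389 i)) (Bool.rec (motive := fun _ => List ℕ) (rw1390) (rw1391) (Nat.ble 1391 i)) (Nat.ble 1390 i)) (Nat.ble 1388 i)) (Nat.ble 1384 i)) (Bool.rec (motive := fun _ => List ℕ) (Bool.rec (motive := fun _ => List ℕ) (Bool.rec (motive := fun _ => List ℕ) (Bool.rec (motive := fun _ => List ℕ) (rw1392) (rw1393) (Nat.ble 1393 i)) (Bool.rec (motive := fun _ => List ℕ) (rw1394) (rw1395) (Nat.ble 1395 i)) (Nat.ble 1394 i)) (Bool.rec (motive := fun _ => List ℕ) (Bool.rec (motive := fun _ => List ℕ) (rw1396) (rw1397) (Nat.ble 1397 i)) (Bool.rec (motive := fun _ => List ℕ) (rw1398) (rw1399) (Nat.ble 1399 i)) (Nat.ble 1398 i)) (Nat.ble 1396 i)) (Bool.rec (motive := fun _ => List ℕ) (Bool.rec (motive := fun _ => List ℕ) (Bool.rec (motive := fun _ => List ℕ) (rw1400) (rw1401) (Nat.ble 1401 i)) (Bool.rec (motive := fun _ => List ℕ) (rw1402) (rw1403) (Nat.ble 1403 i)) (Nat.ble 1402 i)) (Bool.rec (motive := fun _ => List ℕ) (Bool.rec (motive := fun _ => List ℕ) (rw1404) (rw1405) (Nat.ble 1405 i)) (Bool.rec (motive := fun _ => List ℕ) (rw1406) (rw1407) (Nat.ble 1407 i)) (Nat.ble 1406 i)) (Nat.ble 1404 i)) (Nat.ble 1400 i)) (Nat.ble 1392 i)) (Nat.ble 1376 i)) (Nat.ble 1344 i)) (Bool.rec (motive := fun _ => List ℕ) (Bool.rec (motive := fun _ => List ℕ) (Bool.rec (motive := fun _ => List ℕ) (Bool.rec (motive := fun _ => List ℕ) (Bool.rec (motive := fun _ => List ℕ) (Bool.rec (motive := fun _ => List ℕ) (Bool.rec (motive := fun _ => List ℕ) (rw1408) (rw1409) (Nat.ble 1409 i)) (Bool.rec (motive := fun _ => List ℕ) (rw1410) (rw1411) (Nat.ble 1411 i)) (Nat.ble 1410 i)) (Bool.rec (motive := fun _ => List ℕ) (Bool.rec (motive := fun _ => List ℕ) (rw1412) (rw1413) (Nat.ble 1413 i)) (Bool.rec (motive := fun _ => List ℕ) (rw1414) (rw1415) (Nat.ble 1415 i)) (Nat.ble 1414 i)) (Nat.ble 1412 i)) (Bool.rec (motive := fun _ => List ℕ) (Bool.rec (motive := fun _ => List ℕ) (Bool.rec (motive := fun _ => List ℕ) (rw1416) (rw1417) (Nat.ble 1417 i)) (Bool.rec (motive := fun _ => List ℕ) (rw1418) (rw1419) (Nat.ble 1419 i)) (Nat.ble 1418 i)) (Bool.rec (motive := fun _ => List ℕ) (Bool.rec (motive := fun _ => List ℕ) (rw1420) (rw1421) (Nat.ble 1421 i)) (Bool.rec (motive := fun _ => List ℕ) (rw1422) (rw1423) (Nat.ble 1423 i)) (Nat.ble 1422 i)) (Nat.ble 1420 i)) (Nat.ble 1416 i)) (Bool.rec (motive := fun _ => List ℕ) (Bool.rec (motive := fun _ => List ℕ) (Bool.rec (motive := fun _ => List ℕ) (Bool.rec (motive := fun _ => List ℕ) (rw1424) (rw1425) (Nat.ble 1425 i)) (Bool.rec (motive := fun _ => List ℕ) (rw1426) (rw1427) (Nat.ble 1427 i)) (Nat.ble 1426 i)) (Bool.rec (motive := fun _ => List ℕ) (Bool.rec (motive := fun _ => List ℕ) (rw1428) (rw1429) (Nat.ble 1429 i)) (Bool.rec (motive := fun _ => List ℕ) (rw1430) (rw1431) (Nat.ble 1431 i)) (Nat.ble 1430 i)) (Nat.ble 1428 i)) (Bool.rec (motive := fun _ => List ℕ) (Bool.rec (motive := fun _ => List ℕ) (Bool.rec (motive := fun _ => List ℕ) (rw1432) (rw1433) (Nat.ble 1433 i)) (Bool.rec (motive := fun _ => List ℕ) (rw1434) (rw1435) (Nat.ble 1435 i)) (Nat.ble 1434 i)) (Bool.rec (motive := fun _ => List ℕ) (Bool.rec (motive := fun _ => List ℕ) (rw1436) (rw1437) (Nat.ble 1437 i)) (Bool.rec (motive := fun _ => List ℕ) (rw1438) (rw1439) (Nat.ble 1439 i)) (Nat.ble 1438 i)) (Nat.ble 1436 i)) (Nat.ble 1432 i)) (Nat.ble 1424 i)) (Bool.rec (motive := fun _ => List ℕ) (Bool.rec (motive := fun _ => List ℕ) (Bool.rec (motive := fun _ => List ℕ) (Bool.rec (motive := fun _ => List ℕ) (Bool.rec (motive := fun _ => List ℕ) (rw1440) (rw1441) (Nat.ble 1441 i)) (Bool.rec (motive := fun _ => List ℕ) (rw1442) (rw1443) (Nat.ble 1443 i)) (Nat.ble 1442 i)) (Bool.rec (motive := fun _ => List ℕ) (Bool.rec (motive := fun _ => List ℕ) (rw1444) (rw1445) (Nat.ble 1445 i)) (Bool.rec (motive := fun _ => List ℕ) (rw1446) (rw1447) (Nat.ble 1447 i)) (Nat.ble 1446 i)) (Nat.ble 1444 i)) (Bool.rec (motive := fun _ => List ℕ) (Bool.rec (motive := fun _ => List ℕ) (Bool.rec (motive := fun _ => List ℕ) (rw1448) (rw1449) (Nat.ble 1449 i)) (Bool.rec (motive := fun _ => List ℕ) (rw1450) (rw1451) (Nat.ble 1451 i)) (Nat.ble 1450 i)) (Bool.rec (motive := fun _ => List ℕ) (Bool.rec (motive := fun _ => List ℕ) (rw1452) (rw1453) (Nat.ble 1453 i)) (Bool.rec (motive := fun _ => List ℕ) (rw1454) (rw1455) (Nat.ble 1455 i)) (Nat.ble 1454 i)) (Nat.ble 1452 i)) (Nat.ble 1448 i)) (Bool.rec (motive := fun _ => List ℕ) (Bool.rec (motive := fun _ => List ℕ) (Bool.rec (motive := fun _ => List ℕ) (Bool.rec (motive := fun _ => List ℕ) (rw1456) (rw1457) (Nat.ble 1457 i)) (Bool.rec (motive := fun _ => List ℕ) (rw1458) (rw1459) (Nat.ble 1459 i)) (Nat.ble 1458 i)) (Bool.rec (motive := fun _ => List ℕ) (Bool.rec (motive := fun _ => List ℕ) (rw1460) (rw1461) (Nat.ble 1461 i)) (Bool.rec (motive := fun _ => List ℕ) (rw1462) (rw1463) (Nat.ble 1463 i)) (Nat.ble 1462 i)) (Nat.ble 1460 i)) (Bool.rec (motive := fun _ => List ℕ) (Bool.rec (motive := fun _ => List ℕ) (Bool.rec (motive := fun _ => List ℕ) (rw1464) (rw1465) (Nat.ble 1465 i)) (Bool.rec (motive := fun _ => List ℕ) (rw1466) (rw1467) (Nat.ble 1467 i)) (Nat.ble 1466 i)) (Bool.rec (motive := fun _ => List ℕ) (Bool.rec (motive := fun _ => List ℕ) (rw1468) (rw1469) (Nat.ble 1469 i)) (Bool.rec (motive := fun _ => List ℕ) (rw1470) (rw1471) (Nat.ble 1471 i)) (Nat.ble 1470 i)) (Nat.ble 1468 i)) (Nat.ble 1464 i)) (Nat.ble 1456 i)) (Nat.ble 1440 i)) (Bool.rec (motive := fun _ => List ℕ) (Bool.rec (motive := fun _ => List ℕ) (Bool.rec (motive := fun _ => List ℕ) (Bool.rec (motive := fun _ => List ℕ) (Bool.rec (motive := fun _ => List ℕ) (Bool.rec (motive := fun _ => List ℕ) (rw1472) (rw1473) (Nat.ble 1473 i)) (Bool.rec (motive := fun _ => List ℕ) (rw1474) (rw1475) (Nat.ble 1475 i)) (Nat.ble 1474 i)) (Bool.rec (motive := fun _ => List ℕ) (Bool.rec (motive := fun _ => List ℕ) (rw1476) (rw1477) (Nat.ble 1477 i)) (Bool.rec (motive := fun _ => List ℕ) (rw1478) (rw1479) (Nat.ble 1479 i)) (Nat.ble 1478 i)) (Nat.ble 1476 i)) (Bool.rec (motive := fun _ => List ℕ) (Bool.rec (motive := fun _ => List ℕ) (Bool.rec (motive := fun _ => List ℕ) (rw1480) (rw1481) (Nat.ble 1481 i)) (Bool.rec (motive := fun _ => List ℕ) (rw1482) (rw1483) (Nat.ble 1483 i)) (Nat.ble 1482 i)) (Bool.rec (motive := fun _ => List ℕ) (Bool.rec (motive := fun _ => List ℕ) (rw1484) (rw1485) (Nat.ble 1485 i)) (Bool.rec (motive := fun _ => List ℕ) (rw1486) (rw1487) (Nat.ble 1487 i)) (Nat.ble 1486 i)) (Nat.ble 1484 i)) (Nat.ble 1480 i)) (Bool.rec (motive := fun _ => List ℕ) (Bool.rec (motive := fun _ => List ℕ) (Bool.rec (motive := fun _ => List ℕ) (Bool.rec (motive := fun _ => List ℕ) (rw1488) (rw1489) (Nat.ble 1489 i)) (Bool.rec (motive := fun _ => List ℕ) (rw1490) (rw1491) (Nat.ble 1491 i)) (Nat.ble 1490 i)) (Bool.rec (motive := fun _ => List ℕ) (Bool.rec (motive := fun _ => List ℕ) (rw1492) (rw1493) (Nat.ble 1493 i)) (Bool.rec (motive := fun _ => List ℕ) (rw1494) (rw1495) (Nat.ble 1495 i)) (Nat.ble 1494 i)) (Nat.ble 1492 i)) (Bool.rec (motive := fun _ => List ℕ) (Bool.rec (motive := fun _ => List ℕ) (Bool.rec (motive := fun _ => List ℕ) (rw1496) (rw1497) (Nat.ble 1497 i)) (Bool.rec (motive := fun _ => List ℕ) (rw1498) (rw1499) (Nat.ble 1499 i)) (Nat.ble 1498 i)) (Bool.rec (motive := fun _ => List ℕ) (Bool.rec (motive := fun _ => List ℕ) (rw1500) (rw1501) (Nat.ble 1501 i)) (Bool.rec (motive := fun _ => List ℕ) (rw1502) (rw1503) (Nat.ble 1503 i)) (Nat.ble 1502 i)) (Nat.ble 1500 i)) (Nat.ble 1496 i)) (Nat.ble 1488 i)) (Bool.rec (motive := fun _ => List ℕ) (Bool.rec (motive := fun _ => List ℕ) (Bool.rec (motive := fun _ => List ℕ) (Bool.rec (motive := fun _ => List ℕ) (Bool.rec (motive := fun _ => List ℕ) (rw1504) (rw1505) (Nat.ble 1505 i)) (Bool.rec (motive := fun _ => List ℕ) (rw1506) (rw1507) (Nat.ble 1507 i)) (Nat.ble 1506 i)) (Bool.rec (motive := fun _ => List ℕ) (Bool.rec (motive := fun _ => List ℕ) (rw1508) (rw1509) (Nat.ble 1509 i)) (Bool.rec (motive := fun _ => List ℕ) (rw1510) (rw1511) (Nat.ble 1511 i)) (Nat.ble 1510 i)) (Nat.ble 1508 i)) (Bool.rec (motive := fun _ => List ℕ) (Bool.rec (motive := fun _ => List ℕ) (Bool.rec (motive := fun _ => List ℕ) (rw1512) (rw1513) (Nat.ble 1513 i)) (Bool.rec (motive := fun _ => List ℕ) (rw1514) (rw1515) (Nat.ble 1515 i)) (Nat.ble 1514 i)) (Bool.rec (motive := fun _ => List ℕ) (Bool.rec (motive := fun _ => List ℕ) (rw1516) (rw1517) (Nat.ble 1517 i)) (Bool.rec (motive := fun _ => List ℕ) (rw1518) (rw1519) (Nat.ble 1519 i)) (Nat.ble 1518 i)) (Nat.ble 1516 i)) (Nat.ble 1512 i)) (Bool.rec (motive := fun _ => List ℕ) (Bool.rec (motive := fun _ => List ℕ) (Bool.rec (motive := fun _ => List ℕ) (Bool.rec (motive := fun _ => List ℕ) (rw1520) (rw1521) (Nat.ble 1521 i)) (Bool.rec (motive := fun _ => List ℕ) (rw1522) (rw1523) (Nat.ble 1523 i)) (Nat.ble 1522 i)) (Bool.rec (motive := fun _ => List ℕ) (Bool.rec (motive := fun _ => List ℕ) (rw1524) (rw1525) (Nat.ble 1525 i)) (Bool.rec (motive := fun _ => List ℕ) (rw1526) (rw1527) (Nat.ble 1527 i)) (Nat.ble 1526 i)) (Nat.ble 1524 i)) (Bool.rec (motive := fun _ => List ℕ) (Bool.rec (motive := fun _ => List ℕ) (Bool.rec (motive := fun _ => List ℕ) (rw1528) (rw1529) (Nat.ble 1529 i)) (Bool.rec (motive := fun _ => List ℕ) (rw1530) (rw1531) (Nat.ble 1531 i)) (Nat.ble 1530 i)) (Bool.rec (motive := fun _ => List ℕ) (Bool.rec (motive := fun _ => List ℕ) (rw1532) (rw1533) (Nat.ble 1533 i)) (Bool.rec (motive := fun _ => List ℕ) (rw1534) (rw1535) (Nat.ble 1535 i)) (Nat.ble 1534 i)) (Nat.ble 1532 i)) (Nat.ble 1528 i)) (Nat.ble 1520 i)) (Nat.ble 1504 i)) (Nat.ble 1472 i)) (Nat.ble 1408 i)) (Nat.ble 1280 i)) (Bool.rec (motive := fun _ => List ℕ) (Bool.rec (motive := fun _ => List ℕ) (Bool.rec (motive := fun _ => List ℕ) (Bool.rec (motive := fun _ => List ℕ) (Bool.rec (motive := fun _ => List ℕ) (Bool.rec (motive := fun _ => List ℕ) (Bool.rec (motive := fun _ => List ℕ) (Bool.rec (motive := fun _ => List ℕ) (Bool.rec (motive := fun _ => List ℕ) (rw1536) (rw1537) (Nat.ble 1537 i)) (Bool.rec (motive := fun _ => List ℕ) (rw1538) (rw1539) (Nat.ble 1539 i)) (Nat.ble 1538 i)) (Bool.rec (motive := fun _ => List ℕ) (Bool.rec (motive := fun _ => List ℕ) (rw1540) (rw1541) (Nat.ble 1541 i)) (Bool.rec (motive := fun _ => List ℕ) (rw1542) (rw1543) (Nat.ble 1543 i)) (Nat.ble 1542 i)) (Nat.ble 1540 i)) (Bool.rec (motive := fun _ => List ℕ) (Bool.rec (motive := fun _ => List ℕ) (Bool.rec (motive := fun _ => List ℕ) (rw1544) (rw1545) (Nat.ble 1545 i)) (Bool.rec (motive := fun _ => List ℕ) (rw1546) (rw1547) (Nat.ble 1547 i)) (Nat.ble 1546 i)) (Bool.rec (motive := fun _ => List ℕ) (Bool.rec (motive := fun _ => List ℕ) (rw1548) (rw1549) (Nat.ble 1549 i)) (Bool.rec (motive := fun _ => List ℕ) (rw1550) (rw1551) (Nat.ble 1551 i)) (Nat.ble 1550 i)) (Nat.ble 1548 i)) (Nat.ble 1544 i)) (Bool.rec (motive := fun _ => List ℕ) (Bool.rec (motive := fun _ => List ℕ) (Bool.rec (motive := fun _ => List ℕ) (Bool.rec (motive := fun _ => List ℕ) (rw1552) (rw1553) (Nat.ble 1553 i)) (Bool.rec (motive := fun _ => List ℕ) (rw1554) (rw1555) (Nat.ble 1555 i)) (Nat.ble 1554 i)) (Bool.rec (motive := fun _ => List ℕ) (Bool.rec (motive := fun _ => List ℕ) (rw1556) (rw1557) (Nat.ble 1557 i)) (Bool.rec (motive := fun _ => List ℕ) (rw1558) (rw1559) (Nat.ble 1559 i)) (Nat.ble 1558 i)) (Nat.ble 1556 i)) (Bool.rec (motive := fun _ => List ℕ) (Bool.rec (motive := fun _ => List ℕ) (Bool.rec (motive := fun _ => List ℕ) (rw1560) (rw1561) (Nat.ble 1561 i)) (Bool.rec (motive := fun _ => List ℕ) (rw1562) (rw1563) (Nat.ble 1563 i)) (Nat.ble 1562 i)) (Bool.rec (motive := fun _ => List ℕ) (Bool.rec (motive := fun _ => List ℕ) (rw1564) (rw1565) (Nat.ble 1565 i)) (Bool.rec (motive := fun _ => List ℕ) (rw1566) (rw1567) (Nat.ble 1567 i)) (Nat.ble 1566 i)) (Nat.ble 1564 i)) (Nat.ble 1560 i)) (Nat.ble 1552 i)) (Bool.rec (motive := fun _ => List ℕ) (Bool.rec (motive := fun _ => List ℕ) (Bool.rec (motive := fun _ => List ℕ) (Bool.rec (motive := fun _ => List ℕ) (Bool.rec (motive := fun _ => List ℕ) (rw1568) (rw1569) (Nat.ble 1569 i)) (Bool.rec (motive := fun _ => List ℕ) (rw1570) (rw1571) (Nat.ble 1571 i)) (Nat.ble 1570 i)) (Bool.rec (motive := fun _ => List ℕ) (Bool.rec (motive := fun _ => List ℕ) (rw1572) (rw1573) (Nat.ble 1573 i)) (Bool.rec (motive := fun _ => List ℕ) (rw1574) (rw1575) (Nat.ble 1575 i)) (Nat.ble 1574 i)) (Nat.ble 1572 i)) (Bool.rec (motive := fun _ => List ℕ) (Bool.rec (motive := fun _ => List ℕ) (Bool.rec (motive := fun _ => List ℕ) (rw1576) (rw1577) (Nat.ble 1577 i)) (Bool.rec (motive := fun _ => List ℕ) (rw1578) (rw1579) (Nat.ble 1579 i)) (Nat.ble 1578 i)) (Bool.rec (motive := fun _ => List ℕ) (Bool.rec (motive := fun _ => List ℕ) (rw1580) (rw1581) (Nat.ble 1581 i)) (Bool.rec (motive := fun _ => List ℕ) (rw1582) (rw1583) (Nat.ble 1583 i)) (Nat.ble 1582 i)) (Nat.ble 1580 i)) (Nat.ble 1576 i)) (Bool.rec (motive := fun _ => List ℕ) (Bool.rec (motive := fun _ => List ℕ) (Bool.rec (motive := fun _ => List ℕ) (Bool.rec (motive := fun _ => List ℕ) (rw1584) (rw1585) (Nat.ble 1585 i)) (Bool.rec (motive := fun _ => List ℕ) (rw1586) (rw1587) (Nat.ble 1587 i)) (Nat.ble 1586 i)) (Bool.rec (motive := fun _ => List ℕ) (Bool.rec (motive := fun _ => List ℕ) (rw1588) (rw1589) (Nat.ble 1589 i)) (Bool.rec (motive := fun _ => List ℕ) (rw1590) (rw1591) (Nat.ble 1591 i)) (Nat.ble 1590 i)) (Nat.ble 1588 i)) (Bool.rec (motive := fun _ => List ℕ) (Bool.rec (motive := fun _ => List ℕ) (Bool.rec (motive := fun _ => List ℕ) (rw1592) (rw1593) (Nat.ble 1593 i)) (Bool.rec (motive := fun _ => List ℕ) (rw1594) (rw1595) (Nat.ble 1595 i)) (Nat.ble 1594 i)) (Bool.rec (motive := fun _ => List ℕ) (Bool.rec (motive := fun _ => List ℕ) (rw1596) (rw1597) (Nat.ble 1597 i)) (Bool.rec (motive := fun _ => List ℕ) (rw1598) (rw1599) (Nat.ble 1599 i)) (Nat.ble 1598 i)) (Nat.ble 1596 i)) (Nat.ble 1592 i)) (Nat.ble 1584 i)) (Nat.ble 1568 i)) (Bool.rec (motive := fun _ => List ℕ) (Bool.rec (motive := fun _ => List ℕ) (Bool.rec (motive := fun _ => List ℕ) (Bool.rec (motive := fun _ => List ℕ) (Bool.rec (motive := fun _ => List ℕ) (Bool.rec (motive := fun _ => List ℕ) (rw1600) (rw1601) (Nat.ble 1601 i)) (Bool.rec (motive := fun _ => List ℕ) (rw1602) (rw1603) (Nat.ble 1603 i)) (Nat.ble 1602 i)) (Bool.rec (motive := fun _ => List ℕ) (Bool.rec (motive := fun _ => List ℕ) (rw1604) (rw1605) (Nat.ble 1605 i)) (Bool.rec (motive := fun _ => List ℕ) (rw1606) (rw1607) (Nat.ble 1607 i)) (Nat.ble 1606 i)) (Nat.ble 1604 i)) (Bool.rec (motive := fun _ => List ℕ) (Bool.rec (motive := fun _ => List ℕ) (Bool.rec (motive := fun _ => List ℕ) (rw1608) (rw1609) (Nat.ble 1609 i)) (Bool.rec (motive := fun _ => List ℕ) (rw1610) (rw1611) (Nat.ble 1611 i)) (Nat.ble 1610 i)) (Bool.rec (motive := fun _ => List ℕ) (Bool.rec (motive := fun _ => List ℕ) (rw1612) (rw1613) (Nat.ble 1613 i)) (Bool.rec (motive := fun _ => List ℕ) (rw1614) (rw1615) (Nat.ble 1615 i)) (Nat.ble 1614 i)) (Nat.ble 1612 i)) (Nat.ble 1608 i)) (Bool.rec (motive := fun _ => List ℕ) (Bool.rec (motive := fun _ => List ℕ) (Bool.rec (motive := fun _ => List ℕ) (Bool.rec (motive := fun _ => List ℕ) (rw1616) (rw1617) (Nat.ble 1617 i)) (Bool.rec (motive := fun _ => List ℕ) (rw1618) (rw1619) (Nat.ble 1619 i)) (Nat.ble 1618 i)) (Bool.rec (motive := fun _ => List ℕ) (Bool.rec (motive := fun _ => List ℕ) (rw1620) (rw1621) (Nat.ble 1621 i)) (Bool.rec (motive := fun _ => List ℕ) (rw1622) (rw1623) (Nat.ble 1623 i)) (Nat.ble 1622 i)) (Nat.ble 1620 i)) (Bool.rec (motive := fun _ => List ℕ) (Bool.rec (motive := fun _ => List ℕ) (Bool.rec (motive := fun _ => List ℕ) (rw1624) (rw1625) (Nat.ble 1625 i)) (Bool.rec (motive := fun _ => List ℕ) (rw1626) (rw1627) (Nat.ble 1627 i)) (Nat.ble 1626 i)) (Bool.rec (motive := fun _ => List ℕ) (Bool.rec (motive := fun _ => List ℕ) (rw1628) (rw1629) (Nat.ble 1629 i)) (Bool.rec (motive := fun _ => List ℕ) (rw1630) (rw1631) (Nat.ble 1631 i)) (Nat.ble 1630 i)) (Nat.ble 1628 i)) (Nat.ble 1624 i)) (Nat.ble 1616 i)) (Bool.rec (motive := fun _ => List ℕ) (Bool.rec (motive := fun _ => List ℕ) (Bool.rec (motive := fun _ => List ℕ) (Bool.rec (motive := fun _ => List ℕ) (Bool.rec (motive := fun _ => List ℕ) (rw1632) (rw1633) (Nat.ble 1633 i)) (Bool.rec (motive := fun _ => List ℕ) (rw1634) (rw1635) (Nat.ble 1635 i)) (Nat.ble 1634 i)) (Bool.rec (motive := fun _ => List ℕ) (Bool.rec (motive := fun _ => List ℕ) (rw1636) (rw1637) (Nat.ble 1637 i)) (Bool.rec (motive := fun _ => List ℕ) (rw1638) (rw1639) (Nat.ble 1639 i)) (Nat.ble 1638 i)) (Nat.ble 1636 i)) (Bool.rec (motive := fun _ => List ℕ) (Bool.rec (motive := fun _ => List ℕ) (Bool.rec (motive := fun _ => List ℕ) (rw1640) (rw1641) (Nat.ble 1641 i)) (Bool.rec (motive := fun _ => List ℕ) (rw1642) (rw1643) (Nat.ble 1643 i)) (Nat.ble 1642 i)) (Bool.rec (motive := fun _ => List ℕ) (Bool.rec (motive := fun _ => List ℕ) (rw1644) (rw1645) (Nat.ble 1645 i)) (Bool.rec (motive := fun _ => List ℕ) (rw1646) (rw1647) (Nat.ble 1647 i)) (Nat.ble 1646 i)) (Nat.ble 1644 i)) (Nat.ble 1640 i)) (Bool.rec (motive := fun _ => List ℕ) (Bool.rec (motive := fun _ => List ℕ) (Bool.rec (motive := fun _ => List ℕ) (Bool.rec (motive := fun _ => List ℕ) (rw1648) (rw1649) (Nat.ble 1649 i)) (Bool.rec (motive := fun _ => List ℕ) (rw1650) (rw1651) (Nat.ble 1651 i)) (Nat.ble 1650 i)) (Bool.rec (motive := fun _ => List ℕ) (Bool.rec (motive := fun _ => List ℕ) (rw1652) (rw1653) (Nat.ble 1653 i)) (Bool.rec (motive := fun _ => List ℕ) (rw1654) (rw1655) (Nat.ble 1655 i)) (Nat.ble 1654 i)) (Nat.ble 1652 i)) (Bool.rec (motive := fun _ => List ℕ) (Bool.rec (motive := fun _ => List ℕ) (Bool.rec (motive := fun _ => List ℕ) (rw1656) (rw1657) (Nat.ble 1657 i)) (Bool.rec (motive := fun _ => List ℕ) (rw1658) (rw1659) (Nat.ble 1659 i)) (Nat.ble 1658 i)) (Bool.rec (motive := fun _ => List ℕ) (Bool.rec (motive := fun _ => List ℕ) (rw1660) (rw1661) (Nat.ble 1661 i)) (Bool.rec (motive := fun _ => List ℕ) (rw1662) (rw1663) (Nat.ble 1663 i)) (Nat.ble 1662 i)) (Nat.ble 1660 i)) (Nat.ble 1656 i)) (Nat.ble 1648 i)) (Nat.ble 1632 i)) (Nat.ble 1600 i)) (Bool.rec (motive := fun _ => List ℕ) (Bool.rec (motive := fun _ => List ℕ) (Bool.rec (motive := fun _ => List ℕ) (Bool.rec (motive := fun _ => List ℕ) (Bool.rec (motive := fun _ => List ℕ) (Bool.rec (motive := fun _ => List ℕ) (Bool.rec (motive := fun _ => List ℕ) (rw1664) (rw1665) (Nat.ble 1665 i)) (Bool.rec (motive := fun _ => List ℕ) (rw1666) (rw1667) (Nat.ble 1667 i)) (Nat.ble 1666 i)) (Bool.rec (motive := fun _ => List ℕ) (Bool.rec (motive := fun _ => List ℕ) (rw1668) (rw1669) (Nat.ble 1669 i)) (Bool.rec (motive := fun _ => List ℕ) (rw1670) (rw1671) (Nat.ble 1671 i)) (Nat.ble 1670 i)) (Nat.ble 1668 i)) (Bool.rec (motive := fun _ => List ℕ) (Bool.rec (motive := fun _ => List ℕ) (Bool.rec (motive := fun _ => List ℕ) (rw1672) (rw1673) (Nat.ble 1673 i)) (Bool.rec (motive := fun _ => List ℕ) (rw1674) (rw1675) (Nat.ble 1675 i)) (Nat.ble 1674 i)) (Bool.rec (motive := fun _ => List ℕ) (Bool.rec (motive := fun _ => List ℕ) (rw1676) (rw1677) (Nat.ble 1677 i)) (Bool.rec (motive := fun _ => List ℕ) (rw1678) (rw1679) (Nat.ble 1679 i)) (Nat.ble 1678 i)) (Nat.ble 1676 i)) (Nat.ble 1672 i)) (Bool.rec (motive := fun _ => List ℕ) (Bool.rec (motive := fun _ => List ℕ) (Bool.rec (motive := fun _ => List ℕ) (Bool.rec (motive := fun _ => List ℕ) (rw1680) (rw1681) (Nat.ble 1681 i)) (Bool.rec (motive := fun _ => List ℕ) (rw1682) (rw1683) (Nat.ble 1683 i)) (Nat.ble 1682 i)) (Bool.rec (motive := fun _ => List ℕ) (Bool.rec (motive := fun _ => List ℕ) (rw1684) (rw1685) (Nat.ble 1685 i)) (Bool.rec (motive := fun _ => List ℕ) (rw1686) (rw1687) (Nat.ble 1687 i)) (Nat.ble 1686 i)) (Nat.ble 1684 i)) (Bool.rec (motive := fun _ => List ℕ) (Bool.rec (motive := fun _ => List ℕ) (Bool.rec (motive := fun _ => List ℕ) (rw1688) (rw1689) (Nat.ble 1689 i)) (Bool.rec (motive := fun _ => List ℕ) (rw1690) (rw1691) (Nat.ble 1691 i)) (Nat.ble 1690 i)) (Bool.rec (motive := fun _ => List ℕ) (Bool.rec (motive := fun _ => List ℕ) (rw1692) (rw1693) (Nat.ble 1693 i)) (Bool.rec (motive := fun _ => List ℕ) (rw1694) (rw1695) (Nat.ble 1695 i)) (Nat.ble 1694 i)) (Nat.ble 1692 i)) (Nat.ble 1688 i)) (Nat.ble 1680 i)) (Bool.rec (motive := fun _ => List ℕ) (Bool.rec (motive := fun _ => List ℕ) (Bool.rec (motive := fun _ => List ℕ) (Bool.rec (motive := fun _ => List ℕ) (Bool.rec (motive := fun _ => List ℕ) (rw1696) (rw1697) (Nat.ble 1697 i)) (Bool.rec (motive := fun _ => List ℕ) (rw1698) (rw1699) (Nat.ble 1699 i)) (Nat.ble 1698 i)) (Bool.rec (motive := fun _ => List ℕ) (Bool.rec (motive := fun _ => List ℕ) (rw1700) (rw1701) (Nat.ble 1701 i)) (Bool.rec (motive := fun _ => List ℕ) (rw1702) (rw1703) (Nat.ble 1703 i)) (Nat.ble 1702 i)) (Nat.ble 1700 i)) (Bool.rec (motive := fun _ => List ℕ) (Bool.rec (motive := fun _ => List ℕ) (Bool.rec (motive := fun _ => List ℕ) (rw1704) (rw1705) (Nat.ble 1705 i)) (Bool.rec (motive := fun _ => List ℕ) (rw1706) (rw1707) (Nat.ble 1707 i)) (Nat.ble 1706 i)) (Bool.rec (motive := fun _ => List ℕ) (Bool.rec (motive := fun _ => List ℕ) (rw1708) (rw1709) (Nat.ble 1709 i)) (Bool.rec (motive := fun _ => List ℕ) (rw1710) (rw1711) (Nat.ble 1711 i)) (Nat.ble 1710 i)) (Nat.ble 1708 i)) (Nat.ble 1704 i)) (Bool.rec (motive := fun _ => List ℕ) (Bool.rec (motive := fun _ => List ℕ) (Bool.rec (motive := fun _ => List ℕ) (Bool.rec (motive := fun _ => List ℕ) (rw1712) (rw1713) (Nat.ble 1713 i)) (Bool.rec (motive := fun _ => List ℕ) (rw1714) (rw1715) (Nat.ble 1715 i)) (Nat.ble 1714 i)) (Bool.rec (motive := fun _ => List ℕ) (Bool.rec (motive := fun _ => List ℕ) (rw1716) (rw1717) (Nat.ble 1717 i)) (Bool.rec (motive := fun _ => List ℕ) (rw1718) (rw1719) (Nat.ble 1719 i)) (Nat.ble 1718 i)) (Nat.ble 1716 i)) (Bool.rec (motive := fun _ => List ℕ) (Bool.rec (motive := fun _ => List ℕ) (Bool.rec (motive := fun _ => List ℕ) (rw1720) (rw1721) (Nat.ble 1721 i)) (Bool.rec (motive := fun _ => List ℕ) (rw1722) (rw1723) (Nat.ble 1723 i)) (Nat.ble 1722 i)) (Bool.rec (motive := fun _ => List ℕ) (Bool.rec (motive := fun _ => List ℕ) (rw1724) (rw1725) (Nat.ble 1725 i)) (Bool.rec (motive := fun _ => List ℕ) (rw1726) (rw1727) (Nat.ble 1727 i)) (Nat.ble 1726 i)) (Nat.ble 1724 i)) (Nat.ble 1720 i)) (Nat.ble 1712 i)) (Nat.ble 1696 i)) (Bool.rec (motive := fun _ => List ℕ) (Bool.rec (motive := fun _ => List ℕ) (Bool.rec (motive := fun _ => List ℕ) (Bool.rec (motive := fun _ => List ℕ) (Bool.rec (motive := fun _ => List ℕ) (Bool.rec (motive := fun _ => List ℕ) (rw1728) (rw1729) (Nat.ble 1729 i)) (Bool.rec (motive := fun _ => List ℕ) (rw1730) (rw1731) (Nat.ble 1731 i)) (Nat.ble 1730 i)) (Bool.rec (motive := fun _ => List ℕ) (Bool.rec (motive := fun _ => List ℕ) (rw1732) (rw1733) (Nat.ble 1733 i)) (Bool.rec (motive := fun _ => List ℕ) (rw1734) (rw1735) (Nat.ble 1735 i)) (Nat.ble 1734 i)) (Nat.ble 1732 i)) (Bool.rec (motive := fun _ => List ℕ) (Bool.rec (motive := fun _ => List ℕ) (Bool.rec (motive := fun _ => List ℕ) (rw1736) (rw1737) (Nat.ble 1737 i)) (Bool.rec (motive := fun _ => List ℕ) (rw1738) (rw1739) (Nat.ble 1739 i)) (Nat.ble 1738 i)) (Bool.rec (motive := fun _ => List ℕ) (Bool.rec (motive := fun _ => List ℕ) (rw1740) (rw1741) (Nat.ble 1741 i)) (Bool.rec (motive := fun _ => List ℕ) (rw1742) (rw1743) (Nat.ble 1743 i)) (Nat.ble 1742 i)) (Nat.ble 1740 i)) (Nat.ble 1736 i)) (Bool.rec (motive := fun _ => List ℕ) (Bool.rec (motive := fun _ => List ℕ) (Bool.rec (motive := fun _ => List ℕ) (Bool.rec (motive := fun _ => List ℕ) (rw1744) (rw1745) (Nat.ble 1745 i)) (Bool.rec (motive := fun _ => List ℕ) (rw1746) (rw1747) (Nat.ble 1747 i)) (Nat.ble 1746 i)) (Bool.rec (motive := fun _ => List ℕ) (Bool.rec (motive := fun _ => List ℕ) (rw1748) (rw1749) (Nat.ble 1749 i)) (Bool.rec (motive := fun _ => List ℕ) (rw1750) (rw1751) (Nat.ble 1751 i)) (Nat.ble 1750 i)) (Nat.ble 1748 i)) (Bool.rec (motive := fun _ => List ℕ) (Bool.rec (motive := fun _ => List ℕ) (Bool.rec (motive := fun _ => List ℕ) (rw1752) (rw1753) (Nat.ble 1753 i)) (Bool.rec (motive := fun _ => List ℕ) (rw1754) (rw1755) (Nat.ble 1755 i)) (Nat.ble 1754 i)) (Bool.rec (motive := fun _ => List ℕ) (Bool.rec (motive := fun _ => List ℕ) (rw1756) (rw1757) (Nat.ble 1757 i)) (Bool.rec (motive := fun _ => List ℕ) (rw1758) (rw1759) (Nat.ble 1759 i)) (Nat.ble 1758 i)) (Nat.ble 1756 i)) (Nat.ble 1752 i)) (Nat.ble 1744 i)) (Bool.rec (motive := fun _ => List ℕ) (Bool.rec (motive := fun _ => List ℕ) (Bool.rec (motive := fun _ => List ℕ) (Bool.rec (motive := fun _ => List ℕ) (Bool.rec (motive := fun _ => List ℕ) (rw1760) (rw1761) (Nat.ble 1761 i)) (Bool.rec (motive := fun _ => List ℕ) (rw1762) (rw1763) (Nat.ble 1763 i)) (Nat.ble 1762 i)) (Bool.rec (motive := fun _ => List ℕ) (Bool.rec (motive := fun _ => List ℕ) (rw1764) (rw1765) (Nat.ble 1765 i)) (Bool.rec (motive := fun _ => List ℕ) (rw1766) (rw1767) (Nat.ble 1767 i)) (Nat.ble 1766 i)) (Nat.ble 1764 i)) (Bool.rec (motive := fun _ => List ℕ) (Bool.rec (motive := fun _ => List ℕ) (Bool.rec (motive := fun _ => List ℕ) (rw1768) (rw1769) (Nat.ble 1769 i)) (Bool.rec (motive := fun _ => List ℕ) (rw1770) (rw1771) (Nat.ble 1771 i)) (Nat.ble 1770 i)) (Bool.rec (motive := fun _ => List ℕ) (Bool.rec (motive := fun _ => List ℕ) (rw1772) (rw1773) (Nat.ble 1773 i)) (Bool.rec (motive := fun _ => List ℕ) (rw1774) (rw1775) (Nat.ble 1775 i)) (Nat.ble 1774 i)) (Nat.ble 1772 i)) (Nat.ble 1768 i)) (Bool.rec (motive := fun _ => List ℕ) (Bool.rec (motive := fun _ => List ℕ) (Bool.rec (motive := fun _ => List ℕ) (Bool.rec (motive := fun _ => List ℕ) (rw1776) (rw1777) (Nat.ble 1777 i)) (Bool.rec (motive := fun _ => List ℕ) (rw1778) (rw1779) (Nat.ble 1779 i)) (Nat.ble 1778 i)) (Bool.rec (motive := fun _ => List ℕ) (Bool.rec (motive := fun _ => List ℕ) (rw1780) (rw1781) (Nat.ble 1781 i)) (Bool.rec (motive := fun _ => List ℕ) (rw1782) (rw1783) (Nat.ble 1783 i)) (Nat.ble 1782 i)) (Nat.ble 1780 i)) (Bool.rec (motive := fun _ => List ℕ) (Bool.rec (motive := fun _ => List ℕ) (Bool.rec (motive := fun _ => List ℕ) (rw1784) (rw1785) (Nat.ble 1785 i)) (Bool.rec (motive := fun _ => List ℕ) (rw1786) (rw1787) (Nat.ble 1787 i)) (Nat.ble 1786 i)) (Bool.rec (motive := fun _ => List ℕ) (Bool.rec (motive := fun _ => List ℕ) (rw1788) (rw1789) (Nat.ble 1789 i)) (Bool.rec (motive := fun _ => List ℕ) (rw1790) (rw1791) (Nat.ble 1791 i)) (Nat.ble 1790 i)) (Nat.ble 1788 i)) (Nat.ble 1784 i)) (Nat.ble 1776 i)) (Nat.ble 1760 i)) (Nat.ble 1728 i)) (Nat.ble 1664 i)) (Bool.rec (motive := fun _ => List ℕ) (Bool.rec (motive := fun _ => List ℕ) (Bool.rec (motive := fun _ => List ℕ) (Bool.rec (motive := fun _ => List ℕ) (Bool.rec (motive := fun _ => List ℕ) (Bool.rec (motive := fun _ => List ℕ) (Bool.rec (motive := fun _ => List ℕ) (Bool.rec (motive := fun _ => List ℕ) (rw1792) (rw1793) (Nat.ble 1793 i)) (Bool.rec (motive := fun _ => List ℕ) (rw1794) (rw1795) (Nat.ble 1795 i)) (Nat.ble 1794 i)) (Bool.rec (motive := fun _ => List ℕ) (Bool.rec (motive := fun _ => List ℕ) (rw1796) (rw1797) (Nat.ble 1797 i)) (Bool.rec (motive := fun _ => List ℕ) (rw1798) (rw1799) (Nat.ble 1799 i)) (Nat.ble 1798 i)) (Nat.ble 1796 i)) (Bool.rec (motive := fun _ => List ℕ) (Bool.rec (motive := fun _ => List ℕ) (Bool.rec (motive := fun _ => List ℕ) (rw1800) (rw1801) (Nat.ble 1801 i)) (Bool.rec (motive := fun _ => List ℕ) (rw1802) (rw1803) (Nat.ble 1803 i)) (Nat.ble 1802 i)) (Bool.rec (motive := fun _ => List ℕ) (Bool.rec (motive := fun _ => List ℕ) (rw1804) (rw1805) (Nat.ble 1805 i)) (Bool.rec (motive := fun _ => List ℕ) (rw1806) (rw1807) (Nat.ble 1807 i)) (Nat.ble 1806 i)) (Nat.ble 1804 i)) (Nat.ble 1800 i)) (Bool.rec (motive := fun _ => List ℕ) (Bool.rec (motive := fun _ => List ℕ) (Bool.rec (motive := fun _ => List ℕ) (Bool.rec (motive := fun _ => List ℕ) (rw1808) (rw1809) (Nat.ble 1809 i)) (Bool.rec (motive := fun _ => List ℕ) (rw1810) (rw1811) (Nat.ble 1811 i)) (Nat.ble 1810 i)) (Bool.rec (motive := fun _ => List ℕ) (Bool.rec (motive := fun _ => List ℕ) (rw1812) (rw1813) (Nat.ble 1813 i)) (Bool.rec (motive := fun _ => List ℕ) (rw1814) (rw1815) (Nat.ble 1815 i)) (Nat.ble 1814 i)) (Nat.ble 1812 i)) (Bool.rec (motive := fun _ => List ℕ) (Bool.rec (motive := fun _ => List ℕ) (Bool.rec (motive := fun _ => List ℕ) (rw1816) (rw1817) (Nat.ble 1817 i)) (Bool.rec (motive := fun _ => List ℕ) (rw1818) (rw1819) (Nat.ble 1819 i)) (Nat.ble 1818 i)) (Bool.rec (motive := fun _ => List ℕ) (Bool.rec (motive := fun _ => List ℕ) (rw1820) (rw1821) (Nat.ble 1821 i)) (Bool.rec (motive := fun _ => List ℕ) (rw1822) (rw1823) (Nat.ble 1823 i)) (Nat.ble 1822 i)) (Nat.ble 1820 i)) (Nat.ble 1816 i)) (Nat.ble 1808 i)) (Bool.rec (motive := fun _ => List ℕ) (Bool.rec (motive := fun _ => List ℕ) (Bool.rec (motive := fun _ => List ℕ) (Bool.rec (motive := fun _ => List ℕ) (Bool.rec (motive := fun _ => List ℕ) (rw1824) (rw1825) (Nat.ble 1825 i)) (Bool.rec (motive := fun _ => List ℕ) (rw1826) (rw1827) (Nat.ble 1827 i)) (Nat.ble 1826 i)) (Bool.rec (motive := fun _ => List ℕ) (Bool.rec (motive := fun _ => List ℕ) (rw1828) (rw1829) (Nat.ble 1829 i)) (Bool.rec (motive := fun _ => List ℕ) (rw1830) (rw1831) (Nat.ble 1831 i)) (Nat.ble 1830 i)) (Nat.ble 1828 i)) (Bool.rec (motive := fun _ => List ℕ) (Bool.rec (motive := fun _ => List ℕ) (Bool.rec (motive := fun _ => List ℕ) (rw1832) (rw1833) (Nat.ble 1833 i)) (Bool.rec (motive := fun _ => List ℕ) (rw1834) (rw1835) (Nat.ble 1835 i)) (Nat.ble 1834 i)) (Bool.rec (motive := fun _ => List ℕ) (Bool.rec (motive := fun _ => List ℕ) (rw1836) (rw1837) (Nat.ble 1837 i)) (Bool.rec (motive := fun _ => List ℕ) (rw1838) (rw1839) (Nat.ble 1839 i)) (Nat.ble 1838 i)) (Nat.ble 1836 i)) (Nat.ble 1832 i)) (Bool.rec (motive := fun _ => List ℕ) (Bool.rec (motive := fun _ => List ℕ) (Bool.rec (motive := fun _ => List ℕ) (Bool.rec (motive := fun _ => List ℕ) (rw1840) (rw1841) (Nat.ble 1841 i)) (Bool.rec (motive := fun _ => List ℕ) (rw1842) (rw1843) (Nat.ble 1843 i)) (Nat.ble 1842 i)) (Bool.rec (motive := fun _ => List ℕ) (Bool.rec (motive := fun _ => List ℕ) (rw1844) (rw1845) (Nat.ble 1845 i)) (Bool.rec (motive := fun _ => List ℕ) (rw1846) (rw1847) (Nat.ble 1847 i)) (Nat.ble 1846 i)) (Nat.ble 1844 i)) (Bool.rec (motive := fun _ => List ℕ) (Bool.rec (motive := fun _ => List ℕ) (Bool.rec (motive := fun _ => List ℕ) (rw1848) (rw1849) (Nat.ble 1849 i)) (Bool.rec (motive := fun _ => List ℕ) (rw1850) (rw1851) (Nat.ble 1851 i)) (Nat.ble 1850 i)) (Bool.rec (motive := fun _ => List ℕ) (Bool.rec (motive := fun _ => List ℕ) (rw1852) (rw1853) (Nat.ble 1853 i)) (Bool.rec (motive := fun _ => List ℕ) (rw1854) (rw1855) (Nat.ble 1855 i)) (Nat.ble 1854 i)) (Nat.ble 1852 i)) (Nat.ble 1848 i)) (Nat.ble 1840 i)) (Nat.ble 1824 i)) (Bool.rec (motive := fun _ => List ℕ) (Bool.rec (motive := fun _ => List ℕ) (Bool.rec (motive := fun _ => List ℕ) (Bool.rec (motive := fun _ => List ℕ) (Bool.rec (motive := fun _ => List ℕ) (Bool.rec (motive := fun _ => List ℕ) (rw1856) (rw1857) (Nat.ble 1857 i)) (Bool.rec (motive := fun _ => List ℕ) (rw1858) (rw1859) (Nat.ble 1859 i)) (Nat.ble 1858 i)) (Bool.rec (motive := fun _ => List ℕ) (Bool.rec (motive := fun _ => List ℕ) (rw1860) (rw1861) (Nat.ble 1861 i)) (Bool.rec (motive := fun _ => List ℕ) (rw1862) (rw1863) (Nat.ble 1863 i)) (Nat.ble 1862 i)) (Nat.ble 1860 i)) (Bool.rec (motive := fun _ => List ℕ) (Bool.rec (motive := fun _ => List ℕ) (Bool.rec (motive := fun _ => List ℕ) (rw1864) (rw1865) (Nat.ble 1865 i)) (Bool.rec (motive := fun _ => List ℕ) (rw1866) (rw1867) (Nat.ble 1867 i)) (Nat.ble 1866 i)) (Bool.rec (motive := fun _ => List ℕ) (Bool.rec (motive := fun _ => List ℕ) (rw1868) (rw1869) (Nat.ble 1869 i)) (Bool.rec (motive := fun _ => List ℕ) (rw1870) (rw1871) (Nat.ble 1871 i)) (Nat.ble 1870 i)) (Nat.ble 1868 i)) (Nat.ble 1864 i)) (Bool.rec (motive := fun _ => List ℕ) (Bool.rec (motive := fun _ => List ℕ) (Bool.rec (motive := fun _ => List ℕ) (Bool.rec (motive := fun _ => List ℕ) (rw1872) (rw1873) (Nat.ble 1873 i)) (Bool.rec (motive := fun _ => List ℕ) (rw1874) (rw1875) (Nat.ble 1875 i)) (Nat.ble 1874 i)) (Bool.rec (motive := fun _ => List ℕ) (Bool.rec (motive := fun _ => List ℕ) (rw1876) (rw1877) (Nat.ble 1877 i)) (Bool.rec (motive := fun _ => List ℕ) (rw1878) (rw1879) (Nat.ble 1879 i)) (Nat.ble 1878 i)) (Nat.ble 1876 i)) (Bool.rec (motive := fun _ => List ℕ) (Bool.rec (motive := fun _ => List ℕ) (Bool.rec (motive := fun _ => List ℕ) (rw1880) (rw1881) (Nat.ble 1881 i)) (Bool.rec (motive := fun _ => List ℕ) (rw1882) (rw1883) (Nat.ble 1883 i)) (Nat.ble 1882 i)) (Bool.rec (motive := fun _ => List ℕ) (Bool.rec (motive := fun _ => List ℕ) (rw1884) (rw1885) (Nat.ble 1885 i)) (Bool.rec (motive := fun _ => List ℕ) (rw1886) (rw1887) (Nat.ble 1887 i)) (Nat.ble 1886 i)) (Nat.ble 1884 i)) (Nat.ble 1880 i)) (Nat.ble 1872 i)) (Bool.rec (motive := fun _ => List ℕ) (Bool.rec (motive := fun _ => List ℕ) (Bool.rec (motive := fun _ => List ℕ) (Bool.rec (motive := fun _ => List ℕ) (Bool.rec (motive := fun _ => List ℕ) (rw1888) (rw1889) (Nat.ble 1889 i)) (Bool.rec (motive := fun _ => List ℕ) (rw1890) (rw1891) (Nat.ble 1891 i)) (Nat.ble 1890 i)) (Bool.rec (motive := fun _ => List ℕ) (Bool.rec (motive := fun _ => List ℕ) (rw1892) (rw1893) (Nat.ble 1893 i)) (Bool.rec (motive := fun _ => List ℕ) (rw1894) (rw1895) (Nat.ble 1895 i)) (Nat.ble 1894 i)) (Nat.ble 1892 i)) (Bool.rec (motive := fun _ => List ℕ) (Bool.rec (motive := fun _ => List ℕ) (Bool.rec (motive := fun _ => List ℕ) (rw1896) (rw1897) (Nat.ble 1897 i)) (Bool.rec (motive := fun _ => List ℕ) (rw1898) (rw1899) (Nat.ble 1899 i)) (Nat.ble 1898 i)) (Bool.rec (motive := fun _ => List ℕ) (Bool.rec (motive := fun _ => List ℕ) (rw1900) (rw1901) (Nat.ble 1901 i)) (Bool.rec (motive := fun _ => List ℕ) (rw1902) (rw1903) (Nat.ble 1903 i)) (Nat.ble 1902 i)) (Nat.ble 1900 i)) (Nat.ble 1896 i)) (Bool.rec (motive := fun _ => List ℕ) (Bool.rec (motive := fun _ => List ℕ) (Bool.rec (motive := fun _ => List ℕ) (Bool.rec (motive := fun _ => List ℕ) (rw1904) (rw1905) (Nat.ble 1905 i)) (Bool.rec (motive := fun _ => List ℕ) (rw1906) (rw1907) (Nat.ble 1907 i)) (Nat.ble 1906 i)) (Bool.rec (motive := fun _ => List ℕ) (Bool.rec (motive := fun _ => List ℕ) (rw1908) (rw1909) (Nat.ble 1909 i)) (Bool.rec (motive := fun _ => List ℕ) (rw1910) (rw1911) (Nat.ble 1911 i)) (Nat.ble 1910 i)) (Nat.ble 1908 i)) (Bool.rec (motive := fun _ => List ℕ) (Bool.rec (motive := fun _ => List ℕ) (Bool.rec (motive := fun _ => List ℕ) (rw1912) (rw1913) (Nat.ble 1913 i)) (Bool.rec (motive := fun _ => List ℕ) (rw1914) (rw1915) (Nat.ble 1915 i)) (Nat.ble 1914 i)) (Bool.rec (motive := fun _ => List ℕ) (Bool.rec (motive := fun _ => List ℕ) (rw1916) (rw1917) (Nat.ble 1917 i)) (Bool.rec (motive := fun _ => List ℕ) (rw1918) (rw1919) (Nat.ble 1919 i)) (Nat.ble 1918 i)) (Nat.ble 1916 i)) (Nat.ble 1912 i)) (Nat.ble 1904 i)) (Nat.ble 1888 i)) (Nat.ble 1856 i)) (Bool.rec (motive := fun _ => List ℕ) (Bool.rec (motive := fun _ => List ℕ) (Bool.rec (motive := fun _ => List ℕ) (Bool.rec (motive := fun _ => List ℕ) (Bool.rec (motive := fun _ => List ℕ) (Bool.rec (motive := fun _ => List ℕ) (Bool.rec (motive := fun _ => List ℕ) (rw1920) (rw1921) (Nat.ble 1921 i)) (Bool.rec (motive := fun _ => List ℕ) (rw1922) (rw1923) (Nat.ble 1923 i)) (Nat.ble 1922 i)) (Bool.rec (motive := fun _ => List ℕ) (Bool.rec (motive := fun _ => List ℕ) (rw1924) (rw1925) (Nat.ble 1925 i)) (Bool.rec (motive := fun _ => List ℕ) (rw1926) (rw1927) (Nat.ble 1927 i)) (Nat.ble 1926 i)) (Nat.ble 1924 i)) (Bool.rec (motive := fun _ => List ℕ) (Bool.rec (motive := fun _ => List ℕ) (Bool.rec (motive := fun _ => List ℕ) (rw1928) (rw1929) (Nat.ble 1929 i)) (Bool.rec (motive := fun _ => List ℕ) (rw1930) (rw1931) (Nat.ble 1931 i)) (Nat.ble 1930 i)) (Bool.rec (motive := fun _ => List ℕ) (Bool.rec (motive := fun _ => List ℕ) (rw1932) (rw1933) (Nat.ble 1933 i)) (Bool.rec (motive := fun _ => List ℕ) (rw1934) (rw1935) (Nat.ble 1935 i)) (Nat.ble 1934 i)) (Nat.ble 1932 i)) (Nat.ble 1928 i)) (Bool.rec (motive := fun _ => List ℕ) (Bool.rec (motive := fun _ => List ℕ) (Bool.rec (motive := fun _ => List ℕ) (Bool.rec (motive := fun _ => List ℕ) (rw1936) (rw1937) (Nat.ble 1937 i)) (Bool.rec (motive := fun _ => List ℕ) (rw1938) (rw1939) (Nat.ble 1939 i)) (Nat.ble 1938 i)) (Bool.rec (motive := fun _ => List ℕ) (Bool.rec (motive := fun _ => List ℕ) (rw1940) (rw1941) (Nat.ble 1941 i)) (Bool.rec (motive := fun _ => List ℕ) (rw1942) (rw1943) (Nat.ble 1943 i)) (Nat.ble 1942 i)) (Nat.ble 1940 i)) (Bool.rec (motive := fun _ => List ℕ) (Bool.rec (motive := fun _ => List ℕ) (Bool.rec (motive := fun _ => List ℕ) (rw1944) (rw1945) (Nat.ble 1945 i)) (Bool.rec (motive := fun _ => List ℕ) (rw1946) (rw1947) (Nat.ble 1947 i)) (Nat.ble 1946 i)) (Bool.rec (motive := fun _ => List ℕ) (Bool.rec (motive := fun _ => List ℕ) (rw1948) (rw1949) (Nat.ble 1949 i)) (Bool.rec (motive := fun _ => List ℕ) (rw1950) (rw1951) (Nat.ble 1951 i)) (Nat.ble 1950 i)) (Nat.ble 1948 i)) (Nat.ble 1944 i)) (Nat.ble 1936 i)) (Bool.rec (motive := fun _ => List ℕ) (Bool.rec (motive := fun _ => List ℕ) (Bool.rec (motive := fun _ => List ℕ) (Bool.rec (motive := fun _ => List ℕ) (Bool.rec (motive := fun _ => List ℕ) (rw1952) (rw1953) (Nat.ble 1953 i)) (Bool.rec (motive := fun _ => List ℕ) (rw1954) (rw1955) (Nat.ble 1955 i)) (Nat.ble 1954 i)) (Bool.rec (motive := fun _ => List ℕ) (Bool.rec (motive := fun _ => List ℕ) (rw1956) (rw1957) (Nat.ble 1957 i)) (Bool.rec (motive := fun _ => List ℕ) (rw1958) (rw1959) (Nat.ble 1959 i)) (Nat.ble 1958 i)) (Nat.ble 1956 i)) (Bool.rec (motive := fun _ => List ℕ) (Bool.rec (motive := fun _ => List ℕ) (Bool.rec (motive := fun _ => List ℕ) (rw1960) (rw1961) (Nat.ble 1961 i)) (Bool.rec (motive := fun _ => List ℕ) (rw1962) (rw1963) (Nat.ble 1963 i)) (Nat.ble 1962 i)) (Bool.rec (motive := fun _ => List ℕ) (Bool.rec (motive := fun _ => List ℕ) (rw1964) (rw1965) (Nat.ble 1965 i)) (Bool.rec (motive := fun _ => List ℕ) (rw1966) (rw1967) (Nat.ble 1967 i)) (Nat.ble 1966 i)) (Nat.ble 1964 i)) (Nat.ble 1960 i)) (Bool.rec (motive := fun _ => List ℕ) (Bool.rec (motive := fun _ => List ℕ) (Bool.rec (motive := fun _ => List ℕ) (Bool.rec (motive := fun _ => List ℕ) (rw1968) (rw1969) (Nat.ble 1969 i)) (Bool.rec (motive := fun _ => List ℕ) (rw1970) (rw1971) (Nat.ble 1971 i)) (Nat.ble 1970 i)) (Bool.rec (motive := fun _ => List ℕ) (Bool.rec (motive := fun _ => List ℕ) (rw1972) (rw1973) (Nat.ble 1973 i)) (Bool.rec (motive := fun _ => List ℕ) (rw1974) (rw1975) (Nat.ble 1975 i)) (Nat.ble 1974 i)) (Nat.ble 1972 i)) (Bool.rec (motive := fun _ => List ℕ) (Bool.rec (motive := fun _ => List ℕ) (Bool.rec (motive := fun _ => List ℕ) (rw1976) (rw1977) (Nat.ble 1977 i)) (Bool.rec (motive := fun _ => List ℕ) (rw1978) (rw1979) (Nat.ble 1979 i)) (Nat.ble 1978 i)) (Bool.rec (motive := fun _ => List ℕ) (Bool.rec (motive := fun _ => List ℕ) (rw1980) (rw1981) (Nat.ble 1981 i)) (Bool.rec (motive := fun _ => List ℕ) (rw1982) (rw1983) (Nat.ble 1983 i)) (Nat.ble 1982 i)) (Nat.ble 1980 i)) (Nat.ble 1976 i)) (Nat.ble 1968 i)) (Nat.ble 1952 i)) (Bool.rec (motive := fun _ => List ℕ) (Bool.rec (motive := fun _ => List ℕ) (Bool.rec (motive := fun _ => List ℕ) (Bool.rec (motive := fun _ => List ℕ) (Bool.rec (motive := fun _ => List ℕ) (Bool.rec (motive := fun _ => List ℕ) (rw1984) (rw1985) (Nat.ble 1985 i)) (Bool.rec (motive := fun _ => List ℕ) (rw1986) (rw1987) (Nat.ble 1987 i)) (Nat.ble 1986 i)) (Bool.rec (motive := fun _ => List ℕ) (Bool.rec (motive := fun _ => List ℕ) (rw1988) (rw1989) (Nat.ble 1989 i)) (Bool.rec (motive := fun _ => List ℕ) (rw1990) (rw1991) (Nat.ble 1991 i)) (Nat.ble 1990 i)) (Nat.ble 1988 i)) (Bool.rec (motive := fun _ => List ℕ) (Bool.rec (motive := fun _ => List ℕ) (Bool.rec (motive := fun _ => List ℕ) (rw1992) (rw1993) (Nat.ble 1993 i)) (Bool.rec (motive := fun _ => List ℕ) (rw1994) (rw1995) (Nat.ble 1995 i)) (Nat.ble 1994 i)) (Bool.rec (motive := fun _ => List ℕ) (Bool.rec (motive := fun _ => List ℕ) (rw1996) (rw1997) (Nat.ble 1997 i)) (Bool.rec (motive := fun _ => List ℕ) (rw1998) (rw1999) (Nat.ble 1999 i)) (Nat.ble 1998 i)) (Nat.ble 1996 i)) (Nat.ble 1992 i)) (Bool.rec (motive := fun _ => List ℕ) (Bool.rec (motive := fun _ => List ℕ) (Bool.rec (motive := fun _ => List ℕ) (Bool.rec (motive := fun _ => List ℕ) (rw2000) (rw2001) (Nat.ble 2001 i)) (Bool.rec (motive := fun _ => List ℕ) (rw2002) (rw2003) (Nat.ble 2003 i)) (Nat.ble 2002 i)) (Bool.rec (motive := fun _ => List ℕ) (Bool.rec (motive := fun _ => List ℕ) (rw2004) (rw2005) (Nat.ble 2005 i)) (Bool.rec (motive := fun _ => List ℕ) (rw2006) (rw2007) (Nat.ble 2007 i)) (Nat.ble 2006 i)) (Nat.ble 2004 i)) (Bool.rec (motive := fun _ => List ℕ) (Bool.rec (motive := fun _ => List ℕ) (Bool.rec (motive := fun _ => List ℕ) (rw2008) (rw2009) (Nat.ble 2009 i)) (Bool.rec (motive := fun _ => List ℕ) (rw2010) (rw2011) (Nat.ble 2011 i)) (Nat.ble 2010 i)) (Bool.rec (motive := fun _ => List ℕ) (Bool.rec (motive := fun _ => List ℕ) (rw2012) (rw2013) (Nat.ble 2013 i)) (Bool.rec (motive := fun _ => List ℕ) (rw2014) (rw2015) (Nat.ble 2015 i)) (Nat.ble 2014 i)) (Nat.ble 2012 i)) (Nat.ble 2008 i)) (Nat.ble 2000 i)) (Bool.rec (motive := fun _ => List ℕ) (Bool.rec (motive := fun _ => List ℕ) (Bool.rec (motive := fun _ => List ℕ) (Bool.rec (motive := fun _ => List ℕ) (Bool.rec (motive := fun _ => List ℕ) (rw2016) (rw2017) (Nat.ble 2017 i)) (Bool.rec (motive := fun _ => List ℕ) (rw2018) (rw2019) (Nat.ble 2019 i)) (Nat.ble 2018 i)) (Bool.rec (motive := fun _ => List ℕ) (Bool.rec (motive := fun _ => List ℕ) (rw2020) (rw2021) (Nat.ble 2021 i)) (Bool.rec (motive := fun _ => List ℕ) (rw2022) (rw2023) (Nat.ble 2023 i)) (Nat.ble 2022 i)) (Nat.ble 2020 i)) (Bool.rec (motive := fun _ => List ℕ) (Bool.rec (motive := fun _ => List ℕ) (Bool.rec (motive := fun _ => List ℕ) (rw2024) (rw2025) (Nat.ble 2025 i)) (Bool.rec (motive := fun _ => List ℕ) (rw2026) (rw2027) (Nat.ble 2027 i)) (Nat.ble 2026 i)) (Bool.rec (motive := fun _ => List ℕ) (Bool.rec (motive := fun _ => List ℕ) (rw2028) (rw2029) (Nat.ble 2029 i)) (Bool.rec (motive := fun _ => List ℕ) (rw2030) (rw2031) (Nat.ble 2031 i)) (Nat.ble 2030 i)) (Nat.ble 2028 i)) (Nat.ble 2024 i)) (Bool.rec (motive := fun _ => List ℕ) (Bool.rec (motive := fun _ => List ℕ) (Bool.rec (motive := fun _ => List ℕ) (Bool.rec (motive := fun _ => List ℕ) (rw2032) (rw2033) (Nat.ble 2033 i)) (Bool.rec (motive := fun _ => List ℕ) (rw2034) (rw2035) (Nat.ble 2035 i)) (Nat.ble 2034 i)) (Bool.rec (motive := fun _ => List ℕ) (Bool.rec (motive := fun _ => List ℕ) (rw2036) (rw2037) (Nat.ble 2037 i)) (Bool.rec (motive := fun _ => List ℕ) (rw2038) (rw2039) (Nat.ble 2039 i)) (Nat.ble 2038 i)) (Nat.ble 2036 i)) (Bool.rec (motive := fun _ => List ℕ) (Bool.rec (motive := fun _ => List ℕ) (Bool.rec (motive := fun _ => List ℕ) (rw2040) (rw2041) (Nat.ble 2041 i)) (Bool.rec (motive := fun _ => List ℕ) (rw2042) (rw2043) (Nat.ble 2043 i)) (Nat.ble 2042 i)) (Bool.rec (motive := fun _ => List ℕ) (Bool.rec (motive := fun _ => List ℕ) (rw2044) (rw2045) (Nat.ble 2045 i)) (Bool.rec (motive := fun _ => List ℕ) (rw2046) (rw2047) (Nat.ble 2047 i)) (Nat.ble 2046 i)) (Nat.ble 2044 i)) (Nat.ble 2040 i)) (Nat.ble 2032 i)) (Nat.ble 2016 i)) (Nat.ble 1984 i)) (Nat.ble 1920 i)) (Nat.ble 1792 i)) (Nat.ble 1536 i)) (Nat.ble 1024 i)) (Bool.rec (motive := fun _ => List ℕ) (Bool.rec (motive := fun _ => List ℕ) (Bool.rec (motive := fun _ => List ℕ) (Bool.rec (motive := fun _ => List ℕ) (Bool.rec (motive := fun _ => List ℕ) (Bool.rec (motive := fun _ => List ℕ) (Bool.rec (motive := fun _ => List ℕ) (Bool.rec (motive := fun _ => List ℕ) (Bool.rec (motive := fun _ => List ℕ) (Bool.rec (motive := fun _ => List ℕ) (Bool.rec (motive := fun _ => List ℕ) (rw2048) (rw2049) (Nat.ble 2049 i)) (Bool.rec (motive := fun _ => List ℕ) (rw2050) (rw2051) (Nat.ble 2051 i)) (Nat.ble 2050 i)) (Bool.rec (motive := fun _ => List ℕ) (Bool.rec (motive := fun _ => List ℕ) (rw2052) (rw2053) (Nat.ble 2053 i)) (Bool.rec (motive := fun _ => List ℕ) (rw2054) (rw2055) (Nat.ble 2055 i)) (Nat.ble 2054 i)) (Nat.ble 2052 i)) (Bool.rec (motive := fun _ => List ℕ) (Bool.rec (motive := fun _ => List ℕ) (Bool.rec (motive := fun _ => List ℕ) (rw2056) (rw2057) (Nat.ble 2057 i)) (Bool.rec (motive := fun _ => List ℕ) (rw2058) (rw2059) (Nat.ble 2059 i)) (Nat.ble 2058 i)) (Bool.rec (motive := fun _ => List ℕ) (Bool.rec (motive := fun _ => List ℕ) (rw2060) (rw2061) (Nat.ble 2061 i)) (Bool.rec (motive := fun _ => List ℕ) (rw2062) (rw2063) (Nat.ble 2063 i)) (Nat.ble 2062 i)) (Nat.ble 2060 i)) (Nat.ble 2056 i)) (Bool.rec (motive := fun _ => List ℕ) (Bool.rec (motive := fun _ => List ℕ) (Bool.rec (motive := fun _ => List ℕ) (Bool.rec (motive := fun _ => List ℕ) (rw2064) (rw2065) (Nat.ble 2065 i)) (Bool.rec (motive := fun _ => List ℕ) (rw2066) (rw2067) (Nat.ble 2067 i)) (Nat.ble 2066 i)) (Bool.rec (motive := fun _ => List ℕ) (Bool.rec (motive := fun _ => List ℕ) (rw2068) (rw2069) (Nat.ble 2069 i)) (Bool.rec (motive := fun _ => List ℕ) (rw2070) (rw2071) (Nat.ble 2071 i)) (Nat.ble 2070 i)) (Nat.ble 2068 i)) (Bool.rec (motive := fun _ => List ℕ) (Bool.rec (motive := fun _ => List ℕ) (Bool.rec (motive := fun _ => List ℕ) (rw2072) (rw2073) (Nat.ble 2073 i)) (Bool.rec (motive := fun _ => List ℕ) (rw2074) (rw2075) (Nat.ble 2075 i)) (Nat.ble 2074 i)) (Bool.rec (motive := fun _ => List ℕ) (Bool.rec (motive := fun _ => List ℕ) (rw2076) (rw2077) (Nat.ble 2077 i)) (Bool.rec (motive := fun _ => List ℕ) (rw2078) (rw2079) (Nat.ble 2079 i)) (Nat.ble 2078 i)) (Nat.ble 2076 i)) (Nat.ble 2072 i)) (Nat.ble 2064 i)) (Bool.rec (motive := fun _ => List ℕ) (Bool.rec (motive := fun _ => List ℕ) (Bool.rec (motive := fun _ => List ℕ) (Bool.rec (motive := fun _ => List ℕ) (Bool.rec (motive := fun _ => List ℕ) (rw2080) (rw2081) (Nat.ble 2081 i)) (Bool.rec (motive := fun _ => List ℕ) (rw2082) (rw2083) (Nat.ble 2083 i)) (Nat.ble 2082 i)) (Bool.rec (motive := fun _ => List ℕ) (Bool.rec (motive := fun _ => List ℕ) (rw2084) (rw2085) (Nat.ble 2085 i)) (Bool.rec (motive := fun _ => List ℕ) (rw2086) (rw2087) (Nat.ble 2087 i)) (Nat.ble 2086 i)) (Nat.ble 2084 i)) (Bool.rec (motive := fun _ => List ℕ) (Bool.rec (motive := fun _ => List ℕ) (Bool.rec (motive := fun _ => List ℕ) (rw2088) (rw2089) (Nat.ble 2089 i)) (Bool.rec (motive := fun _ => List ℕ) (rw2090) (rw2091) (Nat.ble 2091 i)) (Nat.ble 2090 i)) (Bool.rec (motive := fun _ => List ℕ) (Bool.rec (motive := fun _ => List ℕ) (rw2092) (rw2093) (Nat.ble 2093 i)) (Bool.rec (motive := fun _ => List ℕ) (rw2094) (rw2095) (Nat.ble 2095 i)) (Nat.ble 2094 i)) (Nat.ble 2092 i)) (Nat.ble 2088 i)) (Bool.rec (motive := fun _ => List ℕ) (Bool.rec (motive := fun _ => List ℕ) (Bool.rec (motive := fun _ => List ℕ) (Bool.rec (motive := fun _ => List ℕ) (rw2096) (rw2097) (Nat.ble 2097 i)) (Bool.rec (motive := fun _ => List ℕ) (rw2098) (rw2099) (Nat.ble 2099 i)) (Nat.ble 2098 i)) (Bool.rec (motive := fun _ => List ℕ) (Bool.rec (motive := fun _ => List ℕ) (rw2100) (rw2101) (Nat.ble 2101 i)) (Bool.rec (motive := fun _ => List ℕ) (rw2102) (rw2103) (Nat.ble 2103 i)) (Nat.ble 2102 i)) (Nat.ble 2100 i)) (Bool.rec (motive := fun _ => List ℕ) (Bool.rec (motive := fun _ => List ℕ) (Bool.rec (motive := fun _ => List ℕ) (rw2104) (rw2105) (Nat.ble 2105 i)) (Bool.rec (motive := fun _ => List ℕ) (rw2106) (rw2107) (Nat.ble 2107 i)) (Nat.ble 2106 i)) (Bool.rec (motive := fun _ => List ℕ) (Bool.rec (motive := fun _ => List ℕ) (rw2108) (rw2109) (Nat.ble 2109 i)) (Bool.rec (motive := fun _ => List ℕ) (rw2110) (rw2111) (Nat.ble 2111 i)) (Nat.ble 2110 i)) (Nat.ble 2108 i)) (Nat.ble 2104 i)) (Nat.ble 2096 i)) (Nat.ble 2080 i)) (Bool.rec (motive := fun _ => List ℕ) (Bool.rec (motive := fun _ => List ℕ) (Bool.rec (motive := fun _ => List ℕ) (Bool.rec (motive := fun _ => List ℕ) (Bool.rec (motive := fun _ => List ℕ) (Bool.rec (motive := fun _ => List ℕ) (rw2112) (rw2113) (Nat.ble 2113 i)) (Bool.rec (motive := fun _ => List ℕ) (rw2114) (rw2115) (Nat.ble 2115 i)) (Nat.ble 2114 i)) (Bool.rec (motive := fun _ => List ℕ) (Bool.rec (motive := fun _ => List ℕ) (rw2116) (rw2117) (Nat.ble 2117 i)) (Bool.rec (motive := fun _ => List ℕ) (rw2118) (rw2119) (Nat.ble 2119 i)) (Nat.ble 2118 i)) (Nat.ble 2116 i)) (Bool.rec (motive := fun _ => List ℕ) (Bool.rec (motive := fun _ => List ℕ) (Bool.rec (motive := fun _ => List ℕ) (rw2120) (rw2121) (Nat.ble 2121 i)) (Bool.rec (motive := fun _ => List ℕ) (rw2122) (rw2123) (Nat.ble 2123 i)) (Nat.ble 2122 i)) (Bool.rec (motive := fun _ => List ℕ) (Bool.rec (motive := fun _ => List ℕ) (rw2124) (rw2125) (Nat.ble 2125 i)) (Bool.rec (motive := fun _ => List ℕ) (rw2126) (rw2127) (Nat.ble 2127 i)) (Nat.ble 2126 i)) (Nat.ble 2124 i)) (Nat.ble 2120 i)) (Bool.rec (motive := fun _ => List ℕ) (Bool.rec (motive := fun _ => List ℕ) (Bool.rec (motive := fun _ => List ℕ) (Bool.rec (motive := fun _ => List ℕ) (rw2128) (rw2129) (Nat.ble 2129 i)) (Bool.rec (motive := fun _ => List ℕ) (rw2130) (rw2131) (Nat.ble 2131 i)) (Nat.ble 2130 i)) (Bool.rec (motive := fun _ => List ℕ) (Bool.rec (motive := fun _ => List ℕ) (rw2132) (rw2133) (Nat.ble 2133 i)) (Bool.rec (motive := fun _ => List ℕ) (rw2134) (rw2135) (Nat.ble 2135 i)) (Nat.ble 2134 i)) (Nat.ble 2132 i)) (Bool.rec (motive := fun _ => List ℕ) (Bool.rec (motive := fun _ => List ℕ) (Bool.rec (motive := fun _ => List ℕ) (rw2136) (rw2137) (Nat.ble 2137 i)) (Bool.rec (motive := fun _ => List ℕ) (rw2138) (rw2139) (Nat.ble 2139 i)) (Nat.ble 2138 i)) (Bool.rec (motive := fun _ => List ℕ) (Bool.rec (motive := fun _ => List ℕ) (rw2140) (rw2141) (Nat.ble 2141 i)) (Bool.rec (motive := fun _ => List ℕ) (rw2142) (rw2143) (Nat.ble 2143 i)) (Nat.ble 2142 i)) (Nat.ble 2140 i)) (Nat.ble 2136 i)) (Nat.ble 2128 i)) (Bool.rec (motive := fun _ => List ℕ) (Bool.rec (motive := fun _ => List ℕ) (Bool.rec (motive := fun _ => List ℕ) (Bool.rec (motive := fun _ => List ℕ) (Bool.rec (motive := fun _ => List ℕ) (rw2144) (rw2145) (Nat.ble 2145 i)) (Bool.rec (motive := fun _ => List ℕ) (rw2146) (rw2147) (Nat.ble 2147 i)) (Nat.ble 2146 i)) (Bool.rec (motive := fun _ => List ℕ) (Bool.rec (motive := fun _ => List ℕ) (rw2148) (rw2149) (Nat.ble 2149 i)) (Bool.rec (motive := fun _ => List ℕ) (rw2150) (rw2151) (Nat.ble 2151 i)) (Nat.ble 2150 i)) (Nat.ble 2148 i)) (Bool.rec (motive := fun _ => List ℕ) (Bool.rec (motive := fun _ => List ℕ) (Bool.rec (motive := fun _ => List ℕ) (rw2152) (rw2153) (Nat.ble 2153 i)) (Bool.rec (motive := fun _ => List ℕ) (rw2154) (rw2155) (Nat.ble 2155 i)) (Nat.ble 2154 i)) (Bool.rec (motive := fun _ => List ℕ) (Bool.rec (motive := fun _ => List ℕ) (rw2156) (rw2157) (Nat.ble 2157 i)) (Bool.rec (motive := fun _ => List ℕ) (rw2158) (rw2159) (Nat.ble 2159 i)) (Nat.ble 2158 i)) (Nat.ble 2156 i)) (Nat.ble 2152 i)) (Bool.rec (motive := fun _ => List ℕ) (Bool.rec (motive := fun _ => List ℕ) (Bool.rec (motive := fun _ => List ℕ) (Bool.rec (motive := fun _ => List ℕ) (rw2160) (rw2161) (Nat.ble 2161 i)) (Bool.rec (motive := fun _ => List ℕ) (rw2162) (rw2163) (Nat.ble 2163 i)) (Nat.ble 2162 i)) (Bool.rec (motive := fun _ => List ℕ) (Bool.rec (motive := fun _ => List ℕ) (rw2164) (rw2165) (Nat.ble 2165 i)) (Bool.rec (motive := fun _ => List ℕ) (rw2166) (rw2167) (Nat.ble 2167 i)) (Nat.ble 2166 i)) (Nat.ble 2164 i)) (Bool.rec (motive := fun _ => List ℕ) (Bool.rec (motive := fun _ => List ℕ) (Bool.rec (motive := fun _ => List ℕ) (rw2168) (rw2169) (Nat.ble 2169 i)) (Bool.rec (motive := fun _ => List ℕ) (rw2170) (rw2171) (Nat.ble 2171 i)) (Nat.ble 2170 i)) (Bool.rec (motive := fun _ => List ℕ) (Bool.rec (motive := fun _ => List ℕ) (rw2172) (rw2173) (Nat.ble 2173 i)) (Bool.rec (motive := fun _ => List ℕ) (rw2174) (rw2175) (Nat.ble 2175 i)) (Nat.ble 2174 i)) (Nat.ble 2172 i)) (Nat.ble 2168 i)) (Nat.ble 2160 i)) (Nat.ble 2144 i)) (Nat.ble 2112 i)) (Bool.rec (motive := fun _ => List ℕ) (Bool.rec (motive := fun _ => List ℕ) (Bool.rec (motive := fun _ => List ℕ) (Bool.rec (motive := fun _ => List ℕ) (Bool.rec (motive := fun _ => List ℕ) (Bool.rec (motive := fun _ => List ℕ) (Bool.rec (motive := fun _ => List ℕ) (rw2176) (rw2177) (Nat.ble 2177 i)) (Bool.rec (motive := fun _ => List ℕ) (rw2178) (rw2179) (Nat.ble 2179 i)) (Nat.ble 2178 i)) (Bool.rec (motive := fun _ => List ℕ) (Bool.rec (motive := fun _ => List ℕ) (rw2180) (rw2181) (Nat.ble 2181 i)) (Bool.rec (motive := fun _ => List ℕ) (rw2182) (rw2183) (Nat.ble 2183 i)) (Nat.ble 2182 i)) (Nat.ble 2180 i)) (Bool.rec (motive := fun _ => List ℕ) (Bool.rec (motive := fun _ => List ℕ) (Bool.rec (motive := fun _ => List ℕ) (rw2184) (rw2185) (Nat.ble 2185 i)) (Bool.rec (motive := fun _ => List ℕ) (rw2186) (rw2187) (Nat.ble 2187 i)) (Nat.ble 2186 i)) (Bool.rec (motive := fun _ => List ℕ) (Bool.rec (motive := fun _ => List ℕ) (rw2188) (rw2189) (Nat.ble 2189 i)) (Bool.rec (motive := fun _ => List ℕ) (rw2190) (rw2191) (Nat.ble 2191 i)) (Nat.ble 2190 i)) (Nat.ble 2188 i)) (Nat.ble 2184 i)) (Bool.rec (motive := fun _ => List ℕ) (Bool.rec (motive := fun _ => List ℕ) (Bool.rec (motive := fun _ => List ℕ) (Bool.rec (motive := fun _ => List ℕ) (rw2192) (rw2193) (Nat.ble 2193 i)) (Bool.rec (motive := fun _ => List ℕ) (rw2194) (rw2195) (Nat.ble 2195 i)) (Nat.ble 2194 i)) (Bool.rec (motive := fun _ => List ℕ) (Bool.rec (motive := fun _ => List ℕ) (rw2196) (rw2197) (Nat.ble 2197 i)) (Bool.rec (motive := fun _ => List ℕ) (rw2198) (rw2199) (Nat.ble 2199 i)) (Nat.ble 2198 i)) (Nat.ble 2196 i)) (Bool.rec (motive := fun _ => List ℕ) (Bool.rec (motive := fun _ => List ℕ) (Bool.rec (motive := fun _ => List ℕ) (rw2200) (rw2201) (Nat.ble 2201 i)) (Bool.rec (motive := fun _ => List ℕ) (rw2202) (rw2203) (Nat.ble 2203 i)) (Nat.ble 2202 i)) (Bool.rec (motive := fun _ => List ℕ) (Bool.rec (motive := fun _ => List ℕ) (rw2204) (rw2205) (Nat.ble 2205 i)) (Bool.rec (motive := fun _ => List ℕ) (rw2206) (rw2207) (Nat.ble 2207 i)) (Nat.ble 2206 i)) (Nat.ble 2204 i)) (Nat.ble 2200 i)) (Nat.ble 2192 i)) (Bool.rec (motive := fun _ => List ℕ) (Bool.rec (motive := fun _ => List ℕ) (Bool.rec (motive := fun _ => List ℕ) (Bool.rec (motive := fun _ => List ℕ) (Bool.rec (motive := fun _ => List ℕ) (rw2208) (rw2209) (Nat.ble 2209 i)) (Bool.rec (motive := fun _ => List ℕ) (rw2210) (rw2211) (Nat.ble 2211 i)) (Nat.ble 2210 i)) (Bool.rec (motive := fun _ => List ℕ) (Bool.rec (motive := fun _ => List ℕ) (rw2212) (rw2213) (Nat.ble 2213 i)) (Bool.rec (motive := fun _ => List ℕ) (rw2214) (rw2215) (Nat.ble 2215 i)) (Nat.ble 2214 i)) (Nat.ble 2212 i)) (Bool.rec (motive := fun _ => List ℕ) (Bool.rec (motive := fun _ => List ℕ) (Bool.rec (motive := fun _ => List ℕ) (rw2216) (rw2217) (Nat.ble 2217 i)) (Bool.rec (motive := fun _ => List ℕ) (rw2218) (rw2219) (Nat.ble 2219 i)) (Nat.ble 2218 i)) (Bool.rec (motive := fun _ => List ℕ) (Bool.rec (motive := fun _ => List ℕ) (rw2220) (rw2221) (Nat.ble 2221 i)) (Bool.rec (motive := fun _ => List ℕ) (rw2222) (rw2223) (Nat.ble 2223 i)) (Nat.ble 2222 i)) (Nat.ble 2220 i)) (Nat.ble 2216 i)) (Bool.rec (motive := fun _ => List ℕ) (Bool.rec (motive := fun _ => List ℕ) (Bool.rec (motive := fun _ => List ℕ) (Bool.rec (motive := fun _ => List ℕ) (rw2224) (rw2225) (Nat.ble 2225 i)) (Bool.rec (motive := fun _ => List ℕ) (rw2226) (rw2227) (Nat.ble 2227 i)) (Nat.ble 2226 i)) (Bool.rec (motive := fun _ => List ℕ) (Bool.rec (motive := fun _ => List ℕ) (rw2228) (rw2229) (Nat.ble 2229 i)) (Bool.rec (motive := fun _ => List ℕ) (rw2230) (rw2231) (Nat.ble 2231 i)) (Nat.ble 2230 i)) (Nat.ble 2228 i)) (Bool.rec (motive := fun _ => List ℕ) (Bool.rec (motive := fun _ => List ℕ) (Bool.rec (motive := fun _ => List ℕ) (rw2232) (rw2233) (Nat.ble 2233 i)) (Bool.rec (motive := fun _ => List ℕ) (rw2234) (rw2235) (Nat.ble 2235 i)) (Nat.ble 2234 i)) (Bool.rec (motive := fun _ => List ℕ) (Bool.rec (motive := fun _ => List ℕ) (rw2236) (rw2237) (Nat.ble 2237 i)) (Bool.rec (motive := fun _ => List ℕ) (rw2238) (rw2239) (Nat.ble 2239 i)) (Nat.ble 2238 i)) (Nat.ble 2236 i)) (Nat.ble 2232 i)) (Nat.ble 2224 i)) (Nat.ble 2208 i)) (Bool.rec (motive := fun _ => List ℕ) (Bool.rec (motive := fun _ => List ℕ) (Bool.rec (motive := fun _ => List ℕ) (Bool.rec (motive := fun _ => List ℕ) (Bool.rec (motive := fun _ => List ℕ) (Bool.rec (motive := fun _ => List ℕ) (rw2240) (rw2241) (Nat.ble 2241 i)) (Bool.rec (motive := fun _ => List ℕ) (rw2242) (rw2243) (Nat.ble 2243 i)) (Nat.ble 2242 i)) (Bool.rec (motive := fun _ => List ℕ) (Bool.rec (motive := fun _ => List ℕ) (rw2244) (rw2245) (Nat.ble 2245 i)) (Bool.rec (motive := fun _ => List ℕ) (rw2246) (rw2247) (Nat.ble 2247 i)) (Nat.ble 2246 i)) (Nat.ble 2244 i)) (Bool.rec (motive := fun _ => List ℕ) (Bool.rec (motive := fun _ => List ℕ) (Bool.rec (motive := fun _ => List ℕ) (rw2248) (rw2249) (Nat.ble 2249 i)) (Bool.rec (motive := fun _ => List ℕ) (rw2250) (rw2251) (Nat.ble 2251 i)) (Nat.ble 2250 i)) (Bool.rec (motive := fun _ => List ℕ) (Bool.rec (motive := fun _ => List ℕ) (rw2252) (rw2253) (Nat.ble 2253 i)) (Bool.rec (motive := fun _ => List ℕ) (rw2254) (rw2255) (Nat.ble 2255 i)) (Nat.ble 2254 i)) (Nat.ble 2252 i)) (Nat.ble 2248 i)) (Bool.rec (motive := fun _ => List ℕ) (Bool.rec (motive := fun _ => List ℕ) (Bool.rec (motive := fun _ => List ℕ) (Bool.rec (motive := fun _ => List ℕ) (rw2256) (rw2257) (Nat.ble 2257 i)) (Bool.rec (motive := fun _ => List ℕ) (rw2258) (rw2259) (Nat.ble 2259 i)) (Nat.ble 2258 i)) (Bool.rec (motive := fun _ => List ℕ) (Bool.rec (motive := fun _ => List ℕ) (rw2260) (rw2261) (Nat.ble 2261 i)) (Bool.rec (motive := fun _ => List ℕ) (rw2262) (rw2263) (Nat.ble 2263 i)) (Nat.ble 2262 i)) (Nat.ble 2260 i)) (Bool.rec (motive := fun _ => List ℕ) (Bool.rec (motive := fun _ => List ℕ) (Bool.rec (motive := fun _ => List ℕ) (rw2264) (rw2265) (Nat.ble 2265 i)) (Bool.rec (motive := fun _ => List ℕ) (rw2266) (rw2267) (Nat.ble 2267 i)) (Nat.ble 2266 i)) (Bool.rec (motive := fun _ => List ℕ) (Bool.rec (motive := fun _ => List ℕ) (rw2268) (rw2269) (Nat.ble 2269 i)) (Bool.rec (motive := fun _ => List ℕ) (rw2270) (rw2271) (Nat.ble 2271 i)) (Nat.ble 2270 i)) (Nat.ble 2268 i)) (Nat.ble 2264 i)) (Nat.ble 2256 i)) (Bool.rec (motive := fun _ => List ℕ) (Bool.rec (motive := fun _ => List ℕ) (Bool.rec (motive := fun _ => List ℕ) (Bool.rec (motive := fun _ => List ℕ) (Bool.rec (motive := fun _ => List ℕ) (rw2272) (rw2273) (Nat.ble 2273 i)) (Bool.rec (motive := fun _ => List ℕ) (rw2274) (rw2275) (Nat.ble 2275 i)) (Nat.ble 2274 i)) (Bool.rec (motive := fun _ => List ℕ) (Bool.rec (motive := fun _ => List ℕ) (rw2276) (rw2277) (Nat.ble 2277 i)) (Bool.rec (motive := fun _ => List ℕ) (rw2278) (rw2279) (Nat.ble 2279 i)) (Nat.ble 2278 i)) (Nat.ble 2276 i)) (Bool.rec (motive := fun _ => List ℕ) (Bool.rec (motive := fun _ => List ℕ) (Bool.rec (motive := fun _ => List ℕ) (rw2280) (rw2281) (Nat.ble 2281 i)) (Bool.rec (motive := fun _ => List ℕ) (rw2282) (rw2283) (Nat.ble 2283 i)) (Nat.ble 2282 i)) (Bool.rec (motive := fun _ => List ℕ) (Bool.rec (motive := fun _ => List ℕ) (rw2284) (rw2285) (Nat.ble 2285 i)) (Bool.rec (motive := fun _ => List ℕ) (rw2286) (rw2287) (Nat.ble 2287 i)) (Nat.ble 2286 i)) (Nat.ble 2284 i)) (Nat.ble 2280 i)) (Bool.rec (motive := fun _ => List ℕ) (Bool.rec (motive := fun _ => List ℕ) (Bool.rec (motive := fun _ => List ℕ) (Bool.rec (motive := fun _ => List ℕ) (rw2288) (rw2289) (Nat.ble 2289 i)) (Bool.rec (motive := fun _ => List ℕ) (rw2290) (rw2291) (Nat.ble 2291 i)) (Nat.ble 2290 i)) (Bool.rec (motive := fun _ => List ℕ) (Bool.rec (motive := fun _ => List ℕ) (rw2292) (rw2293) (Nat.ble 2293 i)) (Bool.rec (motive := fun _ => List ℕ) (rw2294) (rw2295) (Nat.ble 2295 i)) (Nat.ble 2294 i)) (Nat.ble 2292 i)) (Bool.rec (motive := fun _ => List ℕ) (Bool.rec (motive := fun _ => List ℕ) (Bool.rec (motive := fun _ => List ℕ) (rw2296) (rw2297) (Nat.ble 2297 i)) (Bool.rec (motive := fun _ => List ℕ) (rw2298) (rw2299) (Nat.ble 2299 i)) (Nat.ble 2298 i)) (Bool.rec (motive := fun _ => List ℕ) (Bool.rec (motive := fun _ => List ℕ) (rw2300) (rw2301) (Nat.ble 2301 i)) (Bool.rec (motive := fun _ => List ℕ) (rw2302) (rw2303) (Nat.ble 2303 i)) (Nat.ble 2302 i)) (Nat.ble 2300 i)) (Nat.ble 2296 i)) (Nat.ble 2288 i)) (Nat.ble 2272 i)) (Nat.ble 2240 i)) (Nat.ble 2176 i)) (Bool.rec (motive := fun _ => List ℕ) (Bool.rec (motive := fun _ => List ℕ) (Bool.rec (motive := fun _ => List ℕ) (Bool.rec (motive := fun _ => List ℕ) (Bool.rec (motive := fun _ => List ℕ) (Bool.rec (motive := fun _ => List ℕ) (Bool.rec (motive := fun _ => List ℕ) (Bool.rec (motive := fun _ => List ℕ) (rw2304) (rw2305) (Nat.ble 2305 i)) (Bool.rec (motive := fun _ => List ℕ) (rw2306) (rw2307) (Nat.ble 2307 i)) (Nat.ble 2306 i)) (Bool.rec (motive := fun _ => List ℕ) (Bool.rec (motive := fun _ => List ℕ) (rw2308) (rw2309) (Nat.ble 2309 i)) (Bool.rec (motive := fun _ => List ℕ) (rw2310) (rw2311) (Nat.ble 2311 i)) (Nat.ble 2310 i)) (Nat.ble 2308 i)) (Bool.rec (motive := fun _ => List ℕ) (Bool.rec (motive := fun _ => List ℕ) (Bool.rec (motive := fun _ => List ℕ) (rw2312) (rw2313) (Nat.ble 2313 i)) (Bool.rec (motive := fun _ => List ℕ) (rw2314) (rw2315) (Nat.ble 2315 i)) (Nat.ble 2314 i)) (Bool.rec (motive := fun _ => List ℕ) (Bool.rec (motive := fun _ => List ℕ) (rw2316) (rw2317) (Nat.ble 2317 i)) (Bool.rec (motive := fun _ => List ℕ) (rw2318) (rw2319) (Nat.ble 2319 i)) (Nat.ble 2318 i)) (Nat.ble 2316 i)) (Nat.ble 2312 i)) (Bool.rec (motive := fun _ => List ℕ) (Bool.rec (motive := fun _ => List ℕ) (Bool.rec (motive := fun _ => List ℕ) (Bool.rec (motive := fun _ => List ℕ) (rw2320) (rw2321) (Nat.ble 2321 i)) (Bool.rec (motive := fun _ => List ℕ) (rw2322) (rw2323) (Nat.ble 2323 i)) (Nat.ble 2322 i)) (Bool.rec (motive := fun _ => List ℕ) (Bool.rec (motive := fun _ => List ℕ) (rw2324) (rw2325) (Nat.ble 2325 i)) (Bool.rec (motive := fun _ => List ℕ) (rw2326) (rw2327) (Nat.ble 2327 i)) (Nat.ble 2326 i)) (Nat.ble 2324 i)) (Bool.rec (motive := fun _ => List ℕ) (Bool.rec (motive := fun _ => List ℕ) (Bool.rec (motive := fun _ => List ℕ) (rw2328) (rw2329) (Nat.ble 2329 i)) (Bool.rec (motive := fun _ => List ℕ) (rw2330) (rw2331) (Nat.ble 2331 i)) (Nat.ble 2330 i)) (Bool.rec (motive := fun _ => List ℕ) (Bool.rec (motive := fun _ => List ℕ) (rw2332) (rw2333) (Nat.ble 2333 i)) (Bool.rec (motive := fun _ => List ℕ) (rw2334) (rw2335) (Nat.ble 2335 i)) (Nat.ble 2334 i)) (Nat.ble 2332 i)) (Nat.ble 2328 i)) (Nat.ble 2320 i)) (Bool.rec (motive := fun _ => List ℕ) (Bool.rec (motive := fun _ => List ℕ) (Bool.rec (motive := fun _ => List ℕ) (Bool.rec (motive := fun _ => List ℕ) (Bool.rec (motive := fun _ => List ℕ) (rw2336) (rw2337) (Nat.ble 2337 i)) (Bool.rec (motive := fun _ => List ℕ) (rw2338) (rw2339) (Nat.ble 2339 i)) (Nat.ble 2338 i)) (Bool.rec (motive := fun _ => List ℕ) (Bool.rec (motive := fun _ => List ℕ) (rw2340) (rw2341) (Nat.ble 2341 i)) (Bool.rec (motive := fun _ => List ℕ) (rw2342) (rw2343) (Nat.ble 2343 i)) (Nat.ble 2342 i)) (Nat.ble 2340 i)) (Bool.rec (motive := fun _ => List ℕ) (Bool.rec (motive := fun _ => List ℕ) (Bool.rec (motive := fun _ => List ℕ) (rw2344) (rw2345) (Nat.ble 2345 i)) (Bool.rec (motive := fun _ => List ℕ) (rw2346) (rw2347) (Nat.ble 2347 i)) (Nat.ble 2346 i)) (Bool.rec (motive := fun _ => List ℕ) (Bool.rec (motive := fun _ => List ℕ) (rw2348) (rw2349) (Nat.ble 2349 i)) (Bool.rec (motive := fun _ => List ℕ) (rw2350) (rw2351) (Nat.ble 2351 i)) (Nat.ble 2350 i)) (Nat.ble 2348 i)) (Nat.ble 2344 i)) (Bool.rec (motive := fun _ => List ℕ) (Bool.rec (motive := fun _ => List ℕ) (Bool.rec (motive := fun _ => List ℕ) (Bool.rec (motive := fun _ => List ℕ) (rw2352) (rw2353) (Nat.ble 2353 i)) (Bool.rec (motive := fun _ => List ℕ) (rw2354) (rw2355) (Nat.ble 2355 i)) (Nat.ble 2354 i)) (Bool.rec (motive := fun _ => List ℕ) (Bool.rec (motive := fun _ => List ℕ) (rw2356) (rw2357) (Nat.ble 2357 i)) (Bool.rec (motive := fun _ => List ℕ) (rw2358) (rw2359) (Nat.ble 2359 i)) (Nat.ble 2358 i)) (Nat.ble 2356 i)) (Bool.rec (motive := fun _ => List ℕ) (Bool.rec (motive := fun _ => List ℕ) (Bool.rec (motive := fun _ => List ℕ) (rw2360) (rw2361) (Nat.ble 2361 i)) (Bool.rec (motive := fun _ => List ℕ) (rw2362) (rw2363) (Nat.ble 2363 i)) (Nat.ble 2362 i)) (Bool.rec (motive := fun _ => List ℕ) (Bool.rec (motive := fun _ => List ℕ) (rw2364) (rw2365) (Nat.ble 2365 i)) (Bool.rec (motive := fun _ => List ℕ) (rw2366) (rw2367) (Nat.ble 2367 i)) (Nat.ble 2366 i)) (Nat.ble 2364 i)) (Nat.ble 2360 i)) (Nat.ble 2352 i)) (Nat.ble 2336 i)) (Bool.rec (motive := fun _ => List ℕ) (Bool.rec (motive := fun _ => List ℕ) (Bool.rec (motive := fun _ => List ℕ) (Bool.rec (motive := fun _ => List ℕ) (Bool.rec (motive := fun _ => List ℕ) (Bool.rec (motive := fun _ => List ℕ) (rw2368) (rw2369) (Nat.ble 2369 i)) (Bool.rec (motive := fun _ => List ℕ) (rw2370) (rw2371) (Nat.ble 2371 i)) (Nat.ble 2370 i)) (Bool.rec (motive := fun _ => List ℕ) (Bool.rec (motive := fun _ => List ℕ) (rw2372) (rw2373) (Nat.ble 2373 i)) (Bool.rec (motive := fun _ => List ℕ) (rw2374) (rw2375) (Nat.ble 2375 i)) (Nat.ble 2374 i)) (Nat.ble 2372 i)) (Bool.rec (motive := fun _ => List ℕ) (Bool.rec (motive := fun _ => List ℕ) (Bool.rec (motive := fun _ => List ℕ) (rw2376) (rw2377) (Nat.ble 2377 i)) (Bool.rec (motive := fun _ => List ℕ) (rw2378) (rw2379) (Nat.ble 2379 i)) (Nat.ble 2378 i)) (Bool.rec (motive := fun _ => List ℕ) (Bool.rec (motive := fun _ => List ℕ) (rw2380) (rw2381) (Nat.ble 2381 i)) (Bool.rec (motive := fun _ => List ℕ) (rw2382) (rw2383) (Nat.ble 2383 i)) (Nat.ble 2382 i)) (Nat.ble 2380 i)) (Nat.ble 2376 i)) (Bool.rec (motive := fun _ => List ℕ) (Bool.rec (motive := fun _ => List ℕ) (Bool.rec (motive := fun _ => List ℕ) (Bool.rec (motive := fun _ => List ℕ) (rw2384) (rw2385) (Nat.ble 2385 i)) (Bool.rec (motive := fun _ => List ℕ) (rw2386) (rw2387) (Nat.ble 2387 i)) (Nat.ble 2386 i)) (Bool.rec (motive := fun _ => List ℕ) (Bool.rec (motive := fun _ => List ℕ) (rw2388) (rw2389) (Nat.ble 2389 i)) (Bool.rec (motive := fun _ => List ℕ) (rw2390) (rw2391) (Nat.ble 2391 i)) (Nat.ble 2390 i)) (Nat.ble 2388 i)) (Bool.rec (motive := fun _ => List ℕ) (Bool.rec (motive := fun _ => List ℕ) (Bool.rec (motive := fun _ => List ℕ) (rw2392) (rw2393) (Nat.ble 2393 i)) (Bool.rec (motive := fun _ => List ℕ) (rw2394) (rw2395) (Nat.ble 2395 i)) (Nat.ble 2394 i)) (Bool.rec (motive := fun _ => List ℕ) (Bool.rec (motive := fun _ => List ℕ) (rw2396) (rw2397) (Nat.ble 2397 i)) (Bool.rec (motive := fun _ => List ℕ) (rw2398) (rw2399) (Nat.ble 2399 i)) (Nat.ble 2398 i)) (Nat.ble 2396 i)) (Nat.ble 2392 i)) (Nat.ble 2384 i)) (Bool.rec (motive := fun _ => List ℕ) (Bool.rec (motive := fun _ => List ℕ) (Bool.rec (motive := fun _ => List ℕ) (Bool.rec (motive := fun _ => List ℕ) (Bool.rec (motive := fun _ => List ℕ) (rw2400) (rw2401) (Nat.ble 2401 i)) (Bool.rec (motive := fun _ => List ℕ) (rw2402) (rw2403) (Nat.ble 2403 i)) (Nat.ble 2402 i)) (Bool.rec (motive := fun _ => List ℕ) (Bool.rec (motive := fun _ => List ℕ) (rw2404) (rw2405) (Nat.ble 2405 i)) (Bool.rec (motive := fun _ => List ℕ) (rw2406) (rw2407) (Nat.ble 2407 i)) (Nat.ble 2406 i)) (Nat.ble 2404 i)) (Bool.rec (motive := fun _ => List ℕ) (Bool.rec (motive := fun _ => List ℕ) (Bool.rec (motive := fun _ => List ℕ) (rw2408) (rw2409) (Nat.ble 2409 i)) (Bool.rec (motive := fun _ => List ℕ) (rw2410) (rw2411) (Nat.ble 2411 i)) (Nat.ble 2410 i)) (Bool.rec (motive := fun _ => List ℕ) (Bool.rec (motive := fun _ => List ℕ) (rw2412) (rw2413) (Nat.ble 2413 i)) (Bool.rec (motive := fun _ => List ℕ) (rw2414) (rw2415) (Nat.ble 2415 i)) (Nat.ble 2414 i)) (Nat.ble 2412 i)) (Nat.ble 2408 i)) (Bool.rec (motive := fun _ => List ℕ) (Bool.rec (motive := fun _ => List ℕ) (Bool.rec (motive := fun _ => List ℕ) (Bool.rec (motive := fun _ => List ℕ) (rw2416) (rw2417) (Nat.ble 2417 i)) (Bool.rec (motive := fun _ => List ℕ) (rw2418) (rw2419) (Nat.ble 2419 i)) (Nat.ble 2418 i)) (Bool.rec (motive := fun _ => List ℕ) (Bool.rec (motive := fun _ => List ℕ) (rw2420) (rw2421) (Nat.ble 2421 i)) (Bool.rec (motive := fun _ => List ℕ) (rw2422) (rw2423) (Nat.ble 2423 i)) (Nat.ble 2422 i)) (Nat.ble 2420 i)) (Bool.rec (motive := fun _ => List ℕ) (Bool.rec (motive := fun _ => List ℕ) (Bool.rec (motive := fun _ => List ℕ) (rw2424) (rw2425) (Nat.ble 2425 i)) (Bool.rec (motive := fun _ => List ℕ) (rw2426) (rw2427) (Nat.ble 2427 i)) (Nat.ble 2426 i)) (Bool.rec (motive := fun _ => List ℕ) (Bool.rec (motive := fun _ => List ℕ) (rw2428) (rw2429) (Nat.ble 2429 i)) (Bool.rec (motive := fun _ => List ℕ) (rw2430) (rw2431) (Nat.ble 2431 i)) (Nat.ble 2430 i)) (Nat.ble 2428 i)) (Nat.ble 2424 i)) (Nat.ble 2416 i)) (Nat.ble 2400 i)) (Nat.ble 2368 i)) (Bool.rec (motive := fun _ => List ℕ) (Bool.rec (motive := fun _ => List ℕ) (Bool.rec (motive := fun _ => List ℕ) (Bool.rec (motive := fun _ => List ℕ) (Bool.rec (motive := fun _ => List ℕ) (Bool.rec (motive := fun _ => List ℕ) (Bool.rec (motive := fun _ => List ℕ) (rw2432) (rw2433) (Nat.ble 2433 i)) (Bool.rec (motive := fun _ => List ℕ) (rw2434) (rw2435) (Nat.ble 2435 i)) (Nat.ble 2434 i)) (Bool.rec (motive := fun _ => List ℕ) (Bool.rec (motive := fun _ => List ℕ) (rw2436) (rw2437) (Nat.ble 2437 i)) (Bool.rec (motive := fun _ => List ℕ) (rw2438) (rw2439) (Nat.ble 2439 i)) (Nat.ble 2438 i)) (Nat.ble 2436 i)) (Bool.rec (motive := fun _ => List ℕ) (Bool.rec (motive := fun _ => List ℕ) (Bool.rec (motive := fun _ => List ℕ) (rw2440) (rw2441) (Nat.ble 2441 i)) (Bool.rec (motive := fun _ => List ℕ) (rw2442) (rw2443) (Nat.ble 2443 i)) (Nat.ble 2442 i)) (Bool.rec (motive := fun _ => List ℕ) (Bool.rec (motive := fun _ => List ℕ) (rw2444) (rw2445) (Nat.ble 2445 i)) (Bool.rec (motive := fun _ => List ℕ) (rw2446) (rw2447) (Nat.ble 2447 i)) (Nat.ble 2446 i)) (Nat.ble 2444 i)) (Nat.ble 2440 i)) (Bool.rec (motive := fun _ => List ℕ) (Bool.rec (motive := fun _ => List ℕ) (Bool.rec (motive := fun _ => List ℕ) (Bool.rec (motive := fun _ => List ℕ) (rw2448) (rw2449) (Nat.ble 2449 i)) (Bool.rec (motive := fun _ => List ℕ) (rw2450) (rw2451) (Nat.ble 2451 i)) (Nat.ble 2450 i)) (Bool.rec (motive := fun _ => List ℕ) (Bool.rec (motive := fun _ => List ℕ) (rw2452) (rw2453) (Nat.ble 2453 i)) (Bool.rec (motive := fun _ => List ℕ) (rw2454) (rw2455) (Nat.ble 2455 i)) (Nat.ble 2454 i)) (Nat.ble 2452 i)) (Bool.rec (motive := fun _ => List ℕ) (Bool.rec (motive := fun _ => List ℕ) (Bool.rec (motive := fun _ => List ℕ) (rw2456) (rw2457) (Nat.ble 2457 i)) (Bool.rec (motive := fun _ => List ℕ) (rw2458) (rw2459) (Nat.ble 2459 i)) (Nat.ble 2458 i)) (Bool.rec (motive := fun _ => List ℕ) (Bool.rec (motive := fun _ => List ℕ) (rw2460) (rw2461) (Nat.ble 2461 i)) (Bool.rec (motive := fun _ => List ℕ) (rw2462) (rw2463) (Nat.ble 2463 i)) (Nat.ble 2462 i)) (Nat.ble 2460 i)) (Nat.ble 2456 i)) (Nat.ble 2448 i)) (Bool.rec (motive := fun _ => List ℕ) (Bool.rec (motive := fun _ => List ℕ) (Bool.rec (motive := fun _ => List ℕ) (Bool.rec (motive := fun _ => List ℕ) (Bool.rec (motive := fun _ => List ℕ) (rw2464) (rw2465) (Nat.ble 2465 i)) (Bool.rec (motive := fun _ => List ℕ) (rw2466) (rw2467) (Nat.ble 2467 i)) (Nat.ble 2466 i)) (Bool.rec (motive := fun _ => List ℕ) (Bool.rec (motive := fun _ => List ℕ) (rw2468) (rw2469) (Nat.ble 2469 i)) (Bool.rec (motive := fun _ => List ℕ) (rw2470) (rw2471) (Nat.ble 2471 i)) (Nat.ble 2470 i)) (Nat.ble 2468 i)) (Bool.rec (motive := fun _ => List ℕ) (Bool.rec (motive := fun _ => List ℕ) (Bool.rec (motive := fun _ => List ℕ) (rw2472) (rw2473) (Nat.ble 2473 i)) (Bool.rec (motive := fun _ => List ℕ) (rw2474) (rw2475) (Nat.ble 2475 i)) (Nat.ble 2474 i)) (Bool.rec (motive := fun _ => List ℕ) (Bool.rec (motive := fun _ => List ℕ) (rw2476) (rw2477) (Nat.ble 2477 i)) (Bool.rec (motive := fun _ => List ℕ) (rw2478) (rw2479) (Nat.ble 2479 i)) (Nat.ble 2478 i)) (Nat.ble 2476 i)) (Nat.ble 2472 i)) (Bool.rec (motive := fun _ => List ℕ) (Bool.rec (motive := fun _ => List ℕ) (Bool.rec (motive := fun _ => List ℕ) (Bool.rec (motive := fun _ => List ℕ) (rw2480) (rw2481) (Nat.ble 2481 i)) (Bool.rec (motive := fun _ => List ℕ) (rw2482) (rw2483) (Nat.ble 2483 i)) (Nat.ble 2482 i)) (Bool.rec (motive := fun _ => List ℕ) (Bool.rec (motive := fun _ => List ℕ) (rw2484) (rw2485) (Nat.ble 2485 i)) (Bool.rec (motive := fun _ => List ℕ) (rw2486) (rw2487) (Nat.ble 2487 i)) (Nat.ble 2486 i)) (Nat.ble 2484 i)) (Bool.rec (motive := fun _ => List ℕ) (Bool.rec (motive := fun _ => List ℕ) (Bool.rec (motive := fun _ => List ℕ) (rw2488) (rw2489) (Nat.ble 2489 i)) (Bool.rec (motive := fun _ => List ℕ) (rw2490) (rw2491) (Nat.ble 2491 i)) (Nat.ble 2490 i)) (Bool.rec (motive := fun _ => List ℕ) (Bool.rec (motive := fun _ => List ℕ) (rw2492) (rw2493) (Nat.ble 2493 i)) (Bool.rec (motive := fun _ => List ℕ) (rw2494) (rw2495) (Nat.ble 2495 i)) (Nat.ble 2494 i)) (Nat.ble 2492 i)) (Nat.ble 2488 i)) (Nat.ble 2480 i)) (Nat.ble 2464 i)) (Bool.rec (motive := fun _ => List ℕ) (Bool.rec (motive := fun _ => List ℕ) (Bool.rec (motive := fun _ => List ℕ) (Bool.rec (motive := fun _ => List ℕ) (Bool.rec (motive := fun _ => List ℕ) (Bool.rec (motive := fun _ => List ℕ) (rw2496) (rw2497) (Nat.ble 2497 i)) (Bool.rec (motive := fun _ => List ℕ) (rw2498) (rw2499) (Nat.ble 2499 i)) (Nat.ble 2498 i)) (Bool.rec (motive := fun _ => List ℕ) (Bool.rec (motive := fun _ => List ℕ) (rw2500) (rw2501) (Nat.ble 2501 i)) (Bool.rec (motive := fun _ => List ℕ) (rw2502) (rw2503) (Nat.ble 2503 i)) (Nat.ble 2502 i)) (Nat.ble 2500 i)) (Bool.rec (motive := fun _ => List ℕ) (Bool.rec (motive := fun _ => List ℕ) (Bool.rec (motive := fun _ => List ℕ) (rw2504) (rw2505) (Nat.ble 2505 i)) (Bool.rec (motive := fun _ => List ℕ) (rw2506) (rw2507) (Nat.ble 2507 i)) (Nat.ble 2506 i)) (Bool.rec (motive := fun _ => List ℕ) (Bool.rec (motive := fun _ => List ℕ) (rw2508) (rw2509) (Nat.ble 2509 i)) (Bool.rec (motive := fun _ => List ℕ) (rw2510) (rw2511) (Nat.ble 2511 i)) (Nat.ble 2510 i)) (Nat.ble 2508 i)) (Nat.ble 2504 i)) (Bool.rec (motive := fun _ => List ℕ) (Bool.rec (motive := fun _ => List ℕ) (Bool.rec (motive := fun _ => List ℕ) (Bool.rec (motive := fun _ => List ℕ) (rw2512) (rw2513) (Nat.ble 2513 i)) (Bool.rec (motive := fun _ => List ℕ) (rw2514) (rw2515) (Nat.ble 2515 i)) (Nat.ble 2514 i)) (Bool.rec (motive := fun _ => List ℕ) (Bool.rec (motive := fun _ => List ℕ) (rw2516) (rw2517) (Nat.ble 2517 i)) (Bool.rec (motive := fun _ => List ℕ) (rw2518) (rw2519) (Nat.ble 2519 i)) (Nat.ble 2518 i)) (Nat.ble 2516 i)) (Bool.rec (motive := fun _ => List ℕ) (Bool.rec (motive := fun _ => List ℕ) (Bool.rec (motive := fun _ => List ℕ) (rw2520) (rw2521) (Nat.ble 2521 i)) (Bool.rec (motive := fun _ => List ℕ) (rw2522) (rw2523) (Nat.ble 2523 i)) (Nat.ble 2522 i)) (Bool.rec (motive := fun _ => List ℕ) (Bool.rec (motive := fun _ => List ℕ) (rw2524) (rw2525) (Nat.ble 2525 i)) (Bool.rec (motive := fun _ => List ℕ) (rw2526) (rw2527) (Nat.ble 2527 i)) (Nat.ble 2526 i)) (Nat.ble 2524 i)) (Nat.ble 2520 i)) (Nat.ble 2512 i)) (Bool.rec (motive := fun _ => List ℕ) (Bool.rec (motive := fun _ => List ℕ) (Bool.rec (motive := fun _ => List ℕ) (Bool.rec (motive := fun _ => List ℕ) (Bool.rec (motive := fun _ => List ℕ) (rw2528) (rw2529) (Nat.ble 2529 i)) (Bool.rec (motive := fun _ => List ℕ) (rw2530) (rw2531) (Nat.ble 2531 i)) (Nat.ble 2530 i)) (Bool.rec (motive := fun _ => List ℕ) (Bool.rec (motive := fun _ => List ℕ) (rw2532) (rw2533) (Nat.ble 2533 i)) (Bool.rec (motive := fun _ => List ℕ) (rw2534) (rw2535) (Nat.ble 2535 i)) (Nat.ble 2534 i)) (Nat.ble 2532 i)) (Bool.rec (motive := fun _ => List ℕ) (Bool.rec (motive := fun _ => List ℕ) (Bool.rec (motive := fun _ => List ℕ) (rw2536) (rw2537) (Nat.ble 2537 i)) (Bool.rec (motive := fun _ => List ℕ) (rw2538) (rw2539) (Nat.ble 2539 i)) (Nat.ble 2538 i)) (Bool.rec (motive := fun _ => List ℕ) (Bool.rec (motive := fun _ => List ℕ) (rw2540) (rw2541) (Nat.ble 2541 i)) (Bool.rec (motive := fun _ => List ℕ) (rw2542) (rw2543) (Nat.ble 2543 i)) (Nat.ble 2542 i)) (Nat.ble 2540 i)) (Nat.ble 2536 i)) (Bool.rec (motive := fun _ => List ℕ) (Bool.rec (motive := fun _ => List ℕ) (Bool.rec (motive := fun _ => List ℕ) (Bool.rec (motive := fun _ => List ℕ) (rw2544) (rw2545) (Nat.ble 2545 i)) (Bool.rec (motive := fun _ => List ℕ) (rw2546) (rw2547) (Nat.ble 2547 i)) (Nat.ble 2546 i)) (Bool.rec (motive := fun _ => List ℕ) (Bool.rec (motive := fun _ => List ℕ) (rw2548) (rw2549) (Nat.ble 2549 i)) (Bool.rec (motive := fun _ => List ℕ) (rw2550) (rw2551) (Nat.ble 2551 i)) (Nat.ble 2550 i)) (Nat.ble 2548 i)) (Bool.rec (motive := fun _ => List ℕ) (Bool.rec (motive := fun _ => List ℕ) (Bool.rec (motive := fun _ => List ℕ) (rw2552) (rw2553) (Nat.ble 2553 i)) (Bool.rec (motive := fun _ => List ℕ) (rw2554) (rw2555) (Nat.ble 2555 i)) (Nat.ble 2554 i)) (Bool.rec (motive := fun _ => List ℕ) (Bool.rec (motive := fun _ => List ℕ) (rw2556) (rw2557) (Nat.ble 2557 i)) (Bool.rec (motive := fun _ => List ℕ) (rw2558) (rw2559) (Nat.ble 2559 i)) (Nat.ble 2558 i)) (Nat.ble 2556 i)) (Nat.ble 2552 i)) (Nat.ble 2544 i)) (Nat.ble 2528 i)) (Nat.ble 2496 i)) (Nat.ble 2432 i)) (Nat.ble 2304 i)) (Bool.rec (motive := fun _ => List ℕ) (Bool.rec (motive := fun _ => List ℕ) (Bool.rec (motive := fun _ => List ℕ) (Bool.rec (motive := fun _ => List ℕ) (Bool.rec (motive := fun _ => List ℕ) (Bool.rec (motive := fun _ => List ℕ) (Bool.rec (motive := fun _ => List ℕ) (Bool.rec (motive := fun _ => List ℕ) (Bool.rec (motive := fun _ => List ℕ) (rw2560) (rw2561) (Nat.ble 2561 i)) (Bool.rec (motive := fun _ => List ℕ) (rw2562) (rw2563) (Nat.ble 2563 i)) (Nat.ble 2562 i)) (Bool.rec (motive := fun _ => List ℕ) (Bool.rec (motive := fun _ => List ℕ) (rw2564) (rw2565) (Nat.ble 2565 i)) (Bool.rec (motive := fun _ => List ℕ) (rw2566) (rw2567) (Nat.ble 2567 i)) (Nat.ble 2566 i)) (Nat.ble 2564 i)) (Bool.rec (motive := fun _ => List ℕ) (Bool.rec (motive := fun _ => List ℕ) (Bool.rec (motive := fun _ => List ℕ) (rw2568) (rw2569) (Nat.ble 2569 i)) (Bool.rec (motive := fun _ => List ℕ) (rw2570) (rw2571) (Nat.ble 2571 i)) (Nat.ble 2570 i)) (Bool.rec (motive := fun _ => List ℕ) (Bool.rec (motive := fun _ => List ℕ) (rw2572) (rw2573) (Nat.ble 2573 i)) (Bool.rec (motive := fun _ => List ℕ) (rw2574) (rw2575) (Nat.ble 2575 i)) (Nat.ble 2574 i)) (Nat.ble 2572 i)) (Nat.ble 2568 i)) (Bool.rec (motive := fun _ => List ℕ) (Bool.rec (motive := fun _ => List ℕ) (Bool.rec (motive := fun _ => List ℕ) (Bool.rec (motive := fun _ => List ℕ) (rw2576) (rw2577) (Nat.ble 2577 i)) (Bool.rec (motive := fun _ => List ℕ) (rw2578) (rw2579) (Nat.ble 2579 i)) (Nat.ble 2578 i)) (Bool.rec (motive := fun _ => List ℕ) (Bool.rec (motive := fun _ => List ℕ) (rw2580) (rw2581) (Nat.ble 2581 i)) (Bool.rec (motive := fun _ => List ℕ) (rw2582) (rw2583) (Nat.ble 2583 i)) (Nat.ble 2582 i)) (Nat.ble 2580 i)) (Bool.rec (motive := fun _ => List ℕ) (Bool.rec (motive := fun _ => List ℕ) (Bool.rec (motive := fun _ => List ℕ) (rw2584) (rw2585) (Nat.ble 2585 i)) (Bool.rec (motive := fun _ => List ℕ) (rw2586) (rw2587) (Nat.ble 2587 i)) (Nat.ble 2586 i)) (Bool.rec (motive := fun _ => List ℕ) (Bool.rec (motive := fun _ => List ℕ) (rw2588) (rw2589) (Nat.ble 2589 i)) (Bool.rec (motive := fun _ => List ℕ) (rw2590) (rw2591) (Nat.ble 2591 i)) (Nat.ble 2590 i)) (Nat.ble 2588 i)) (Nat.ble 2584 i)) (Nat.ble 2576 i)) (Bool.rec (motive := fun _ => List ℕ) (Bool.rec (motive := fun _ => List ℕ) (Bool.rec (motive := fun _ => List ℕ) (Bool.rec (motive := fun _ => List ℕ) (Bool.rec (motive := fun _ => List ℕ) (rw2592) (rw2593) (Nat.ble 2593 i)) (Bool.rec (motive := fun _ => List ℕ) (rw2594) (rw2595) (Nat.ble 2595 i)) (Nat.ble 2594 i)) (Bool.rec (motive := fun _ => List ℕ) (Bool.rec (motive := fun _ => List ℕ) (rw2596) (rw2597) (Nat.ble 2597 i)) (Bool.rec (motive := fun _ => List ℕ) (rw2598) (rw2599) (Nat.ble 2599 i)) (Nat.ble 2598 i)) (Nat.ble 2596 i)) (Bool.rec (motive := fun _ => List ℕ) (Bool.rec (motive := fun _ => List ℕ) (Bool.rec (motive := fun _ => List ℕ) (rw2600) (rw2601) (Nat.ble 2601 i)) (Bool.rec (motive := fun _ => List ℕ) (rw2602) (rw2603) (Nat.ble 2603 i)) (Nat.ble 2602 i)) (Bool.rec (motive := fun _ => List ℕ) (Bool.rec (motive := fun _ => List ℕ) (rw2604) (rw2605) (Nat.ble 2605 i)) (Bool.rec (motive := fun _ => List ℕ) (rw2606) (rw2607) (Nat.ble 2607 i)) (Nat.ble 2606 i)) (Nat.ble 2604 i)) (Nat.ble 2600 i)) (Bool.rec (motive := fun _ => List ℕ) (Bool.rec (motive := fun _ => List ℕ) (Bool.rec (motive := fun _ => List ℕ) (Bool.rec (motive := fun _ => List ℕ) (rw2608) (rw2609) (Nat.ble 2609 i)) (Bool.rec (motive := fun _ => List ℕ) (rw2610) (rw2611) (Nat.ble 2611 i)) (Nat.ble 2610 i)) (Bool.rec (motive := fun _ => List ℕ) (Bool.rec (motive := fun _ => List ℕ) (rw2612) (rw2613) (Nat.ble 2613 i)) (Bool.rec (motive := fun _ => List ℕ) (rw2614) (rw2615) (Nat.ble 2615 i)) (Nat.ble 2614 i)) (Nat.ble 2612 i)) (Bool.rec (motive := fun _ => List ℕ) (Bool.rec (motive := fun _ => List ℕ) (Bool.rec (motive := fun _ => List ℕ) (rw2616) (rw2617) (Nat.ble 2617 i)) (Bool.rec (motive := fun _ => List ℕ) (rw2618) (rw2619) (Nat.ble 2619 i)) (Nat.ble 2618 i)) (Bool.rec (motive := fun _ => List ℕ) (Bool.rec (motive := fun _ => List ℕ) (rw2620) (rw2621) (Nat.ble 2621 i)) (Bool.rec (motive := fun _ => List ℕ) (rw2622) (rw2623) (Nat.ble 2623 i)) (Nat.ble 2622 i)) (Nat.ble 2620 i)) (Nat.ble 2616 i)) (Nat.ble 2608 i)) (Nat.ble 2592 i)) (Bool.rec (motive := fun _ => List ℕ) (Bool.rec (motive := fun _ => List ℕ) (Bool.rec (motive := fun _ => List ℕ) (Bool.rec (motive := fun _ => List ℕ) (Bool.rec (motive := fun _ => List ℕ) (Bool.rec (motive := fun _ => List ℕ) (rw2624) (rw2625) (Nat.ble 2625 i)) (Bool.rec (motive := fun _ => List ℕ) (rw2626) (rw2627) (Nat.ble 2627 i)) (Nat.ble 2626 i)) (Bool.rec (motive := fun _ => List ℕ) (Bool.rec (motive := fun _ => List ℕ) (rw2628) (rw2629) (Nat.ble 2629 i)) (Bool.rec (motive := fun _ => List ℕ) (rw2630) (rw2631) (Nat.ble 2631 i)) (Nat.ble 2630 i)) (Nat.ble 2628 i)) (Bool.rec (motive := fun _ => List ℕ) (Bool.rec (motive := fun _ => List ℕ) (Bool.rec (motive := fun _ => List ℕ) (rw2632) (rw2633) (Nat.ble 2633 i)) (Bool.rec (motive := fun _ => List ℕ) (rw2634) (rw2635) (Nat.ble 2635 i)) (Nat.ble 2634 i)) (Bool.rec (motive := fun _ => List ℕ) (Bool.rec (motive := fun _ => List ℕ) (rw2636) (rw2637) (Nat.ble 2637 i)) (Bool.rec (motive := fun _ => List ℕ) (rw2638) (rw2639) (Nat.ble 2639 i)) (Nat.ble 2638 i)) (Nat.ble 2636 i)) (Nat.ble 2632 i)) (Bool.rec (motive := fun _ => List ℕ) (Bool.rec (motive := fun _ => List ℕ) (Bool.rec (motive := fun _ => List ℕ) (Bool.rec (motive := fun _ => List ℕ) (rw2640) (rw2641) (Nat.ble 2641 i)) (Bool.rec (motive := fun _ => List ℕ) (rw2642) (rw2643) (Nat.ble 2643 i)) (Nat.ble 2642 i)) (Bool.rec (motive := fun _ => List ℕ) (Bool.rec (motive := fun _ => List ℕ) (rw2644) (rw2645) (Nat.ble 2645 i)) (Bool.rec (motive := fun _ => List ℕ) (rw2646) (rw2647) (Nat.ble 2647 i)) (Nat.ble 2646 i)) (Nat.ble 2644 i)) (Bool.rec (motive := fun _ => List ℕ) (Bool.rec (motive := fun _ => List ℕ) (Bool.rec (motive := fun _ => List ℕ) (rw2648) (rw2649) (Nat.ble 2649 i)) (Bool.rec (motive := fun _ => List ℕ) (rw2650) (rw2651) (Nat.ble 2651 i)) (Nat.ble 2650 i)) (Bool.rec (motive := fun _ => List ℕ) (Bool.rec (motive := fun _ => List ℕ) (rw2652) (rw2653) (Nat.ble 2653 i)) (Bool.rec (motive := fun _ => List ℕ) (rw2654) (rw2655) (Nat.ble 2655 i)) (Nat.ble 2654 i)) (Nat.ble 2652 i)) (Nat.ble 2648 i)) (Nat.ble 2640 i)) (Bool.rec (motive := fun _ => List ℕ) (Bool.rec (motive := fun _ => List ℕ) (Bool.rec (motive := fun _ => List ℕ) (Bool.rec (motive := fun _ => List ℕ) (Bool.rec (motive := fun _ => List ℕ) (rw2656) (rw2657) (Nat.ble 2657 i)) (Bool.rec (motive := fun _ => List ℕ) (rw2658) (rw2659) (Nat.ble 2659 i)) (Nat.ble 2658 i)) (Bool.rec (motive := fun _ => List ℕ) (Bool.rec (motive := fun _ => List ℕ) (rw2660) (rw2661) (Nat.ble 2661 i)) (Bool.rec (motive := fun _ => List ℕ) (rw2662) (rw2663) (Nat.ble 2663 i)) (Nat.ble 2662 i)) (Nat.ble 2660 i)) (Bool.rec (motive := fun _ => List ℕ) (Bool.rec (motive := fun _ => List ℕ) (Bool.rec (motive := fun _ => List ℕ) (rw2664) (rw2665) (Nat.ble 2665 i)) (Bool.rec (motive := fun _ => List ℕ) (rw2666) (rw2667) (Nat.ble 2667 i)) (Nat.ble 2666 i)) (Bool.rec (motive := fun _ => List ℕ) (Bool.rec (motive := fun _ => List ℕ) (rw2668) (rw2669) (Nat.ble 2669 i)) (Bool.rec (motive := fun _ => List ℕ) (rw2670) (rw2671) (Nat.ble 2671 i)) (Nat.ble 2670 i)) (Nat.ble 2668 i)) (Nat.ble 2664 i)) (Bool.rec (motive := fun _ => List ℕ) (Bool.rec (motive := fun _ => List ℕ) (Bool.rec (motive := fun _ => List ℕ) (Bool.rec (motive := fun _ => List ℕ) (rw2672) (rw2673) (Nat.ble 2673 i)) (Bool.rec (motive := fun _ => List ℕ) (rw2674) (rw2675) (Nat.ble 2675 i)) (Nat.ble 2674 i)) (Bool.rec (motive := fun _ => List ℕ) (Bool.rec (motive := fun _ => List ℕ) (rw2676) (rw2677) (Nat.ble 2677 i)) (Bool.rec (motive := fun _ => List ℕ) (rw2678) (rw2679) (Nat.ble 2679 i)) (Nat.ble 2678 i)) (Nat.ble 2676 i)) (Bool.rec (motive := fun _ => List ℕ) (Bool.rec (motive := fun _ => List ℕ) (Bool.rec (motive := fun _ => List ℕ) (rw2680) (rw2681) (Nat.ble 2681 i)) (Bool.rec (motive := fun _ => List ℕ) (rw2682) (rw2683) (Nat.ble 2683 i)) (Nat.ble 2682 i)) (Bool.rec (motive := fun _ => List ℕ) (Bool.rec (motive := fun _ => List ℕ) (rw2684) (rw2685) (Nat.ble 2685 i)) (Bool.rec (motive := fun _ => List ℕ) (rw2686) (rw2687) (Nat.ble 2687 i)) (Nat.ble 2686 i)) (Nat.ble 2684 i)) (Nat.ble 2680 i)) (Nat.ble 2672 i)) (Nat.ble 2656 i)) (Nat.ble 2624 i)) (Bool.rec (motive := fun _ => List ℕ) (Bool.rec (motive := fun _ => List ℕ) (Bool.rec (motive := fun _ => List ℕ) (Bool.rec (motive := fun _ => List ℕ) (Bool.rec (motive := fun _ => List ℕ) (Bool.rec (motive := fun _ => List ℕ) (Bool.rec (motive := fun _ => List ℕ) (rw2688) (rw2689) (Nat.ble 2689 i)) (Bool.rec (motive := fun _ => List ℕ) (rw2690) (rw2691) (Nat.ble 2691 i)) (Nat.ble 2690 i)) (Bool.rec (motive := fun _ => List ℕ) (Bool.rec (motive := fun _ => List ℕ) (rw2692) (rw2693) (Nat.ble 2693 i)) (Bool.rec (motive := fun _ => List ℕ) (rw2694) (rw2695) (Nat.ble 2695 i)) (Nat.ble 2694 i)) (Nat.ble 2692 i)) (Bool.rec (motive := fun _ => List ℕ) (Bool.rec (motive := fun _ => List ℕ) (Bool.rec (motive := fun _ => List ℕ) (rw2696) (rw2697) (Nat.ble 2697 i)) (Bool.rec (motive := fun _ => List ℕ) (rw2698) (rw2699) (Nat.ble 2699 i)) (Nat.ble 2698 i)) (Bool.rec (motive := fun _ => List ℕ) (Bool.rec (motive := fun _ => List ℕ) (rw2700) (rw2701) (Nat.ble 2701 i)) (Bool.rec (motive := fun _ => List ℕ) (rw2702) (rw2703) (Nat.ble 2703 i)) (Nat.ble 2702 i)) (Nat.ble 2700 i)) (Nat.ble 2696 i)) (Bool.rec (motive := fun _ => List ℕ) (Bool.rec (motive := fun _ => List ℕ) (Bool.rec (motive := fun _ => List ℕ) (Bool.rec (motive := fun _ => List ℕ) (rw2704) (rw2705) (Nat.ble 2705 i)) (Bool.rec (motive := fun _ => List ℕ) (rw2706) (rw2707) (Nat.ble 2707 i)) (Nat.ble 2706 i)) (Bool.rec (motive := fun _ => List ℕ) (Bool.rec (motive := fun _ => List ℕ) (rw2708) (rw2709) (Nat.ble 2709 i)) (Bool.rec (motive := fun _ => List ℕ) (rw2710) (rw2711) (Nat.ble 2711 i)) (Nat.ble 2710 i)) (Nat.ble 2708 i)) (Bool.rec (motive := fun _ => List ℕ) (Bool.rec (motive := fun _ => List ℕ) (Bool.rec (motive := fun _ => List ℕ) (rw2712) (rw2713) (Nat.ble 2713 i)) (Bool.rec (motive := fun _ => List ℕ) (rw2714) (rw2715) (Nat.ble 2715 i)) (Nat.ble 2714 i)) (Bool.rec (motive := fun _ => List ℕ) (Bool.rec (motive := fun _ => List ℕ) (rw2716) (rw2717) (Nat.ble 2717 i)) (Bool.rec (motive := fun _ => List ℕ) (rw2718) (rw2719) (Nat.ble 2719 i)) (Nat.ble 2718 i)) (Nat.ble 2716 i)) (Nat.ble 2712 i)) (Nat.ble 2704 i)) (Bool.rec (motive := fun _ => List ℕ) (Bool.rec (motive := fun _ => List ℕ) (Bool.rec (motive := fun _ => List ℕ) (Bool.rec (motive := fun _ => List ℕ) (Bool.rec (motive := fun _ => List ℕ) (rw2720) (rw2721) (Nat.ble 2721 i)) (Bool.rec (motive := fun _ => List ℕ) (rw2722) (rw2723) (Nat.ble 2723 i)) (Nat.ble 2722 i)) (Bool.rec (motive := fun _ => List ℕ) (Bool.rec (motive := fun _ => List ℕ) (rw2724) (rw2725) (Nat.ble 2725 i)) (Bool.rec (motive := fun _ => List ℕ) (rw2726) (rw2727) (Nat.ble 2727 i)) (Nat.ble 2726 i)) (Nat.ble 2724 i)) (Bool.rec (motive := fun _ => List ℕ) (Bool.rec (motive := fun _ => List ℕ) (Bool.rec (motive := fun _ => List ℕ) (rw2728) (rw2729) (Nat.ble 2729 i)) (Bool.rec (motive := fun _ => List ℕ) (rw2730) (rw2731) (Nat.ble 2731 i)) (Nat.ble 2730 i)) (Bool.rec (motive := fun _ => List ℕ) (Bool.rec (motive := fun _ => List ℕ) (rw2732) (rw2733) (Nat.ble 2733 i)) (Bool.rec (motive := fun _ => List ℕ) (rw2734) (rw2735) (Nat.ble 2735 i)) (Nat.ble 2734 i)) (Nat.ble 2732 i)) (Nat.ble 2728 i)) (Bool.rec (motive := fun _ => List ℕ) (Bool.rec (motive := fun _ => List ℕ) (Bool.rec (motive := fun _ => List ℕ) (Bool.rec (motive := fun _ => List ℕ) (rw2736) (rw2737) (Nat.ble 2737 i)) (Bool.rec (motive := fun _ => List ℕ) (rw2738) (rw2739) (Nat.ble 2739 i)) (Nat.ble 2738 i)) (Bool.rec (motive := fun _ => List ℕ) (Bool.rec (motive := fun _ => List ℕ) (rw2740) (rw2741) (Nat.ble 2741 i)) (Bool.rec (motive := fun _ => List ℕ) (rw2742) (rw2743) (Nat.ble 2743 i)) (Nat.ble 2742 i)) (Nat.ble 2740 i)) (Bool.rec (motive := fun _ => List ℕ) (Bool.rec (motive := fun _ => List ℕ) (Bool.rec (motive := fun _ => List ℕ) (rw2744) (rw2745) (Nat.ble 2745 i)) (Bool.rec (motive := fun _ => List ℕ) (rw2746) (rw2747) (Nat.ble 2747 i)) (Nat.ble 2746 i)) (Bool.rec (motive := fun _ => List ℕ) (Bool.rec (motive := fun _ => List ℕ) (rw2748) (rw2749) (Nat.ble 2749 i)) (Bool.rec (motive := fun _ => List ℕ) (rw2750) (rw2751) (Nat.ble 2751 i)) (Nat.ble 2750 i)) (Nat.ble 2748 i)) (Nat.ble 2744 i)) (Nat.ble 2736 i)) (Nat.ble 2720 i)) (Bool.rec (motive := fun _ => List ℕ) (Bool.rec (motive := fun _ => List ℕ) (Bool.rec (motive := fun _ => List ℕ) (Bool.rec (motive := fun _ => List ℕ) (Bool.rec (motive := fun _ => List ℕ) (Bool.rec (motive := fun _ => List ℕ) (rw2752) (rw2753) (Nat.ble 2753 i)) (Bool.rec (motive := fun _ => List ℕ) (rw2754) (rw2755) (Nat.ble 2755 i)) (Nat.ble 2754 i)) (Bool.rec (motive := fun _ => List ℕ) (Bool.rec (motive := fun _ => List ℕ) (rw2756) (rw2757) (Nat.ble 2757 i)) (Bool.rec (motive := fun _ => List ℕ) (rw2758) (rw2759) (Nat.ble 2759 i)) (Nat.ble 2758 i)) (Nat.ble 2756 i)) (Bool.rec (motive := fun _ => List ℕ) (Bool.rec (motive := fun _ => List ℕ) (Bool.rec (motive := fun _ => List ℕ) (rw2760) (rw2761) (Nat.ble 2761 i)) (Bool.rec (motive := fun _ => List ℕ) (rw2762) (rw2763) (Nat.ble 2763 i)) (Nat.ble 2762 i)) (Bool.rec (motive := fun _ => List ℕ) (Bool.rec (motive := fun _ => List ℕ) (rw2764) (rw2765) (Nat.ble 2765 i)) (Bool.rec (motive := fun _ => List ℕ) (rw2766) (rw2767) (Nat.ble 2767 i)) (Nat.ble 2766 i)) (Nat.ble 2764 i)) (Nat.ble 2760 i)) (Bool.rec (motive := fun _ => List ℕ) (Bool.rec (motive := fun _ => List ℕ) (Bool.rec (motive := fun _ => List ℕ) (Bool.rec (motive := fun _ => List ℕ) (rw2768) (rw2769) (Nat.ble 2769 i)) (Bool.rec (motive := fun _ => List ℕ) (rw2770) (rw2771) (Nat.ble 2771 i)) (Nat.ble 2770 i)) (Bool.rec (motive := fun _ => List ℕ) (Bool.rec (motive := fun _ => List ℕ) (rw2772) (rw2773) (Nat.ble 2773 i)) (Bool.rec (motive := fun _ => List ℕ) (rw2774) (rw2775) (Nat.ble 2775 i)) (Nat.ble 2774 i)) (Nat.ble 2772 i)) (Bool.rec (motive := fun _ => List ℕ) (Bool.rec (motive := fun _ => List ℕ) (Bool.rec (motive := fun _ => List ℕ) (rw2776) (rw2777) (Nat.ble 2777 i)) (Bool.rec (motive := fun _ => List ℕ) (rw2778) (rw2779) (Nat.ble 2779 i)) (Nat.ble 2778 i)) (Bool.rec (motive := fun _ => List ℕ) (Bool.rec (motive := fun _ => List ℕ) (rw2780) (rw2781) (Nat.ble 2781 i)) (Bool.rec (motive := fun _ => List ℕ) (rw2782) (rw2783) (Nat.ble 2783 i)) (Nat.ble 2782 i)) (Nat.ble 2780 i)) (Nat.ble 2776 i)) (Nat.ble 2768 i)) (Bool.rec (motive := fun _ => List ℕ) (Bool.rec (motive := fun _ => List ℕ) (Bool.rec (motive := fun _ => List ℕ) (Bool.rec (motive := fun _ => List ℕ) (Bool.rec (motive := fun _ => List ℕ) (rw2784) (rw2785) (Nat.ble 2785 i)) (Bool.rec (motive := fun _ => List ℕ) (rw2786) (rw2787) (Nat.ble 2787 i)) (Nat.ble 2786 i)) (Bool.rec (motive := fun _ => List ℕ) (Bool.rec (motive := fun _ => List ℕ) (rw2788) (rw2789) (Nat.ble 2789 i)) (Bool.rec (motive := fun _ => List ℕ) (rw2790) (rw2791) (Nat.ble 2791 i)) (Nat.ble 2790 i)) (Nat.ble 2788 i)) (Bool.rec (motive := fun _ => List ℕ) (Bool.rec (motive := fun _ => List ℕ) (Bool.rec (motive := fun _ => List ℕ) (rw2792) (rw2793) (Nat.ble 2793 i)) (Bool.rec (motive := fun _ => List ℕ) (rw2794) (rw2795) (Nat.ble 2795 i)) (Nat.ble 2794 i)) (Bool.rec (motive := fun _ => List ℕ) (Bool.rec (motive := fun _ => List ℕ) (rw2796) (rw2797) (Nat.ble 2797 i)) (Bool.rec (motive := fun _ => List ℕ) (rw2798) (rw2799) (Nat.ble 2799 i)) (Nat.ble 2798 i)) (Nat.ble 2796 i)) (Nat.ble 2792 i)) (Bool.rec (motive := fun _ => List ℕ) (Bool.rec (motive := fun _ => List ℕ) (Bool.rec (motive := fun _ => List ℕ) (Bool.rec (motive := fun _ => List ℕ) (rw2800) (rw2801) (Nat.ble 2801 i)) (Bool.rec (motive := fun _ => List ℕ) (rw2802) (rw2803) (Nat.ble 2803 i)) (Nat.ble 2802 i)) (Bool.rec (motive := fun _ => List ℕ) (Bool.rec (motive := fun _ => List ℕ) (rw2804) (rw2805) (Nat.ble 2805 i)) (Bool.rec (motive := fun _ => List ℕ) (rw2806) (rw2807) (Nat.ble 2807 i)) (Nat.ble 2806 i)) (Nat.ble 2804 i)) (Bool.rec (motive := fun _ => List ℕ) (Bool.rec (motive := fun _ => List ℕ) (Bool.rec (motive := fun _ => List ℕ) (rw2808) (rw2809) (Nat.ble 2809 i)) (Bool.rec (motive := fun _ => List ℕ) (rw2810) (rw2811) (Nat.ble 2811 i)) (Nat.ble 2810 i)) (Bool.rec (motive := fun _ => List ℕ) (Bool.rec (motive := fun _ => List ℕ) (rw2812) (rw2813) (Nat.ble 2813 i)) (Bool.rec (motive := fun _ => List ℕ) (rw2814) (rw2815) (Nat.ble 2815 i)) (Nat.ble 2814 i)) (Nat.ble 2812 i)) (Nat.ble 2808 i)) (Nat.ble 2800 i)) (Nat.ble 2784 i)) (Nat.ble 2752 i)) (Nat.ble 2688 i)) (Bool.rec (motive := fun _ => List ℕ) (Bool.rec (motive := fun _ => List ℕ) (Bool.rec (motive := fun _ => List ℕ) (Bool.rec (motive := fun _ => List ℕ) (Bool.rec (motive := fun _ => List ℕ) (Bool.rec (motive := fun _ => List ℕ) (Bool.rec (motive := fun _ => List ℕ) (Bool.rec (motive := fun _ => List ℕ) (rw2816) (rw2817) (Nat.ble 2817 i)) (Bool.rec (motive := fun _ => List ℕ) (rw2818) (rw2819) (Nat.ble 2819 i)) (Nat.ble 2818 i)) (Bool.rec (motive := fun _ => List ℕ) (Bool.rec (motive := fun _ => List ℕ) (rw2820) (rw2821) (Nat.ble 2821 i)) (Bool.rec (motive := fun _ => List ℕ) (rw2822) (rw2823) (Nat.ble 2823 i)) (Nat.ble 2822 i)) (Nat.ble 2820 i)) (Bool.rec (motive := fun _ => List ℕ) (Bool.rec (motive := fun _ => List ℕ) (Bool.rec (motive := fun _ => List ℕ) (rw2824) (rw2825) (Nat.ble 2825 i)) (Bool.rec (motive := fun _ => List ℕ) (rw2826) (rw2827) (Nat.ble 2827 i)) (Nat.ble 2826 i)) (Bool.rec (motive := fun _ => List ℕ) (Bool.rec (motive := fun _ => List ℕ) (rw2828) (rw2829) (Nat.ble 2829 i)) (Bool.rec (motive := fun _ => List ℕ) (rw2830) (rw2831) (Nat.ble 2831 i)) (Nat.ble 2830 i)) (Nat.ble 2828 i)) (Nat.ble 2824 i)) (Bool.rec (motive := fun _ => List ℕ) (Bool.rec (motive := fun _ => List ℕ) (Bool.rec (motive := fun _ => List ℕ) (Bool.rec (motive := fun _ => List ℕ) (rw2832) (rw2833) (Nat.ble 2833 i)) (Bool.rec (motive := fun _ => List ℕ) (rw2834) (rw2835) (Nat.ble 2835 i)) (Nat.ble 2834 i)) (Bool.rec (motive := fun _ => List ℕ) (Bool.rec (motive := fun _ => List ℕ) (rw2836) (rw2837) (Nat.ble 2837 i)) (Bool.rec (motive := fun _ => List ℕ) (rw2838) (rw2839) (Nat.ble 2839 i)) (Nat.ble 2838 i)) (Nat.ble 2836 i)) (Bool.rec (motive := fun _ => List ℕ) (Bool.rec (motive := fun _ => List ℕ) (Bool.rec (motive := fun _ => List ℕ) (rw2840) (rw2841) (Nat.ble 2841 i)) (Bool.rec (motive := fun _ => List ℕ) (rw2842) (rw2843) (Nat.ble 2843 i)) (Nat.ble 2842 i)) (Bool.rec (motive := fun _ => List ℕ) (Bool.rec (motive := fun _ => List ℕ) (rw2844) (rw2845) (Nat.ble 2845 i)) (Bool.rec (motive := fun _ => List ℕ) (rw2846) (rw2847) (Nat.ble 2847 i)) (Nat.ble 2846 i)) (Nat.ble 2844 i)) (Nat.ble 2840 i)) (Nat.ble 2832 i)) (Bool.rec (motive := fun _ => List ℕ) (Bool.rec (motive := fun _ => List ℕ) (Bool.rec (motive := fun _ => List ℕ) (Bool.rec (motive := fun _ => List ℕ) (Bool.rec (motive := fun _ => List ℕ) (rw2848) (rw2849) (Nat.ble 2849 i)) (Bool.rec (motive := fun _ => List ℕ) (rw2850) (rw2851) (Nat.ble 2851 i)) (Nat.ble 2850 i)) (Bool.rec (motive := fun _ => List ℕ) (Bool.rec (motive := fun _ => List ℕ) (rw2852) (rw2853) (Nat.ble 2853 i)) (Bool.rec (motive := fun _ => List ℕ) (rw2854) (rw2855) (Nat.ble 2855 i)) (Nat.ble 2854 i)) (Nat.ble 2852 i)) (Bool.rec (motive := fun _ => List ℕ) (Bool.rec (motive := fun _ => List ℕ) (Bool.rec (motive := fun _ => List ℕ) (rw2856) (rw2857) (Nat.ble 2857 i)) (Bool.rec (motive := fun _ => List ℕ) (rw2858) (rw2859) (Nat.ble 2859 i)) (Nat.ble 2858 i)) (Bool.rec (motive := fun _ => List ℕ) (Bool.rec (motive := fun _ => List ℕ) (rw2860) (rw2861) (Nat.ble 2861 i)) (Bool.rec (motive := fun _ => List ℕ) (rw2862) (rw2863) (Nat.ble 2863 i)) (Nat.ble 2862 i)) (Nat.ble 2860 i)) (Nat.ble 2856 i)) (Bool.rec (motive := fun _ => List ℕ) (Bool.rec (motive := fun _ => List ℕ) (Bool.rec (motive := fun _ => List ℕ) (Bool.rec (motive := fun _ => List ℕ) (rw2864) (rw2865) (Nat.ble 2865 i)) (Bool.rec (motive := fun _ => List ℕ) (rw2866) (rw2867) (Nat.ble 2867 i)) (Nat.ble 2866 i)) (Bool.rec (motive := fun _ => List ℕ) (Bool.rec (motive := fun _ => List ℕ) (rw2868) (rw2869) (Nat.ble 2869 i)) (Bool.rec (motive := fun _ => List ℕ) (rw2870) (rw2871) (Nat.ble 2871 i)) (Nat.ble 2870 i)) (Nat.ble 2868 i)) (Bool.rec (motive := fun _ => List ℕ) (Bool.rec (motive := fun _ => List ℕ) (Bool.rec (motive := fun _ => List ℕ) (rw2872) (rw2873) (Nat.ble 2873 i)) (Bool.rec (motive := fun _ => List ℕ) (rw2874) (rw2875) (Nat.ble 2875 i)) (Nat.ble 2874 i)) (Bool.rec (motive := fun _ => List ℕ) (Bool.rec (motive := fun _ => List ℕ) (rw2876) (rw2877) (Nat.ble 2877 i)) (Bool.rec (motive := fun _ => List ℕ) (rw2878) (rw2879) (Nat.ble 2879 i)) (Nat.ble 2878 i)) (Nat.ble 2876 i)) (Nat.ble 2872 i)) (Nat.ble 2864 i)) (Nat.ble 2848 i)) (Bool.rec (motive := fun _ => List ℕ) (Bool.rec (motive := fun _ => List ℕ) (Bool.rec (motive := fun _ => List ℕ) (Bool.rec (motive := fun _ => List ℕ) (Bool.rec (motive := fun _ => List ℕ) (Bool.rec (motive := fun _ => List ℕ) (rw2880) (rw2881) (Nat.ble 2881 i)) (Bool.rec (motive := fun _ => List ℕ) (rw2882) (rw2883) (Nat.ble 2883 i)) (Nat.ble 2882 i)) (Bool.rec (motive := fun _ => List ℕ) (Bool.rec (motive := fun _ => List ℕ) (rw2884) (rw2885) (Nat.ble 2885 i)) (Bool.rec (motive := fun _ => List ℕ) (rw2886) (rw2887) (Nat.ble 2887 i)) (Nat.ble 2886 i)) (Nat.ble 2884 i)) (Bool.rec (motive := fun _ => List ℕ) (Bool.rec (motive := fun _ => List ℕ) (Bool.rec (motive := fun _ => List ℕ) (rw2888) (rw2889) (Nat.ble 2889 i)) (Bool.rec (motive := fun _ => List ℕ) (rw2890) (rw2891) (Nat.ble 2891 i)) (Nat.ble 2890 i)) (Bool.rec (motive := fun _ => List ℕ) (Bool.rec (motive := fun _ => List ℕ) (rw2892) (rw2893) (Nat.ble 2893 i)) (Bool.rec (motive := fun _ => List ℕ) (rw2894) (rw2895) (Nat.ble 2895 i)) (Nat.ble 2894 i)) (Nat.ble 2892 i)) (Nat.ble 2888 i)) (Bool.rec (motive := fun _ => List ℕ) (Bool.rec (motive := fun _ => List ℕ) (Bool.rec (motive := fun _ => List ℕ) (Bool.rec (motive := fun _ => List ℕ) (rw2896) (rw2897) (Nat.ble 2897 i)) (Bool.rec (motive := fun _ => List ℕ) (rw2898) (rw2899) (Nat.ble 2899 i)) (Nat.ble 2898 i)) (Bool.rec (motive := fun _ => List ℕ) (Bool.rec (motive := fun _ => List ℕ) (rw2900) (rw2901) (Nat.ble 2901 i)) (Bool.rec (motive := fun _ => List ℕ) (rw2902) (rw2903) (Nat.ble 2903 i)) (Nat.ble 2902 i)) (Nat.ble 2900 i)) (Bool.rec (motive := fun _ => List ℕ) (Bool.rec (motive := fun _ => List ℕ) (Bool.rec (motive := fun _ => List ℕ) (rw2904) (rw2905) (Nat.ble 2905 i)) (Bool.rec (motive := fun _ => List ℕ) (rw2906) (rw2907) (Nat.ble 2907 i)) (Nat.ble 2906 i)) (Bool.rec (motive := fun _ => List ℕ) (Bool.rec (motive := fun _ => List ℕ) (rw2908) (rw2909) (Nat.ble 2909 i)) (Bool.rec (motive := fun _ => List ℕ) (rw2910) (rw2911) (Nat.ble 2911 i)) (Nat.ble 2910 i)) (Nat.ble 2908 i)) (Nat.ble 2904 i)) (Nat.ble 2896 i)) (Bool.rec (motive := fun _ => List ℕ) (Bool.rec (motive := fun _ => List ℕ) (Bool.rec (motive := fun _ => List ℕ) (Bool.rec (motive := fun _ => List ℕ) (Bool.rec (motive := fun _ => List ℕ) (rw2912) (rw2913) (Nat.ble 2913 i)) (Bool.rec (motive := fun _ => List ℕ) (rw2914) (rw2915) (Nat.ble 2915 i)) (Nat.ble 2914 i)) (Bool.rec (motive := fun _ => List ℕ) (Bool.rec (motive := fun _ => List ℕ) (rw2916) (rw2917) (Nat.ble 2917 i)) (Bool.rec (motive := fun _ => List ℕ) (rw2918) (rw2919) (Nat.ble 2919 i)) (Nat.ble 2918 i)) (Nat.ble 2916 i)) (Bool.rec (motive := fun _ => List ℕ) (Bool.rec (motive := fun _ => List ℕ) (Bool.rec (motive := fun _ => List ℕ) (rw2920) (rw2921) (Nat.ble 2921 i)) (Bool.rec (motive := fun _ => List ℕ) (rw2922) (rw2923) (Nat.ble 2923 i)) (Nat.ble 2922 i)) (Bool.rec (motive := fun _ => List ℕ) (Bool.rec (motive := fun _ => List ℕ) (rw2924) (rw2925) (Nat.ble 2925 i)) (Bool.rec (motive := fun _ => List ℕ) (rw2926) (rw2927) (Nat.ble 2927 i)) (Nat.ble 2926 i)) (Nat.ble 2924 i)) (Nat.ble 2920 i)) (Bool.rec (motive := fun _ => List ℕ) (Bool.rec (motive := fun _ => List ℕ) (Bool.rec (motive := fun _ => List ℕ) (Bool.rec (motive := fun _ => List ℕ) (rw2928) (rw2929) (Nat.ble 2929 i)) (Bool.rec (motive := fun _ => List ℕ) (rw2930) (rw2931) (Nat.ble 2931 i)) (Nat.ble 2930 i)) (Bool.rec (motive := fun _ => List ℕ) (Bool.rec (motive := fun _ => List ℕ) (rw2932) (rw2933) (Nat.ble 2933 i)) (Bool.rec (motive := fun _ => List ℕ) (rw2934) (rw2935) (Nat.ble 2935 i)) (Nat.ble 2934 i)) (Nat.ble 2932 i)) (Bool.rec (motive := fun _ => List ℕ) (Bool.rec (motive := fun _ => List ℕ) (Bool.rec (motive := fun _ => List ℕ) (rw2936) (rw2937) (Nat.ble 2937 i)) (Bool.rec (motive := fun _ => List ℕ) (rw2938) (rw2939) (Nat.ble 2939 i)) (Nat.ble 2938 i)) (Bool.rec (motive := fun _ => List ℕ) (Bool.rec (motive := fun _ => List ℕ) (rw2940) (rw2941) (Nat.ble 2941 i)) (Bool.rec (motive := fun _ => List ℕ) (rw2942) (rw2943) (Nat.ble 2943 i)) (Nat.ble 2942 i)) (Nat.ble 2940 i)) (Nat.ble 2936 i)) (Nat.ble 2928 i)) (Nat.ble 2912 i)) (Nat.ble 2880 i)) (Bool.rec (motive := fun _ => List ℕ) (Bool.rec (motive := fun _ => List ℕ) (Bool.rec (motive := fun _ => List ℕ) (Bool.rec (motive := fun _ => List ℕ) (Bool.rec (motive := fun _ => List ℕ) (Bool.rec (motive := fun _ => List ℕ) (Bool.rec (motive := fun _ => List ℕ) (rw2944) (rw2945) (Nat.ble 2945 i)) (Bool.rec (motive := fun _ => List ℕ) (rw2946) (rw2947) (Nat.ble 2947 i)) (Nat.ble 2946 i)) (Bool.rec (motive := fun _ => List ℕ) (Bool.rec (motive := fun _ => List ℕ) (rw2948) (rw2949) (Nat.ble 2949 i)) (Bool.rec (motive := fun _ => List ℕ) (rw2950) (rw2951) (Nat.ble 2951 i)) (Nat.ble 2950 i)) (Nat.ble 2948 i)) (Bool.rec (motive := fun _ => List ℕ) (Bool.rec (motive := fun _ => List ℕ) (Bool.rec (motive := fun _ => List ℕ) (rw2952) (rw2953) (Nat.ble 2953 i)) (Bool.rec (motive := fun _ => List ℕ) (rw2954) (rw2955) (Nat.ble 2955 i)) (Nat.ble 2954 i)) (Bool.rec (motive := fun _ => List ℕ) (Bool.rec (motive := fun _ => List ℕ) (rw2956) (rw2957) (Nat.ble 2957 i)) (Bool.rec (motive := fun _ => List ℕ) (rw2958) (rw2959) (Nat.ble 2959 i)) (Nat.ble 2958 i)) (Nat.ble 2956 i)) (Nat.ble 2952 i)) (Bool.rec (motive := fun _ => List ℕ) (Bool.rec (motive := fun _ => List ℕ) (Bool.rec (motive := fun _ => List ℕ) (Bool.rec (motive := fun _ => List ℕ) (rw2960) (rw2961) (Nat.ble 2961 i)) (Bool.rec (motive := fun _ => List ℕ) (rw2962) (rw2963) (Nat.ble 2963 i)) (Nat.ble 2962 i)) (Bool.rec (motive := fun _ => List ℕ) (Bool.rec (motive := fun _ => List ℕ) (rw2964) (rw2965) (Nat.ble 2965 i)) (Bool.rec (motive := fun _ => List ℕ) (rw2966) (rw2967) (Nat.ble 2967 i)) (Nat.ble 2966 i)) (Nat.ble 2964 i)) (Bool.rec (motive := fun _ => List ℕ) (Bool.rec (motive := fun _ => List ℕ) (Bool.rec (motive := fun _ => List ℕ) (rw2968) (rw2969) (Nat.ble 2969 i)) (Bool.rec (motive := fun _ => List ℕ) (rw2970) (rw2971) (Nat.ble 2971 i)) (Nat.ble 2970 i)) (Bool.rec (motive := fun _ => List ℕ) (Bool.rec (motive := fun _ => List ℕ) (rw2972) (rw2973) (Nat.ble 2973 i)) (Bool.rec (motive := fun _ => List ℕ) (rw2974) (rw2975) (Nat.ble 2975 i)) (Nat.ble 2974 i)) (Nat.ble 2972 i)) (Nat.ble 2968 i)) (Nat.ble 2960 i)) (Bool.rec (motive := fun _ => List ℕ) (Bool.rec (motive := fun _ => List ℕ) (Bool.rec (motive := fun _ => List ℕ) (Bool.rec (motive := fun _ => List ℕ) (Bool.rec (motive := fun _ => List ℕ) (rw2976) (rw2977) (Nat.ble 2977 i)) (Bool.rec (motive := fun _ => List ℕ) (rw2978) (rw2979) (Nat.ble 2979 i)) (Nat.ble 2978 i)) (Bool.rec (motive := fun _ => List ℕ) (Bool.rec (motive := fun _ => List ℕ) (rw2980) (rw2981) (Nat.ble 2981 i)) (Bool.rec (motive := fun _ => List ℕ) (rw2982) (rw2983) (Nat.ble 2983 i)) (Nat.ble 2982 i)) (Nat.ble 2980 i)) (Bool.rec (motive := fun _ => List ℕ) (Bool.rec (motive := fun _ => List ℕ) (Bool.rec (motive := fun _ => List ℕ) (rw2984) (rw2985) (Nat.ble 2985 i)) (Bool.rec (motive := fun _ => List ℕ) (rw2986) (rw2987) (Nat.ble 2987 i)) (Nat.ble 2986 i)) (Bool.rec (motive := fun _ => List ℕ) (Bool.rec (motive := fun _ => List ℕ) (rw2988) (rw2989) (Nat.ble 2989 i)) (Bool.rec (motive := fun _ => List ℕ) (rw2990) (rw2991) (Nat.ble 2991 i)) (Nat.ble 2990 i)) (Nat.ble 2988 i)) (Nat.ble 2984 i)) (Bool.rec (motive := fun _ => List ℕ) (Bool.rec (motive := fun _ => List ℕ) (Bool.rec (motive := fun _ => List ℕ) (Bool.rec (motive := fun _ => List ℕ) (rw2992) (rw2993) (Nat.ble 2993 i)) (Bool.rec (motive := fun _ => List ℕ) (rw2994) (rw2995) (Nat.ble 2995 i)) (Nat.ble 2994 i)) (Bool.rec (motive := fun _ => List ℕ) (Bool.rec (motive := fun _ => List ℕ) (rw2996) (rw2997) (Nat.ble 2997 i)) (Bool.rec (motive := fun _ => List ℕ) (rw2998) (rw2999) (Nat.ble 2999 i)) (Nat.ble 2998 i)) (Nat.ble 2996 i)) (Bool.rec (motive := fun _ => List ℕ) (Bool.rec (motive := fun _ => List ℕ) (Bool.rec (motive := fun _ => List ℕ) (rw3000) (rw3001) (Nat.ble 3001 i)) (Bool.rec (motive := fun _ => List ℕ) (rw3002) (rw3003) (Nat.ble 3003 i)) (Nat.ble 3002 i)) (Bool.rec (motive := fun _ => List ℕ) (Bool.rec (motive := fun _ => List ℕ) (rw3004) (rw3005) (Nat.ble 3005 i)) (Bool.rec (motive := fun _ => List ℕ) (rw3006) (rw3007) (Nat.ble 3007 i)) (Nat.ble 3006 i)) (Nat.ble 3004 i)) (Nat.ble 3000 i)) (Nat.ble 2992 i)) (Nat.ble 2976 i)) (Bool.rec (motive := fun _ => List ℕ) (Bool.rec (motive := fun _ => List ℕ) (Bool.rec (motive := fun _ => List ℕ) (Bool.rec (motive := fun _ => List ℕ) (Bool.rec (motive := fun _ => List ℕ) (Bool.rec (motive := fun _ => List ℕ) (rw3008) (rw3009) (Nat.ble 3009 i)) (Bool.rec (motive := fun _ => List ℕ) (rw3010) (rw3011) (Nat.ble 3011 i)) (Nat.ble 3010 i)) (Bool.rec (motive := fun _ => List ℕ) (Bool.rec (motive := fun _ => List ℕ) (rw3012) (rw3013) (Nat.ble 3013 i)) (Bool.rec (motive := fun _ => List ℕ) (rw3014) (rw3015) (Nat.ble 3015 i)) (Nat.ble 3014 i)) (Nat.ble 3012 i)) (Bool.rec (motive := fun _ => List ℕ) (Bool.rec (motive := fun _ => List ℕ) (Bool.rec (motive := fun _ => List ℕ) (rw3016) (rw3017) (Nat.ble 3017 i)) (Bool.rec (motive := fun _ => List ℕ) (rw3018) (rw3019) (Nat.ble 3019 i)) (Nat.ble 3018 i)) (Bool.rec (motive := fun _ => List ℕ) (Bool.rec (motive := fun _ => List ℕ) (rw3020) (rw3021) (Nat.ble 3021 i)) (Bool.rec (motive := fun _ => List ℕ) (rw3022) (rw3023) (Nat.ble 3023 i)) (Nat.ble 3022 i)) (Nat.ble 3020 i)) (Nat.ble 3016 i)) (Bool.rec (motive := fun _ => List ℕ) (Bool.rec (motive := fun _ => List ℕ) (Bool.rec (motive := fun _ => List ℕ) (Bool.rec (motive := fun _ => List ℕ) (rw3024) (rw3025) (Nat.ble 3025 i)) (Bool.rec (motive := fun _ => List ℕ) (rw3026) (rw3027) (Nat.ble 3027 i)) (Nat.ble 3026 i)) (Bool.rec (motive := fun _ => List ℕ) (Bool.rec (motive := fun _ => List ℕ) (rw3028) (rw3029) (Nat.ble 3029 i)) (Bool.rec (motive := fun _ => List ℕ) (rw3030) (rw3031) (Nat.ble 3031 i)) (Nat.ble 3030 i)) (Nat.ble 3028 i)) (Bool.rec (motive := fun _ => List ℕ) (Bool.rec (motive := fun _ => List ℕ) (Bool.rec (motive := fun _ => List ℕ) (rw3032) (rw3033) (Nat.ble 3033 i)) (Bool.rec (motive := fun _ => List ℕ) (rw3034) (rw3035) (Nat.ble 3035 i)) (Nat.ble 3034 i)) (Bool.rec (motive := fun _ => List ℕ) (Bool.rec (motive := fun _ => List ℕ) (rw3036) (rw3037) (Nat.ble 3037 i)) (Bool.rec (motive := fun _ => List ℕ) (rw3038) (rw3039) (Nat.ble 3039 i)) (Nat.ble 3038 i)) (Nat.ble 3036 i)) (Nat.ble 3032 i)) (Nat.ble 3024 i)) (Bool.rec (motive := fun _ => List ℕ) (Bool.rec (motive := fun _ => List ℕ) (Bool.rec (motive := fun _ => List ℕ) (Bool.rec (motive := fun _ => List ℕ) (Bool.rec (motive := fun _ => List ℕ) (rw3040) (rw3041) (Nat.ble 3041 i)) (Bool.rec (motive := fun _ => List ℕ) (rw3042) (rw3043) (Nat.ble 3043 i)) (Nat.ble 3042 i)) (Bool.rec (motive := fun _ => List ℕ) (Bool.rec (motive := fun _ => List ℕ) (rw3044) (rw3045) (Nat.ble 3045 i)) (Bool.rec (motive := fun _ => List ℕ) (rw3046) (rw3047) (Nat.ble 3047 i)) (Nat.ble 3046 i)) (Nat.ble 3044 i)) (Bool.rec (motive := fun _ => List ℕ) (Bool.rec (motive := fun _ => List ℕ) (Bool.rec (motive := fun _ => List ℕ) (rw3048) (rw3049) (Nat.ble 3049 i)) (Bool.rec (motive := fun _ => List ℕ) (rw3050) (rw3051) (Nat.ble 3051 i)) (Nat.ble 3050 i)) (Bool.rec (motive := fun _ => List ℕ) (Bool.rec (motive := fun _ => List ℕ) (rw3052) (rw3053) (Nat.ble 3053 i)) (Bool.rec (motive := fun _ => List ℕ) (rw3054) (rw3055) (Nat.ble 3055 i)) (Nat.ble 3054 i)) (Nat.ble 3052 i)) (Nat.ble 3048 i)) (Bool.rec (motive := fun _ => List ℕ) (Bool.rec (motive := fun _ => List ℕ) (Bool.rec (motive := fun _ => List ℕ) (Bool.rec (motive := fun _ => List ℕ) (rw3056) (rw3057) (Nat.ble 3057 i)) (Bool.rec (motive := fun _ => List ℕ) (rw3058) (rw3059) (Nat.ble 3059 i)) (Nat.ble 3058 i)) (Bool.rec (motive := fun _ => List ℕ) (Bool.rec (motive := fun _ => List ℕ) (rw3060) (rw3061) (Nat.ble 3061 i)) (Bool.rec (motive := fun _ => List ℕ) (rw3062) (rw3063) (Nat.ble 3063 i)) (Nat.ble 3062 i)) (Nat.ble 3060 i)) (Bool.rec (motive := fun _ => List ℕ) (Bool.rec (motive := fun _ => List ℕ) (Bool.rec (motive := fun _ => List ℕ) (rw3064) (rw3065) (Nat.ble 3065 i)) (Bool.rec (motive := fun _ => List ℕ) (rw3066) (rw3067) (Nat.ble 3067 i)) (Nat.ble 3066 i)) (Bool.rec (motive := fun _ => List ℕ) (Bool.rec (motive := fun _ => List ℕ) (rw3068) (rw3069) (Nat.ble 3069 i)) (Bool.rec (motive := fun _ => List ℕ) (rw3070) (rw3071) (Nat.ble 3071 i)) (Nat.ble 3070 i)) (Nat.ble 3068 i)) (Nat.ble 3064 i)) (Nat.ble 3056 i)) (Nat.ble 3040 i)) (Nat.ble 3008 i)) (Nat.ble 2944 i)) (Nat.ble 2816 i)) (Nat.ble 2560 i)) (Bool.rec (motive := fun _ => List ℕ) (Bool.rec (motive := fun _ => List ℕ) (Bool.rec (motive := fun _ => List ℕ) (Bool.rec (motive := fun _ => List ℕ) (Bool.rec (motive := fun _ => List ℕ) (Bool.rec (motive := fun _ => List ℕ) (Bool.rec (motive := fun _ => List ℕ) (Bool.rec (motive := fun _ => List ℕ) (Bool.rec (motive := fun _ => List ℕ) (Bool.rec (motive := fun _ => List ℕ) (rw3072) (rw3073) (Nat.ble 3073 i)) (Bool.rec (motive := fun _ => List ℕ) (rw3074) (rw3075) (Nat.ble 3075 i)) (Nat.ble 3074 i)) (Bool.rec (motive := fun _ => List ℕ) (Bool.rec (motive := fun _ => List ℕ) (rw3076) (rw3077) (Nat.ble 3077 i)) (Bool.rec (motive := fun _ => List ℕ) (rw3078) (rw3079) (Nat.ble 3079 i)) (Nat.ble 3078 i)) (Nat.ble 3076 i)) (Bool.rec (motive := fun _ => List ℕ) (Bool.rec (motive := fun _ => List ℕ) (Bool.rec (motive := fun _ => List ℕ) (rw3080) (rw3081) (Nat.ble 3081 i)) (Bool.rec (motive := fun _ => List ℕ) (rw3082) (rw3083) (Nat.ble 3083 i)) (Nat.ble 3082 i)) (Bool.rec (motive := fun _ => List ℕ) (Bool.rec (motive := fun _ => List ℕ) (rw3084) (rw3085) (Nat.ble 3085 i)) (Bool.rec (motive := fun _ => List ℕ) (rw3086) (rw3087) (Nat.ble 3087 i)) (Nat.ble 3086 i)) (Nat.ble 3084 i)) (Nat.ble 3080 i)) (Bool.rec (motive := fun _ => List ℕ) (Bool.rec (motive := fun _ => List ℕ) (Bool.rec (motive := fun _ => List ℕ) (Bool.rec (motive := fun _ => List ℕ) (rw3088) (rw3089) (Nat.ble 3089 i)) (Bool.rec (motive := fun _ => List ℕ) (rw3090) (rw3091) (Nat.ble 3091 i)) (Nat.ble 3090 i)) (Bool.rec (motive := fun _ => List ℕ) (Bool.rec (motive := fun _ => List ℕ) (rw3092) (rw3093) (Nat.ble 3093 i)) (Bool.rec (motive := fun _ => List ℕ) (rw3094) (rw3095) (Nat.ble 3095 i)) (Nat.ble 3094 i)) (Nat.ble 3092 i)) (Bool.rec (motive := fun _ => List ℕ) (Bool.rec (motive := fun _ => List ℕ) (Bool.rec (motive := fun _ => List ℕ) (rw3096) (rw3097) (Nat.ble 3097 i)) (Bool.rec (motive := fun _ => List ℕ) (rw3098) (rw3099) (Nat.ble 3099 i)) (Nat.ble 3098 i)) (Bool.rec (motive := fun _ => List ℕ) (Bool.rec (motive := fun _ => List ℕ) (rw3100) (rw3101) (Nat.ble 3101 i)) (Bool.rec (motive := fun _ => List ℕ) (rw3102) (rw3103) (Nat.ble 3103 i)) (Nat.ble 3102 i)) (Nat.ble 3100 i)) (Nat.ble 3096 i)) (Nat.ble 3088 i)) (Bool.rec (motive := fun _ => List ℕ) (Bool.rec (motive := fun _ => List ℕ) (Bool.rec (motive := fun _ => List ℕ) (Bool.rec (motive := fun _ => List ℕ) (Bool.rec (motive := fun _ => List ℕ) (rw3104) (rw3105) (Nat.ble 3105 i)) (Bool.rec (motive := fun _ => List ℕ) (rw3106) (rw3107) (Nat.ble 3107 i)) (Nat.ble 3106 i)) (Bool.rec (motive := fun _ => List ℕ) (Bool.rec (motive := fun _ => List ℕ) (rw3108) (rw3109) (Nat.ble 3109 i)) (Bool.rec (motive := fun _ => List ℕ) (rw3110) (rw3111) (Nat.ble 3111 i)) (Nat.ble 3110 i)) (Nat.ble 3108 i)) (Bool.rec (motive := fun _ => List ℕ) (Bool.rec (motive := fun _ => List ℕ) (Bool.rec (motive := fun _ => List ℕ) (rw3112) (rw3113) (Nat.ble 3113 i)) (Bool.rec (motive := fun _ => List ℕ) (rw3114) (rw3115) (Nat.ble 3115 i)) (Nat.ble 3114 i)) (Bool.rec (motive := fun _ => List ℕ) (Bool.rec (motive := fun _ => List ℕ) (rw3116) (rw3117) (Nat.ble 3117 i)) (Bool.rec (motive := fun _ => List ℕ) (rw3118) (rw3119) (Nat.ble 3119 i)) (Nat.ble 3118 i)) (Nat.ble 3116 i)) (Nat.ble 3112 i)) (Bool.rec (motive := fun _ => List ℕ) (Bool.rec (motive := fun _ => List ℕ) (Bool.rec (motive := fun _ => List ℕ) (Bool.rec (motive := fun _ => List ℕ) (rw3120) (rw3121) (Nat.ble 3121 i)) (Bool.rec (motive := fun _ => List ℕ) (rw3122) (rw3123) (Nat.ble 3123 i)) (Nat.ble 3122 i)) (Bool.rec (motive := fun _ => List ℕ) (Bool.rec (motive := fun _ => List ℕ) (rw3124) (rw3125) (Nat.ble 3125 i)) (Bool.rec (motive := fun _ => List ℕ) (rw3126) (rw3127) (Nat.ble 3127 i)) (Nat.ble 3126 i)) (Nat.ble 3124 i)) (Bool.rec (motive := fun _ => List ℕ) (Bool.rec (motive := fun _ => List ℕ) (Bool.rec (motive := fun _ => List ℕ) (rw3128) (rw3129) (Nat.ble 3129 i)) (Bool.rec (motive := fun _ => List ℕ) (rw3130) (rw3131) (Nat.ble 3131 i)) (Nat.ble 3130 i)) (Bool.rec (motive := fun _ => List ℕ) (Bool.rec (motive := fun _ => List ℕ) (rw3132) (rw3133) (Nat.ble 3133 i)) (Bool.rec (motive := fun _ => List ℕ) (rw3134) (rw3135) (Nat.ble 3135 i)) (Nat.ble 3134 i)) (Nat.ble 3132 i)) (Nat.ble 3128 i)) (Nat.ble 3120 i)) (Nat.ble 3104 i)) (Bool.rec (motive := fun _ => List ℕ) (Bool.rec (motive := fun _ => List ℕ) (Bool.rec (motive := fun _ => List ℕ) (Bool.rec (motive := fun _ => List ℕ) (Bool.rec (motive := fun _ => List ℕ) (Bool.rec (motive := fun _ => List ℕ) (rw3136) (rw3137) (Nat.ble 3137 i)) (Bool.rec (motive := fun _ => List ℕ) (rw3138) (rw3139) (Nat.ble 3139 i)) (Nat.ble 3138 i)) (Bool.rec (motive := fun _ => List ℕ) (Bool.rec (motive := fun _ => List ℕ) (rw3140) (rw3141) (Nat.ble 3141 i)) (Bool.rec (motive := fun _ => List ℕ) (rw3142) (rw3143) (Nat.ble 3143 i)) (Nat.ble 3142 i)) (Nat.ble 3140 i)) (Bool.rec (motive := fun _ => List ℕ) (Bool.rec (motive := fun _ => List ℕ) (Bool.rec (motive := fun _ => List ℕ) (rw3144) (rw3145) (Nat.ble 3145 i)) (Bool.rec (motive := fun _ => List ℕ) (rw3146) (rw3147) (Nat.ble 3147 i)) (Nat.ble 3146 i)) (Bool.rec (motive := fun _ => List ℕ) (Bool.rec (motive := fun _ => List ℕ) (rw3148) (rw3149) (Nat.ble 3149 i)) (Bool.rec (motive := fun _ => List ℕ) (rw3150) (rw3151) (Nat.ble 3151 i)) (Nat.ble 3150 i)) (Nat.ble 3148 i)) (Nat.ble 3144 i)) (Bool.rec (motive := fun _ => List ℕ) (Bool.rec (motive := fun _ => List ℕ) (Bool.rec (motive := fun _ => List ℕ) (Bool.rec (motive := fun _ => List ℕ) (rw3152) (rw3153) (Nat.ble 3153 i)) (Bool.rec (motive := fun _ => List ℕ) (rw3154) (rw3155) (Nat.ble 3155 i)) (Nat.ble 3154 i)) (Bool.rec (motive := fun _ => List ℕ) (Bool.rec (motive := fun _ => List ℕ) (rw3156) (rw3157) (Nat.ble 3157 i)) (Bool.rec (motive := fun _ => List ℕ) (rw3158) (rw3159) (Nat.ble 3159 i)) (Nat.ble 3158 i)) (Nat.ble 3156 i)) (Bool.rec (motive := fun _ => List ℕ) (Bool.rec (motive := fun _ => List ℕ) (Bool.rec (motive := fun _ => List ℕ) (rw3160) (rw3161) (Nat.ble 3161 i)) (Bool.rec (motive := fun _ => List ℕ) (rw3162) (rw3163) (Nat.ble 3163 i)) (Nat.ble 3162 i)) (Bool.rec (motive := fun _ => List ℕ) (Bool.rec (motive := fun _ => List ℕ) (rw3164) (rw3165) (Nat.ble 3165 i)) (Bool.rec (motive := fun _ => List ℕ) (rw3166) (rw3167) (Nat.ble 3167 i)) (Nat.ble 3166 i)) (Nat.ble 3164 i)) (Nat.ble 3160 i)) (Nat.ble 3152 i)) (Bool.rec (motive := fun _ => List ℕ) (Bool.rec (motive := fun _ => List ℕ) (Bool.rec (motive := fun _ => List ℕ) (Bool.rec (motive := fun _ => List ℕ) (Bool.rec (motive := fun _ => List ℕ) (rw3168) (rw3169) (Nat.ble 3169 i)) (Bool.rec (motive := fun _ => List ℕ) (rw3170) (rw3171) (Nat.ble 3171 i)) (Nat.ble 3170 i)) (Bool.rec (motive := fun _ => List ℕ) (Bool.rec (motive := fun _ => List ℕ) (rw3172) (rw3173) (Nat.ble 3173 i)) (Bool.rec (motive := fun _ => List ℕ) (rw3174) (rw3175) (Nat.ble 3175 i)) (Nat.ble 3174 i)) (Nat.ble 3172 i)) (Bool.rec (motive := fun _ => List ℕ) (Bool.rec (motive := fun _ => List ℕ) (Bool.rec (motive := fun _ => List ℕ) (rw3176) (rw3177) (Nat.ble 3177 i)) (Bool.rec (motive := fun _ => List ℕ) (rw3178) (rw3179) (Nat.ble 3179 i)) (Nat.ble 3178 i)) (Bool.rec (motive := fun _ => List ℕ) (Bool.rec (motive := fun _ => List ℕ) (rw3180) (rw3181) (Nat.ble 3181 i)) (Bool.rec (motive := fun _ => List ℕ) (rw3182) (rw3183) (Nat.ble 3183 i)) (Nat.ble 3182 i)) (Nat.ble 3180 i)) (Nat.ble 3176 i)) (Bool.rec (motive := fun _ => List ℕ) (Bool.rec (motive := fun _ => List ℕ) (Bool.rec (motive := fun _ => List ℕ) (Bool.rec (motive := fun _ => List ℕ) (rw3184) (rw3185) (Nat.ble 3185 i)) (Bool.rec (motive := fun _ => List ℕ) (rw3186) (rw3187) (Nat.ble 3187 i)) (Nat.ble 3186 i)) (Bool.rec (motive := fun _ => List ℕ) (Bool.rec (motive := fun _ => List ℕ) (rw3188) (rw3189) (Nat.ble 3189 i)) (Bool.rec (motive := fun _ => List ℕ) (rw3190) (rw3191) (Nat.ble 3191 i)) (Nat.ble 3190 i)) (Nat.ble 3188 i)) (Bool.rec (motive := fun _ => List ℕ) (Bool.rec (motive := fun _ => List ℕ) (Bool.rec (motive := fun _ => List ℕ) (rw3192) (rw3193) (Nat.ble 3193 i)) (Bool.rec (motive := fun _ => List ℕ) (rw3194) (rw3195) (Nat.ble 3195 i)) (Nat.ble 3194 i)) (Bool.rec (motive := fun _ => List ℕ) (Bool.rec (motive := fun _ => List ℕ) (rw3196) (rw3197) (Nat.ble 3197 i)) (Bool.rec (motive := fun _ => List ℕ) (rw3198) (rw3199) (Nat.ble 3199 i)) (Nat.ble 3198 i)) (Nat.ble 3196 i)) (Nat.ble 3192 i)) (Nat.ble 3184 i)) (Nat.ble 3168 i)) (Nat.ble 3136 i)) (Bool.rec (motive := fun _ => List ℕ) (Bool.rec (motive := fun _ => List ℕ) (Bool.rec (motive := fun _ => List ℕ) (Bool.rec (motive := fun _ => List ℕ) (Bool.rec (motive := fun _ => List ℕ) (Bool.rec (motive := fun _ => List ℕ) (Bool.rec (motive := fun _ => List ℕ) (rw3200) (rw3201) (Nat.ble 3201 i)) (Bool.rec (motive := fun _ => List ℕ) (rw3202) (rw3203) (Nat.ble 3203 i)) (Nat.ble 3202 i)) (Bool.rec (motive := fun _ => List ℕ) (Bool.rec (motive := fun _ => List ℕ) (rw3204) (rw3205) (Nat.ble 3205 i)) (Bool.rec (motive := fun _ => List ℕ) (rw3206) (rw3207) (Nat.ble 3207 i)) (Nat.ble 3206 i)) (Nat.ble 3204 i)) (Bool.rec (motive := fun _ => List ℕ) (Bool.rec (motive := fun _ => List ℕ) (Bool.rec (motive := fun _ => List ℕ) (rw3208) (rw3209) (Nat.ble 3209 i)) (Bool.rec (motive := fun _ => List ℕ) (rw3210) (rw3211) (Nat.ble 3211 i)) (Nat.ble 3210 i)) (Bool.rec (motive := fun _ => List ℕ) (Bool.rec (motive := fun _ => List ℕ) (rw3212) (rw3213) (Nat.ble 3213 i)) (Bool.rec (motive := fun _ => List ℕ) (rw3214) (rw3215) (Nat.ble 3215 i)) (Nat.ble 3214 i)) (Nat.ble 3212 i)) (Nat.ble 3208 i)) (Bool.rec (motive := fun _ => List ℕ) (Bool.rec (motive := fun _ => List ℕ) (Bool.rec (motive := fun _ => List ℕ) (Bool.rec (motive := fun _ => List ℕ) (rw3216) (rw3217) (Nat.ble 3217 i)) (Bool.rec (motive := fun _ => List ℕ) (rw3218) (rw3219) (Nat.ble 3219 i)) (Nat.ble 3218 i)) (Bool.rec (motive := fun _ => List ℕ) (Bool.rec (motive := fun _ => List ℕ) (rw3220) (rw3221) (Nat.ble 3221 i)) (Bool.rec (motive := fun _ => List ℕ) (rw3222) (rw3223) (Nat.ble 3223 i)) (Nat.ble 3222 i)) (Nat.ble 3220 i)) (Bool.rec (motive := fun _ => List ℕ) (Bool.rec (motive := fun _ => List ℕ) (Bool.rec (motive := fun _ => List ℕ) (rw3224) (rw3225) (Nat.ble 3225 i)) (Bool.rec (motive := fun _ => List ℕ) (rw3226) (rw3227) (Nat.ble 3227 i)) (Nat.ble 3226 i)) (Bool.rec (motive := fun _ => List ℕ) (Bool.rec (motive := fun _ => List ℕ) (rw3228) (rw3229) (Nat.ble 3229 i)) (Bool.rec (motive := fun _ => List ℕ) (rw3230) (rw3231) (Nat.ble 3231 i)) (Nat.ble 3230 i)) (Nat.ble 3228 i)) (Nat.ble 3224 i)) (Nat.ble 3216 i)) (Bool.rec (motive := fun _ => List ℕ) (Bool.rec (motive := fun _ => List ℕ) (Bool.rec (motive := fun _ => List ℕ) (Bool.rec (motive := fun _ => List ℕ) (Bool.rec (motive := fun _ => List ℕ) (rw3232) (rw3233) (Nat.ble 3233 i)) (Bool.rec (motive := fun _ => List ℕ) (rw3234) (rw3235) (Nat.ble 3235 i)) (Nat.ble 3234 i)) (Bool.rec (motive := fun _ => List ℕ) (Bool.rec (motive := fun _ => List ℕ) (rw3236) (rw3237) (Nat.ble 3237 i)) (Bool.rec (motive := fun _ => List ℕ) (rw3238) (rw3239) (Nat.ble 3239 i)) (Nat.ble 3238 i)) (Nat.ble 3236 i)) (Bool.rec (motive := fun _ => List ℕ) (Bool.rec (motive := fun _ => List ℕ) (Bool.rec (motive := fun _ => List ℕ) (rw3240) (rw3241) (Nat.ble 3241 i)) (Bool.rec (motive := fun _ => List ℕ) (rw3242) (rw3243) (Nat.ble 3243 i)) (Nat.ble 3242 i)) (Bool.rec (motive := fun _ => List ℕ) (Bool.rec (motive := fun _ => List ℕ) (rw3244) (rw3245) (Nat.ble 3245 i)) (Bool.rec (motive := fun _ => List ℕ) (rw3246) (rw3247) (Nat.ble 3247 i)) (Nat.ble 3246 i)) (Nat.ble 3244 i)) (Nat.ble 3240 i)) (Bool.rec (motive := fun _ => List ℕ) (Bool.rec (motive := fun _ => List ℕ) (Bool.rec (motive := fun _ => List ℕ) (Bool.rec (motive := fun _ => List ℕ) (rw3248) (rw3249) (Nat.ble 3249 i)) (Bool.rec (motive := fun _ => List ℕ) (rw3250) (rw3251) (Nat.ble 3251 i)) (Nat.ble 3250 i)) (Bool.rec (motive := fun _ => List ℕ) (Bool.rec (motive := fun _ => List ℕ) (rw3252) (rw3253) (Nat.ble 3253 i)) (Bool.rec (motive := fun _ => List ℕ) (rw3254) (rw3255) (Nat.ble 3255 i)) (Nat.ble 3254 i)) (Nat.ble 3252 i)) (Bool.rec (motive := fun _ => List ℕ) (Bool.rec (motive := fun _ => List ℕ) (Bool.rec (motive := fun _ => List ℕ) (rw3256) (rw3257) (Nat.ble 3257 i)) (Bool.rec (motive := fun _ => List ℕ) (rw3258) (rw3259) (Nat.ble 3259 i)) (Nat.ble 3258 i)) (Bool.rec (motive := fun _ => List ℕ) (Bool.rec (motive := fun _ => List ℕ) (rw3260) (rw3261) (Nat.ble 3261 i)) (Bool.rec (motive := fun _ => List ℕ) (rw3262) (rw3263) (Nat.ble 3263 i)) (Nat.ble 3262 i)) (Nat.ble 3260 i)) (Nat.ble 3256 i)) (Nat.ble 3248 i)) (Nat.ble 3232 i)) (Bool.rec (motive := fun _ => List ℕ) (Bool.rec (motive := fun _ => List ℕ) (Bool.rec (motive := fun _ => List ℕ) (Bool.rec (motive := fun _ => List ℕ) (Bool.rec (motive := fun _ => List ℕ) (Bool.rec (motive := fun _ => List ℕ) (rw3264) (rw3265) (Nat.ble 3265 i)) (Bool.rec (motive := fun _ => List ℕ) (rw3266) (rw3267) (Nat.ble 3267 i)) (Nat.ble 3266 i)) (Bool.rec (motive := fun _ => List ℕ) (Bool.rec (motive := fun _ => List ℕ) (rw3268) (rw3269) (Nat.ble 3269 i)) (Bool.rec (motive := fun _ => List ℕ) (rw3270) (rw3271) (Nat.ble 3271 i)) (Nat.ble 3270 i)) (Nat.ble 3268 i)) (Bool.rec (motive := fun _ => List ℕ) (Bool.rec (motive := fun _ => List ℕ) (Bool.rec (motive := fun _ => List ℕ) (rw3272) (rw3273) (Nat.ble 3273 i)) (Bool.rec (motive := fun _ => List ℕ) (rw3274) (rw3275) (Nat.ble 3275 i)) (Nat.ble 3274 i)) (Bool.rec (motive := fun _ => List ℕ) (Bool.rec (motive := fun _ => List ℕ) (rw3276) (rw3277) (Nat.ble 3277 i)) (Bool.rec (motive := fun _ => List ℕ) (rw3278) (rw3279) (Nat.ble 3279 i)) (Nat.ble 3278 i)) (Nat.ble 3276 i)) (Nat.ble 3272 i)) (Bool.rec (motive := fun _ => List ℕ) (Bool.rec (motive := fun _ => List ℕ) (Bool.rec (motive := fun _ => List ℕ) (Bool.rec (motive := fun _ => List ℕ) (rw3280) (rw3281) (Nat.ble 3281 i)) (Bool.rec (motive := fun _ => List ℕ) (rw3282) (rw3283) (Nat.ble 3283 i)) (Nat.ble 3282 i)) (Bool.rec (motive := fun _ => List ℕ) (Bool.rec (motive := fun _ => List ℕ) (rw3284) (rw3285) (Nat.ble 3285 i)) (Bool.rec (motive := fun _ => List ℕ) (rw3286) (rw3287) (Nat.ble 3287 i)) (Nat.ble 3286 i)) (Nat.ble 3284 i)) (Bool.rec (motive := fun _ => List ℕ) (Bool.rec (motive := fun _ => List ℕ) (Bool.rec (motive := fun _ => List ℕ) (rw3288) (rw3289) (Nat.ble 3289 i)) (Bool.rec (motive := fun _ => List ℕ) (rw3290) (rw3291) (Nat.ble 3291 i)) (Nat.ble 3290 i)) (Bool.rec (motive := fun _ => List ℕ) (Bool.rec (motive := fun _ => List ℕ) (rw3292) (rw3293) (Nat.ble 3293 i)) (Bool.rec (motive := fun _ => List ℕ) (rw3294) (rw3295) (Nat.ble 3295 i)) (Nat.ble 3294 i)) (Nat.ble 3292 i)) (Nat.ble 3288 i)) (Nat.ble 3280 i)) (Bool.rec (motive := fun _ => List ℕ) (Bool.rec (motive := fun _ => List ℕ) (Bool.rec (motive := fun _ => List ℕ) (Bool.rec (motive := fun _ => List ℕ) (Bool.rec (motive := fun _ => List ℕ) (rw3296) (rw3297) (Nat.ble 3297 i)) (Bool.rec (motive := fun _ => List ℕ) (rw3298) (rw3299) (Nat.ble 3299 i)) (Nat.ble 3298 i)) (Bool.rec (motive := fun _ => List ℕ) (Bool.rec (motive := fun _ => List ℕ) (rw3300) (rw3301) (Nat.ble 3301 i)) (Bool.rec (motive := fun _ => List ℕ) (rw3302) (rw3303) (Nat.ble 3303 i)) (Nat.ble 3302 i)) (Nat.ble 3300 i)) (Bool.rec (motive := fun _ => List ℕ) (Bool.rec (motive := fun _ => List ℕ) (Bool.rec (motive := fun _ => List ℕ) (rw3304) (rw3305) (Nat.ble 3305 i)) (Bool.rec (motive := fun _ => List ℕ) (rw3306) (rw3307) (Nat.ble 3307 i)) (Nat.ble 3306 i)) (Bool.rec (motive := fun _ => List ℕ) (Bool.rec (motive := fun _ => List ℕ) (rw3308) (rw3309) (Nat.ble 3309 i)) (Bool.rec (motive := fun _ => List ℕ) (rw3310) (rw3311) (Nat.ble 3311 i)) (Nat.ble 3310 i)) (Nat.ble 3308 i)) (Nat.ble 3304 i)) (Bool.rec (motive := fun _ => List ℕ) (Bool.rec (motive := fun _ => List ℕ) (Bool.rec (motive := fun _ => List ℕ) (Bool.rec (motive := fun _ => List ℕ) (rw3312) (rw3313) (Nat.ble 3313 i)) (Bool.rec (motive := fun _ => List ℕ) (rw3314) (rw3315) (Nat.ble 3315 i)) (Nat.ble 3314 i)) (Bool.rec (motive := fun _ => List ℕ) (Bool.rec (motive := fun _ => List ℕ) (rw3316) (rw3317) (Nat.ble 3317 i)) (Bool.rec (motive := fun _ => List ℕ) (rw3318) (rw3319) (Nat.ble 3319 i)) (Nat.ble 3318 i)) (Nat.ble 3316 i)) (Bool.rec (motive := fun _ => List ℕ) (Bool.rec (motive := fun _ => List ℕ) (Bool.rec (motive := fun _ => List ℕ) (rw3320) (rw3321) (Nat.ble 3321 i)) (Bool.rec (motive := fun _ => List ℕ) (rw3322) (rw3323) (Nat.ble 3323 i)) (Nat.ble 3322 i)) (Bool.rec (motive := fun _ => List ℕ) (Bool.rec (motive := fun _ => List ℕ) (rw3324) (rw3325) (Nat.ble 3325 i)) (Bool.rec (motive := fun _ => List ℕ) (rw3326) (rw3327) (Nat.ble 3327 i)) (Nat.ble 3326 i)) (Nat.ble 3324 i)) (Nat.ble 3320 i)) (Nat.ble 3312 i)) (Nat.ble 3296 i)) (Nat.ble 3264 i)) (Nat.ble 3200 i)) (Bool.rec (motive := fun _ => List ℕ) (Bool.rec (motive := fun _ => List ℕ) (Bool.rec (motive := fun _ => List ℕ) (Bool.rec (motive := fun _ => List ℕ) (Bool.rec (motive := fun _ => List ℕ) (Bool.rec (motive := fun _ => List ℕ) (Bool.rec (motive := fun _ => List ℕ) (Bool.rec (motive := fun _ => List ℕ) (rw3328) (rw3329) (Nat.ble 3329 i)) (Bool.rec (motive := fun _ => List ℕ) (rw3330) (rw3331) (Nat.ble 3331 i)) (Nat.ble 3330 i)) (Bool.rec (motive := fun _ => List ℕ) (Bool.rec (motive := fun _ => List ℕ) (rw3332) (rw3333) (Nat.ble 3333 i)) (Bool.rec (motive := fun _ => List ℕ) (rw3334) (rw3335) (Nat.ble 3335 i)) (Nat.ble 3334 i)) (Nat.ble 3332 i)) (Bool.rec (motive := fun _ => List ℕ) (Bool.rec (motive := fun _ => List ℕ) (Bool.rec (motive := fun _ => List ℕ) (rw3336) (rw3337) (Nat.ble 3337 i)) (Bool.rec (motive := fun _ => List ℕ) (rw3338) (rw3339) (Nat.ble 3339 i)) (Nat.ble 3338 i)) (Bool.rec (motive := fun _ => List ℕ) (Bool.rec (motive := fun _ => List ℕ) (rw3340) (rw3341) (Nat.ble 3341 i)) (Bool.rec (motive := fun _ => List ℕ) (rw3342) (rw3343) (Nat.ble 3343 i)) (Nat.ble 3342 i)) (Nat.ble 3340 i)) (Nat.ble 3336 i)) (Bool.rec (motive := fun _ => List ℕ) (Bool.rec (motive := fun _ => List ℕ) (Bool.rec (motive := fun _ => List ℕ) (Bool.rec (motive := fun _ => List ℕ) (rw3344) (rw3345) (Nat.ble 3345 i)) (Bool.rec (motive := fun _ => List ℕ) (rw3346) (rw3347) (Nat.ble 3347 i)) (Nat.ble 3346 i)) (Bool.rec (motive := fun _ => List ℕ) (Bool.rec (motive := fun _ => List ℕ) (rw3348) (rw3349) (Nat.ble 3349 i)) (Bool.rec (motive := fun _ => List ℕ) (rw3350) (rw3351) (Nat.ble 3351 i)) (Nat.ble 3350 i)) (Nat.ble 3348 i)) (Bool.rec (motive := fun _ => List ℕ) (Bool.rec (motive := fun _ => List ℕ) (Bool.rec (motive := fun _ => List ℕ) (rw3352) (rw3353) (Nat.ble 3353 i)) (Bool.rec (motive := fun _ => List ℕ) (rw3354) (rw3355) (Nat.ble 3355 i)) (Nat.ble 3354 i)) (Bool.rec (motive := fun _ => List ℕ) (Bool.rec (motive := fun _ => List ℕ) (rw3356) (rw3357) (Nat.ble 3357 i)) (Bool.rec (motive := fun _ => List ℕ) (rw3358) (rw3359) (Nat.ble 3359 i)) (Nat.ble 3358 i)) (Nat.ble 3356 i)) (Nat.ble 3352 i)) (Nat.ble 3344 i)) (Bool.rec (motive := fun _ => List ℕ) (Bool.rec (motive := fun _ => List ℕ) (Bool.rec (motive := fun _ => List ℕ) (Bool.rec (motive := fun _ => List ℕ) (Bool.rec (motive := fun _ => List ℕ) (rw3360) (rw3361) (Nat.ble 3361 i)) (Bool.rec (motive := fun _ => List ℕ) (rw3362) (rw3363) (Nat.ble 3363 i)) (Nat.ble 3362 i)) (Bool.rec (motive := fun _ => List ℕ) (Bool.rec (motive := fun _ => List ℕ) (rw3364) (rw3365) (Nat.ble 3365 i)) (Bool.rec (motive := fun _ => List ℕ) (rw3366) (rw3367) (Nat.ble 3367 i)) (Nat.ble 3366 i)) (Nat.ble 3364 i)) (Bool.rec (motive := fun _ => List ℕ) (Bool.rec (motive := fun _ => List ℕ) (Bool.rec (motive := fun _ => List ℕ) (rw3368) (rw3369) (Nat.ble 3369 i)) (Bool.rec (motive := fun _ => List ℕ) (rw3370) (rw3371) (Nat.ble 3371 i)) (Nat.ble 3370 i)) (Bool.rec (motive := fun _ => List ℕ) (Bool.rec (motive := fun _ => List ℕ) (rw3372) (rw3373) (Nat.ble 3373 i)) (Bool.rec (motive := fun _ => List ℕ) (rw3374) (rw3375) (Nat.ble 3375 i)) (Nat.ble 3374 i)) (Nat.ble 3372 i)) (Nat.ble 3368 i)) (Bool.rec (motive := fun _ => List ℕ) (Bool.rec (motive := fun _ => List ℕ) (Bool.rec (motive := fun _ => List ℕ) (Bool.rec (motive := fun _ => List ℕ) (rw3376) (rw3377) (Nat.ble 3377 i)) (Bool.rec (motive := fun _ => List ℕ) (rw3378) (rw3379) (Nat.ble 3379 i)) (Nat.ble 3378 i)) (Bool.rec (motive := fun _ => List ℕ) (Bool.rec (motive := fun _ => List ℕ) (rw3380) (rw3381) (Nat.ble 3381 i)) (Bool.rec (motive := fun _ => List ℕ) (rw3382) (rw3383) (Nat.ble 3383 i)) (Nat.ble 3382 i)) (Nat.ble 3380 i)) (Bool.rec (motive := fun _ => List ℕ) (Bool.rec (motive := fun _ => List ℕ) (Bool.rec (motive := fun _ => List ℕ) (rw3384) (rw3385) (Nat.ble 3385 i)) (Bool.rec (motive := fun _ => List ℕ) (rw3386) (rw3387) (Nat.ble 3387 i)) (Nat.ble 3386 i)) (Bool.rec (motive := fun _ => List ℕ) (Bool.rec (motive := fun _ => List ℕ) (rw3388) (rw3389) (Nat.ble 3389 i)) (Bool.rec (motive := fun _ => List ℕ) (rw3390) (rw3391) (Nat.ble 3391 i)) (Nat.ble 3390 i)) (Nat.ble 3388 i)) (Nat.ble 3384 i)) (Nat.ble 3376 i)) (Nat.ble 3360 i)) (Bool.rec (motive := fun _ => List ℕ) (Bool.rec (motive := fun _ => List ℕ) (Bool.rec (motive := fun _ => List ℕ) (Bool.rec (motive := fun _ => List ℕ) (Bool.rec (motive := fun _ => List ℕ) (Bool.rec (motive := fun _ => List ℕ) (rw3392) (rw3393) (Nat.ble 3393 i)) (Bool.rec (motive := fun _ => List ℕ) (rw3394) (rw3395) (Nat.ble 3395 i)) (Nat.ble 3394 i)) (Bool.rec (motive := fun _ => List ℕ) (Bool.rec (motive := fun _ => List ℕ) (rw3396) (rw3397) (Nat.ble 3397 i)) (Bool.rec (motive := fun _ => List ℕ) (rw3398) (rw3399) (Nat.ble 3399 i)) (Nat.ble 3398 i)) (Nat.ble 3396 i)) (Bool.rec (motive := fun _ => List ℕ) (Bool.rec (motive := fun _ => List ℕ) (Bool.rec (motive := fun _ => List ℕ) (rw3400) (rw3401) (Nat.ble 3401 i)) (Bool.rec (motive := fun _ => List ℕ) (rw3402) (rw3403) (Nat.ble 3403 i)) (Nat.ble 3402 i)) (Bool.rec (motive := fun _ => List ℕ) (Bool.rec (motive := fun _ => List ℕ) (rw3404) (rw3405) (Nat.ble 3405 i)) (Bool.rec (motive := fun _ => List ℕ) (rw3406) (rw3407) (Nat.ble 3407 i)) (Nat.ble 3406 i)) (Nat.ble 3404 i)) (Nat.ble 3400 i)) (Bool.rec (motive := fun _ => List ℕ) (Bool.rec (motive := fun _ => List ℕ) (Bool.rec (motive := fun _ => List ℕ) (Bool.rec (motive := fun _ => List ℕ) (rw3408) (rw3409) (Nat.ble 3409 i)) (Bool.rec (motive := fun _ => List ℕ) (rw3410) (rw3411) (Nat.ble 3411 i)) (Nat.ble 3410 i)) (Bool.rec (motive := fun _ => List ℕ) (Bool.rec (motive := fun _ => List ℕ) (rw3412) (rw3413) (Nat.ble 3413 i)) (Bool.rec (motive := fun _ => List ℕ) (rw3414) (rw3415) (Nat.ble 3415 i)) (Nat.ble 3414 i)) (Nat.ble 3412 i)) (Bool.rec (motive := fun _ => List ℕ) (Bool.rec (motive := fun _ => List ℕ) (Bool.rec (motive := fun _ => List ℕ) (rw3416) (rw3417) (Nat.ble 3417 i)) (Bool.rec (motive := fun _ => List ℕ) (rw3418) (rw3419) (Nat.ble 3419 i)) (Nat.ble 3418 i)) (Bool.rec (motive := fun _ => List ℕ) (Bool.rec (motive := fun _ => List ℕ) (rw3420) (rw3421) (Nat.ble 3421 i)) (Bool.rec (motive := fun _ => List ℕ) (rw3422) (rw3423) (Nat.ble 3423 i)) (Nat.ble 3422 i)) (Nat.ble 3420 i)) (Nat.ble 3416 i)) (Nat.ble 3408 i)) (Bool.rec (motive := fun _ => List ℕ) (Bool.rec (motive := fun _ => List ℕ) (Bool.rec (motive := fun _ => List ℕ) (Bool.rec (motive := fun _ => List ℕ) (Bool.rec (motive := fun _ => List ℕ) (rw3424) (rw3425) (Nat.ble 3425 i)) (Bool.rec (motive := fun _ => List ℕ) (rw3426) (rw3427) (Nat.ble 3427 i)) (Nat.ble 3426 i)) (Bool.rec (motive := fun _ => List ℕ) (Bool.rec (motive := fun _ => List ℕ) (rw3428) (rw3429) (Nat.ble 3429 i)) (Bool.rec (motive := fun _ => List ℕ) (rw3430) (rw3431) (Nat.ble 3431 i)) (Nat.ble 3430 i)) (Nat.ble 3428 i)) (Bool.rec (motive := fun _ => List ℕ) (Bool.rec (motive := fun _ => List ℕ) (Bool.rec (motive := fun _ => List ℕ) (rw3432) (rw3433) (Nat.ble 3433 i)) (Bool.rec (motive := fun _ => List ℕ) (rw3434) (rw3435) (Nat.ble 3435 i)) (Nat.ble 3434 i)) (Bool.rec (motive := fun _ => List ℕ) (Bool.rec (motive := fun _ => List ℕ) (rw3436) (rw3437) (Nat.ble 3437 i)) (Bool.rec (motive := fun _ => List ℕ) (rw3438) (rw3439) (Nat.ble 3439 i)) (Nat.ble 3438 i)) (Nat.ble 3436 i)) (Nat.ble 3432 i)) (Bool.rec (motive := fun _ => List ℕ) (Bool.rec (motive := fun _ => List ℕ) (Bool.rec (motive := fun _ => List ℕ) (Bool.rec (motive := fun _ => List ℕ) (rw3440) (rw3441) (Nat.ble 3441 i)) (Bool.rec (motive := fun _ => List ℕ) (rw3442) (rw3443) (Nat.ble 3443 i)) (Nat.ble 3442 i)) (Bool.rec (motive := fun _ => List ℕ) (Bool.rec (motive := fun _ => List ℕ) (rw3444) (rw3445) (Nat.ble 3445 i)) (Bool.rec (motive := fun _ => List ℕ) (rw3446) (rw3447) (Nat.ble 3447 i)) (Nat.ble 3446 i)) (Nat.ble 3444 i)) (Bool.rec (motive := fun _ => List ℕ) (Bool.rec (motive := fun _ => List ℕ) (Bool.rec (motive := fun _ => List ℕ) (rw3448) (rw3449) (Nat.ble 3449 i)) (Bool.rec (motive := fun _ => List ℕ) (rw3450) (rw3451) (Nat.ble 3451 i)) (Nat.ble 3450 i)) (Bool.rec (motive := fun _ => List ℕ) (Bool.rec (motive := fun _ => List ℕ) (rw3452) (rw3453) (Nat.ble 3453 i)) (Bool.rec (motive := fun _ => List ℕ) (rw3454) (rw3455) (Nat.ble 3455 i)) (Nat.ble 3454 i)) (Nat.ble 3452 i)) (Nat.ble 3448 i)) (Nat.ble 3440 i)) (Nat.ble 3424 i)) (Nat.ble 3392 i)) (Bool.rec (motive := fun _ => List ℕ) (Bool.rec (motive := fun _ => List ℕ) (Bool.rec (motive := fun _ => List ℕ) (Bool.rec (motive := fun _ => List ℕ) (Bool.rec (motive := fun _ => List ℕ) (Bool.rec (motive := fun _ => List ℕ) (Bool.rec (motive := fun _ => List ℕ) (rw3456) (rw3457) (Nat.ble 3457 i)) (Bool.rec (motive := fun _ => List ℕ) (rw3458) (rw3459) (Nat.ble 3459 i)) (Nat.ble 3458 i)) (Bool.rec (motive := fun _ => List ℕ) (Bool.rec (motive := fun _ => List ℕ) (rw3460) (rw3461) (Nat.ble 3461 i)) (Bool.rec (motive := fun _ => List ℕ) (rw3462) (rw3463) (Nat.ble 3463 i)) (Nat.ble 3462 i)) (Nat.ble 3460 i)) (Bool.rec (motive := fun _ => List ℕ) (Bool.rec (motive := fun _ => List ℕ) (Bool.rec (motive := fun _ => List ℕ) (rw3464) (rw3465) (Nat.ble 3465 i)) (Bool.rec (motive := fun _ => List ℕ) (rw3466) (rw3467) (Nat.ble 3467 i)) (Nat.ble 3466 i)) (Bool.rec (motive := fun _ => List ℕ) (Bool.rec (motive := fun _ => List ℕ) (rw3468) (rw3469) (Nat.ble 3469 i)) (Bool.rec (motive := fun _ => List ℕ) (rw3470) (rw3471) (Nat.ble 3471 i)) (Nat.ble 3470 i)) (Nat.ble 3468 i)) (Nat.ble 3464 i)) (Bool.rec (motive := fun _ => List ℕ) (Bool.rec (motive := fun _ => List ℕ) (Bool.rec (motive := fun _ => List ℕ) (Bool.rec (motive := fun _ => List ℕ) (rw3472) (rw3473) (Nat.ble 3473 i)) (Bool.rec (motive := fun _ => List ℕ) (rw3474) (rw3475) (Nat.ble 3475 i)) (Nat.ble 3474 i)) (Bool.rec (motive := fun _ => List ℕ) (Bool.rec (motive := fun _ => List ℕ) (rw3476) (rw3477) (Nat.ble 3477 i)) (Bool.rec (motive := fun _ => List ℕ) (rw3478) (rw3479) (Nat.ble 3479 i)) (Nat.ble 3478 i)) (Nat.ble 3476 i)) (Bool.rec (motive := fun _ => List ℕ) (Bool.rec (motive := fun _ => List ℕ) (Bool.rec (motive := fun _ => List ℕ) (rw3480) (rw3481) (Nat.ble 3481 i)) (Bool.rec (motive := fun _ => List ℕ) (rw3482) (rw3483) (Nat.ble 3483 i)) (Nat.ble 3482 i)) (Bool.rec (motive := fun _ => List ℕ) (Bool.rec (motive := fun _ => List ℕ) (rw3484) (rw3485) (Nat.ble 3485 i)) (Bool.rec (motive := fun _ => List ℕ) (rw3486) (rw3487) (Nat.ble 3487 i)) (Nat.ble 3486 i)) (Nat.ble 3484 i)) (Nat.ble 3480 i)) (Nat.ble 3472 i)) (Bool.rec (motive := fun _ => List ℕ) (Bool.rec (motive := fun _ => List ℕ) (Bool.rec (motive := fun _ => List ℕ) (Bool.rec (motive := fun _ => List ℕ) (Bool.rec (motive := fun _ => List ℕ) (rw3488) (rw3489) (Nat.ble 3489 i)) (Bool.rec (motive := fun _ => List ℕ) (rw3490) (rw3491) (Nat.ble 3491 i)) (Nat.ble 3490 i)) (Bool.rec (motive := fun _ => List ℕ) (Bool.rec (motive := fun _ => List ℕ) (rw3492) (rw3493) (Nat.ble 3493 i)) (Bool.rec (motive := fun _ => List ℕ) (rw3494) (rw3495) (Nat.ble 3495 i)) (Nat.ble 3494 i)) (Nat.ble 3492 i)) (Bool.rec (motive := fun _ => List ℕ) (Bool.rec (motive := fun _ => List ℕ) (Bool.rec (motive := fun _ => List ℕ) (rw3496) (rw3497) (Nat.ble 3497 i)) (Bool.rec (motive := fun _ => List ℕ) (rw3498) (rw3499) (Nat.ble 3499 i)) (Nat.ble 3498 i)) (Bool.rec (motive := fun _ => List ℕ) (Bool.rec (motive := fun _ => List ℕ) (rw3500) (rw3501) (Nat.ble 3501 i)) (Bool.rec (motive := fun _ => List ℕ) (rw3502) (rw3503) (Nat.ble 3503 i)) (Nat.ble 3502 i)) (Nat.ble 3500 i)) (Nat.ble 3496 i)) (Bool.rec (motive := fun _ => List ℕ) (Bool.rec (motive := fun _ => List ℕ) (Bool.rec (motive := fun _ => List ℕ) (Bool.rec (motive := fun _ => List ℕ) (rw3504) (rw3505) (Nat.ble 3505 i)) (Bool.rec (motive := fun _ => List ℕ) (rw3506) (rw3507) (Nat.ble 3507 i)) (Nat.ble 3506 i)) (Bool.rec (motive := fun _ => List ℕ) (Bool.rec (motive := fun _ => List ℕ) (rw3508) (rw3509) (Nat.ble 3509 i)) (Bool.rec (motive := fun _ => List ℕ) (rw3510) (rw3511) (Nat.ble 3511 i)) (Nat.ble 3510 i)) (Nat.ble 3508 i)) (Bool.rec (motive := fun _ => List ℕ) (Bool.rec (motive := fun _ => List ℕ) (Bool.rec (motive := fun _ => List ℕ) (rw3512) (rw3513) (Nat.ble 3513 i)) (Bool.rec (motive := fun _ => List ℕ) (rw3514) (rw3515) (Nat.ble 3515 i)) (Nat.ble 3514 i)) (Bool.rec (motive := fun _ => List ℕ) (Bool.rec (motive := fun _ => List ℕ) (rw3516) (rw3517) (Nat.ble 3517 i)) (Bool.rec (motive := fun _ => List ℕ) (rw3518) (rw3519) (Nat.ble 3519 i)) (Nat.ble 3518 i)) (Nat.ble 3516 i)) (Nat.ble 3512 i)) (Nat.ble 3504 i)) (Nat.ble 3488 i)) (Bool.rec (motive := fun _ => List ℕ) (Bool.rec (motive := fun _ => List ℕ) (Bool.rec (motive := fun _ => List ℕ) (Bool.rec (motive := fun _ => List ℕ) (Bool.rec (motive := fun _ => List ℕ) (Bool.rec (motive := fun _ => List ℕ) (rw3520) (rw3521) (Nat.ble 3521 i)) (Bool.rec (motive := fun _ => List ℕ) (rw3522) (rw3523) (Nat.ble 3523 i)) (Nat.ble 3522 i)) (Bool.rec (motive := fun _ => List ℕ) (Bool.rec (motive := fun _ => List ℕ) (rw3524) (rw3525) (Nat.ble 3525 i)) (Bool.rec (motive := fun _ => List ℕ) (rw3526) (rw3527) (Nat.ble 3527 i)) (Nat.ble 3526 i)) (Nat.ble 3524 i)) (Bool.rec (motive := fun _ => List ℕ) (Bool.rec (motive := fun _ => List ℕ) (Bool.rec (motive := fun _ => List ℕ) (rw3528) (rw3529) (Nat.ble 3529 i)) (Bool.rec (motive := fun _ => List ℕ) (rw3530) (rw3531) (Nat.ble 3531 i)) (Nat.ble 3530 i)) (Bool.rec (motive := fun _ => List ℕ) (Bool.rec (motive := fun _ => List ℕ) (rw3532) (rw3533) (Nat.ble 3533 i)) (Bool.rec (motive := fun _ => List ℕ) (rw3534) (rw3535) (Nat.ble 3535 i)) (Nat.ble 3534 i)) (Nat.ble 3532 i)) (Nat.ble 3528 i)) (Bool.rec (motive := fun _ => List ℕ) (Bool.rec (motive := fun _ => List ℕ) (Bool.rec (motive := fun _ => List ℕ) (Bool.rec (motive := fun _ => List ℕ) (rw3536) (rw3537) (Nat.ble 3537 i)) (Bool.rec (motive := fun _ => List ℕ) (rw3538) (rw3539) (Nat.ble 3539 i)) (Nat.ble 3538 i)) (Bool.rec (motive := fun _ => List ℕ) (Bool.rec (motive := fun _ => List ℕ) (rw3540) (rw3541) (Nat.ble 3541 i)) (Bool.rec (motive := fun _ => List ℕ) (rw3542) (rw3543) (Nat.ble 3543 i)) (Nat.ble 3542 i)) (Nat.ble 3540 i)) (Bool.rec (motive := fun _ => List ℕ) (Bool.rec (motive := fun _ => List ℕ) (Bool.rec (motive := fun _ => List ℕ) (rw3544) (rw3545) (Nat.ble 3545 i)) (Bool.rec (motive := fun _ => List ℕ) (rw3546) (rw3547) (Nat.ble 3547 i)) (Nat.ble 3546 i)) (Bool.rec (motive := fun _ => List ℕ) (Bool.rec (motive := fun _ => List ℕ) (rw3548) (rw3549) (Nat.ble 3549 i)) (Bool.rec (motive := fun _ => List ℕ) (rw3550) (rw3551) (Nat.ble 3551 i)) (Nat.ble 3550 i)) (Nat.ble 3548 i)) (Nat.ble 3544 i)) (Nat.ble 3536 i)) (Bool.rec (motive := fun _ => List ℕ) (Bool.rec (motive := fun _ => List ℕ) (Bool.rec (motive := fun _ => List ℕ) (Bool.rec (motive := fun _ => List ℕ) (Bool.rec (motive := fun _ => List ℕ) (rw3552) (rw3553) (Nat.ble 3553 i)) (Bool.rec (motive := fun _ => List ℕ) (rw3554) (rw3555) (Nat.ble 3555 i)) (Nat.ble 3554 i)) (Bool.rec (motive := fun _ => List ℕ) (Bool.rec (motive := fun _ => List ℕ) (rw3556) (rw3557) (Nat.ble 3557 i)) (Bool.rec (motive := fun _ => List ℕ) (rw3558) (rw3559) (Nat.ble 3559 i)) (Nat.ble 3558 i)) (Nat.ble 3556 i)) (Bool.rec (motive := fun _ => List ℕ) (Bool.rec (motive := fun _ => List ℕ) (Bool.rec (motive := fun _ => List ℕ) (rw3560) (rw3561) (Nat.ble 3561 i)) (Bool.rec (motive := fun _ => List ℕ) (rw3562) (rw3563) (Nat.ble 3563 i)) (Nat.ble 3562 i)) (Bool.rec (motive := fun _ => List ℕ) (Bool.rec (motive := fun _ => List ℕ) (rw3564) (rw3565) (Nat.ble 3565 i)) (Bool.rec (motive := fun _ => List ℕ) (rw3566) (rw3567) (Nat.ble 3567 i)) (Nat.ble 3566 i)) (Nat.ble 3564 i)) (Nat.ble 3560 i)) (Bool.rec (motive := fun _ => List ℕ) (Bool.rec (motive := fun _ => List ℕ) (Bool.rec (motive := fun _ => List ℕ) (Bool.rec (motive := fun _ => List ℕ) (rw3568) (rw3569) (Nat.ble 3569 i)) (Bool.rec (motive := fun _ => List ℕ) (rw3570) (rw3571) (Nat.ble 3571 i)) (Nat.ble 3570 i)) (Bool.rec (motive := fun _ => List ℕ) (Bool.rec (motive := fun _ => List ℕ) (rw3572) (rw3573) (Nat.ble 3573 i)) (Bool.rec (motive := fun _ => List ℕ) (rw3574) (rw3575) (Nat.ble 3575 i)) (Nat.ble 3574 i)) (Nat.ble 3572 i)) (Bool.rec (motive := fun _ => List ℕ) (Bool.rec (motive := fun _ => List ℕ) (Bool.rec (motive := fun _ => List ℕ) (rw3576) (rw3577) (Nat.ble 3577 i)) (Bool.rec (motive := fun _ => List ℕ) (rw3578) (rw3579) (Nat.ble 3579 i)) (Nat.ble 3578 i)) (Bool.rec (motive := fun _ => List ℕ) (Bool.rec (motive := fun _ => List ℕ) (rw3580) (rw3581) (Nat.ble 3581 i)) (Bool.rec (motive := fun _ => List ℕ) (rw3582) (rw3583) (Nat.ble 3583 i)) (Nat.ble 3582 i)) (Nat.ble 3580 i)) (Nat.ble 3576 i)) (Nat.ble 3568 i)) (Nat.ble 3552 i)) (Nat.ble 3520 i)) (Nat.ble 3456 i)) (Nat.ble 3328 i)) (Bool.rec (motive := fun _ => List ℕ) (Bool.rec (motive := fun _ => List ℕ) (Bool.rec (motive := fun _ => List ℕ) (Bool.rec (motive := fun _ => List ℕ) (Bool.rec (motive := fun _ => List ℕ) (Bool.rec (motive := fun _ => List ℕ) (Bool.rec (motive := fun _ => List ℕ) (Bool.rec (motive := fun _ => List ℕ) (Bool.rec (motive := fun _ => List ℕ) (rw3584) (rw3585) (Nat.ble 3585 i)) (Bool.rec (motive := fun _ => List ℕ) (rw3586) (rw3587) (Nat.ble 3587 i)) (Nat.ble 3586 i)) (Bool.rec (motive := fun _ => List ℕ) (Bool.rec (motive := fun _ => List ℕ) (rw3588) (rw3589) (Nat.ble 3589 i)) (Bool.rec (motive := fun _ => List ℕ) (rw3590) (rw3591) (Nat.ble 3591 i)) (Nat.ble 3590 i)) (Nat.ble 3588 i)) (Bool.rec (motive := fun _ => List ℕ) (Bool.rec (motive := fun _ => List ℕ) (Bool.rec (motive := fun _ => List ℕ) (rw3592) (rw3593) (Nat.ble 3593 i)) (Bool.rec (motive := fun _ => List ℕ) (rw3594) (rw3595) (Nat.ble 3595 i)) (Nat.ble 3594 i)) (Bool.rec (motive := fun _ => List ℕ) (Bool.rec (motive := fun _ => List ℕ) (rw3596) (rw3597) (Nat.ble 3597 i)) (Bool.rec (motive := fun _ => List ℕ) (rw3598) (rw3599) (Nat.ble 3599 i)) (Nat.ble 3598 i)) (Nat.ble 3596 i)) (Nat.ble 3592 i)) (Bool.rec (motive := fun _ => List ℕ) (Bool.rec (motive := fun _ => List ℕ) (Bool.rec (motive := fun _ => List ℕ) (Bool.rec (motive := fun _ => List ℕ) (rw3600) (rw3601) (Nat.ble 3601 i)) (Bool.rec (motive := fun _ => List ℕ) (rw3602) (rw3603) (Nat.ble 3603 i)) (Nat.ble 3602 i)) (Bool.rec (motive := fun _ => List ℕ) (Bool.rec (motive := fun _ => List ℕ) (rw3604) (rw3605) (Nat.ble 3605 i)) (Bool.rec (motive := fun _ => List ℕ) (rw3606) (rw3607) (Nat.ble 3607 i)) (Nat.ble 3606 i)) (Nat.ble 3604 i)) (Bool.rec (motive := fun _ => List ℕ) (Bool.rec (motive := fun _ => List ℕ) (Bool.rec (motive := fun _ => List ℕ) (rw3608) (rw3609) (Nat.ble 3609 i)) (Bool.rec (motive := fun _ => List ℕ) (rw3610) (rw3611) (Nat.ble 3611 i)) (Nat.ble 3610 i)) (Bool.rec (motive := fun _ => List ℕ) (Bool.rec (motive := fun _ => List ℕ) (rw3612) (rw3613) (Nat.ble 3613 i)) (Bool.rec (motive := fun _ => List ℕ) (rw3614) (rw3615) (Nat.ble 3615 i)) (Nat.ble 3614 i)) (Nat.ble 3612 i)) (Nat.ble 3608 i)) (Nat.ble 3600 i)) (Bool.rec (motive := fun _ => List ℕ) (Bool.rec (motive := fun _ => List ℕ) (Bool.rec (motive := fun _ => List ℕ) (Bool.rec (motive := fun _ => List ℕ) (Bool.rec (motive := fun _ => List ℕ) (rw3616) (rw3617) (Nat.ble 3617 i)) (Bool.rec (motive := fun _ => List ℕ) (rw3618) (rw3619) (Nat.ble 3619 i)) (Nat.ble 3618 i)) (Bool.rec (motive := fun _ => List ℕ) (Bool.rec (motive := fun _ => List ℕ) (rw3620) (rw3621) (Nat.ble 3621 i)) (Bool.rec (motive := fun _ => List ℕ) (rw3622) (rw3623) (Nat.ble 3623 i)) (Nat.ble 3622 i)) (Nat.ble 3620 i)) (Bool.rec (motive := fun _ => List ℕ) (Bool.rec (motive := fun _ => List ℕ) (Bool.rec (motive := fun _ => List ℕ) (rw3624) (rw3625) (Nat.ble 3625 i)) (Bool.rec (motive := fun _ => List ℕ) (rw3626) (rw3627) (Nat.ble 3627 i)) (Nat.ble 3626 i)) (Bool.rec (motive := fun _ => List ℕ) (Bool.rec (motive := fun _ => List ℕ) (rw3628) (rw3629) (Nat.ble 3629 i)) (Bool.rec (motive := fun _ => List ℕ) (rw3630) (rw3631) (Nat.ble 3631 i)) (Nat.ble 3630 i)) (Nat.ble 3628 i)) (Nat.ble 3624 i)) (Bool.rec (motive := fun _ => List ℕ) (Bool.rec (motive := fun _ => List ℕ) (Bool.rec (motive := fun _ => List ℕ) (Bool.rec (motive := fun _ => List ℕ) (rw3632) (rw3633) (Nat.ble 3633 i)) (Bool.rec (motive := fun _ => List ℕ) (rw3634) (rw3635) (Nat.ble 3635 i)) (Nat.ble 3634 i)) (Bool.rec (motive := fun _ => List ℕ) (Bool.rec (motive := fun _ => List ℕ) (rw3636) (rw3637) (Nat.ble 3637 i)) (Bool.rec (motive := fun _ => List ℕ) (rw3638) (rw3639) (Nat.ble 3639 i)) (Nat.ble 3638 i)) (Nat.ble 3636 i)) (Bool.rec (motive := fun _ => List ℕ) (Bool.rec (motive := fun _ => List ℕ) (Bool.rec (motive := fun _ => List ℕ) (rw3640) (rw3641) (Nat.ble 3641 i)) (Bool.rec (motive := fun _ => List ℕ) (rw3642) (rw3643) (Nat.ble 3643 i)) (Nat.ble 3642 i)) (Bool.rec (motive := fun _ => List ℕ) (Bool.rec (motive := fun _ => List ℕ) (rw3644) (rw3645) (Nat.ble 3645 i)) (Bool.rec (motive := fun _ => List ℕ) (rw3646) (rw3647) (Nat.ble 3647 i)) (Nat.ble 3646 i)) (Nat.ble 3644 i)) (Nat.ble 3640 i)) (Nat.ble 3632 i)) (Nat.ble 3616 i)) (Bool.rec (motive := fun _ => List ℕ) (Bool.rec (motive := fun _ => List ℕ) (Bool.rec (motive := fun _ => List ℕ) (Bool.rec (motive := fun _ => List ℕ) (Bool.rec (motive := fun _ => List ℕ) (Bool.rec (motive := fun _ => List ℕ) (rw3648) (rw3649) (Nat.ble 3649 i)) (Bool.rec (motive := fun _ => List ℕ) (rw3650) (rw3651) (Nat.ble 3651 i)) (Nat.ble 3650 i)) (Bool.rec (motive := fun _ => List ℕ) (Bool.rec (motive := fun _ => List ℕ) (rw3652) (rw3653) (Nat.ble 3653 i)) (Bool.rec (motive := fun _ => List ℕ) (rw3654) (rw3655) (Nat.ble 3655 i)) (Nat.ble 3654 i)) (Nat.ble 3652 i)) (Bool.rec (motive := fun _ => List ℕ) (Bool.rec (motive := fun _ => List ℕ) (Bool.rec (motive := fun _ => List ℕ) (rw3656) (rw3657) (Nat.ble 3657 i)) (Bool.rec (motive := fun _ => List ℕ) (rw3658) (rw3659) (Nat.ble 3659 i)) (Nat.ble 3658 i)) (Bool.rec (motive := fun _ => List ℕ) (Bool.rec (motive := fun _ => List ℕ) (rw3660) (rw3661) (Nat.ble 3661 i)) (Bool.rec (motive := fun _ => List ℕ) (rw3662) (rw3663) (Nat.ble 3663 i)) (Nat.ble 3662 i)) (Nat.ble 3660 i)) (Nat.ble 3656 i)) (Bool.rec (motive := fun _ => List ℕ) (Bool.rec (motive := fun _ => List ℕ) (Bool.rec (motive := fun _ => List ℕ) (Bool.rec (motive := fun _ => List ℕ) (rw3664) (rw3665) (Nat.ble 3665 i)) (Bool.rec (motive := fun _ => List ℕ) (rw3666) (rw3667) (Nat.ble 3667 i)) (Nat.ble 3666 i)) (Bool.rec (motive := fun _ => List ℕ) (Bool.rec (motive := fun _ => List ℕ) (rw3668) (rw3669) (Nat.ble 3669 i)) (Bool.rec (motive := fun _ => List ℕ) (rw3670) (rw3671) (Nat.ble 3671 i)) (Nat.ble 3670 i)) (Nat.ble 3668 i)) (Bool.rec (motive := fun _ => List ℕ) (Bool.rec (motive := fun _ => List ℕ) (Bool.rec (motive := fun _ => List ℕ) (rw3672) (rw3673) (Nat.ble 3673 i)) (Bool.rec (motive := fun _ => List ℕ) (rw3674) (rw3675) (Nat.ble 3675 i)) (Nat.ble 3674 i)) (Bool.rec (motive := fun _ => List ℕ) (Bool.rec (motive := fun _ => List ℕ) (rw3676) (rw3677) (Nat.ble 3677 i)) (Bool.rec (motive := fun _ => List ℕ) (rw3678) (rw3679) (Nat.ble 3679 i)) (Nat.ble 3678 i)) (Nat.ble 3676 i)) (Nat.ble 3672 i)) (Nat.ble 3664 i)) (Bool.rec (motive := fun _ => List ℕ) (Bool.rec (motive := fun _ => List ℕ) (Bool.rec (motive := fun _ => List ℕ) (Bool.rec (motive := fun _ => List ℕ) (Bool.rec (motive := fun _ => List ℕ) (rw3680) (rw3681) (Nat.ble 3681 i)) (Bool.rec (motive := fun _ => List ℕ) (rw3682) (rw3683) (Nat.ble 3683 i)) (Nat.ble 3682 i)) (Bool.rec (motive := fun _ => List ℕ) (Bool.rec (motive := fun _ => List ℕ) (rw3684) (rw3685) (Nat.ble 3685 i)) (Bool.rec (motive := fun _ => List ℕ) (rw3686) (rw3687) (Nat.ble 3687 i)) (Nat.ble 3686 i)) (Nat.ble 3684 i)) (Bool.rec (motive := fun _ => List ℕ) (Bool.rec (motive := fun _ => List ℕ) (Bool.rec (motive := fun _ => List ℕ) (rw3688) (rw3689) (Nat.ble 3689 i)) (Bool.rec (motive := fun _ => List ℕ) (rw3690) (rw3691) (Nat.ble 3691 i)) (Nat.ble 3690 i)) (Bool.rec (motive := fun _ => List ℕ) (Bool.rec (motive := fun _ => List ℕ) (rw3692) (rw3693) (Nat.ble 3693 i)) (Bool.rec (motive := fun _ => List ℕ) (rw3694) (rw3695) (Nat.ble 3695 i)) (Nat.ble 3694 i)) (Nat.ble 3692 i)) (Nat.ble 3688 i)) (Bool.rec (motive := fun _ => List ℕ) (Bool.rec (motive := fun _ => List ℕ) (Bool.rec (motive := fun _ => List ℕ) (Bool.rec (motive := fun _ => List ℕ) (rw3696) (rw3697) (Nat.ble 3697 i)) (Bool.rec (motive := fun _ => List ℕ) (rw3698) (rw3699) (Nat.ble 3699 i)) (Nat.ble 3698 i)) (Bool.rec (motive := fun _ => List ℕ) (Bool.rec (motive := fun _ => List ℕ) (rw3700) (rw3701) (Nat.ble 3701 i)) (Bool.rec (motive := fun _ => List ℕ) (rw3702) (rw3703) (Nat.ble 3703 i)) (Nat.ble 3702 i)) (Nat.ble 3700 i)) (Bool.rec (motive := fun _ => List ℕ) (Bool.rec (motive := fun _ => List ℕ) (Bool.rec (motive := fun _ => List ℕ) (rw3704) (rw3705) (Nat.ble 3705 i)) (Bool.rec (motive := fun _ => List ℕ) (rw3706) (rw3707) (Nat.ble 3707 i)) (Nat.ble 3706 i)) (Bool.rec (motive := fun _ => List ℕ) (Bool.rec (motive := fun _ => List ℕ) (rw3708) (rw3709) (Nat.ble 3709 i)) (Bool.rec (motive := fun _ => List ℕ) (rw3710) (rw3711) (Nat.ble 3711 i)) (Nat.ble 3710 i)) (Nat.ble 3708 i)) (Nat.ble 3704 i)) (Nat.ble 3696 i)) (Nat.ble 3680 i)) (Nat.ble 3648 i)) (Bool.rec (motive := fun _ => List ℕ) (Bool.rec (motive := fun _ => List ℕ) (Bool.rec (motive := fun _ => List ℕ) (Bool.rec (motive := fun _ => List ℕ) (Bool.rec (motive := fun _ => List ℕ) (Bool.rec (motive := fun _ => List ℕ) (Bool.rec (motive := fun _ => List ℕ) (rw3712) (rw3713) (Nat.ble 3713 i)) (Bool.rec (motive := fun _ => List ℕ) (rw3714) (rw3715) (Nat.ble 3715 i)) (Nat.ble 3714 i)) (Bool.rec (motive := fun _ => List ℕ) (Bool.rec (motive := fun _ => List ℕ) (rw3716) (rw3717) (Nat.ble 3717 i)) (Bool.rec (motive := fun _ => List ℕ) (rw3718) (rw3719) (Nat.ble 3719 i)) (Nat.ble 3718 i)) (Nat.ble 3716 i)) (Bool.rec (motive := fun _ => List ℕ) (Bool.rec (motive := fun _ => List ℕ) (Bool.rec (motive := fun _ => List ℕ) (rw3720) (rw3721) (Nat.ble 3721 i)) (Bool.rec (motive := fun _ => List ℕ) (rw3722) (rw3723) (Nat.ble 3723 i)) (Nat.ble 3722 i)) (Bool.rec (motive := fun _ => List ℕ) (Bool.rec (motive := fun _ => List ℕ) (rw3724) (rw3725) (Nat.ble 3725 i)) (Bool.rec (motive := fun _ => List ℕ) (rw3726) (rw3727) (Nat.ble 3727 i)) (Nat.ble 3726 i)) (Nat.ble 3724 i)) (Nat.ble 3720 i)) (Bool.rec (motive := fun _ => List ℕ) (Bool.rec (motive := fun _ => List ℕ) (Bool.rec (motive := fun _ => List ℕ) (Bool.rec (motive := fun _ => List ℕ) (rw3728) (rw3729) (Nat.ble 3729 i)) (Bool.rec (motive := fun _ => List ℕ) (rw3730) (rw3731) (Nat.ble 3731 i)) (Nat.ble 3730 i)) (Bool.rec (motive := fun _ => List ℕ) (Bool.rec (motive := fun _ => List ℕ) (rw3732) (rw3733) (Nat.ble 3733 i)) (Bool.rec (motive := fun _ => List ℕ) (rw3734) (rw3735) (Nat.ble 3735 i)) (Nat.ble 3734 i)) (Nat.ble 3732 i)) (Bool.rec (motive := fun _ => List ℕ) (Bool.rec (motive := fun _ => List ℕ) (Bool.rec (motive := fun _ => List ℕ) (rw3736) (rw3737) (Nat.ble 3737 i)) (Bool.rec (motive := fun _ => List ℕ) (rw3738) (rw3739) (Nat.ble 3739 i)) (Nat.ble 3738 i)) (Bool.rec (motive := fun _ => List ℕ) (Bool.rec (motive := fun _ => List ℕ) (rw3740) (rw3741) (Nat.ble 3741 i)) (Bool.rec (motive := fun _ => List ℕ) (rw3742) (rw3743) (Nat.ble 3743 i)) (Nat.ble 3742 i)) (Nat.ble 3740 i)) (Nat.ble 3736 i)) (Nat.ble 3728 i)) (Bool.rec (motive := fun _ => List ℕ) (Bool.rec (motive := fun _ => List ℕ) (Bool.rec (motive := fun _ => List ℕ) (Bool.rec (motive := fun _ => List ℕ) (Bool.rec (motive := fun _ => List ℕ) (rw3744) (rw3745) (Nat.ble 3745 i)) (Bool.rec (motive := fun _ => List ℕ) (rw3746) (rw3747) (Nat.ble 3747 i)) (Nat.ble 3746 i)) (Bool.rec (motive := fun _ => List ℕ) (Bool.rec (motive := fun _ => List ℕ) (rw3748) (rw3749) (Nat.ble 3749 i)) (Bool.rec (motive := fun _ => List ℕ) (rw3750) (rw3751) (Nat.ble 3751 i)) (Nat.ble 3750 i)) (Nat.ble 3748 i)) (Bool.rec (motive := fun _ => List ℕ) (Bool.rec (motive := fun _ => List ℕ) (Bool.rec (motive := fun _ => List ℕ) (rw3752) (rw3753) (Nat.ble 3753 i)) (Bool.rec (motive := fun _ => List ℕ) (rw3754) (rw3755) (Nat.ble 3755 i)) (Nat.ble 3754 i)) (Bool.rec (motive := fun _ => List ℕ) (Bool.rec (motive := fun _ => List ℕ) (rw3756) (rw3757) (Nat.ble 3757 i)) (Bool.rec (motive := fun _ => List ℕ) (rw3758) (rw3759) (Nat.ble 3759 i)) (Nat.ble 3758 i)) (Nat.ble 3756 i)) (Nat.ble 3752 i)) (Bool.rec (motive := fun _ => List ℕ) (Bool.rec (motive := fun _ => List ℕ) (Bool.rec (motive := fun _ => List ℕ) (Bool.rec (motive := fun _ => List ℕ) (rw3760) (rw3761) (Nat.ble 3761 i)) (Bool.rec (motive := fun _ => List ℕ) (rw3762) (rw3763) (Nat.ble 3763 i)) (Nat.ble 3762 i)) (Bool.rec (motive := fun _ => List ℕ) (Bool.rec (motive := fun _ => List ℕ) (rw3764) (rw3765) (Nat.ble 3765 i)) (Bool.rec (motive := fun _ => List ℕ) (rw3766) (rw3767) (Nat.ble 3767 i)) (Nat.ble 3766 i)) (Nat.ble 3764 i)) (Bool.rec (motive := fun _ => List ℕ) (Bool.rec (motive := fun _ => List ℕ) (Bool.rec (motive := fun _ => List ℕ) (rw3768) (rw3769) (Nat.ble 3769 i)) (Bool.rec (motive := fun _ => List ℕ) (rw3770) (rw3771) (Nat.ble 3771 i)) (Nat.ble 3770 i)) (Bool.rec (motive := fun _ => List ℕ) (Bool.rec (motive := fun _ => List ℕ) (rw3772) (rw3773) (Nat.ble 3773 i)) (Bool.rec (motive := fun _ => List ℕ) (rw3774) (rw3775) (Nat.ble 3775 i)) (Nat.ble 3774 i)) (Nat.ble 3772 i)) (Nat.ble 3768 i)) (Nat.ble 3760 i)) (Nat.ble 3744 i)) (Bool.rec (motive := fun _ => List ℕ) (Bool.rec (motive := fun _ => List ℕ) (Bool.rec (motive := fun _ => List ℕ) (Bool.rec (motive := fun _ => List ℕ) (Bool.rec (motive := fun _ => List ℕ) (Bool.rec (motive := fun _ => List ℕ) (rw3776) (rw3777) (Nat.ble 3777 i)) (Bool.rec (motive := fun _ => List ℕ) (rw3778) (rw3779) (Nat.ble 3779 i)) (Nat.ble 3778 i)) (Bool.rec (motive := fun _ => List ℕ) (Bool.rec (motive := fun _ => List ℕ) (rw3780) (rw3781) (Nat.ble 3781 i)) (Bool.rec (motive := fun _ => List ℕ) (rw3782) (rw3783) (Nat.ble 3783 i)) (Nat.ble 3782 i)) (Nat.ble 3780 i)) (Bool.rec (motive := fun _ => List ℕ) (Bool.rec (motive := fun _ => List ℕ) (Bool.rec (motive := fun _ => List ℕ) (rw3784) (rw3785) (Nat.ble 3785 i)) (Bool.rec (motive := fun _ => List ℕ) (rw3786) (rw3787) (Nat.ble 3787 i)) (Nat.ble 3786 i)) (Bool.rec (motive := fun _ => List ℕ) (Bool.rec (motive := fun _ => List ℕ) (rw3788) (rw3789) (Nat.ble 3789 i)) (Bool.rec (motive := fun _ => List ℕ) (rw3790) (rw3791) (Nat.ble 3791 i)) (Nat.ble 3790 i)) (Nat.ble 3788 i)) (Nat.ble 3784 i)) (Bool.rec (motive := fun _ => List ℕ) (Bool.rec (motive := fun _ => List ℕ) (Bool.rec (motive := fun _ => List ℕ) (Bool.rec (motive := fun _ => List ℕ) (rw3792) (rw3793) (Nat.ble 3793 i)) (Bool.rec (motive := fun _ => List ℕ) (rw3794) (rw3795) (Nat.ble 3795 i)) (Nat.ble 3794 i)) (Bool.rec (motive := fun _ => List ℕ) (Bool.rec (motive := fun _ => List ℕ) (rw3796) (rw3797) (Nat.ble 3797 i)) (Bool.rec (motive := fun _ => List ℕ) (rw3798) (rw3799) (Nat.ble 3799 i)) (Nat.ble 3798 i)) (Nat.ble 3796 i)) (Bool.rec (motive := fun _ => List ℕ) (Bool.rec (motive := fun _ => List ℕ) (Bool.rec (motive := fun _ => List ℕ) (rw3800) (rw3801) (Nat.ble 3801 i)) (Bool.rec (motive := fun _ => List ℕ) (rw3802) (rw3803) (Nat.ble 3803 i)) (Nat.ble 3802 i)) (Bool.rec (motive := fun _ => List ℕ) (Bool.rec (motive := fun _ => List ℕ) (rw3804) (rw3805) (Nat.ble 3805 i)) (Bool.rec (motive := fun _ => List ℕ) (rw3806) (rw3807) (Nat.ble 3807 i)) (Nat.ble 3806 i)) (Nat.ble 3804 i)) (Nat.ble 3800 i)) (Nat.ble 3792 i)) (Bool.rec (motive := fun _ => List ℕ) (Bool.rec (motive := fun _ => List ℕ) (Bool.rec (motive := fun _ => List ℕ) (Bool.rec (motive := fun _ => List ℕ) (Bool.rec (motive := fun _ => List ℕ) (rw3808) (rw3809) (Nat.ble 3809 i)) (Bool.rec (motive := fun _ => List ℕ) (rw3810) (rw3811) (Nat.ble 3811 i)) (Nat.ble 3810 i)) (Bool.rec (motive := fun _ => List ℕ) (Bool.rec (motive := fun _ => List ℕ) (rw3812) (rw3813) (Nat.ble 3813 i)) (Bool.rec (motive := fun _ => List ℕ) (rw3814) (rw3815) (Nat.ble 3815 i)) (Nat.ble 3814 i)) (Nat.ble 3812 i)) (Bool.rec (motive := fun _ => List ℕ) (Bool.rec (motive := fun _ => List ℕ) (Bool.rec (motive := fun _ => List ℕ) (rw3816) (rw3817) (Nat.ble 3817 i)) (Bool.rec (motive := fun _ => List ℕ) (rw3818) (rw3819) (Nat.ble 3819 i)) (Nat.ble 3818 i)) (Bool.rec (motive := fun _ => List ℕ) (Bool.rec (motive := fun _ => List ℕ) (rw3820) (rw3821) (Nat.ble 3821 i)) (Bool.rec (motive := fun _ => List ℕ) (rw3822) (rw3823) (Nat.ble 3823 i)) (Nat.ble 3822 i)) (Nat.ble 3820 i)) (Nat.ble 3816 i)) (Bool.rec (motive := fun _ => List ℕ) (Bool.rec (motive := fun _ => List ℕ) (Bool.rec (motive := fun _ => List ℕ) (Bool.rec (motive := fun _ => List ℕ) (rw3824) (rw3825) (Nat.ble 3825 i)) (Bool.rec (motive := fun _ => List ℕ) (rw3826) (rw3827) (Nat.ble 3827 i)) (Nat.ble 3826 i)) (Bool.rec (motive := fun _ => List ℕ) (Bool.rec (motive := fun _ => List ℕ) (rw3828) (rw3829) (Nat.ble 3829 i)) (Bool.rec (motive := fun _ => List ℕ) (rw3830) (rw3831) (Nat.ble 3831 i)) (Nat.ble 3830 i)) (Nat.ble 3828 i)) (Bool.rec (motive := fun _ => List ℕ) (Bool.rec (motive := fun _ => List ℕ) (Bool.rec (motive := fun _ => List ℕ) (rw3832) (rw3833) (Nat.ble 3833 i)) (Bool.rec (motive := fun _ => List ℕ) (rw3834) (rw3835) (Nat.ble 3835 i)) (Nat.ble 3834 i)) (Bool.rec (motive := fun _ => List ℕ) (Bool.rec (motive := fun _ => List ℕ) (rw3836) (rw3837) (Nat.ble 3837 i)) (Bool.rec (motive := fun _ => List ℕ) (rw3838) (rw3839) (Nat.ble 3839 i)) (Nat.ble 3838 i)) (Nat.ble 3836 i)) (Nat.ble 3832 i)) (Nat.ble 3824 i)) (Nat.ble 3808 i)) (Nat.ble 3776 i)) (Nat.ble 3712 i)) (Bool.rec (motive := fun _ => List ℕ) (Bool.rec (motive := fun _ => List ℕ) (Bool.rec (motive := fun _ => List ℕ) (Bool.rec (motive := fun _ => List ℕ) (Bool.rec (motive := fun _ => List ℕ) (Bool.rec (motive := fun _ => List ℕ) (Bool.rec (motive := fun _ => List ℕ) (Bool.rec (motive := fun _ => List ℕ) (rw3840) (rw3841) (Nat.ble 3841 i)) (Bool.rec (motive := fun _ => List ℕ) (rw3842) (rw3843) (Nat.ble 3843 i)) (Nat.ble 3842 i)) (Bool.rec (motive := fun _ => List ℕ) (Bool.rec (motive := fun _ => List ℕ) (rw3844) (rw3845) (Nat.ble 3845 i)) (Bool.rec (motive := fun _ => List ℕ) (rw3846) (rw3847) (Nat.ble 3847 i)) (Nat.ble 3846 i)) (Nat.ble 3844 i)) (Bool.rec (motive := fun _ => List ℕ) (Bool.rec (motive := fun _ => List ℕ) (Bool.rec (motive := fun _ => List ℕ) (rw3848) (rw3849) (Nat.ble 3849 i)) (Bool.rec (motive := fun _ => List ℕ) (rw3850) (rw3851) (Nat.ble 3851 i)) (Nat.ble 3850 i)) (Bool.rec (motive := fun _ => List ℕ) (Bool.rec (motive := fun _ => List ℕ) (rw3852) (rw3853) (Nat.ble 3853 i)) (Bool.rec (motive := fun _ => List ℕ) (rw3854) (rw3855) (Nat.ble 3855 i)) (Nat.ble 3854 i)) (Nat.ble 3852 i)) (Nat.ble 3848 i)) (Bool.rec (motive := fun _ => List ℕ) (Bool.rec (motive := fun _ => List ℕ) (Bool.rec (motive := fun _ => List ℕ) (Bool.rec (motive := fun _ => List ℕ) (rw3856) (rw3857) (Nat.ble 3857 i)) (Bool.rec (motive := fun _ => List ℕ) (rw3858) (rw3859) (Nat.ble 3859 i)) (Nat.ble 3858 i)) (Bool.rec (motive := fun _ => List ℕ) (Bool.rec (motive := fun _ => List ℕ) (rw3860) (rw3861) (Nat.ble 3861 i)) (Bool.rec (motive := fun _ => List ℕ) (rw3862) (rw3863) (Nat.ble 3863 i)) (Nat.ble 3862 i)) (Nat.ble 3860 i)) (Bool.rec (motive := fun _ => List ℕ) (Bool.rec (motive := fun _ => List ℕ) (Bool.rec (motive := fun _ => List ℕ) (rw3864) (rw3865) (Nat.ble 3865 i)) (Bool.rec (motive := fun _ => List ℕ) (rw3866) (rw3867) (Nat.ble 3867 i)) (Nat.ble 3866 i)) (Bool.rec (motive := fun _ => List ℕ) (Bool.rec (motive := fun _ => List ℕ) (rw3868) (rw3869) (Nat.ble 3869 i)) (Bool.rec (motive := fun _ => List ℕ) (rw3870) (rw3871) (Nat.ble 3871 i)) (Nat.ble 3870 i)) (Nat.ble 3868 i)) (Nat.ble 3864 i)) (Nat.ble 3856 i)) (Bool.rec (motive := fun _ => List ℕ) (Bool.rec (motive := fun _ => List ℕ) (Bool.rec (motive := fun _ => List ℕ) (Bool.rec (motive := fun _ => List ℕ) (Bool.rec (motive := fun _ => List ℕ) (rw3872) (rw3873) (Nat.ble 3873 i)) (Bool.rec (motive := fun _ => List ℕ) (rw3874) (rw3875) (Nat.ble 3875 i)) (Nat.ble 3874 i)) (Bool.rec (motive := fun _ => List ℕ) (Bool.rec (motive := fun _ => List ℕ) (rw3876) (rw3877) (Nat.ble 3877 i)) (Bool.rec (motive := fun _ => List ℕ) (rw3878) (rw3879) (Nat.ble 3879 i)) (Nat.ble 3878 i)) (Nat.ble 3876 i)) (Bool.rec (motive := fun _ => List ℕ) (Bool.rec (motive := fun _ => List ℕ) (Bool.rec (motive := fun _ => List ℕ) (rw3880) (rw3881) (Nat.ble 3881 i)) (Bool.rec (motive := fun _ => List ℕ) (rw3882) (rw3883) (Nat.ble 3883 i)) (Nat.ble 3882 i)) (Bool.rec (motive := fun _ => List ℕ) (Bool.rec (motive := fun _ => List ℕ) (rw3884) (rw3885) (Nat.ble 3885 i)) (Bool.rec (motive := fun _ => List ℕ) (rw3886) (rw3887) (Nat.ble 3887 i)) (Nat.ble 3886 i)) (Nat.ble 3884 i)) (Nat.ble 3880 i)) (Bool.rec (motive := fun _ => List ℕ) (Bool.rec (motive := fun _ => List ℕ) (Bool.rec (motive := fun _ => List ℕ) (Bool.rec (motive := fun _ => List ℕ) (rw3888) (rw3889) (Nat.ble 3889 i)) (Bool.rec (motive := fun _ => List ℕ) (rw3890) (rw3891) (Nat.ble 3891 i)) (Nat.ble 3890 i)) (Bool.rec (motive := fun _ => List ℕ) (Bool.rec (motive := fun _ => List ℕ) (rw3892) (rw3893) (Nat.ble 3893 i)) (Bool.rec (motive := fun _ => List ℕ) (rw3894) (rw3895) (Nat.ble 3895 i)) (Nat.ble 3894 i)) (Nat.ble 3892 i)) (Bool.rec (motive := fun _ => List ℕ) (Bool.rec (motive := fun _ => List ℕ) (Bool.rec (motive := fun _ => List ℕ) (rw3896) (rw3897) (Nat.ble 3897 i)) (Bool.rec (motive := fun _ => List ℕ) (rw3898) (rw3899) (Nat.ble 3899 i)) (Nat.ble 3898 i)) (Bool.rec (motive := fun _ => List ℕ) (Bool.rec (motive := fun _ => List ℕ) (rw3900) (rw3901) (Nat.ble 3901 i)) (Bool.rec (motive := fun _ => List ℕ) (rw3902) (rw3903) (Nat.ble 3903 i)) (Nat.ble 3902 i)) (Nat.ble 3900 i)) (Nat.ble 3896 i)) (Nat.ble 3888 i)) (Nat.ble 3872 i)) (Bool.rec (motive := fun _ => List ℕ) (Bool.rec (motive := fun _ => List ℕ) (Bool.rec (motive := fun _ => List ℕ) (Bool.rec (motive := fun _ => List ℕ) (Bool.rec (motive := fun _ => List ℕ) (Bool.rec (motive := fun _ => List ℕ) (rw3904) (rw3905) (Nat.ble 3905 i)) (Bool.rec (motive := fun _ => List ℕ) (rw3906) (rw3907) (Nat.ble 3907 i)) (Nat.ble 3906 i)) (Bool.rec (motive := fun _ => List ℕ) (Bool.rec (motive := fun _ => List ℕ) (rw3908) (rw3909) (Nat.ble 3909 i)) (Bool.rec (motive := fun _ => List ℕ) (rw3910) (rw3911) (Nat.ble 3911 i)) (Nat.ble 3910 i)) (Nat.ble 3908 i)) (Bool.rec (motive := fun _ => List ℕ) (Bool.rec (motive := fun _ => List ℕ) (Bool.rec (motive := fun _ => List ℕ) (rw3912) (rw3913) (Nat.ble 3913 i)) (Bool.rec (motive := fun _ => List ℕ) (rw3914) (rw3915) (Nat.ble 3915 i)) (Nat.ble 3914 i)) (Bool.rec (motive := fun _ => List ℕ) (Bool.rec (motive := fun _ => List ℕ) (rw3916) (rw3917) (Nat.ble 3917 i)) (Bool.rec (motive := fun _ => List ℕ) (rw3918) (rw3919) (Nat.ble 3919 i)) (Nat.ble 3918 i)) (Nat.ble 3916 i)) (Nat.ble 3912 i)) (Bool.rec (motive := fun _ => List ℕ) (Bool.rec (motive := fun _ => List ℕ) (Bool.rec (motive := fun _ => List ℕ) (Bool.rec (motive := fun _ => List ℕ) (rw3920) (rw3921) (Nat.ble 3921 i)) (Bool.rec (motive := fun _ => List ℕ) (rw3922) (rw3923) (Nat.ble 3923 i)) (Nat.ble 3922 i)) (Bool.rec (motive := fun _ => List ℕ) (Bool.rec (motive := fun _ => List ℕ) (rw3924) (rw3925) (Nat.ble 3925 i)) (Bool.rec (motive := fun _ => List ℕ) (rw3926) (rw3927) (Nat.ble 3927 i)) (Nat.ble 3926 i)) (Nat.ble 3924 i)) (Bool.rec (motive := fun _ => List ℕ) (Bool.rec (motive := fun _ => List ℕ) (Bool.rec (motive := fun _ => List ℕ) (rw3928) (rw3929) (Nat.ble 3929 i)) (Bool.rec (motive := fun _ => List ℕ) (rw3930) (rw3931) (Nat.ble 3931 i)) (Nat.ble 3930 i)) (Bool.rec (motive := fun _ => List ℕ) (Bool.rec (motive := fun _ => List ℕ) (rw3932) (rw3933) (Nat.ble 3933 i)) (Bool.rec (motive := fun _ => List ℕ) (rw3934) (rw3935) (Nat.ble 3935 i)) (Nat.ble 3934 i)) (Nat.ble 3932 i)) (Nat.ble 3928 i)) (Nat.ble 3920 i)) (Bool.rec (motive := fun _ => List ℕ) (Bool.rec (motive := fun _ => List ℕ) (Bool.rec (motive := fun _ => List ℕ) (Bool.rec (motive := fun _ => List ℕ) (Bool.rec (motive := fun _ => List ℕ) (rw3936) (rw3937) (Nat.ble 3937 i)) (Bool.rec (motive := fun _ => List ℕ) (rw3938) (rw3939) (Nat.ble 3939 i)) (Nat.ble 3938 i)) (Bool.rec (motive := fun _ => List ℕ) (Bool.rec (motive := fun _ => List ℕ) (rw3940) (rw3941) (Nat.ble 3941 i)) (Bool.rec (motive := fun _ => List ℕ) (rw3942) (rw3943) (Nat.ble 3943 i)) (Nat.ble 3942 i)) (Nat.ble 3940 i)) (Bool.rec (motive := fun _ => List ℕ) (Bool.rec (motive := fun _ => List ℕ) (Bool.rec (motive := fun _ => List ℕ) (rw3944) (rw3945) (Nat.ble 3945 i)) (Bool.rec (motive := fun _ => List ℕ) (rw3946) (rw3947) (Nat.ble 3947 i)) (Nat.ble 3946 i)) (Bool.rec (motive := fun _ => List ℕ) (Bool.rec (motive := fun _ => List ℕ) (rw3948) (rw3949) (Nat.ble 3949 i)) (Bool.rec (motive := fun _ => List ℕ) (rw3950) (rw3951) (Nat.ble 3951 i)) (Nat.ble 3950 i)) (Nat.ble 3948 i)) (Nat.ble 3944 i)) (Bool.rec (motive := fun _ => List ℕ) (Bool.rec (motive := fun _ => List ℕ) (Bool.rec (motive := fun _ => List ℕ) (Bool.rec (motive := fun _ => List ℕ) (rw3952) (rw3953) (Nat.ble 3953 i)) (Bool.rec (motive := fun _ => List ℕ) (rw3954) (rw3955) (Nat.ble 3955 i)) (Nat.ble 3954 i)) (Bool.rec (motive := fun _ => List ℕ) (Bool.rec (motive := fun _ => List ℕ) (rw3956) (rw3957) (Nat.ble 3957 i)) (Bool.rec (motive := fun _ => List ℕ) (rw3958) (rw3959) (Nat.ble 3959 i)) (Nat.ble 3958 i)) (Nat.ble 3956 i)) (Bool.rec (motive := fun _ => List ℕ) (Bool.rec (motive := fun _ => List ℕ) (Bool.rec (motive := fun _ => List ℕ) (rw3960) (rw3961) (Nat.ble 3961 i)) (Bool.rec (motive := fun _ => List ℕ) (rw3962) (rw3963) (Nat.ble 3963 i)) (Nat.ble 3962 i)) (Bool.rec (motive := fun _ => List ℕ) (Bool.rec (motive := fun _ => List ℕ) (rw3964) (rw3965) (Nat.ble 3965 i)) (Bool.rec (motive := fun _ => List ℕ) (rw3966) (rw3967) (Nat.ble 3967 i)) (Nat.ble 3966 i)) (Nat.ble 3964 i)) (Nat.ble 3960 i)) (Nat.ble 3952 i)) (Nat.ble 3936 i)) (Nat.ble 3904 i)) (Bool.rec (motive := fun _ => List ℕ) (Bool.rec (motive := fun _ => List ℕ) (Bool.rec (motive := fun _ => List ℕ) (Bool.rec (motive := fun _ => List ℕ) (Bool.rec (motive := fun _ => List ℕ) (Bool.rec (motive := fun _ => List ℕ) (Bool.rec (motive := fun _ => List ℕ) (rw3968) (rw3969) (Nat.ble 3969 i)) (Bool.rec (motive := fun _ => List ℕ) (rw3970) (rw3971) (Nat.ble 3971 i)) (Nat.ble 3970 i)) (Bool.rec (motive := fun _ => List ℕ) (Bool.rec (motive := fun _ => List ℕ) (rw3972) (rw3973) (Nat.ble 3973 i)) (Bool.rec (motive := fun _ => List ℕ) (rw3974) (rw3975) (Nat.ble 3975 i)) (Nat.ble 3974 i)) (Nat.ble 3972 i)) (Bool.rec (motive := fun _ => List ℕ) (Bool.rec (motive := fun _ => List ℕ) (Bool.rec (motive := fun _ => List ℕ) (rw3976) (rw3977) (Nat.ble 3977 i)) (Bool.rec (motive := fun _ => List ℕ) (rw3978) (rw3979) (Nat.ble 3979 i)) (Nat.ble 3978 i)) (Bool.rec (motive := fun _ => List ℕ) (Bool.rec (motive := fun _ => List ℕ) (rw3980) (rw3981) (Nat.ble 3981 i)) (Bool.rec (motive := fun _ => List ℕ) (rw3982) (rw3983) (Nat.ble 3983 i)) (Nat.ble 3982 i)) (Nat.ble 3980 i)) (Nat.ble 3976 i)) (Bool.rec (motive := fun _ => List ℕ) (Bool.rec (motive := fun _ => List ℕ) (Bool.rec (motive := fun _ => List ℕ) (Bool.rec (motive := fun _ => List ℕ) (rw3984) (rw3985) (Nat.ble 3985 i)) (Bool.rec (motive := fun _ => List ℕ) (rw3986) (rw3987) (Nat.ble 3987 i)) (Nat.ble 3986 i)) (Bool.rec (motive := fun _ => List ℕ) (Bool.rec (motive := fun _ => List ℕ) (rw3988) (rw3989) (Nat.ble 3989 i)) (Bool.rec (motive := fun _ => List ℕ) (rw3990) (rw3991) (Nat.ble 3991 i)) (Nat.ble 3990 i)) (Nat.ble 3988 i)) (Bool.rec (motive := fun _ => List ℕ) (Bool.rec (motive := fun _ => List ℕ) (Bool.rec (motive := fun _ => List ℕ) (rw3992) (rw3993) (Nat.ble 3993 i)) (Bool.rec (motive := fun _ => List ℕ) (rw3994) (rw3995) (Nat.ble 3995 i)) (Nat.ble 3994 i)) (Bool.rec (motive := fun _ => List ℕ) (Bool.rec (motive := fun _ => List ℕ) (rw3996) (rw3997) (Nat.ble 3997 i)) (Bool.rec (motive := fun _ => List ℕ) (rw3998) (rw3999) (Nat.ble 3999 i)) (Nat.ble 3998 i)) (Nat.ble 3996 i)) (Nat.ble 3992 i)) (Nat.ble 3984 i)) (Bool.rec (motive := fun _ => List ℕ) (Bool.rec (motive := fun _ => List ℕ) (Bool.rec (motive := fun _ => List ℕ) (Bool.rec (motive := fun _ => List ℕ) (Bool.rec (motive := fun _ => List ℕ) (rw4000) (rw4001) (Nat.ble 4001 i)) (Bool.rec (motive := fun _ => List ℕ) (rw4002) (rw4003) (Nat.ble 4003 i)) (Nat.ble 4002 i)) (Bool.rec (motive := fun _ => List ℕ) (Bool.rec (motive := fun _ => List ℕ) (rw4004) (rw4005) (Nat.ble 4005 i)) (Bool.rec (motive := fun _ => List ℕ) (rw4006) (rw4007) (Nat.ble 4007 i)) (Nat.ble 4006 i)) (Nat.ble 4004 i)) (Bool.rec (motive := fun _ => List ℕ) (Bool.rec (motive := fun _ => List ℕ) (Bool.rec (motive := fun _ => List ℕ) (rw4008) (rw4009) (Nat.ble 4009 i)) (Bool.rec (motive := fun _ => List ℕ) (rw4010) (rw4011) (Nat.ble 4011 i)) (Nat.ble 4010 i)) (Bool.rec (motive := fun _ => List ℕ) (Bool.rec (motive := fun _ => List ℕ) (rw4012) (rw4013) (Nat.ble 4013 i)) (Bool.rec (motive := fun _ => List ℕ) (rw4014) (rw4015) (Nat.ble 4015 i)) (Nat.ble 4014 i)) (Nat.ble 4012 i)) (Nat.ble 4008 i)) (Bool.rec (motive := fun _ => List ℕ) (Bool.rec (motive := fun _ => List ℕ) (Bool.rec (motive := fun _ => List ℕ) (Bool.rec (motive := fun _ => List ℕ) (rw4016) (rw4017) (Nat.ble 4017 i)) (Bool.rec (motive := fun _ => List ℕ) (rw4018) (rw4019) (Nat.ble 4019 i)) (Nat.ble 4018 i)) (Bool.rec (motive := fun _ => List ℕ) (Bool.rec (motive := fun _ => List ℕ) (rw4020) (rw4021) (Nat.ble 4021 i)) (Bool.rec (motive := fun _ => List ℕ) (rw4022) (rw4023) (Nat.ble 4023 i)) (Nat.ble 4022 i)) (Nat.ble 4020 i)) (Bool.rec (motive := fun _ => List ℕ) (Bool.rec (motive := fun _ => List ℕ) (Bool.rec (motive := fun _ => List ℕ) (rw4024) (rw4025) (Nat.ble 4025 i)) (Bool.rec (motive := fun _ => List ℕ) (rw4026) (rw4027) (Nat.ble 4027 i)) (Nat.ble 4026 i)) (Bool.rec (motive := fun _ => List ℕ) (Bool.rec (motive := fun _ => List ℕ) (rw4028) (rw4029) (Nat.ble 4029 i)) (Bool.rec (motive := fun _ => List ℕ) (rw4030) (rw4031) (Nat.ble 4031 i)) (Nat.ble 4030 i)) (Nat.ble 4028 i)) (Nat.ble 4024 i)) (Nat.ble 4016 i)) (Nat.ble 4000 i)) (Bool.rec (motive := fun _ => List ℕ) (Bool.rec (motive := fun _ => List ℕ) (Bool.rec (motive := fun _ => List ℕ) (Bool.rec (motive := fun _ => List ℕ) (Bool.rec (motive := fun _ => List ℕ) (Bool.rec (motive := fun _ => List ℕ) (rw4032) (rw4033) (Nat.ble 4033 i)) (Bool.rec (motive := fun _ => List ℕ) (rw4034) (rw4035) (Nat.ble 4035 i)) (Nat.ble 4034 i)) (Bool.rec (motive := fun _ => List ℕ) (Bool.rec (motive := fun _ => List ℕ) (rw4036) (rw4037) (Nat.ble 4037 i)) (Bool.rec (motive := fun _ => List ℕ) (rw4038) (rw4039) (Nat.ble 4039 i)) (Nat.ble 4038 i)) (Nat.ble 4036 i)) (Bool.rec (motive := fun _ => List ℕ) (Bool.rec (motive := fun _ => List ℕ) (Bool.rec (motive := fun _ => List ℕ) (rw4040) (rw4041) (Nat.ble 4041 i)) (Bool.rec (motive := fun _ => List ℕ) (rw4042) (rw4043) (Nat.ble 4043 i)) (Nat.ble 4042 i)) (Bool.rec (motive := fun _ => List ℕ) (Bool.rec (motive := fun _ => List ℕ) (rw4044) (rw4045) (Nat.ble 4045 i)) (Bool.rec (motive := fun _ => List ℕ) (rw4046) (rw4047) (Nat.ble 4047 i)) (Nat.ble 4046 i)) (Nat.ble 4044 i)) (Nat.ble 4040 i)) (Bool.rec (motive := fun _ => List ℕ) (Bool.rec (motive := fun _ => List ℕ) (Bool.rec (motive := fun _ => List ℕ) (Bool.rec (motive := fun _ => List ℕ) (rw4048) (rw4049) (Nat.ble 4049 i)) (Bool.rec (motive := fun _ => List ℕ) (rw4050) (rw4051) (Nat.ble 4051 i)) (Nat.ble 4050 i)) (Bool.rec (motive := fun _ => List ℕ) (Bool.rec (motive := fun _ => List ℕ) (rw4052) (rw4053) (Nat.ble 4053 i)) (Bool.rec (motive := fun _ => List ℕ) (rw4054) (rw4055) (Nat.ble 4055 i)) (Nat.ble 4054 i)) (Nat.ble 4052 i)) (Bool.rec (motive := fun _ => List ℕ) (Bool.rec (motive := fun _ => List ℕ) (Bool.rec (motive := fun _ => List ℕ) (rw4056) (rw4057) (Nat.ble 4057 i)) (Bool.rec (motive := fun _ => List ℕ) (rw4058) (rw4059) (Nat.ble 4059 i)) (Nat.ble 4058 i)) (Bool.rec (motive := fun _ => List ℕ) (Bool.rec (motive := fun _ => List ℕ) (rw4060) (rw4061) (Nat.ble 4061 i)) (Bool.rec (motive := fun _ => List ℕ) (rw4062) (rw4063) (Nat.ble 4063 i)) (Nat.ble 4062 i)) (Nat.ble 4060 i)) (Nat.ble 4056 i)) (Nat.ble 4048 i)) (Bool.rec (motive := fun _ => List ℕ) (Bool.rec (motive := fun _ => List ℕ) (Bool.rec (motive := fun _ => List ℕ) (Bool.rec (motive := fun _ => List ℕ) (Bool.rec (motive := fun _ => List ℕ) (rw4064) (rw4065) (Nat.ble 4065 i)) (Bool.rec (motive := fun _ => List ℕ) (rw4066) (rw4067) (Nat.ble 4067 i)) (Nat.ble 4066 i)) (Bool.rec (motive := fun _ => List ℕ) (Bool.rec (motive := fun _ => List ℕ) (rw4068) (rw4069) (Nat.ble 4069 i)) (Bool.rec (motive := fun _ => List ℕ) (rw4070) (rw4071) (Nat.ble 4071 i)) (Nat.ble 4070 i)) (Nat.ble 4068 i)) (Bool.rec (motive := fun _ => List ℕ) (Bool.rec (motive := fun _ => List ℕ) (Bool.rec (motive := fun _ => List ℕ) (rw4072) (rw4073) (Nat.ble 4073 i)) (Bool.rec (motive := fun _ => List ℕ) (rw4074) (rw4075) (Nat.ble 4075 i)) (Nat.ble 4074 i)) (Bool.rec (motive := fun _ => List ℕ) (Bool.rec (motive := fun _ => List ℕ) (rw4076) (rw4077) (Nat.ble 4077 i)) (Bool.rec (motive := fun _ => List ℕ) (rw4078) (rw4079) (Nat.ble 4079 i)) (Nat.ble 4078 i)) (Nat.ble 4076 i)) (Nat.ble 4072 i)) (Bool.rec (motive := fun _ => List ℕ) (Bool.rec (motive := fun _ => List ℕ) (Bool.rec (motive := fun _ => List ℕ) (Bool.rec (motive := fun _ => List ℕ) (rw4080) (rw4081) (Nat.ble 4081 i)) (Bool.rec (motive := fun _ => List ℕ) (rw4082) (rw4083) (Nat.ble 4083 i)) (Nat.ble 4082 i)) (Bool.rec (motive := fun _ => List ℕ) (Bool.rec (motive := fun _ => List ℕ) (rw4084) (rw4085) (Nat.ble 4085 i)) (Bool.rec (motive := fun _ => List ℕ) (rw4086) (rw4087) (Nat.ble 4087 i)) (Nat.ble 4086 i)) (Nat.ble 4084 i)) (Bool.rec (motive := fun _ => List ℕ) (Bool.rec (motive := fun _ => List ℕ) (Bool.rec (motive := fun _ => List ℕ) (rw4088) (rw4089) (Nat.ble 4089 i)) (Bool.rec (motive := fun _ => List ℕ) (rw4090) (rw4091) (Nat.ble 4091 i)) (Nat.ble 4090 i)) (Bool.rec (motive := fun _ => List ℕ) (Bool.rec (motive := fun _ => List ℕ) (rw4092) (rw4093) (Nat.ble 4093 i)) (Bool.rec (motive := fun _ => List ℕ) (rw4094) (rw4095) (Nat.ble 4095 i)) (Nat.ble 4094 i)) (Nat.ble 4092 i)) (Nat.ble 4088 i)) (Nat.ble 4080 i)) (Nat.ble 4064 i)) (Nat.ble 4032 i)) (Nat.ble 3968 i)) (Nat.ble 3840 i)) (Nat.ble 3584 i)) (Nat.ble 3072 i)) (Nat.ble 2048 i)) (Bool.rec (motive := fun _ => List ℕ) (Bool.rec (motive := fun _ => List ℕ) (Bool.rec (motive := fun _ => List ℕ) (Bool.rec (motive := fun _ => List ℕ) (Bool.rec (motive := fun _ => List ℕ) (Bool.rec (motive := fun _ => List ℕ) (Bool.rec (motive := fun _ => List ℕ) (Bool.rec (motive := fun _ => List ℕ) (Bool.rec (motive := fun _ => List ℕ) (Bool.rec (motive := fun _ => List ℕ) (Bool.rec (motive := fun _ => List ℕ) (Bool.rec (motive := fun _ => List ℕ) (rw4096) (rw4097) (Nat.ble 4097 i)) (Bool.rec (motive := fun _ => List ℕ) (rw4098) (rw4099) (Nat.ble 4099 i)) (Nat.ble 4098 i)) (Bool.rec (motive := fun _ => List ℕ) (Bool.rec (motive := fun _ => List ℕ) (rw4100) (rw4101) (Nat.ble 4101 i)) (Bool.rec (motive := fun _ => List ℕ) (rw4102) (rw4103) (Nat.ble 4103 i)) (Nat.ble 4102 i)) (Nat.ble 4100 i)) (Bool.rec (motive := fun _ => List ℕ) (Bool.rec (motive := fun _ => List ℕ) (Bool.rec (motive := fun _ => List ℕ) (rw4104) (rw4105) (Nat.ble 4105 i)) (Bool.rec (motive := fun _ => List ℕ) (rw4106) (rw4107) (Nat.ble 4107 i)) (Nat.ble 4106 i)) (Bool.rec (motive := fun _ => List ℕ) (Bool.rec (motive := fun _ => List ℕ) (rw4108) (rw4109) (Nat.ble 4109 i)) (Bool.rec (motive := fun _ => List ℕ) (rw4110) (rw4111) (Nat.ble 4111 i)) (Nat.ble 4110 i)) (Nat.ble 4108 i)) (Nat.ble 4104 i)) (Bool.rec (motive := fun _ => List ℕ) (Bool.rec (motive := fun _ => List ℕ) (Bool.rec (motive := fun _ => List ℕ) (Bool.rec (motive := fun _ => List ℕ) (rw4112) (rw4113) (Nat.ble 4113 i)) (Bool.rec (motive := fun _ => List ℕ) (rw4114) (rw4115) (Nat.ble 4115 i)) (Nat.ble 4114 i)) (Bool.rec (motive := fun _ => List ℕ) (Bool.rec (motive := fun _ => List ℕ) (rw4116) (rw4117) (Nat.ble 4117 i)) (Bool.rec (motive := fun _ => List ℕ) (rw4118) (rw4119) (Nat.ble 4119 i)) (Nat.ble 4118 i)) (Nat.ble 4116 i)) (Bool.rec (motive := fun _ => List ℕ) (Bool.rec (motive := fun _ => List ℕ) (Bool.rec (motive := fun _ => List ℕ) (rw4120) (rw4121) (Nat.ble 4121 i)) (Bool.rec (motive := fun _ => List ℕ) (rw4122) (rw4123) (Nat.ble 4123 i)) (Nat.ble 4122 i)) (Bool.rec (motive := fun _ => List ℕ) (Bool.rec (motive := fun _ => List ℕ) (rw4124) (rw4125) (Nat.ble 4125 i)) (Bool.rec (motive := fun _ => List ℕ) (rw4126) (rw4127) (Nat.ble 4127 i)) (Nat.ble 4126 i)) (Nat.ble 4124 i)) (Nat.ble 4120 i)) (Nat.ble 4112 i)) (Bool.rec (motive := fun _ => List ℕ) (Bool.rec (motive := fun _ => List ℕ) (Bool.rec (motive := fun _ => List ℕ) (Bool.rec (motive := fun _ => List ℕ) (Bool.rec (motive := fun _ => List ℕ) (rw4128) (rw4129) (Nat.ble 4129 i)) (Bool.rec (motive := fun _ => List ℕ) (rw4130) (rw4131) (Nat.ble 4131 i)) (Nat.ble 4130 i)) (Bool.rec (motive := fun _ => List ℕ) (Bool.rec (motive := fun _ => List ℕ) (rw4132) (rw4133) (Nat.ble 4133 i)) (Bool.rec (motive := fun _ => List ℕ) (rw4134) (rw4135) (Nat.ble 4135 i)) (Nat.ble 4134 i)) (Nat.ble 4132 i)) (Bool.rec (motive := fun _ => List ℕ) (Bool.rec (motive := fun _ => List ℕ) (Bool.rec (motive := fun _ => List ℕ) (rw4136) (rw4137) (Nat.ble 4137 i)) (Bool.rec (motive := fun _ => List ℕ) (rw4138) (rw4139) (Nat.ble 4139 i)) (Nat.ble 4138 i)) (Bool.rec (motive := fun _ => List ℕ) (Bool.rec (motive := fun _ => List ℕ) (rw4140) (rw4141) (Nat.ble 4141 i)) (Bool.rec (motive := fun _ => List ℕ) (rw4142) (rw4143) (Nat.ble 4143 i)) (Nat.ble 4142 i)) (Nat.ble 4140 i)) (Nat.ble 4136 i)) (Bool.rec (motive := fun _ => List ℕ) (Bool.rec (motive := fun _ => List ℕ) (Bool.rec (motive := fun _ => List ℕ) (Bool.rec (motive := fun _ => List ℕ) (rw4144) (rw4145) (Nat.ble 4145 i)) (Bool.rec (motive := fun _ => List ℕ) (rw4146) (rw4147) (Nat.ble 4147 i)) (Nat.ble 4146 i)) (Bool.rec (motive := fun _ => List ℕ) (Bool.rec (motive := fun _ => List ℕ) (rw4148) (rw4149) (Nat.ble 4149 i)) (Bool.rec (motive := fun _ => List ℕ) (rw4150) (rw4151) (Nat.ble 4151 i)) (Nat.ble 4150 i)) (Nat.ble 4148 i)) (Bool.rec (motive := fun _ => List ℕ) (Bool.rec (motive := fun _ => List ℕ) (Bool.rec (motive := fun _ => List ℕ) (rw4152) (rw4153) (Nat.ble 4153 i)) (Bool.rec (motive := fun _ => List ℕ) (rw4154) (rw4155) (Nat.ble 4155 i)) (Nat.ble 4154 i)) (Bool.rec (motive := fun _ => List ℕ) (Bool.rec (motive := fun _ => List ℕ) (rw4156) (rw4157) (Nat.ble 4157 i)) (Bool.rec (motive := fun _ => List ℕ) (rw4158) (rw4159) (Nat.ble 4159 i)) (Nat.ble 4158 i)) (Nat.ble 4156 i)) (Nat.ble 4152 i)) (Nat.ble 4144 i)) (Nat.ble 4128 i)) (Bool.rec (motive := fun _ => List ℕ) (Bool.rec (motive := fun _ => List ℕ) (Bool.rec (motive := fun _ => List ℕ) (Bool.rec (motive := fun _ => List ℕ) (Bool.rec (motive := fun _ => List ℕ) (Bool.rec (motive := fun _ => List ℕ) (rw4160) (rw4161) (Nat.ble 4161 i)) (Bool.rec (motive := fun _ => List ℕ) (rw4162) (rw4163) (Nat.ble 4163 i)) (Nat.ble 4162 i)) (Bool.rec (motive := fun _ => List ℕ) (Bool.rec (motive := fun _ => List ℕ) (rw4164) (rw4165) (Nat.ble 4165 i)) (Bool.rec (motive := fun _ => List ℕ) (rw4166) (rw4167) (Nat.ble 4167 i)) (Nat.ble 4166 i)) (Nat.ble 4164 i)) (Bool.rec (motive := fun _ => List ℕ) (Bool.rec (motive := fun _ => List ℕ) (Bool.rec (motive := fun _ => List ℕ) (rw4168) (rw4169) (Nat.ble 4169 i)) (Bool.rec (motive := fun _ => List ℕ) (rw4170) (rw4171) (Nat.ble 4171 i)) (Nat.ble 4170 i)) (Bool.rec (motive := fun _ => List ℕ) (Bool.rec (motive := fun _ => List ℕ) (rw4172) (rw4173) (Nat.ble 4173 i)) (Bool.rec (motive := fun _ => List ℕ) (rw4174) (rw4175) (Nat.ble 4175 i)) (Nat.ble 4174 i)) (Nat.ble 4172 i)) (Nat.ble 4168 i)) (Bool.rec (motive := fun _ => List ℕ) (Bool.rec (motive := fun _ => List ℕ) (Bool.rec (motive := fun _ => List ℕ) (Bool.rec (motive := fun _ => List ℕ) (rw4176) (rw4177) (Nat.ble 4177 i)) (Bool.rec (motive := fun _ => List ℕ) (rw4178) (rw4179) (Nat.ble 4179 i)) (Nat.ble 4178 i)) (Bool.rec (motive := fun _ => List ℕ) (Bool.rec (motive := fun _ => List ℕ) (rw4180) (rw4181) (Nat.ble 4181 i)) (Bool.rec (motive := fun _ => List ℕ) (rw4182) (rw4183) (Nat.ble 4183 i)) (Nat.ble 4182 i)) (Nat.ble 4180 i)) (Bool.rec (motive := fun _ => List ℕ) (Bool.rec (motive := fun _ => List ℕ) (Bool.rec (motive := fun _ => List ℕ) (rw4184) (rw4185) (Nat.ble 4185 i)) (Bool.rec (motive := fun _ => List ℕ) (rw4186) (rw4187) (Nat.ble 4187 i)) (Nat.ble 4186 i)) (Bool.rec (motive := fun _ => List ℕ) (Bool.rec (motive := fun _ => List ℕ) (rw4188) (rw4189) (Nat.ble 4189 i)) (Bool.rec (motive := fun _ => List ℕ) (rw4190) (rw4191) (Nat.ble 4191 i)) (Nat.ble 4190 i)) (Nat.ble 4188 i)) (Nat.ble 4184 i)) (Nat.ble 4176 i)) (Bool.rec (motive := fun _ => List ℕ) (Bool.rec (motive := fun _ => List ℕ) (Bool.rec (motive := fun _ => List ℕ) (Bool.rec (motive := fun _ => List ℕ) (Bool.rec (motive := fun _ => List ℕ) (rw4192) (rw4193) (Nat.ble 4193 i)) (Bool.rec (motive := fun _ => List ℕ) (rw4194) (rw4195) (Nat.ble 4195 i)) (Nat.ble 4194 i)) (Bool.rec (motive := fun _ => List ℕ) (Bool.rec (motive := fun _ => List ℕ) (rw4196) (rw4197) (Nat.ble 4197 i)) (Bool.rec (motive := fun _ => List ℕ) (rw4198) (rw4199) (Nat.ble 4199 i)) (Nat.ble 4198 i)) (Nat.ble 4196 i)) (Bool.rec (motive := fun _ => List ℕ) (Bool.rec (motive := fun _ => List ℕ) (Bool.rec (motive := fun _ => List ℕ) (rw4200) (rw4201) (Nat.ble 4201 i)) (Bool.rec (motive := fun _ => List ℕ) (rw4202) (rw4203) (Nat.ble 4203 i)) (Nat.ble 4202 i)) (Bool.rec (motive := fun _ => List ℕ) (Bool.rec (motive := fun _ => List ℕ) (rw4204) (rw4205) (Nat.ble 4205 i)) (Bool.rec (motive := fun _ => List ℕ) (rw4206) (rw4207) (Nat.ble 4207 i)) (Nat.ble 4206 i)) (Nat.ble 4204 i)) (Nat.ble 4200 i)) (Bool.rec (motive := fun _ => List ℕ) (Bool.rec (motive := fun _ => List ℕ) (Bool.rec (motive := fun _ => List ℕ) (Bool.rec (motive := fun _ => List ℕ) (rw4208) (rw4209) (Nat.ble 4209 i)) (Bool.rec (motive := fun _ => List ℕ) (rw4210) (rw4211) (Nat.ble 4211 i)) (Nat.ble 4210 i)) (Bool.rec (motive := fun _ => List ℕ) (Bool.rec (motive := fun _ => List ℕ) (rw4212) (rw4213) (Nat.ble 4213 i)) (Bool.rec (motive := fun _ => List ℕ) (rw4214) (rw4215) (Nat.ble 4215 i)) (Nat.ble 4214 i)) (Nat.ble 4212 i)) (Bool.rec (motive := fun _ => List ℕ) (Bool.rec (motive := fun _ => List ℕ) (Bool.rec (motive := fun _ => List ℕ) (rw4216) (rw4217) (Nat.ble 4217 i)) (Bool.rec (motive := fun _ => List ℕ) (rw4218) (rw4219) (Nat.ble 4219 i)) (Nat.ble 4218 i)) (Bool.rec (motive := fun _ => List ℕ) (Bool.rec (motive := fun _ => List ℕ) (rw4220) (rw4221) (Nat.ble 4221 i)) (Bool.rec (motive := fun _ => List ℕ) (rw4222) (rw4223) (Nat.ble 4223 i)) (Nat.ble 4222 i)) (Nat.ble 4220 i)) (Nat.ble 4216 i)) (Nat.ble 4208 i)) (Nat.ble 4192 i)) (Nat.ble 4160 i)) (Bool.rec (motive := fun _ => List ℕ) (Bool.rec (motive := fun _ => List ℕ) (Bool.rec (motive := fun _ => List ℕ) (Bool.rec (motive := fun _ => List ℕ) (Bool.rec (motive := fun _ => List ℕ) (Bool.rec (motive := fun _ => List ℕ) (Bool.rec (motive := fun _ => List ℕ) (rw4224) (rw4225) (Nat.ble 4225 i)) (Bool.rec (motive := fun _ => List ℕ) (rw4226) (rw4227) (Nat.ble 4227 i)) (Nat.ble 4226 i)) (Bool.rec (motive := fun _ => List ℕ) (Bool.rec (motive := fun _ => List ℕ) (rw4228) (rw4229) (Nat.ble 4229 i)) (Bool.rec (motive := fun _ => List ℕ) (rw4230) (rw4231) (Nat.ble 4231 i)) (Nat.ble 4230 i)) (Nat.ble 4228 i)) (Bool.rec (motive := fun _ => List ℕ) (Bool.rec (motive := fun _ => List ℕ) (Bool.rec (motive := fun _ => List ℕ) (rw4232) (rw4233) (Nat.ble 4233 i)) (Bool.rec (motive := fun _ => List ℕ) (rw4234) (rw4235) (Nat.ble 4235 i)) (Nat.ble 4234 i)) (Bool.rec (motive := fun _ => List ℕ) (Bool.rec (motive := fun _ => List ℕ) (rw4236) (rw4237) (Nat.ble 4237 i)) (Bool.rec (motive := fun _ => List ℕ) (rw4238) (rw4239) (Nat.ble 4239 i)) (Nat.ble 4238 i)) (Nat.ble 4236 i)) (Nat.ble 4232 i)) (Bool.rec (motive := fun _ => List ℕ) (Bool.rec (motive := fun _ => List ℕ) (Bool.rec (motive := fun _ => List ℕ) (Bool.rec (motive := fun _ => List ℕ) (rw4240) (rw4241) (Nat.ble 4241 i)) (Bool.rec (motive := fun _ => List ℕ) (rw4242) (rw4243) (Nat.ble 4243 i)) (Nat.ble 4242 i)) (Bool.rec (motive := fun _ => List ℕ) (Bool.rec (motive := fun _ => List ℕ) (rw4244) (rw4245) (Nat.ble 4245 i)) (Bool.rec (motive := fun _ => List ℕ) (rw4246) (rw4247) (Nat.ble 4247 i)) (Nat.ble 4246 i)) (Nat.ble 4244 i)) (Bool.rec (motive := fun _ => List ℕ) (Bool.rec (motive := fun _ => List ℕ) (Bool.rec (motive := fun _ => List ℕ) (rw4248) (rw4249) (Nat.ble 4249 i)) (Bool.rec (motive := fun _ => List ℕ) (rw4250) (rw4251) (Nat.ble 4251 i)) (Nat.ble 4250 i)) (Bool.rec (motive := fun _ => List ℕ) (Bool.rec (motive := fun _ => List ℕ) (rw4252) (rw4253) (Nat.ble 4253 i)) (Bool.rec (motive := fun _ => List ℕ) (rw4254) (rw4255) (Nat.ble 4255 i)) (Nat.ble 4254 i)) (Nat.ble 4252 i)) (Nat.ble 4248 i)) (Nat.ble 4240 i)) (Bool.rec (motive := fun _ => List ℕ) (Bool.rec (motive := fun _ => List ℕ) (Bool.rec (motive := fun _ => List ℕ) (Bool.rec (motive := fun _ => List ℕ) (Bool.rec (motive := fun _ => List ℕ) (rw4256) (rw4257) (Nat.ble 4257 i)) (Bool.rec (motive := fun _ => List ℕ) (rw4258) (rw4259) (Nat.ble 4259 i)) (Nat.ble 4258 i)) (Bool.rec (motive := fun _ => List ℕ) (Bool.rec (motive := fun _ => List ℕ) (rw4260) (rw4261) (Nat.ble 4261 i)) (Bool.rec (motive := fun _ => List ℕ) (rw4262) (rw4263) (Nat.ble 4263 i)) (Nat.ble 4262 i)) (Nat.ble 4260 i)) (Bool.rec (motive := fun _ => List ℕ) (Bool.rec (motive := fun _ => List ℕ) (Bool.rec (motive := fun _ => List ℕ) (rw4264) (rw4265) (Nat.ble 4265 i)) (Bool.rec (motive := fun _ => List ℕ) (rw4266) (rw4267) (Nat.ble 4267 i)) (Nat.ble 4266 i)) (Bool.rec (motive := fun _ => List ℕ) (Bool.rec (motive := fun _ => List ℕ) (rw4268) (rw4269) (Nat.ble 4269 i)) (Bool.rec (motive := fun _ => List ℕ) (rw4270) (rw4271) (Nat.ble 4271 i)) (Nat.ble 4270 i)) (Nat.ble 4268 i)) (Nat.ble 4264 i)) (Bool.rec (motive := fun _ => List ℕ) (Bool.rec (motive := fun _ => List ℕ) (Bool.rec (motive := fun _ => List ℕ) (Bool.rec (motive := fun _ => List ℕ) (rw4272) (rw4273) (Nat.ble 4273 i)) (Bool.rec (motive := fun _ => List ℕ) (rw4274) (rw4275) (Nat.ble 4275 i)) (Nat.ble 4274 i)) (Bool.rec (motive := fun _ => List ℕ) (Bool.rec (motive := fun _ => List ℕ) (rw4276) (rw4277) (Nat.ble 4277 i)) (Bool.rec (motive := fun _ => List ℕ) (rw4278) (rw4279) (Nat.ble 4279 i)) (Nat.ble 4278 i)) (Nat.ble 4276 i)) (Bool.rec (motive := fun _ => List ℕ) (Bool.rec (motive := fun _ => List ℕ) (Bool.rec (motive := fun _ => List ℕ) (rw4280) (rw4281) (Nat.ble 4281 i)) (Bool.rec (motive := fun _ => List ℕ) (rw4282) (rw4283) (Nat.ble 4283 i)) (Nat.ble 4282 i)) (Bool.rec (motive := fun _ => List ℕ) (Bool.rec (motive := fun _ => List ℕ) (rw4284) (rw4285) (Nat.ble 4285 i)) (Bool.rec (motive := fun _ => List ℕ) (rw4286) (rw4287) (Nat.ble 4287 i)) (Nat.ble 4286 i)) (Nat.ble 4284 i)) (Nat.ble 4280 i)) (Nat.ble 4272 i)) (Nat.ble 4256 i)) (Bool.rec (motive := fun _ => List ℕ) (Bool.rec (motive := fun _ => List ℕ) (Bool.rec (motive := fun _ => List ℕ) (Bool.rec (motive := fun _ => List ℕ) (Bool.rec (motive := fun _ => List ℕ) (Bool.rec (motive := fun _ => List ℕ) (rw4288) (rw4289) (Nat.ble 4289 i)) (Bool.rec (motive := fun _ => List ℕ) (rw4290) (rw4291) (Nat.ble 4291 i)) (Nat.ble 4290 i)) (Bool.rec (motive := fun _ => List ℕ) (Bool.rec (motive := fun _ => List ℕ) (rw4292) (rw4293) (Nat.ble 4293 i)) (Bool.rec (motive := fun _ => List ℕ) (rw4294) (rw4295) (Nat.ble 4295 i)) (Nat.ble 4294 i)) (Nat.ble 4292 i)) (Bool.rec (motive := fun _ => List ℕ) (Bool.rec (motive := fun _ => List ℕ) (Bool.rec (motive := fun _ => List ℕ) (rw4296) (rw4297) (Nat.ble 4297 i)) (Bool.rec (motive := fun _ => List ℕ) (rw4298) (rw4299) (Nat.ble 4299 i)) (Nat.ble 4298 i)) (Bool.rec (motive := fun _ => List ℕ) (Bool.rec (motive := fun _ => List ℕ) (rw4300) (rw4301) (Nat.ble 4301 i)) (Bool.rec (motive := fun _ => List ℕ) (rw4302) (rw4303) (Nat.ble 4303 i)) (Nat.ble 4302 i)) (Nat.ble 4300 i)) (Nat.ble 4296 i)) (Bool.rec (motive := fun _ => List ℕ) (Bool.rec (motive := fun _ => List ℕ) (Bool.rec (motive := fun _ => List ℕ) (Bool.rec (motive := fun _ => List ℕ) (rw4304) (rw4305) (Nat.ble 4305 i)) (Bool.rec (motive := fun _ => List ℕ) (rw4306) (rw4307) (Nat.ble 4307 i)) (Nat.ble 4306 i)) (Bool.rec (motive := fun _ => List ℕ) (Bool.rec (motive := fun _ => List ℕ) (rw4308) (rw4309) (Nat.ble 4309 i)) (Bool.rec (motive := fun _ => List ℕ) (rw4310) (rw4311) (Nat.ble 4311 i)) (Nat.ble 4310 i)) (Nat.ble 4308 i)) (Bool.rec (motive := fun _ => List ℕ) (Bool.rec (motive := fun _ => List ℕ) (Bool.rec (motive := fun _ => List ℕ) (rw4312) (rw4313) (Nat.ble 4313 i)) (Bool.rec (motive := fun _ => List ℕ) (rw4314) (rw4315) (Nat.ble 4315 i)) (Nat.ble 4314 i)) (Bool.rec (motive := fun _ => List ℕ) (Bool.rec (motive := fun _ => List ℕ) (rw4316) (rw4317) (Nat.ble 4317 i)) (Bool.rec (motive := fun _ => List ℕ) (rw4318) (rw4319) (Nat.ble 4319 i)) (Nat.ble 4318 i)) (Nat.ble 4316 i)) (Nat.ble 4312 i)) (Nat.ble 4304 i)) (Bool.rec (motive := fun _ => List ℕ) (Bool.rec (motive := fun _ => List ℕ) (Bool.rec (motive := fun _ => List ℕ) (Bool.rec (motive := fun _ => List ℕ) (Bool.rec (motive := fun _ => List ℕ) (rw4320) (rw4321) (Nat.ble 4321 i)) (Bool.rec (motive := fun _ => List ℕ) (rw4322) (rw4323) (Nat.ble 4323 i)) (Nat.ble 4322 i)) (Bool.rec (motive := fun _ => List ℕ) (Bool.rec (motive := fun _ => List ℕ) (rw4324) (rw4325) (Nat.ble 4325 i)) (Bool.rec (motive := fun _ => List ℕ) (rw4326) (rw4327) (Nat.ble 4327 i)) (Nat.ble 4326 i)) (Nat.ble 4324 i)) (Bool.rec (motive := fun _ => List ℕ) (Bool.rec (motive := fun _ => List ℕ) (Bool.rec (motive := fun _ => List ℕ) (rw4328) (rw4329) (Nat.ble 4329 i)) (Bool.rec (motive := fun _ => List ℕ) (rw4330) (rw4331) (Nat.ble 4331 i)) (Nat.ble 4330 i)) (Bool.rec (motive := fun _ => List ℕ) (Bool.rec (motive := fun _ => List ℕ) (rw4332) (rw4333) (Nat.ble 4333 i)) (Bool.rec (motive := fun _ => List ℕ) (rw4334) (rw4335) (Nat.ble 4335 i)) (Nat.ble 4334 i)) (Nat.ble 4332 i)) (Nat.ble 4328 i)) (Bool.rec (motive := fun _ => List ℕ) (Bool.rec (motive := fun _ => List ℕ) (Bool.rec (motive := fun _ => List ℕ) (Bool.rec (motive := fun _ => List ℕ) (rw4336) (rw4337) (Nat.ble 4337 i)) (Bool.rec (motive := fun _ => List ℕ) (rw4338) (rw4339) (Nat.ble 4339 i)) (Nat.ble 4338 i)) (Bool.rec (motive := fun _ => List ℕ) (Bool.rec (motive := fun _ => List ℕ) (rw4340) (rw4341) (Nat.ble 4341 i)) (Bool.rec (motive := fun _ => List ℕ) (rw4342) (rw4343) (Nat.ble 4343 i)) (Nat.ble 4342 i)) (Nat.ble 4340 i)) (Bool.rec (motive := fun _ => List ℕ) (Bool.rec (motive := fun _ => List ℕ) (Bool.rec (motive := fun _ => List ℕ) (rw4344) (rw4345) (Nat.ble 4345 i)) (Bool.rec (motive := fun _ => List ℕ) (rw4346) (rw4347) (Nat.ble 4347 i)) (Nat.ble 4346 i)) (Bool.rec (motive := fun _ => List ℕ) (Bool.rec (motive := fun _ => List ℕ) (rw4348) (rw4349) (Nat.ble 4349 i)) (Bool.rec (motive := fun _ => List ℕ) (rw4350) (rw4351) (Nat.ble 4351 i)) (Nat.ble 4350 i)) (Nat.ble 4348 i)) (Nat.ble 4344 i)) (Nat.ble 4336 i)) (Nat.ble 4320 i)) (Nat.ble 4288 i)) (Nat.ble 4224 i)) (Bool.rec (motive := fun _ => List ℕ) (Bool.rec (motive := fun _ => List ℕ) (Bool.rec (motive := fun _ => List ℕ) (Bool.rec (motive := fun _ => List ℕ) (Bool.rec (motive := fun _ => List ℕ) (Bool.rec (motive := fun _ => List ℕ) (Bool.rec (motive := fun _ => List ℕ) (Bool.rec (motive := fun _ => List ℕ) (rw4352) (rw4353) (Nat.ble 4353 i)) (Bool.rec (motive := fun _ => List ℕ) (rw4354) (rw4355) (Nat.ble 4355 i)) (Nat.ble 4354 i)) (Bool.rec (motive := fun _ => List ℕ) (Bool.rec (motive := fun _ => List ℕ) (rw4356) (rw4357) (Nat.ble 4357 i)) (Bool.rec (motive := fun _ => List ℕ) (rw4358) (rw4359) (Nat.ble 4359 i)) (Nat.ble 4358 i)) (Nat.ble 4356 i)) (Bool.rec (motive := fun _ => List ℕ) (Bool.rec (motive := fun _ => List ℕ) (Bool.rec (motive := fun _ => List ℕ) (rw4360) (rw4361) (Nat.ble 4361 i)) (Bool.rec (motive := fun _ => List ℕ) (rw4362) (rw4363) (Nat.ble 4363 i)) (Nat.ble 4362 i)) (Bool.rec (motive := fun _ => List ℕ) (Bool.rec (motive := fun _ => List ℕ) (rw4364) (rw4365) (Nat.ble 4365 i)) (Bool.rec (motive := fun _ => List ℕ) (rw4366) (rw4367) (Nat.ble 4367 i)) (Nat.ble 4366 i)) (Nat.ble 4364 i)) (Nat.ble 4360 i)) (Bool.rec (motive := fun _ => List ℕ) (Bool.rec (motive := fun _ => List ℕ) (Bool.rec (motive := fun _ => List ℕ) (Bool.rec (motive := fun _ => List ℕ) (rw4368) (rw4369) (Nat.ble 4369 i)) (Bool.rec (motive := fun _ => List ℕ) (rw4370) (rw4371) (Nat.ble 4371 i)) (Nat.ble 4370 i)) (Bool.rec (motive := fun _ => List ℕ) (Bool.rec (motive := fun _ => List ℕ) (rw4372) (rw4373) (Nat.ble 4373 i)) (Bool.rec (motive := fun _ => List ℕ) (rw4374) (rw4375) (Nat.ble 4375 i)) (Nat.ble 4374 i)) (Nat.ble 4372 i)) (Bool.rec (motive := fun _ => List ℕ) (Bool.rec (motive := fun _ => List ℕ) (Bool.rec (motive := fun _ => List ℕ) (rw4376) (rw4377) (Nat.ble 4377 i)) (Bool.rec (motive := fun _ => List ℕ) (rw4378) (rw4379) (Nat.ble 4379 i)) (Nat.ble 4378 i)) (Bool.rec (motive := fun _ => List ℕ) (Bool.rec (motive := fun _ => List ℕ) (rw4380) (rw4381) (Nat.ble 4381 i)) (Bool.rec (motive := fun _ => List ℕ) (rw4382) (rw4383) (Nat.ble 4383 i)) (Nat.ble 4382 i)) (Nat.ble 4380 i)) (Nat.ble 4376 i)) (Nat.ble 4368 i)) (Bool.rec (motive := fun _ => List ℕ) (Bool.rec (motive := fun _ => List ℕ) (Bool.rec (motive := fun _ => List ℕ) (Bool.rec (motive := fun _ => List ℕ) (Bool.rec (motive := fun _ => List ℕ) (rw4384) (rw4385) (Nat.ble 4385 i)) (Bool.rec (motive := fun _ => List ℕ) (rw4386) (rw4387) (Nat.ble 4387 i)) (Nat.ble 4386 i)) (Bool.rec (motive := fun _ => List ℕ) (Bool.rec (motive := fun _ => List ℕ) (rw4388) (rw4389) (Nat.ble 4389 i)) (Bool.rec (motive := fun _ => List ℕ) (rw4390) (rw4391) (Nat.ble 4391 i)) (Nat.ble 4390 i)) (Nat.ble 4388 i)) (Bool.rec (motive := fun _ => List ℕ) (Bool.rec (motive := fun _ => List ℕ) (Bool.rec (motive := fun _ => List ℕ) (rw4392) (rw4393) (Nat.ble 4393 i)) (Bool.rec (motive := fun _ => List ℕ) (rw4394) (rw4395) (Nat.ble 4395 i)) (Nat.ble 4394 i)) (Bool.rec (motive := fun _ => List ℕ) (Bool.rec (motive := fun _ => List ℕ) (rw4396) (rw4397) (Nat.ble 4397 i)) (Bool.rec (motive := fun _ => List ℕ) (rw4398) (rw4399) (Nat.ble 4399 i)) (Nat.ble 4398 i)) (Nat.ble 4396 i)) (Nat.ble 4392 i)) (Bool.rec (motive := fun _ => List ℕ) (Bool.rec (motive := fun _ => List ℕ) (Bool.rec (motive := fun _ => List ℕ) (Bool.rec (motive := fun _ => List ℕ) (rw4400) (rw4401) (Nat.ble 4401 i)) (Bool.rec (motive := fun _ => List ℕ) (rw4402) (rw4403) (Nat.ble 4403 i)) (Nat.ble 4402 i)) (Bool.rec (motive := fun _ => List ℕ) (Bool.rec (motive := fun _ => List ℕ) (rw4404) (rw4405) (Nat.ble 4405 i)) (Bool.rec (motive := fun _ => List ℕ) (rw4406) (rw4407) (Nat.ble 4407 i)) (Nat.ble 4406 i)) (Nat.ble 4404 i)) (Bool.rec (motive := fun _ => List ℕ) (Bool.rec (motive := fun _ => List ℕ) (Bool.rec (motive := fun _ => List ℕ) (rw4408) (rw4409) (Nat.ble 4409 i)) (Bool.rec (motive := fun _ => List ℕ) (rw4410) (rw4411) (Nat.ble 4411 i)) (Nat.ble 4410 i)) (Bool.rec (motive := fun _ => List ℕ) (Bool.rec (motive := fun _ => List ℕ) (rw4412) (rw4413) (Nat.ble 4413 i)) (Bool.rec (motive := fun _ => List ℕ) (rw4414) (rw4415) (Nat.ble 4415 i)) (Nat.ble 4414 i)) (Nat.ble 4412 i)) (Nat.ble 4408 i)) (Nat.ble 4400 i)) (Nat.ble 4384 i)) (Bool.rec (motive := fun _ => List ℕ) (Bool.rec (motive := fun _ => List ℕ) (Bool.rec (motive := fun _ => List ℕ) (Bool.rec (motive := fun _ => List ℕ) (Bool.rec (motive := fun _ => List ℕ) (Bool.rec (motive := fun _ => List ℕ) (rw4416) (rw4417) (Nat.ble 4417 i)) (Bool.rec (motive := fun _ => List ℕ) (rw4418) (rw4419) (Nat.ble 4419 i)) (Nat.ble 4418 i)) (Bool.rec (motive := fun _ => List ℕ) (Bool.rec (motive := fun _ => List ℕ) (rw4420) (rw4421) (Nat.ble 4421 i)) (Bool.rec (motive := fun _ => List ℕ) (rw4422) (rw4423) (Nat.ble 4423 i)) (Nat.ble 4422 i)) (Nat.ble 4420 i)) (Bool.rec (motive := fun _ => List ℕ) (Bool.rec (motive := fun _ => List ℕ) (Bool.rec (motive := fun _ => List ℕ) (rw4424) (rw4425) (Nat.ble 4425 i)) (Bool.rec (motive := fun _ => List ℕ) (rw4426) (rw4427) (Nat.ble 4427 i)) (Nat.ble 4426 i)) (Bool.rec (motive := fun _ => List ℕ) (Bool.rec (motive := fun _ => List ℕ) (rw4428) (rw4429) (Nat.ble 4429 i)) (Bool.rec (motive := fun _ => List ℕ) (rw4430) (rw4431) (Nat.ble 4431 i)) (Nat.ble 4430 i)) (Nat.ble 4428 i)) (Nat.ble 4424 i)) (Bool.rec (motive := fun _ => List ℕ) (Bool.rec (motive := fun _ => List ℕ) (Bool.rec (motive := fun _ => List ℕ) (Bool.rec (motive := fun _ => List ℕ) (rw4432) (rw4433) (Nat.ble 4433 i)) (Bool.rec (motive := fun _ => List ℕ) (rw4434) (rw4435) (Nat.ble 4435 i)) (Nat.ble 4434 i)) (Bool.rec (motive := fun _ => List ℕ) (Bool.rec (motive := fun _ => List ℕ) (rw4436) (rw4437) (Nat.ble 4437 i)) (Bool.rec (motive := fun _ => List ℕ) (rw4438) (rw4439) (Nat.ble 4439 i)) (Nat.ble 4438 i)) (Nat.ble 4436 i)) (Bool.rec (motive := fun _ => List ℕ) (Bool.rec (motive := fun _ => List ℕ) (Bool.rec (motive := fun _ => List ℕ) (rw4440) (rw4441) (Nat.ble 4441 i)) (Bool.rec (motive := fun _ => List ℕ) (rw4442) (rw4443) (Nat.ble 4443 i)) (Nat.ble 4442 i)) (Bool.rec (motive := fun _ => List ℕ) (Bool.rec (motive := fun _ => List ℕ) (rw4444) (rw4445) (Nat.ble 4445 i)) (Bool.rec (motive := fun _ => List ℕ) (rw4446) (rw4447) (Nat.ble 4447 i)) (Nat.ble 4446 i)) (Nat.ble 4444 i)) (Nat.ble 4440 i)) (Nat.ble 4432 i)) (Bool.rec (motive := fun _ => List ℕ) (Bool.rec (motive := fun _ => List ℕ) (Bool.rec (motive := fun _ => List ℕ) (Bool.rec (motive := fun _ => List ℕ) (Bool.rec (motive := fun _ => List ℕ) (rw4448) (rw4449) (Nat.ble 4449 i)) (Bool.rec (motive := fun _ => List ℕ) (rw4450) (rw4451) (Nat.ble 4451 i)) (Nat.ble 4450 i)) (Bool.rec (motive := fun _ => List ℕ) (Bool.rec (motive := fun _ => List ℕ) (rw4452) (rw4453) (Nat.ble 4453 i)) (Bool.rec (motive := fun _ => List ℕ) (rw4454) (rw4455) (Nat.ble 4455 i)) (Nat.ble 4454 i)) (Nat.ble 4452 i)) (Bool.rec (motive := fun _ => List ℕ) (Bool.rec (motive := fun _ => List ℕ) (Bool.rec (motive := fun _ => List ℕ) (rw4456) (rw4457) (Nat.ble 4457 i)) (Bool.rec (motive := fun _ => List ℕ) (rw4458) (rw4459) (Nat.ble 4459 i)) (Nat.ble 4458 i)) (Bool.rec (motive := fun _ => List ℕ) (Bool.rec (motive := fun _ => List ℕ) (rw4460) (rw4461) (Nat.ble 4461 i)) (Bool.rec (motive := fun _ => List ℕ) (rw4462) (rw4463) (Nat.ble 4463 i)) (Nat.ble 4462 i)) (Nat.ble 4460 i)) (Nat.ble 4456 i)) (Bool.rec (motive := fun _ => List ℕ) (Bool.rec (motive := fun _ => List ℕ) (Bool.rec (motive := fun _ => List ℕ) (Bool.rec (motive := fun _ => List ℕ) (rw4464) (rw4465) (Nat.ble 4465 i)) (Bool.rec (motive := fun _ => List ℕ) (rw4466) (rw4467) (Nat.ble 4467 i)) (Nat.ble 4466 i)) (Bool.rec (motive := fun _ => List ℕ) (Bool.rec (motive := fun _ => List ℕ) (rw4468) (rw4469) (Nat.ble 4469 i)) (Bool.rec (motive := fun _ => List ℕ) (rw4470) (rw4471) (Nat.ble 4471 i)) (Nat.ble 4470 i)) (Nat.ble 4468 i)) (Bool.rec (motive := fun _ => List ℕ) (Bool.rec (motive := fun _ => List ℕ) (Bool.rec (motive := fun _ => List ℕ) (rw4472) (rw4473) (Nat.ble 4473 i)) (Bool.rec (motive := fun _ => List ℕ) (rw4474) (rw4475) (Nat.ble 4475 i)) (Nat.ble 4474 i)) (Bool.rec (motive := fun _ => List ℕ) (Bool.rec (motive := fun _ => List ℕ) (rw4476) (rw4477) (Nat.ble 4477 i)) (Bool.rec (motive := fun _ => List ℕ) (rw4478) (rw4479) (Nat.ble 4479 i)) (Nat.ble 4478 i)) (Nat.ble 4476 i)) (Nat.ble 4472 i)) (Nat.ble 4464 i)) (Nat.ble 4448 i)) (Nat.ble 4416 i)) (Bool.rec (motive := fun _ => List ℕ) (Bool.rec (motive := fun _ => List ℕ) (Bool.rec (motive := fun _ => List ℕ) (Bool.rec (motive := fun _ => List ℕ) (Bool.rec (motive := fun _ => List ℕ) (Bool.rec (motive := fun _ => List ℕ) (Bool.rec (motive := fun _ => List ℕ) (rw4480) (rw4481) (Nat.ble 4481 i)) (Bool.rec (motive := fun _ => List ℕ) (rw4482) (rw4483) (Nat.ble 4483 i)) (Nat.ble 4482 i)) (Bool.rec (motive := fun _ => List ℕ) (Bool.rec (motive := fun _ => List ℕ) (rw4484) (rw4485) (Nat.ble 4485 i)) (Bool.rec (motive := fun _ => List ℕ) (rw4486) (rw4487) (Nat.ble 4487 i)) (Nat.ble 4486 i)) (Nat.ble 4484 i)) (Bool.rec (motive := fun _ => List ℕ) (Bool.rec (motive := fun _ => List ℕ) (Bool.rec (motive := fun _ => List ℕ) (rw4488) (rw4489) (Nat.ble 4489 i)) (Bool.rec (motive := fun _ => List ℕ) (rw4490) (rw4491) (Nat.ble 4491 i)) (Nat.ble 4490 i)) (Bool.rec (motive := fun _ => List ℕ) (Bool.rec (motive := fun _ => List ℕ) (rw4492) (rw4493) (Nat.ble 4493 i)) (Bool.rec (motive := fun _ => List ℕ) (rw4494) (rw4495) (Nat.ble 4495 i)) (Nat.ble 4494 i)) (Nat.ble 4492 i)) (Nat.ble 4488 i)) (Bool.rec (motive := fun _ => List ℕ) (Bool.rec (motive := fun _ => List ℕ) (Bool.rec (motive := fun _ => List ℕ) (Bool.rec (motive := fun _ => List ℕ) (rw4496) (rw4497) (Nat.ble 4497 i)) (Bool.rec (motive := fun _ => List ℕ) (rw4498) (rw4499) (Nat.ble 4499 i)) (Nat.ble 4498 i)) (Bool.rec (motive := fun _ => List ℕ) (Bool.rec (motive := fun _ => List ℕ) (rw4500) (rw4501) (Nat.ble 4501 i)) (Bool.rec (motive := fun _ => List ℕ) (rw4502) (rw4503) (Nat.ble 4503 i)) (Nat.ble 4502 i)) (Nat.ble 4500 i)) (Bool.rec (motive := fun _ => List ℕ) (Bool.rec (motive := fun _ => List ℕ) (Bool.rec (motive := fun _ => List ℕ) (rw4504) (rw4505) (Nat.ble 4505 i)) (Bool.rec (motive := fun _ => List ℕ) (rw4506) (rw4507) (Nat.ble 4507 i)) (Nat.ble 4506 i)) (Bool.rec (motive := fun _ => List ℕ) (Bool.rec (motive := fun _ => List ℕ) (rw4508) (rw4509) (Nat.ble 4509 i)) (Bool.rec (motive := fun _ => List ℕ) (rw4510) (rw4511) (Nat.ble 4511 i)) (Nat.ble 4510 i)) (Nat.ble 4508 i)) (Nat.ble 4504 i)) (Nat.ble 4496 i)) (Bool.rec (motive := fun _ => List ℕ) (Bool.rec (motive := fun _ => List ℕ) (Bool.rec (motive := fun _ => List ℕ) (Bool.rec (motive := fun _ => List ℕ) (Bool.rec (motive := fun _ => List ℕ) (rw4512) (rw4513) (Nat.ble 4513 i)) (Bool.rec (motive := fun _ => List ℕ) (rw4514) (rw4515) (Nat.ble 4515 i)) (Nat.ble 4514 i)) (Bool.rec (motive := fun _ => List ℕ) (Bool.rec (motive := fun _ => List ℕ) (rw4516) (rw4517) (Nat.ble 4517 i)) (Bool.rec (motive := fun _ => List ℕ) (rw4518) (rw4519) (Nat.ble 4519 i)) (Nat.ble 4518 i)) (Nat.ble 4516 i)) (Bool.rec (motive := fun _ => List ℕ) (Bool.rec (motive := fun _ => List ℕ) (Bool.rec (motive := fun _ => List ℕ) (rw4520) (rw4521) (Nat.ble 4521 i)) (Bool.rec (motive := fun _ => List ℕ) (rw4522) (rw4523) (Nat.ble 4523 i)) (Nat.ble 4522 i)) (Bool.rec (motive := fun _ => List ℕ) (Bool.rec (motive := fun _ => List ℕ) (rw4524) (rw4525) (Nat.ble 4525 i)) (Bool.rec (motive := fun _ => List ℕ) (rw4526) (rw4527) (Nat.ble 4527 i)) (Nat.ble 4526 i)) (Nat.ble 4524 i)) (Nat.ble 4520 i)) (Bool.rec (motive := fun _ => List ℕ) (Bool.rec (motive := fun _ => List ℕ) (Bool.rec (motive := fun _ => List ℕ) (Bool.rec (motive := fun _ => List ℕ) (rw4528) (rw4529) (Nat.ble 4529 i)) (Bool.rec (motive := fun _ => List ℕ) (rw4530) (rw4531) (Nat.ble 4531 i)) (Nat.ble 4530 i)) (Bool.rec (motive := fun _ => List ℕ) (Bool.rec (motive := fun _ => List ℕ) (rw4532) (rw4533) (Nat.ble 4533 i)) (Bool.rec (motive := fun _ => List ℕ) (rw4534) (rw4535) (Nat.ble 4535 i)) (Nat.ble 4534 i)) (Nat.ble 4532 i)) (Bool.rec (motive := fun _ => List ℕ) (Bool.rec (motive := fun _ => List ℕ) (Bool.rec (motive := fun _ => List ℕ) (rw4536) (rw4537) (Nat.ble 4537 i)) (Bool.rec (motive := fun _ => List ℕ) (rw4538) (rw4539) (Nat.ble 4539 i)) (Nat.ble 4538 i)) (Bool.rec (motive := fun _ => List ℕ) (Bool.rec (motive := fun _ => List ℕ) (rw4540) (rw4541) (Nat.ble 4541 i)) (Bool.rec (motive := fun _ => List ℕ) (rw4542) (rw4543) (Nat.ble 4543 i)) (Nat.ble 4542 i)) (Nat.ble 4540 i)) (Nat.ble 4536 i)) (Nat.ble 4528 i)) (Nat.ble 4512 i)) (Bool.rec (motive := fun _ => List ℕ) (Bool.rec (motive := fun _ => List ℕ) (Bool.rec (motive := fun _ => List ℕ) (Bool.rec (motive := fun _ => List ℕ) (Bool.rec (motive := fun _ => List ℕ) (Bool.rec (motive := fun _ => List ℕ) (rw4544) (rw4545) (Nat.ble 4545 i)) (Bool.rec (motive := fun _ => List ℕ) (rw4546) (rw4547) (Nat.ble 4547 i)) (Nat.ble 4546 i)) (Bool.rec (motive := fun _ => List ℕ) (Bool.rec (motive := fun _ => List ℕ) (rw4548) (rw4549) (Nat.ble 4549 i)) (Bool.rec (motive := fun _ => List ℕ) (rw4550) (rw4551) (Nat.ble 4551 i)) (Nat.ble 4550 i)) (Nat.ble 4548 i)) (Bool.rec (motive := fun _ => List ℕ) (Bool.rec (motive := fun _ => List ℕ) (Bool.rec (motive := fun _ => List ℕ) (rw4552) (rw4553) (Nat.ble 4553 i)) (Bool.rec (motive := fun _ => List ℕ) (rw4554) (rw4555) (Nat.ble 4555 i)) (Nat.ble 4554 i)) (Bool.rec (motive := fun _ => List ℕ) (Bool.rec (motive := fun _ => List ℕ) (rw4556) (rw4557) (Nat.ble 4557 i)) (Bool.rec (motive := fun _ => List ℕ) (rw4558) (rw4559) (Nat.ble 4559 i)) (Nat.ble 4558 i)) (Nat.ble 4556 i)) (Nat.ble 4552 i)) (Bool.rec (motive := fun _ => List ℕ) (Bool.rec (motive := fun _ => List ℕ) (Bool.rec (motive := fun _ => List ℕ) (Bool.rec (motive := fun _ => List ℕ) (rw4560) (rw4561) (Nat.ble 4561 i)) (Bool.rec (motive := fun _ => List ℕ) (rw4562) (rw4563) (Nat.ble 4563 i)) (Nat.ble 4562 i)) (Bool.rec (motive := fun _ => List ℕ) (Bool.rec (motive := fun _ => List ℕ) (rw4564) (rw4565) (Nat.ble 4565 i)) (Bool.rec (motive := fun _ => List ℕ) (rw4566) (rw4567) (Nat.ble 4567 i)) (Nat.ble 4566 i)) (Nat.ble 4564 i)) (Bool.rec (motive := fun _ => List ℕ) (Bool.rec (motive := fun _ => List ℕ) (Bool.rec (motive := fun _ => List ℕ) (rw4568) (rw4569) (Nat.ble 4569 i)) (Bool.rec (motive := fun _ => List ℕ) (rw4570) (rw4571) (Nat.ble 4571 i)) (Nat.ble 4570 i)) (Bool.rec (motive := fun _ => List ℕ) (Bool.rec (motive := fun _ => List ℕ) (rw4572) (rw4573) (Nat.ble 4573 i)) (Bool.rec (motive := fun _ => List ℕ) (rw4574) (rw4575) (Nat.ble 4575 i)) (Nat.ble 4574 i)) (Nat.ble 4572 i)) (Nat.ble 4568 i)) (Nat.ble 4560 i)) (Bool.rec (motive := fun _ => List ℕ) (Bool.rec (motive := fun _ => List ℕ) (Bool.rec (motive := fun _ => List ℕ) (Bool.rec (motive := fun _ => List ℕ) (Bool.rec (motive := fun _ => List ℕ) (rw4576) (rw4577) (Nat.ble 4577 i)) (Bool.rec (motive := fun _ => List ℕ) (rw4578) (rw4579) (Nat.ble 4579 i)) (Nat.ble 4578 i)) (Bool.rec (motive := fun _ => List ℕ) (Bool.rec (motive := fun _ => List ℕ) (rw4580) (rw4581) (Nat.ble 4581 i)) (Bool.rec (motive := fun _ => List ℕ) (rw4582) (rw4583) (Nat.ble 4583 i)) (Nat.ble 4582 i)) (Nat.ble 4580 i)) (Bool.rec (motive := fun _ => List ℕ) (Bool.rec (motive := fun _ => List ℕ) (Bool.rec (motive := fun _ => List ℕ) (rw4584) (rw4585) (Nat.ble 4585 i)) (Bool.rec (motive := fun _ => List ℕ) (rw4586) (rw4587) (Nat.ble 4587 i)) (Nat.ble 4586 i)) (Bool.rec (motive := fun _ => List ℕ) (Bool.rec (motive := fun _ => List ℕ) (rw4588) (rw4589) (Nat.ble 4589 i)) (Bool.rec (motive := fun _ => List ℕ) (rw4590) (rw4591) (Nat.ble 4591 i)) (Nat.ble 4590 i)) (Nat.ble 4588 i)) (Nat.ble 4584 i)) (Bool.rec (motive := fun _ => List ℕ) (Bool.rec (motive := fun _ => List ℕ) (Bool.rec (motive := fun _ => List ℕ) (Bool.rec (motive := fun _ => List ℕ) (rw4592) (rw4593) (Nat.ble 4593 i)) (Bool.rec (motive := fun _ => List ℕ) (rw4594) (rw4595) (Nat.ble 4595 i)) (Nat.ble 4594 i)) (Bool.rec (motive := fun _ => List ℕ) (Bool.rec (motive := fun _ => List ℕ) (rw4596) (rw4597) (Nat.ble 4597 i)) (Bool.rec (motive := fun _ => List ℕ) (rw4598) (rw4599) (Nat.ble 4599 i)) (Nat.ble 4598 i)) (Nat.ble 4596 i)) (Bool.rec (motive := fun _ => List ℕ) (Bool.rec (motive := fun _ => List ℕ) (Bool.rec (motive := fun _ => List ℕ) (rw4600) (rw4601) (Nat.ble 4601 i)) (Bool.rec (motive := fun _ => List ℕ) (rw4602) (rw4603) (Nat.ble 4603 i)) (Nat.ble 4602 i)) (Bool.rec (motive := fun _ => List ℕ) (Bool.rec (motive := fun _ => List ℕ) (rw4604) (rw4605) (Nat.ble 4605 i)) (Bool.rec (motive := fun _ => List ℕ) (rw4606) (rw4607) (Nat.ble 4607 i)) (Nat.ble 4606 i)) (Nat.ble 4604 i)) (Nat.ble 4600 i)) (Nat.ble 4592 i)) (Nat.ble 4576 i)) (Nat.ble 4544 i)) (Nat.ble 4480 i)) (Nat.ble 4352 i)) (Bool.rec (motive := fun _ => List ℕ) (Bool.rec (motive := fun _ => List ℕ) (Bool.rec (motive := fun _ => List ℕ) (Bool.rec (motive := fun _ => List ℕ) (Bool.rec (motive := fun _ => List ℕ) (Bool.rec (motive := fun _ => List ℕ) (Bool.rec (motive := fun _ => List ℕ) (Bool.rec (motive := fun _ => List ℕ) (Bool.rec (motive := fun _ => List ℕ) (rw4608) (rw4609) (Nat.ble 4609 i)) (Bool.rec (motive := fun _ => List ℕ) (rw4610) (rw4611) (Nat.ble 4611 i)) (Nat.ble 4610 i)) (Bool.rec (motive := fun _ => List ℕ) (Bool.rec (motive := fun _ => List ℕ) (rw4612) (rw4613) (Nat.ble 4613 i)) (Bool.rec (motive := fun _ => List ℕ) (rw4614) (rw4615) (Nat.ble 4615 i)) (Nat.ble 4614 i)) (Nat.ble 4612 i)) (Bool.rec (motive := fun _ => List ℕ) (Bool.rec (motive := fun _ => List ℕ) (Bool.rec (motive := fun _ => List ℕ) (rw4616) (rw4617) (Nat.ble 4617 i)) (Bool.rec (motive := fun _ => List ℕ) (rw4618) (rw4619) (Nat.ble 4619 i)) (Nat.ble 4618 i)) (Bool.rec (motive := fun _ => List ℕ) (Bool.rec (motive := fun _ => List ℕ) (rw4620) (rw4621) (Nat.ble 4621 i)) (Bool.rec (motive := fun _ => List ℕ) (rw4622) (rw4623) (Nat.ble 4623 i)) (Nat.ble 4622 i)) (Nat.ble 4620 i)) (Nat.ble 4616 i)) (Bool.rec (motive := fun _ => List ℕ) (Bool.rec (motive := fun _ => List ℕ) (Bool.rec (motive := fun _ => List ℕ) (Bool.rec (motive := fun _ => List ℕ) (rw4624) (rw4625) (Nat.ble 4625 i)) (Bool.rec (motive := fun _ => List ℕ) (rw4626) (rw4627) (Nat.ble 4627 i)) (Nat.ble 4626 i)) (Bool.rec (motive := fun _ => List ℕ) (Bool.rec (motive := fun _ => List ℕ) (rw4628) (rw4629) (Nat.ble 4629 i)) (Bool.rec (motive := fun _ => List ℕ) (rw4630) (rw4631) (Nat.ble 4631 i)) (Nat.ble 4630 i)) (Nat.ble 4628 i)) (Bool.rec (motive := fun _ => List ℕ) (Bool.rec (motive := fun _ => List ℕ) (Bool.rec (motive := fun _ => List ℕ) (rw4632) (rw4633) (Nat.ble 4633 i)) (Bool.rec (motive := fun _ => List ℕ) (rw4634) (rw4635) (Nat.ble 4635 i)) (Nat.ble 4634 i)) (Bool.rec (motive := fun _ => List ℕ) (Bool.rec (motive := fun _ => List ℕ) (rw4636) (rw4637) (Nat.ble 4637 i)) (Bool.rec (motive := fun _ => List ℕ) (rw4638) (rw4639) (Nat.ble 4639 i)) (Nat.ble 4638 i)) (Nat.ble 4636 i)) (Nat.ble 4632 i)) (Nat.ble 4624 i)) (Bool.rec (motive := fun _ => List ℕ) (Bool.rec (motive := fun _ => List ℕ) (Bool.rec (motive := fun _ => List ℕ) (Bool.rec (motive := fun _ => List ℕ) (Bool.rec (motive := fun _ => List ℕ) (rw4640) (rw4641) (Nat.ble 4641 i)) (Bool.rec (motive := fun _ => List ℕ) (rw4642) (rw4643) (Nat.ble 4643 i)) (Nat.ble 4642 i)) (Bool.rec (motive := fun _ => List ℕ) (Bool.rec (motive := fun _ => List ℕ) (rw4644) (rw4645) (Nat.ble 4645 i)) (Bool.rec (motive := fun _ => List ℕ) (rw4646) (rw4647) (Nat.ble 4647 i)) (Nat.ble 4646 i)) (Nat.ble 4644 i)) (Bool.rec (motive := fun _ => List ℕ) (Bool.rec (motive := fun _ => List ℕ) (Bool.rec (motive := fun _ => List ℕ) (rw4648) (rw4649) (Nat.ble 4649 i)) (Bool.rec (motive := fun _ => List ℕ) (rw4650) (rw4651) (Nat.ble 4651 i)) (Nat.ble 4650 i)) (Bool.rec (motive := fun _ => List ℕ) (Bool.rec (motive := fun _ => List ℕ) (rw4652) (rw4653) (Nat.ble 4653 i)) (Bool.rec (motive := fun _ => List ℕ) (rw4654) (rw4655) (Nat.ble 4655 i)) (Nat.ble 4654 i)) (Nat.ble 4652 i)) (Nat.ble 4648 i)) (Bool.rec (motive := fun _ => List ℕ) (Bool.rec (motive := fun _ => List ℕ) (Bool.rec (motive := fun _ => List ℕ) (Bool.rec (motive := fun _ => List ℕ) (rw4656) (rw4657) (Nat.ble 4657 i)) (Bool.rec (motive := fun _ => List ℕ) (rw4658) (rw4659) (Nat.ble 4659 i)) (Nat.ble 4658 i)) (Bool.rec (motive := fun _ => List ℕ) (Bool.rec (motive := fun _ => List ℕ) (rw4660) (rw4661) (Nat.ble 4661 i)) (Bool.rec (motive := fun _ => List ℕ) (rw4662) (rw4663) (Nat.ble 4663 i)) (Nat.ble 4662 i)) (Nat.ble 4660 i)) (Bool.rec (motive := fun _ => List ℕ) (Bool.rec (motive := fun _ => List ℕ) (Bool.rec (motive := fun _ => List ℕ) (rw4664) (rw4665) (Nat.ble 4665 i)) (Bool.rec (motive := fun _ => List ℕ) (rw4666) (rw4667) (Nat.ble 4667 i)) (Nat.ble 4666 i)) (Bool.rec (motive := fun _ => List ℕ) (Bool.rec (motive := fun _ => List ℕ) (rw4668) (rw4669) (Nat.ble 4669 i)) (Bool.rec (motive := fun _ => List ℕ) (rw4670) (rw4671) (Nat.ble 4671 i)) (Nat.ble 4670 i)) (Nat.ble 4668 i)) (Nat.ble 4664 i)) (Nat.ble 4656 i)) (Nat.ble 4640 i)) (Bool.rec (motive := fun _ => List ℕ) (Bool.rec (motive := fun _ => List ℕ) (Bool.rec (motive := fun _ => List ℕ) (Bool.rec (motive := fun _ => List ℕ) (Bool.rec (motive := fun _ => List ℕ) (Bool.rec (motive := fun _ => List ℕ) (rw4672) (rw4673) (Nat.ble 4673 i)) (Bool.rec (motive := fun _ => List ℕ) (rw4674) (rw4675) (Nat.ble 4675 i)) (Nat.ble 4674 i)) (Bool.rec (motive := fun _ => List ℕ) (Bool.rec (motive := fun _ => List ℕ) (rw4676) (rw4677) (Nat.ble 4677 i)) (Bool.rec (motive := fun _ => List ℕ) (rw4678) (rw4679) (Nat.ble 4679 i)) (Nat.ble 4678 i)) (Nat.ble 4676 i)) (Bool.rec (motive := fun _ => List ℕ) (Bool.rec (motive := fun _ => List ℕ) (Bool.rec (motive := fun _ => List ℕ) (rw4680) (rw4681) (Nat.ble 4681 i)) (Bool.rec (motive := fun _ => List ℕ) (rw4682) (rw4683) (Nat.ble 4683 i)) (Nat.ble 4682 i)) (Bool.rec (motive := fun _ => List ℕ) (Bool.rec (motive := fun _ => List ℕ) (rw4684) (rw4685) (Nat.ble 4685 i)) (Bool.rec (motive := fun _ => List ℕ) (rw4686) (rw4687) (Nat.ble 4687 i)) (Nat.ble 4686 i)) (Nat.ble 4684 i)) (Nat.ble 4680 i)) (Bool.rec (motive := fun _ => List ℕ) (Bool.rec (motive := fun _ => List ℕ) (Bool.rec (motive := fun _ => List ℕ) (Bool.rec (motive := fun _ => List ℕ) (rw4688) (rw4689) (Nat.ble 4689 i)) (Bool.rec (motive := fun _ => List ℕ) (rw4690) (rw4691) (Nat.ble 4691 i)) (Nat.ble 4690 i)) (Bool.rec (motive := fun _ => List ℕ) (Bool.rec (motive := fun _ => List ℕ) (rw4692) (rw4693) (Nat.ble 4693 i)) (Bool.rec (motive := fun _ => List ℕ) (rw4694) (rw4695) (Nat.ble 4695 i)) (Nat.ble 4694 i)) (Nat.ble 4692 i)) (Bool.rec (motive := fun _ => List ℕ) (Bool.rec (motive := fun _ => List ℕ) (Bool.rec (motive := fun _ => List ℕ) (rw4696) (rw4697) (Nat.ble 4697 i)) (Bool.rec (motive := fun _ => List ℕ) (rw4698) (rw4699) (Nat.ble 4699 i)) (Nat.ble 4698 i)) (Bool.rec (motive := fun _ => List ℕ) (Bool.rec (motive := fun _ => List ℕ) (rw4700) (rw4701) (Nat.ble 4701 i)) (Bool.rec (motive := fun _ => List ℕ) (rw4702) (rw4703) (Nat.ble 4703 i)) (Nat.ble 4702 i)) (Nat.ble 4700 i)) (Nat.ble 4696 i)) (Nat.ble 4688 i)) (Bool.rec (motive := fun _ => List ℕ) (Bool.rec (motive := fun _ => List ℕ) (Bool.rec (motive := fun _ => List ℕ) (Bool.rec (motive := fun _ => List ℕ) (Bool.rec (motive := fun _ => List ℕ) (rw4704) (rw4705) (Nat.ble 4705 i)) (Bool.rec (motive := fun _ => List ℕ) (rw4706) (rw4707) (Nat.ble 4707 i)) (Nat.ble 4706 i)) (Bool.rec (motive := fun _ => List ℕ) (Bool.rec (motive := fun _ => List ℕ) (rw4708) (rw4709) (Nat.ble 4709 i)) (Bool.rec (motive := fun _ => List ℕ) (rw4710) (rw4711) (Nat.ble 4711 i)) (Nat.ble 4710 i)) (Nat.ble 4708 i)) (Bool.rec (motive := fun _ => List ℕ) (Bool.rec (motive := fun _ => List ℕ) (Bool.rec (motive := fun _ => List ℕ) (rw4712) (rw4713) (Nat.ble 4713 i)) (Bool.rec (motive := fun _ => List ℕ) (rw4714) (rw4715) (Nat.ble 4715 i)) (Nat.ble 4714 i)) (Bool.rec (motive := fun _ => List ℕ) (Bool.rec (motive := fun _ => List ℕ) (rw4716) (rw4717) (Nat.ble 4717 i)) (Bool.rec (motive := fun _ => List ℕ) (rw4718) (rw4719) (Nat.ble 4719 i)) (Nat.ble 4718 i)) (Nat.ble 4716 i)) (Nat.ble 4712 i)) (Bool.rec (motive := fun _ => List ℕ) (Bool.rec (motive := fun _ => List ℕ) (Bool.rec (motive := fun _ => List ℕ) (Bool.rec (motive := fun _ => List ℕ) (rw4720) (rw4721) (Nat.ble 4721 i)) (Bool.rec (motive := fun _ => List ℕ) (rw4722) (rw4723) (Nat.ble 4723 i)) (Nat.ble 4722 i)) (Bool.rec (motive := fun _ => List ℕ) (Bool.rec (motive := fun _ => List ℕ) (rw4724) (rw4725) (Nat.ble 4725 i)) (Bool.rec (motive := fun _ => List ℕ) (rw4726) (rw4727) (Nat.ble 4727 i)) (Nat.ble 4726 i)) (Nat.ble 4724 i)) (Bool.rec (motive := fun _ => List ℕ) (Bool.rec (motive := fun _ => List ℕ) (Bool.rec (motive := fun _ => List ℕ) (rw4728) (rw4729) (Nat.ble 4729 i)) (Bool.rec (motive := fun _ => List ℕ) (rw4730) (rw4731) (Nat.ble 4731 i)) (Nat.ble 4730 i)) (Bool.rec (motive := fun _ => List ℕ) (Bool.rec (motive := fun _ => List ℕ) (rw4732) (rw4733) (Nat.ble 4733 i)) (Bool.rec (motive := fun _ => List ℕ) (rw4734) (rw4735) (Nat.ble 4735 i)) (Nat.ble 4734 i)) (Nat.ble 4732 i)) (Nat.ble 4728 i)) (Nat.ble 4720 i)) (Nat.ble 4704 i)) (Nat.ble 4672 i)) (Bool.rec (motive := fun _ => List ℕ) (Bool.rec (motive := fun _ => List ℕ) (Bool.rec (motive := fun _ => List ℕ) (Bool.rec (motive := fun _ => List ℕ) (Bool.rec (motive := fun _ => List ℕ) (Bool.rec (motive := fun _ => List ℕ) (Bool.rec (motive := fun _ => List ℕ) (rw4736) (rw4737) (Nat.ble 4737 i)) (Bool.rec (motive := fun _ => List ℕ) (rw4738) (rw4739) (Nat.ble 4739 i)) (Nat.ble 4738 i)) (Bool.rec (motive := fun _ => List ℕ) (Bool.rec (motive := fun _ => List ℕ) (rw4740) (rw4741) (Nat.ble 4741 i)) (Bool.rec (motive := fun _ => List ℕ) (rw4742) (rw4743) (Nat.ble 4743 i)) (Nat.ble 4742 i)) (Nat.ble 4740 i)) (Bool.rec (motive := fun _ => List ℕ) (Bool.rec (motive := fun _ => List ℕ) (Bool.rec (motive := fun _ => List ℕ) (rw4744) (rw4745) (Nat.ble 4745 i)) (Bool.rec (motive := fun _ => List ℕ) (rw4746) (rw4747) (Nat.ble 4747 i)) (Nat.ble 4746 i)) (Bool.rec (motive := fun _ => List ℕ) (Bool.rec (motive := fun _ => List ℕ) (rw4748) (rw4749) (Nat.ble 4749 i)) (Bool.rec (motive := fun _ => List ℕ) (rw4750) (rw4751) (Nat.ble 4751 i)) (Nat.ble 4750 i)) (Nat.ble 4748 i)) (Nat.ble 4744 i)) (Bool.rec (motive := fun _ => List ℕ) (Bool.rec (motive := fun _ => List ℕ) (Bool.rec (motive := fun _ => List ℕ) (Bool.rec (motive := fun _ => List ℕ) (rw4752) (rw4753) (Nat.ble 4753 i)) (Bool.rec (motive := fun _ => List ℕ) (rw4754) (rw4755) (Nat.ble 4755 i)) (Nat.ble 4754 i)) (Bool.rec (motive := fun _ => List ℕ) (Bool.rec (motive := fun _ => List ℕ) (rw4756) (rw4757) (Nat.ble 4757 i)) (Bool.rec (motive := fun _ => List ℕ) (rw4758) (rw4759) (Nat.ble 4759 i)) (Nat.ble 4758 i)) (Nat.ble 4756 i)) (Bool.rec (motive := fun _ => List ℕ) (Bool.rec (motive := fun _ => List ℕ) (Bool.rec (motive := fun _ => List ℕ) (rw4760) (rw4761) (Nat.ble 4761 i)) (Bool.rec (motive := fun _ => List ℕ) (rw4762) (rw4763) (Nat.ble 4763 i)) (Nat.ble 4762 i)) (Bool.rec (motive := fun _ => List ℕ) (Bool.rec (motive := fun _ => List ℕ) (rw4764) (rw4765) (Nat.ble 4765 i)) (Bool.rec (motive := fun _ => List ℕ) (rw4766) (rw4767) (Nat.ble 4767 i)) (Nat.ble 4766 i)) (Nat.ble 4764 i)) (Nat.ble 4760 i)) (Nat.ble 4752 i)) (Bool.rec (motive := fun _ => List ℕ) (Bool.rec (motive := fun _ => List ℕ) (Bool.rec (motive := fun _ => List ℕ) (Bool.rec (motive := fun _ => List ℕ) (Bool.rec (motive := fun _ => List ℕ) (rw4768) (rw4769) (Nat.ble 4769 i)) (Bool.rec (motive := fun _ => List ℕ) (rw4770) (rw4771) (Nat.ble 4771 i)) (Nat.ble 4770 i)) (Bool.rec (motive := fun _ => List ℕ) (Bool.rec (motive := fun _ => List ℕ) (rw4772) (rw4773) (Nat.ble 4773 i)) (Bool.rec (motive := fun _ => List ℕ) (rw4774) (rw4775) (Nat.ble 4775 i)) (Nat.ble 4774 i)) (Nat.ble 4772 i)) (Bool.rec (motive := fun _ => List ℕ) (Bool.rec (motive := fun _ => List ℕ) (Bool.rec (motive := fun _ => List ℕ) (rw4776) (rw4777) (Nat.ble 4777 i)) (Bool.rec (motive := fun _ => List ℕ) (rw4778) (rw4779) (Nat.ble 4779 i)) (Nat.ble 4778 i)) (Bool.rec (motive := fun _ => List ℕ) (Bool.rec (motive := fun _ => List ℕ) (rw4780) (rw4781) (Nat.ble 4781 i)) (Bool.rec (motive := fun _ => List ℕ) (rw4782) (rw4783) (Nat.ble 4783 i)) (Nat.ble 4782 i)) (Nat.ble 4780 i)) (Nat.ble 4776 i)) (Bool.rec (motive := fun _ => List ℕ) (Bool.rec (motive := fun _ => List ℕ) (Bool.rec (motive := fun _ => List ℕ) (Bool.rec (motive := fun _ => List ℕ) (rw4784) (rw4785) (Nat.ble 4785 i)) (Bool.rec (motive := fun _ => List ℕ) (rw4786) (rw4787) (Nat.ble 4787 i)) (Nat.ble 4786 i)) (Bool.rec (motive := fun _ => List ℕ) (Bool.rec (motive := fun _ => List ℕ) (rw4788) (rw4789) (Nat.ble 4789 i)) (Bool.rec (motive := fun _ => List ℕ) (rw4790) (rw4791) (Nat.ble 4791 i)) (Nat.ble 4790 i)) (Nat.ble 4788 i)) (Bool.rec (motive := fun _ => List ℕ) (Bool.rec (motive := fun _ => List ℕ) (Bool.rec (motive := fun _ => List ℕ) (rw4792) (rw4793) (Nat.ble 4793 i)) (Bool.rec (motive := fun _ => List ℕ) (rw4794) (rw4795) (Nat.ble 4795 i)) (Nat.ble 4794 i)) (Bool.rec (motive := fun _ => List ℕ) (Bool.rec (motive := fun _ => List ℕ) (rw4796) (rw4797) (Nat.ble 4797 i)) (Bool.rec (motive := fun _ => List ℕ) (rw4798) (rw4799) (Nat.ble 4799 i)) (Nat.ble 4798 i)) (Nat.ble 4796 i)) (Nat.ble 4792 i)) (Nat.ble 4784 i)) (Nat.ble 4768 i)) (Bool.rec (motive := fun _ => List ℕ) (Bool.rec (motive := fun _ => List ℕ) (Bool.rec (motive := fun _ => List ℕ) (Bool.rec (motive := fun _ => List ℕ) (Bool.rec (motive := fun _ => List ℕ) (Bool.rec (motive := fun _ => List ℕ) (rw4800) (rw4801) (Nat.ble 4801 i)) (Bool.rec (motive := fun _ => List ℕ) (rw4802) (rw4803) (Nat.ble 4803 i)) (Nat.ble 4802 i)) (Bool.rec (motive := fun _ => List ℕ) (Bool.rec (motive := fun _ => List ℕ) (rw4804) (rw4805) (Nat.ble 4805 i)) (Bool.rec (motive := fun _ => List ℕ) (rw4806) (rw4807) (Nat.ble 4807 i)) (Nat.ble 4806 i)) (Nat.ble 4804 i)) (Bool.rec (motive := fun _ => List ℕ) (Bool.rec (motive := fun _ => List ℕ) (Bool.rec (motive := fun _ => List ℕ) (rw4808) (rw4809) (Nat.ble 4809 i)) (Bool.rec (motive := fun _ => List ℕ) (rw4810) (rw4811) (Nat.ble 4811 i)) (Nat.ble 4810 i)) (Bool.rec (motive := fun _ => List ℕ) (Bool.rec (motive := fun _ => List ℕ) (rw4812) (rw4813) (Nat.ble 4813 i)) (Bool.rec (motive := fun _ => List ℕ) (rw4814) (rw4815) (Nat.ble 4815 i)) (Nat.ble 4814 i)) (Nat.ble 4812 i)) (Nat.ble 4808 i)) (Bool.rec (motive := fun _ => List ℕ) (Bool.rec (motive := fun _ => List ℕ) (Bool.rec (motive := fun _ => List ℕ) (Bool.rec (motive := fun _ => List ℕ) (rw4816) (rw4817) (Nat.ble 4817 i)) (Bool.rec (motive := fun _ => List ℕ) (rw4818) (rw4819) (Nat.ble 4819 i)) (Nat.ble 4818 i)) (Bool.rec (motive := fun _ => List ℕ) (Bool.rec (motive := fun _ => List ℕ) (rw4820) (rw4821) (Nat.ble 4821 i)) (Bool.rec (motive := fun _ => List ℕ) (rw4822) (rw4823) (Nat.ble 4823 i)) (Nat.ble 4822 i)) (Nat.ble 4820 i)) (Bool.rec (motive := fun _ => List ℕ) (Bool.rec (motive := fun _ => List ℕ) (Bool.rec (motive := fun _ => List ℕ) (rw4824) (rw4825) (Nat.ble 4825 i)) (Bool.rec (motive := fun _ => List ℕ) (rw4826) (rw4827) (Nat.ble 4827 i)) (Nat.ble 4826 i)) (Bool.rec (motive := fun _ => List ℕ) (Bool.rec (motive := fun _ => List ℕ) (rw4828) (rw4829) (Nat.ble 4829 i)) (Bool.rec (motive := fun _ => List ℕ) (rw4830) (rw4831) (Nat.ble 4831 i)) (Nat.ble 4830 i)) (Nat.ble 4828 i)) (Nat.ble 4824 i)) (Nat.ble 4816 i)) (Bool.rec (motive := fun _ => List ℕ) (Bool.rec (motive := fun _ => List ℕ) (Bool.rec (motive := fun _ => List ℕ) (Bool.rec (motive := fun _ => List ℕ) (Bool.rec (motive := fun _ => List ℕ) (rw4832) (rw4833) (Nat.ble 4833 i)) (Bool.rec (motive := fun _ => List ℕ) (rw4834) (rw4835) (Nat.ble 4835 i)) (Nat.ble 4834 i)) (Bool.rec (motive := fun _ => List ℕ) (Bool.rec (motive := fun _ => List ℕ) (rw4836) (rw4837) (Nat.ble 4837 i)) (Bool.rec (motive := fun _ => List ℕ) (rw4838) (rw4839) (Nat.ble 4839 i)) (Nat.ble 4838 i)) (Nat.ble 4836 i)) (Bool.rec (motive := fun _ => List ℕ) (Bool.rec (motive := fun _ => List ℕ) (Bool.rec (motive := fun _ => List ℕ) (rw4840) (rw4841) (Nat.ble 4841 i)) (Bool.rec (motive := fun _ => List ℕ) (rw4842) (rw4843) (Nat.ble 4843 i)) (Nat.ble 4842 i)) (Bool.rec (motive := fun _ => List ℕ) (Bool.rec (motive := fun _ => List ℕ) (rw4844) (rw4845) (Nat.ble 4845 i)) (Bool.rec (motive := fun _ => List ℕ) (rw4846) (rw4847) (Nat.ble 4847 i)) (Nat.ble 4846 i)) (Nat.ble 4844 i)) (Nat.ble 4840 i)) (Bool.rec (motive := fun _ => List ℕ) (Bool.rec (motive := fun _ => List ℕ) (Bool.rec (motive := fun _ => List ℕ) (Bool.rec (motive := fun _ => List ℕ) (rw4848) (rw4849) (Nat.ble 4849 i)) (Bool.rec (motive := fun _ => List ℕ) (rw4850) (rw4851) (Nat.ble 4851 i)) (Nat.ble 4850 i)) (Bool.rec (motive := fun _ => List ℕ) (Bool.rec (motive := fun _ => List ℕ) (rw4852) (rw4853) (Nat.ble 4853 i)) (Bool.rec (motive := fun _ => List ℕ) (rw4854) (rw4855) (Nat.ble 4855 i)) (Nat.ble 4854 i)) (Nat.ble 4852 i)) (Bool.rec (motive := fun _ => List ℕ) (Bool.rec (motive := fun _ => List ℕ) (Bool.rec (motive := fun _ => List ℕ) (rw4856) (rw4857) (Nat.ble 4857 i)) (Bool.rec (motive := fun _ => List ℕ) (rw4858) (rw4859) (Nat.ble 4859 i)) (Nat.ble 4858 i)) (Bool.rec (motive := fun _ => List ℕ) (Bool.rec (motive := fun _ => List ℕ) (rw4860) (rw4861) (Nat.ble 4861 i)) (Bool.rec (motive := fun _ => List ℕ) (rw4862) (rw4863) (Nat.ble 4863 i)) (Nat.ble 4862 i)) (Nat.ble 4860 i)) (Nat.ble 4856 i)) (Nat.ble 4848 i)) (Nat.ble 4832 i)) (Nat.ble 4800 i)) (Nat.ble 4736 i)) (Bool.rec (motive := fun _ => List ℕ) (Bool.rec (motive := fun _ => List ℕ) (Bool.rec (motive := fun _ => List ℕ) (Bool.rec (motive := fun _ => List ℕ) (Bool.rec (motive := fun _ => List ℕ) (Bool.rec (motive := fun _ => List ℕ) (Bool.rec (motive := fun _ => List ℕ) (Bool.rec (motive := fun _ => List ℕ) (rw4864) (rw4865) (Nat.ble 4865 i)) (Bool.rec (motive := fun _ => List ℕ) (rw4866) (rw4867) (Nat.ble 4867 i)) (Nat.ble 4866 i)) (Bool.rec (motive := fun _ => List ℕ) (Bool.rec (motive := fun _ => List ℕ) (rw4868) (rw4869) (Nat.ble 4869 i)) (Bool.rec (motive := fun _ => List ℕ) (rw4870) (rw4871) (Nat.ble 4871 i)) (Nat.ble 4870 i)) (Nat.ble 4868 i)) (Bool.rec (motive := fun _ => List ℕ) (Bool.rec (motive := fun _ => List ℕ) (Bool.rec (motive := fun _ => List ℕ) (rw4872) (rw4873) (Nat.ble 4873 i)) (Bool.rec (motive := fun _ => List ℕ) (rw4874) (rw4875) (Nat.ble 4875 i)) (Nat.ble 4874 i)) (Bool.rec (motive := fun _ => List ℕ) (Bool.rec (motive := fun _ => List ℕ) (rw4876) (rw4877) (Nat.ble 4877 i)) (Bool.rec (motive := fun _ => List ℕ) (rw4878) (rw4879) (Nat.ble 4879 i)) (Nat.ble 4878 i)) (Nat.ble 4876 i)) (Nat.ble 4872 i)) (Bool.rec (motive := fun _ => List ℕ) (Bool.rec (motive := fun _ => List ℕ) (Bool.rec (motive := fun _ => List ℕ) (Bool.rec (motive := fun _ => List ℕ) (rw4880) (rw4881) (Nat.ble 4881 i)) (Bool.rec (motive := fun _ => List ℕ) (rw4882) (rw4883) (Nat.ble 4883 i)) (Nat.ble 4882 i)) (Bool.rec (motive := fun _ => List ℕ) (Bool.rec (motive := fun _ => List ℕ) (rw4884) (rw4885) (Nat.ble 4885 i)) (Bool.rec (motive := fun _ => List ℕ) (rw4886) (rw4887) (Nat.ble 4887 i)) (Nat.ble 4886 i)) (Nat.ble 4884 i)) (Bool.rec (motive := fun _ => List ℕ) (Bool.rec (motive := fun _ => List ℕ) (Bool.rec (motive := fun _ => List ℕ) (rw4888) (rw4889) (Nat.ble 4889 i)) (Bool.rec (motive := fun _ => List ℕ) (rw4890) (rw4891) (Nat.ble 4891 i)) (Nat.ble 4890 i)) (Bool.rec (motive := fun _ => List ℕ) (Bool.rec (motive := fun _ => List ℕ) (rw4892) (rw4893) (Nat.ble 4893 i)) (Bool.rec (motive := fun _ => List ℕ) (rw4894) (rw4895) (Nat.ble 4895 i)) (Nat.ble 4894 i)) (Nat.ble 4892 i)) (Nat.ble 4888 i)) (Nat.ble 4880 i)) (Bool.rec (motive := fun _ => List ℕ) (Bool.rec (motive := fun _ => List ℕ) (Bool.rec (motive := fun _ => List ℕ) (Bool.rec (motive := fun _ => List ℕ) (Bool.rec (motive := fun _ => List ℕ) (rw4896) (rw4897) (Nat.ble 4897 i)) (Bool.rec (motive := fun _ => List ℕ) (rw4898) (rw4899) (Nat.ble 4899 i)) (Nat.ble 4898 i)) (Bool.rec (motive := fun _ => List ℕ) (Bool.rec (motive := fun _ => List ℕ) (rw4900) (rw4901) (Nat.ble 4901 i)) (Bool.rec (motive := fun _ => List ℕ) (rw4902) (rw4903) (Nat.ble 4903 i)) (Nat.ble 4902 i)) (Nat.ble 4900 i)) (Bool.rec (motive := fun _ => List ℕ) (Bool.rec (motive := fun _ => List ℕ) (Bool.rec (motive := fun _ => List ℕ) (rw4904) (rw4905) (Nat.ble 4905 i)) (Bool.rec (motive := fun _ => List ℕ) (rw4906) (rw4907) (Nat.ble 4907 i)) (Nat.ble 4906 i)) (Bool.rec (motive := fun _ => List ℕ) (Bool.rec (motive := fun _ => List ℕ) (rw4908) (rw4909) (Nat.ble 4909 i)) (Bool.rec (motive := fun _ => List ℕ) (rw4910) (rw4911) (Nat.ble 4911 i)) (Nat.ble 4910 i)) (Nat.ble 4908 i)) (Nat.ble 4904 i)) (Bool.rec (motive := fun _ => List ℕ) (Bool.rec (motive := fun _ => List ℕ) (Bool.rec (motive := fun _ => List ℕ) (Bool.rec (motive := fun _ => List ℕ) (rw4912) (rw4913) (Nat.ble 4913 i)) (Bool.rec (motive := fun _ => List ℕ) (rw4914) (rw4915) (Nat.ble 4915 i)) (Nat.ble 4914 i)) (Bool.rec (motive := fun _ => List ℕ) (Bool.rec (motive := fun _ => List ℕ) (rw4916) (rw4917) (Nat.ble 4917 i)) (Bool.rec (motive := fun _ => List ℕ) (rw4918) (rw4919) (Nat.ble 4919 i)) (Nat.ble 4918 i)) (Nat.ble 4916 i)) (Bool.rec (motive := fun _ => List ℕ) (Bool.rec (motive := fun _ => List ℕ) (Bool.rec (motive := fun _ => List ℕ) (rw4920) (rw4921) (Nat.ble 4921 i)) (Bool.rec (motive := fun _ => List ℕ) (rw4922) (rw4923) (Nat.ble 4923 i)) (Nat.ble 4922 i)) (Bool.rec (motive := fun _ => List ℕ) (Bool.rec (motive := fun _ => List ℕ) (rw4924) (rw4925) (Nat.ble 4925 i)) (Bool.rec (motive := fun _ => List ℕ) (rw4926) (rw4927) (Nat.ble 4927 i)) (Nat.ble 4926 i)) (Nat.ble 4924 i)) (Nat.ble 4920 i)) (Nat.ble 4912 i)) (Nat.ble 4896 i)) (Bool.rec (motive := fun _ => List ℕ) (Bool.rec (motive := fun _ => List ℕ) (Bool.rec (motive := fun _ => List ℕ) (Bool.rec (motive := fun _ => List ℕ) (Bool.rec (motive := fun _ => List ℕ) (Bool.rec (motive := fun _ => List ℕ) (rw4928) (rw4929) (Nat.ble 4929 i)) (Bool.rec (motive := fun _ => List ℕ) (rw4930) (rw4931) (Nat.ble 4931 i)) (Nat.ble 4930 i)) (Bool.rec (motive := fun _ => List ℕ) (Bool.rec (motive := fun _ => List ℕ) (rw4932) (rw4933) (Nat.ble 4933 i)) (Bool.rec (motive := fun _ => List ℕ) (rw4934) (rw4935) (Nat.ble 4935 i)) (Nat.ble 4934 i)) (Nat.ble 4932 i)) (Bool.rec (motive := fun _ => List ℕ) (Bool.rec (motive := fun _ => List ℕ) (Bool.rec (motive := fun _ => List ℕ) (rw4936) (rw4937) (Nat.ble 4937 i)) (Bool.rec (motive := fun _ => List ℕ) (rw4938) (rw4939) (Nat.ble 4939 i)) (Nat.ble 4938 i)) (Bool.rec (motive := fun _ => List ℕ) (Bool.rec (motive := fun _ => List ℕ) (rw4940) (rw4941) (Nat.ble 4941 i)) (Bool.rec (motive := fun _ => List ℕ) (rw4942) (rw4943) (Nat.ble 4943 i)) (Nat.ble 4942 i)) (Nat.ble 4940 i)) (Nat.ble 4936 i)) (Bool.rec (motive := fun _ => List ℕ) (Bool.rec (motive := fun _ => List ℕ) (Bool.rec (motive := fun _ => List ℕ) (Bool.rec (motive := fun _ => List ℕ) (rw4944) (rw4945) (Nat.ble 4945 i)) (Bool.rec (motive := fun _ => List ℕ) (rw4946) (rw4947) (Nat.ble 4947 i)) (Nat.ble 4946 i)) (Bool.rec (motive := fun _ => List ℕ) (Bool.rec (motive := fun _ => List ℕ) (rw4948) (rw4949) (Nat.ble 4949 i)) (Bool.rec (motive := fun _ => List ℕ) (rw4950) (rw4951) (Nat.ble 4951 i)) (Nat.ble 4950 i)) (Nat.ble 4948 i)) (Bool.rec (motive := fun _ => List ℕ) (Bool.rec (motive := fun _ => List ℕ) (Bool.rec (motive := fun _ => List ℕ) (rw4952) (rw4953) (Nat.ble 4953 i)) (Bool.rec (motive := fun _ => List ℕ) (rw4954) (rw4955) (Nat.ble 4955 i)) (Nat.ble 4954 i)) (Bool.rec (motive := fun _ => List ℕ) (Bool.rec (motive := fun _ => List ℕ) (rw4956) (rw4957) (Nat.ble 4957 i)) (Bool.rec (motive := fun _ => List ℕ) (rw4958) (rw4959) (Nat.ble 4959 i)) (Nat.ble 4958 i)) (Nat.ble 4956 i)) (Nat.ble 4952 i)) (Nat.ble 4944 i)) (Bool.rec (motive := fun _ => List ℕ) (Bool.rec (motive := fun _ => List ℕ) (Bool.rec (motive := fun _ => List ℕ) (Bool.rec (motive := fun _ => List ℕ) (Bool.rec (motive := fun _ => List ℕ) (rw4960) (rw4961) (Nat.ble 4961 i)) (Bool.rec (motive := fun _ => List ℕ) (rw4962) (rw4963) (Nat.ble 4963 i)) (Nat.ble 4962 i)) (Bool.rec (motive := fun _ => List ℕ) (Bool.rec (motive := fun _ => List ℕ) (rw4964) (rw4965) (Nat.ble 4965 i)) (Bool.rec (motive := fun _ => List ℕ) (rw4966) (rw4967) (Nat.ble 4967 i)) (Nat.ble 4966 i)) (Nat.ble 4964 i)) (Bool.rec (motive := fun _ => List ℕ) (Bool.rec (motive := fun _ => List ℕ) (Bool.rec (motive := fun _ => List ℕ) (rw4968) (rw4969) (Nat.ble 4969 i)) (Bool.rec (motive := fun _ => List ℕ) (rw4970) (rw4971) (Nat.ble 4971 i)) (Nat.ble 4970 i)) (Bool.rec (motive := fun _ => List ℕ) (Bool.rec (motive := fun _ => List ℕ) (rw4972) (rw4973) (Nat.ble 4973 i)) (Bool.rec (motive := fun _ => List ℕ) (rw4974) (rw4975) (Nat.ble 4975 i)) (Nat.ble 4974 i)) (Nat.ble 4972 i)) (Nat.ble 4968 i)) (Bool.rec (motive := fun _ => List ℕ) (Bool.rec (motive := fun _ => List ℕ) (Bool.rec (motive := fun _ => List ℕ) (Bool.rec (motive := fun _ => List ℕ) (rw4976) (rw4977) (Nat.ble 4977 i)) (Bool.rec (motive := fun _ => List ℕ) (rw4978) (rw4979) (Nat.ble 4979 i)) (Nat.ble 4978 i)) (Bool.rec (motive := fun _ => List ℕ) (Bool.rec (motive := fun _ => List ℕ) (rw4980) (rw4981) (Nat.ble 4981 i)) (Bool.rec (motive := fun _ => List ℕ) (rw4982) (rw4983) (Nat.ble 4983 i)) (Nat.ble 4982 i)) (Nat.ble 4980 i)) (Bool.rec (motive := fun _ => List ℕ) (Bool.rec (motive := fun _ => List ℕ) (Bool.rec (motive := fun _ => List ℕ) (rw4984) (rw4985) (Nat.ble 4985 i)) (Bool.rec (motive := fun _ => List ℕ) (rw4986) (rw4987) (Nat.ble 4987 i)) (Nat.ble 4986 i)) (Bool.rec (motive := fun _ => List ℕ) (Bool.rec (motive := fun _ => List ℕ) (rw4988) (rw4989) (Nat.ble 4989 i)) (Bool.rec (motive := fun _ => List ℕ) (rw4990) (rw4991) (Nat.ble 4991 i)) (Nat.ble 4990 i)) (Nat.ble 4988 i)) (Nat.ble 4984 i)) (Nat.ble 4976 i)) (Nat.ble 4960 i)) (Nat.ble 4928 i)) (Bool.rec (motive := fun _ => List ℕ) (Bool.rec (motive := fun _ => List ℕ) (Bool.rec (motive := fun _ => List ℕ) (Bool.rec (motive := fun _ => List ℕ) (Bool.rec (motive := fun _ => List ℕ) (Bool.rec (motive := fun _ => List ℕ) (Bool.rec (motive := fun _ => List ℕ) (rw4992) (rw4993) (Nat.ble 4993 i)) (Bool.rec (motive := fun _ => List ℕ) (rw4994) (rw4995) (Nat.ble 4995 i)) (Nat.ble 4994 i)) (Bool.rec (motive := fun _ => List ℕ) (Bool.rec (motive := fun _ => List ℕ) (rw4996) (rw4997) (Nat.ble 4997 i)) (Bool.rec (motive := fun _ => List ℕ) (rw4998) (rw4999) (Nat.ble 4999 i)) (Nat.ble 4998 i)) (Nat.ble 4996 i)) (Bool.rec (motive := fun _ => List ℕ) (Bool.rec (motive := fun _ => List ℕ) (Bool.rec (motive := fun _ => List ℕ) (rw5000) (rw5001) (Nat.ble 5001 i)) (Bool.rec (motive := fun _ => List ℕ) (rw5002) (rw5003) (Nat.ble 5003 i)) (Nat.ble 5002 i)) (Bool.rec (motive := fun _ => List ℕ) (Bool.rec (motive := fun _ => List ℕ) (rw5004) (rw5005) (Nat.ble 5005 i)) (Bool.rec (motive := fun _ => List ℕ) (rw5006) (rw5007) (Nat.ble 5007 i)) (Nat.ble 5006 i)) (Nat.ble 5004 i)) (Nat.ble 5000 i)) (Bool.rec (motive := fun _ => List ℕ) (Bool.rec (motive := fun _ => List ℕ) (Bool.rec (motive := fun _ => List ℕ) (Bool.rec (motive := fun _ => List ℕ) (rw5008) (rw5009) (Nat.ble 5009 i)) (Bool.rec (motive := fun _ => List ℕ) (rw5010) (rw5011) (Nat.ble 5011 i)) (Nat.ble 5010 i)) (Bool.rec (motive := fun _ => List ℕ) (Bool.rec (motive := fun _ => List ℕ) (rw5012) (rw5013) (Nat.ble 5013 i)) (Bool.rec (motive := fun _ => List ℕ) (rw5014) (rw5015) (Nat.ble 5015 i)) (Nat.ble 5014 i)) (Nat.ble 5012 i)) (Bool.rec (motive := fun _ => List ℕ) (Bool.rec (motive := fun _ => List ℕ) (Bool.rec (motive := fun _ => List ℕ) (rw5016) (rw5017) (Nat.ble 5017 i)) (Bool.rec (motive := fun _ => List ℕ) (rw5018) (rw5019) (Nat.ble 5019 i)) (Nat.ble 5018 i)) (Bool.rec (motive := fun _ => List ℕ) (Bool.rec (motive := fun _ => List ℕ) (rw5020) (rw5021) (Nat.ble 5021 i)) (Bool.rec (motive := fun _ => List ℕ) (rw5022) (rw5023) (Nat.ble 5023 i)) (Nat.ble 5022 i)) (Nat.ble 5020 i)) (Nat.ble 5016 i)) (Nat.ble 5008 i)) (Bool.rec (motive := fun _ => List ℕ) (Bool.rec (motive := fun _ => List ℕ) (Bool.rec (motive := fun _ => List ℕ) (Bool.rec (motive := fun _ => List ℕ) (Bool.rec (motive := fun _ => List ℕ) (rw5024) (rw5025) (Nat.ble 5025 i)) (Bool.rec (motive := fun _ => List ℕ) (rw5026) (rw5027) (Nat.ble 5027 i)) (Nat.ble 5026 i)) (Bool.rec (motive := fun _ => List ℕ) (Bool.rec (motive := fun _ => List ℕ) (rw5028) (rw5029) (Nat.ble 5029 i)) (Bool.rec (motive := fun _ => List ℕ) (rw5030) (rw5031) (Nat.ble 5031 i)) (Nat.ble 5030 i)) (Nat.ble 5028 i)) (Bool.rec (motive := fun _ => List ℕ) (Bool.rec (motive := fun _ => List ℕ) (Bool.rec (motive := fun _ => List ℕ) (rw5032) (rw5033) (Nat.ble 5033 i)) (Bool.rec (motive := fun _ => List ℕ) (rw5034) (rw5035) (Nat.ble 5035 i)) (Nat.ble 5034 i)) (Bool.rec (motive := fun _ => List ℕ) (Bool.rec (motive := fun _ => List ℕ) (rw5036) (rw5037) (Nat.ble 5037 i)) (Bool.rec (motive := fun _ => List ℕ) (rw5038) (rw5039) (Nat.ble 5039 i)) (Nat.ble 5038 i)) (Nat.ble 5036 i)) (Nat.ble 5032 i)) (Bool.rec (motive := fun _ => List ℕ) (Bool.rec (motive := fun _ => List ℕ) (Bool.rec (motive := fun _ => List ℕ) (Bool.rec (motive := fun _ => List ℕ) (rw5040) (rw5041) (Nat.ble 5041 i)) (Bool.rec (motive := fun _ => List ℕ) (rw5042) (rw5043) (Nat.ble 5043 i)) (Nat.ble 5042 i)) (Bool.rec (motive := fun _ => List ℕ) (Bool.rec (motive := fun _ => List ℕ) (rw5044) (rw5045) (Nat.ble 5045 i)) (Bool.rec (motive := fun _ => List ℕ) (rw5046) (rw5047) (Nat.ble 5047 i)) (Nat.ble 5046 i)) (Nat.ble 5044 i)) (Bool.rec (motive := fun _ => List ℕ) (Bool.rec (motive := fun _ => List ℕ) (Bool.rec (motive := fun _ => List ℕ) (rw5048) (rw5049) (Nat.ble 5049 i)) (Bool.rec (motive := fun _ => List ℕ) (rw5050) (rw5051) (Nat.ble 5051 i)) (Nat.ble 5050 i)) (Bool.rec (motive := fun _ => List ℕ) (Bool.rec (motive := fun _ => List ℕ) (rw5052) (rw5053) (Nat.ble 5053 i)) (Bool.rec (motive := fun _ => List ℕ) (rw5054) (rw5055) (Nat.ble 5055 i)) (Nat.ble 5054 i)) (Nat.ble 5052 i)) (Nat.ble 5048 i)) (Nat.ble 5040 i)) (Nat.ble 5024 i)) (Bool.rec (motive := fun _ => List ℕ) (Bool.rec (motive := fun _ => List ℕ) (Bool.rec (motive := fun _ => List ℕ) (Bool.rec (motive := fun _ => List ℕ) (Bool.rec (motive := fun _ => List ℕ) (Bool.rec (motive := fun _ => List ℕ) (rw5056) (rw5057) (Nat.ble 5057 i)) (Bool.rec (motive := fun _ => List ℕ) (rw5058) (rw5059) (Nat.ble 5059 i)) (Nat.ble 5058 i)) (Bool.rec (motive := fun _ => List ℕ) (Bool.rec (motive := fun _ => List ℕ) (rw5060) (rw5061) (Nat.ble 5061 i)) (Bool.rec (motive := fun _ => List ℕ) (rw5062) (rw5063) (Nat.ble 5063 i)) (Nat.ble 5062 i)) (Nat.ble 5060 i)) (Bool.rec (motive := fun _ => List ℕ) (Bool.rec (motive := fun _ => List ℕ) (Bool.rec (motive := fun _ => List ℕ) (rw5064) (rw5065) (Nat.ble 5065 i)) (Bool.rec (motive := fun _ => List ℕ) (rw5066) (rw5067) (Nat.ble 5067 i)) (Nat.ble 5066 i)) (Bool.rec (motive := fun _ => List ℕ) (Bool.rec (motive := fun _ => List ℕ) (rw5068) (rw5069) (Nat.ble 5069 i)) (Bool.rec (motive := fun _ => List ℕ) (rw5070) (rw5071) (Nat.ble 5071 i)) (Nat.ble 5070 i)) (Nat.ble 5068 i)) (Nat.ble 5064 i)) (Bool.rec (motive := fun _ => List ℕ) (Bool.rec (motive := fun _ => List ℕ) (Bool.rec (motive := fun _ => List ℕ) (Bool.rec (motive := fun _ => List ℕ) (rw5072) (rw5073) (Nat.ble 5073 i)) (Bool.rec (motive := fun _ => List ℕ) (rw5074) (rw5075) (Nat.ble 5075 i)) (Nat.ble 5074 i)) (Bool.rec (motive := fun _ => List ℕ) (Bool.rec (motive := fun _ => List ℕ) (rw5076) (rw5077) (Nat.ble 5077 i)) (Bool.rec (motive := fun _ => List ℕ) (rw5078) (rw5079) (Nat.ble 5079 i)) (Nat.ble 5078 i)) (Nat.ble 5076 i)) (Bool.rec (motive := fun _ => List ℕ) (Bool.rec (motive := fun _ => List ℕ) (Bool.rec (motive := fun _ => List ℕ) (rw5080) (rw5081) (Nat.ble 5081 i)) (Bool.rec (motive := fun _ => List ℕ) (rw5082) (rw5083) (Nat.ble 5083 i)) (Nat.ble 5082 i)) (Bool.rec (motive := fun _ => List ℕ) (Bool.rec (motive := fun _ => List ℕ) (rw5084) (rw5085) (Nat.ble 5085 i)) (Bool.rec (motive := fun _ => List ℕ) (rw5086) (rw5087) (Nat.ble 5087 i)) (Nat.ble 5086 i)) (Nat.ble 5084 i)) (Nat.ble 5080 i)) (Nat.ble 5072 i)) (Bool.rec (motive := fun _ => List ℕ) (Bool.rec (motive := fun _ => List ℕ) (Bool.rec (motive := fun _ => List ℕ) (Bool.rec (motive := fun _ => List ℕ) (Bool.rec (motive := fun _ => List ℕ) (rw5088) (rw5089) (Nat.ble 5089 i)) (Bool.rec (motive := fun _ => List ℕ) (rw5090) (rw5091) (Nat.ble 5091 i)) (Nat.ble 5090 i)) (Bool.rec (motive := fun _ => List ℕ) (Bool.rec (motive := fun _ => List ℕ) (rw5092) (rw5093) (Nat.ble 5093 i)) (Bool.rec (motive := fun _ => List ℕ) (rw5094) (rw5095) (Nat.ble 5095 i)) (Nat.ble 5094 i)) (Nat.ble 5092 i)) (Bool.rec (motive := fun _ => List ℕ) (Bool.rec (motive := fun _ => List ℕ) (Bool.rec (motive := fun _ => List ℕ) (rw5096) (rw5097) (Nat.ble 5097 i)) (Bool.rec (motive := fun _ => List ℕ) (rw5098) (rw5099) (Nat.ble 5099 i)) (Nat.ble 5098 i)) (Bool.rec (motive := fun _ => List ℕ) (Bool.rec (motive := fun _ => List ℕ) (rw5100) (rw5101) (Nat.ble 5101 i)) (Bool.rec (motive := fun _ => List ℕ) (rw5102) (rw5103) (Nat.ble 5103 i)) (Nat.ble 5102 i)) (Nat.ble 5100 i)) (Nat.ble 5096 i)) (Bool.rec (motive := fun _ => List ℕ) (Bool.rec (motive := fun _ => List ℕ) (Bool.rec (motive := fun _ => List ℕ) (Bool.rec (motive := fun _ => List ℕ) (rw5104) (rw5105) (Nat.ble 5105 i)) (Bool.rec (motive := fun _ => List ℕ) (rw5106) (rw5107) (Nat.ble 5107 i)) (Nat.ble 5106 i)) (Bool.rec (motive := fun _ => List ℕ) (Bool.rec (motive := fun _ => List ℕ) (rw5108) (rw5109) (Nat.ble 5109 i)) (Bool.rec (motive := fun _ => List ℕ) (rw5110) (rw5111) (Nat.ble 5111 i)) (Nat.ble 5110 i)) (Nat.ble 5108 i)) (Bool.rec (motive := fun _ => List ℕ) (Bool.rec (motive := fun _ => List ℕ) (Bool.rec (motive := fun _ => List ℕ) (rw5112) (rw5113) (Nat.ble 5113 i)) (Bool.rec (motive := fun _ => List ℕ) (rw5114) (rw5115) (Nat.ble 5115 i)) (Nat.ble 5114 i)) (Bool.rec (motive := fun _ => List ℕ) (Bool.rec (motive := fun _ => List ℕ) (rw5116) (rw5117) (Nat.ble 5117 i)) (Bool.rec (motive := fun _ => List ℕ) (rw5118) (rw5119) (Nat.ble 5119 i)) (Nat.ble 5118 i)) (Nat.ble 5116 i)) (Nat.ble 5112 i)) (Nat.ble 5104 i)) (Nat.ble 5088 i)) (Nat.ble 5056 i)) (Nat.ble 4992 i)) (Nat.ble 4864 i)) (Nat.ble 4608 i)) (Bool.rec (motive := fun _ => List ℕ) (Bool.rec (motive := fun _ => List ℕ) (Bool.rec (motive := fun _ => List ℕ) (Bool.rec (motive := fun _ => List ℕ) (Bool.rec (motive := fun _ => List ℕ) (Bool.rec (motive := fun _ => List ℕ) (Bool.rec (motive := fun _ => List ℕ) (Bool.rec (motive := fun _ => List ℕ) (Bool.rec (motive := fun _ => List ℕ) (Bool.rec (motive := fun _ => List ℕ) (rw5120) (rw5121) (Nat.ble 5121 i)) (Bool.rec (motive := fun _ => List ℕ) (rw5122) (rw5123) (Nat.ble 5123 i)) (Nat.ble 5122 i)) (Bool.rec (motive := fun _ => List ℕ) (Bool.rec (motive := fun _ => List ℕ) (rw5124) (rw5125) (Nat.ble 5125 i)) (Bool.rec (motive := fun _ => List ℕ) (rw5126) (rw5127) (Nat.ble 5127 i)) (Nat.ble 5126 i)) (Nat.ble 5124 i)) (Bool.rec (motive := fun _ => List ℕ) (Bool.rec (motive := fun _ => List ℕ) (Bool.rec (motive := fun _ => List ℕ) (rw5128) (rw5129) (Nat.ble 5129 i)) (Bool.rec (motive := fun _ => List ℕ) (rw5130) (rw5131) (Nat.ble 5131 i)) (Nat.ble 5130 i)) (Bool.rec (motive := fun _ => List ℕ) (Bool.rec (motive := fun _ => List ℕ) (rw5132) (rw5133) (Nat.ble 5133 i)) (Bool.rec (motive := fun _ => List ℕ) (rw5134) (rw5135) (Nat.ble 5135 i)) (Nat.ble 5134 i)) (Nat.ble 5132 i)) (Nat.ble 5128 i)) (Bool.rec (motive := fun _ => List ℕ) (Bool.rec (motive := fun _ => List ℕ) (Bool.rec (motive := fun _ => List ℕ) (Bool.rec (motive := fun _ => List ℕ) (rw5136) (rw5137) (Nat.ble 5137 i)) (Bool.rec (motive := fun _ => List ℕ) (rw5138) (rw5139) (Nat.ble 5139 i)) (Nat.ble 5138 i)) (Bool.rec (motive := fun _ => List ℕ) (Bool.rec (motive := fun _ => List ℕ) (rw5140) (rw5141) (Nat.ble 5141 i)) (Bool.rec (motive := fun _ => List ℕ) (rw5142) (rw5143) (Nat.ble 5143 i)) (Nat.ble 5142 i)) (Nat.ble 5140 i)) (Bool.rec (motive := fun _ => List ℕ) (Bool.rec (motive := fun _ => List ℕ) (Bool.rec (motive := fun _ => List ℕ) (rw5144) (rw5145) (Nat.ble 5145 i)) (Bool.rec (motive := fun _ => List ℕ) (rw5146) (rw5147) (Nat.ble 5147 i)) (Nat.ble 5146 i)) (Bool.rec (motive := fun _ => List ℕ) (Bool.rec (motive := fun _ => List ℕ) (rw5148) (rw5149) (Nat.ble 5149 i)) (Bool.rec (motive := fun _ => List ℕ) (rw5150) (rw5151) (Nat.ble 5151 i)) (Nat.ble 5150 i)) (Nat.ble 5148 i)) (Nat.ble 5144 i)) (Nat.ble 5136 i)) (Bool.rec (motive := fun _ => List ℕ) (Bool.rec (motive := fun _ => List ℕ) (Bool.rec (motive := fun _ => List ℕ) (Bool.rec (motive := fun _ => List ℕ) (Bool.rec (motive := fun _ => List ℕ) (rw5152) (rw5153) (Nat.ble 5153 i)) (Bool.rec (motive := fun _ => List ℕ) (rw5154) (rw5155) (Nat.ble 5155 i)) (Nat.ble 5154 i)) (Bool.rec (motive := fun _ => List ℕ) (Bool.rec (motive := fun _ => List ℕ) (rw5156) (rw5157) (Nat.ble 5157 i)) (Bool.rec (motive := fun _ => List ℕ) (rw5158) (rw5159) (Nat.ble 5159 i)) (Nat.ble 5158 i)) (Nat.ble 5156 i)) (Bool.rec (motive := fun _ => List ℕ) (Bool.rec (motive := fun _ => List ℕ) (Bool.rec (motive := fun _ => List ℕ) (rw5160) (rw5161) (Nat.ble 5161 i)) (Bool.rec (motive := fun _ => List ℕ) (rw5162) (rw5163) (Nat.ble 5163 i)) (Nat.ble 5162 i)) (Bool.rec (motive := fun _ => List ℕ) (Bool.rec (motive := fun _ => List ℕ) (rw5164) (rw5165) (Nat.ble 5165 i)) (Bool.rec (motive := fun _ => List ℕ) (rw5166) (rw5167) (Nat.ble 5167 i)) (Nat.ble 5166 i)) (Nat.ble 5164 i)) (Nat.ble 5160 i)) (Bool.rec (motive := fun _ => List ℕ) (Bool.rec (motive := fun _ => List ℕ) (Bool.rec (motive := fun _ => List ℕ) (Bool.rec (motive := fun _ => List ℕ) (rw5168) (rw5169) (Nat.ble 5169 i)) (Bool.rec (motive := fun _ => List ℕ) (rw5170) (rw5171) (Nat.ble 5171 i)) (Nat.ble 5170 i)) (Bool.rec (motive := fun _ => List ℕ) (Bool.rec (motive := fun _ => List ℕ) (rw5172) (rw5173) (Nat.ble 5173 i)) (Bool.rec (motive := fun _ => List ℕ) (rw5174) (rw5175) (Nat.ble 5175 i)) (Nat.ble 5174 i)) (Nat.ble 5172 i)) (Bool.rec (motive := fun _ => List ℕ) (Bool.rec (motive := fun _ => List ℕ) (Bool.rec (motive := fun _ => List ℕ) (rw5176) (rw5177) (Nat.ble 5177 i)) (Bool.rec (motive := fun _ => List ℕ) (rw5178) (rw5179) (Nat.ble 5179 i)) (Nat.ble 5178 i)) (Bool.rec (motive := fun _ => List ℕ) (Bool.rec (motive := fun _ => List ℕ) (rw5180) (rw5181) (Nat.ble 5181 i)) (Bool.rec (motive := fun _ => List ℕ) (rw5182) (rw5183) (Nat.ble 5183 i)) (Nat.ble 5182 i)) (Nat.ble 5180 i)) (Nat.ble 5176 i)) (Nat.ble 5168 i)) (Nat.ble 5152 i)) (Bool.rec (motive := fun _ => List ℕ) (Bool.rec (motive := fun _ => List ℕ) (Bool.rec (motive := fun _ => List ℕ) (Bool.rec (motive := fun _ => List ℕ) (Bool.rec (motive := fun _ => List ℕ) (Bool.rec (motive := fun _ => List ℕ) (rw5184) (rw5185) (Nat.ble 5185 i)) (Bool.rec (motive := fun _ => List ℕ) (rw5186) (rw5187) (Nat.ble 5187 i)) (Nat.ble 5186 i)) (Bool.rec (motive := fun _ => List ℕ) (Bool.rec (motive := fun _ => List ℕ) (rw5188) (rw5189) (Nat.ble 5189 i)) (Bool.rec (motive := fun _ => List ℕ) (rw5190) (rw5191) (Nat.ble 5191 i)) (Nat.ble 5190 i)) (Nat.ble 5188 i)) (Bool.rec (motive := fun _ => List ℕ) (Bool.rec (motive := fun _ => List ℕ) (Bool.rec (motive := fun _ => List ℕ) (rw5192) (rw5193) (Nat.ble 5193 i)) (Bool.rec (motive := fun _ => List ℕ) (rw5194) (rw5195) (Nat.ble 5195 i)) (Nat.ble 5194 i)) (Bool.rec (motive := fun _ => List ℕ) (Bool.rec (motive := fun _ => List ℕ) (rw5196) (rw5197) (Nat.ble 5197 i)) (Bool.rec (motive := fun _ => List ℕ) (rw5198) (rw5199) (Nat.ble 5199 i)) (Nat.ble 5198 i)) (Nat.ble 5196 i)) (Nat.ble 5192 i)) (Bool.rec (motive := fun _ => List ℕ) (Bool.rec (motive := fun _ => List ℕ) (Bool.rec (motive := fun _ => List ℕ) (Bool.rec (motive := fun _ => List ℕ) (rw5200) (rw5201) (Nat.ble 5201 i)) (Bool.rec (motive := fun _ => List ℕ) (rw5202) (rw5203) (Nat.ble 5203 i)) (Nat.ble 5202 i)) (Bool.rec (motive := fun _ => List ℕ) (Bool.rec (motive := fun _ => List ℕ) (rw5204) (rw5205) (Nat.ble 5205 i)) (Bool.rec (motive := fun _ => List ℕ) (rw5206) (rw5207) (Nat.ble 5207 i)) (Nat.ble 5206 i)) (Nat.ble 5204 i)) (Bool.rec (motive := fun _ => List ℕ) (Bool.rec (motive := fun _ => List ℕ) (Bool.rec (motive := fun _ => List ℕ) (rw5208) (rw5209) (Nat.ble 5209 i)) (Bool.rec (motive := fun _ => List ℕ) (rw5210) (rw5211) (Nat.ble 5211 i)) (Nat.ble 5210 i)) (Bool.rec (motive := fun _ => List ℕ) (Bool.rec (motive := fun _ => List ℕ) (rw5212) (rw5213) (Nat.ble 5213 i)) (Bool.rec (motive := fun _ => List ℕ) (rw5214) (rw5215) (Nat.ble 5215 i)) (Nat.ble 5214 i)) (Nat.ble 5212 i)) (Nat.ble 5208 i)) (Nat.ble 5200 i)) (Bool.rec (motive := fun _ => List ℕ) (Bool.rec (motive := fun _ => List ℕ) (Bool.rec (motive := fun _ => List ℕ) (Bool.rec (motive := fun _ => List ℕ) (Bool.rec (motive := fun _ => List ℕ) (rw5216) (rw5217) (Nat.ble 5217 i)) (Bool.rec (motive := fun _ => List ℕ) (rw5218) (rw5219) (Nat.ble 5219 i)) (Nat.ble 5218 i)) (Bool.rec (motive := fun _ => List ℕ) (Bool.rec (motive := fun _ => List ℕ) (rw5220) (rw5221) (Nat.ble 5221 i)) (Bool.rec (motive := fun _ => List ℕ) (rw5222) (rw5223) (Nat.ble 5223 i)) (Nat.ble 5222 i)) (Nat.ble 5220 i)) (Bool.rec (motive := fun _ => List ℕ) (Bool.rec (motive := fun _ => List ℕ) (Bool.rec (motive := fun _ => List ℕ) (rw5224) (rw5225) (Nat.ble 5225 i)) (Bool.rec (motive := fun _ => List ℕ) (rw5226) (rw5227) (Nat.ble 5227 i)) (Nat.ble 5226 i)) (Bool.rec (motive := fun _ => List ℕ) (Bool.rec (motive := fun _ => List ℕ) (rw5228) (rw5229) (Nat.ble 5229 i)) (Bool.rec (motive := fun _ => List ℕ) (rw5230) (rw5231) (Nat.ble 5231 i)) (Nat.ble 5230 i)) (Nat.ble 5228 i)) (Nat.ble 5224 i)) (Bool.rec (motive := fun _ => List ℕ) (Bool.rec (motive := fun _ => List ℕ) (Bool.rec (motive := fun _ => List ℕ) (Bool.rec (motive := fun _ => List ℕ) (rw5232) (rw5233) (Nat.ble 5233 i)) (Bool.rec (motive := fun _ => List ℕ) (rw5234) (rw5235) (Nat.ble 5235 i)) (Nat.ble 5234 i)) (Bool.rec (motive := fun _ => List ℕ) (Bool.rec (motive := fun _ => List ℕ) (rw5236) (rw5237) (Nat.ble 5237 i)) (Bool.rec (motive := fun _ => List ℕ) (rw5238) (rw5239) (Nat.ble 5239 i)) (Nat.ble 5238 i)) (Nat.ble 5236 i)) (Bool.rec (motive := fun _ => List ℕ) (Bool.rec (motive := fun _ => List ℕ) (Bool.rec (motive := fun _ => List ℕ) (rw5240) (rw5241) (Nat.ble 5241 i)) (Bool.rec (motive := fun _ => List ℕ) (rw5242) (rw5243) (Nat.ble 5243 i)) (Nat.ble 5242 i)) (Bool.rec (motive := fun _ => List ℕ) (Bool.rec (motive := fun _ => List ℕ) (rw5244) (rw5245) (Nat.ble 5245 i)) (Bool.rec (motive := fun _ => List ℕ) (rw5246) (rw5247) (Nat.ble 5247 i)) (Nat.ble 5246 i)) (Nat.ble 5244 i)) (Nat.ble 5240 i)) (Nat.ble 5232 i)) (Nat.ble 5216 i)) (Nat.ble 5184 i)) (Bool.rec (motive := fun _ => List ℕ) (Bool.rec (motive := fun _ => List ℕ) (Bool.rec (motive := fun _ => List ℕ) (Bool.rec (motive := fun _ => List ℕ) (Bool.rec (motive := fun _ => List ℕ) (Bool.rec (motive := fun _ => List ℕ) (Bool.rec (motive := fun _ => List ℕ) (rw5248) (rw5249) (Nat.ble 5249 i)) (Bool.rec (motive := fun _ => List ℕ) (rw5250) (rw5251) (Nat.ble 5251 i)) (Nat.ble 5250 i)) (Bool.rec (motive := fun _ => List ℕ) (Bool.rec (motive := fun _ => List ℕ) (rw5252) (rw5253) (Nat.ble 5253 i)) (Bool.rec (motive := fun _ => List ℕ) (rw5254) (rw5255) (Nat.ble 5255 i)) (Nat.ble 5254 i)) (Nat.ble 5252 i)) (Bool.rec (motive := fun _ => List ℕ) (Bool.rec (motive := fun _ => List ℕ) (Bool.rec (motive := fun _ => List ℕ) (rw5256) (rw5257) (Nat.ble 5257 i)) (Bool.rec (motive := fun _ => List ℕ) (rw5258) (rw5259) (Nat.ble 5259 i)) (Nat.ble 5258 i)) (Bool.rec (motive := fun _ => List ℕ) (Bool.rec (motive := fun _ => List ℕ) (rw5260) (rw5261) (Nat.ble 5261 i)) (Bool.rec (motive := fun _ => List ℕ) (rw5262) (rw5263) (Nat.ble 5263 i)) (Nat.ble 5262 i)) (Nat.ble 5260 i)) (Nat.ble 5256 i)) (Bool.rec (motive := fun _ => List ℕ) (Bool.rec (motive := fun _ => List ℕ) (Bool.rec (motive := fun _ => List ℕ) (Bool.rec (motive := fun _ => List ℕ) (rw5264) (rw5265) (Nat.ble 5265 i)) (Bool.rec (motive := fun _ => List ℕ) (rw5266) (rw5267) (Nat.ble 5267 i)) (Nat.ble 5266 i)) (Bool.rec (motive := fun _ => List ℕ) (Bool.rec (motive := fun _ => List ℕ) (rw5268) (rw5269) (Nat.ble 5269 i)) (Bool.rec (motive := fun _ => List ℕ) (rw5270) (rw5271) (Nat.ble 5271 i)) (Nat.ble 5270 i)) (Nat.ble 5268 i)) (Bool.rec (motive := fun _ => List ℕ) (Bool.rec (motive := fun _ => List ℕ) (Bool.rec (motive := fun _ => List ℕ) (rw5272) (rw5273) (Nat.ble 5273 i)) (Bool.rec (motive := fun _ => List ℕ) (rw5274) (rw5275) (Nat.ble 5275 i)) (Nat.ble 5274 i)) (Bool.rec (motive := fun _ => List ℕ) (Bool.rec (motive := fun _ => List ℕ) (rw5276) (rw5277) (Nat.ble 5277 i)) (Bool.rec (motive := fun _ => List ℕ) (rw5278) (rw5279) (Nat.ble 5279 i)) (Nat.ble 5278 i)) (Nat.ble 5276 i)) (Nat.ble 5272 i)) (Nat.ble 5264 i)) (Bool.rec (motive := fun _ => List ℕ) (Bool.rec (motive := fun _ => List ℕ) (Bool.rec (motive := fun _ => List ℕ) (Bool.rec (motive := fun _ => List ℕ) (Bool.rec (motive := fun _ => List ℕ) (rw5280) (rw5281) (Nat.ble 5281 i)) (Bool.rec (motive := fun _ => List ℕ) (rw5282) (rw5283) (Nat.ble 5283 i)) (Nat.ble 5282 i)) (Bool.rec (motive := fun _ => List ℕ) (Bool.rec (motive := fun _ => List ℕ) (rw5284) (rw5285) (Nat.ble 5285 i)) (Bool.rec (motive := fun _ => List ℕ) (rw5286) (rw5287) (Nat.ble 5287 i)) (Nat.ble 5286 i)) (Nat.ble 5284 i)) (Bool.rec (motive := fun _ => List ℕ) (Bool.rec (motive := fun _ => List ℕ) (Bool.rec (motive := fun _ => List ℕ) (rw5288) (rw5289) (Nat.ble 5289 i)) (Bool.rec (motive := fun _ => List ℕ) (rw5290) (rw5291) (Nat.ble 5291 i)) (Nat.ble 5290 i)) (Bool.rec (motive := fun _ => List ℕ) (Bool.rec (motive := fun _ => List ℕ) (rw5292) (rw5293) (Nat.ble 5293 i)) (Bool.rec (motive := fun _ => List ℕ) (rw5294) (rw5295) (Nat.ble 5295 i)) (Nat.ble 5294 i)) (Nat.ble 5292 i)) (Nat.ble 5288 i)) (Bool.rec (motive := fun _ => List ℕ) (Bool.rec (motive := fun _ => List ℕ) (Bool.rec (motive := fun _ => List ℕ) (Bool.rec (motive := fun _ => List ℕ) (rw5296) (rw5297) (Nat.ble 5297 i)) (Bool.rec (motive := fun _ => List ℕ) (rw5298) (rw5299) (Nat.ble 5299 i)) (Nat.ble 5298 i)) (Bool.rec (motive := fun _ => List ℕ) (Bool.rec (motive := fun _ => List ℕ) (rw5300) (rw5301) (Nat.ble 5301 i)) (Bool.rec (motive := fun _ => List ℕ) (rw5302) (rw5303) (Nat.ble 5303 i)) (Nat.ble 5302 i)) (Nat.ble 5300 i)) (Bool.rec (motive := fun _ => List ℕ) (Bool.rec (motive := fun _ => List ℕ) (Bool.rec (motive := fun _ => List ℕ) (rw5304) (rw5305) (Nat.ble 5305 i)) (Bool.rec (motive := fun _ => List ℕ) (rw5306) (rw5307) (Nat.ble 5307 i)) (Nat.ble 5306 i)) (Bool.rec (motive := fun _ => List ℕ) (Bool.rec (motive := fun _ => List ℕ) (rw5308) (rw5309) (Nat.ble 5309 i)) (Bool.rec (motive := fun _ => List ℕ) (rw5310) (rw5311) (Nat.ble 5311 i)) (Nat.ble 5310 i)) (Nat.ble 5308 i)) (Nat.ble 5304 i)) (Nat.ble 5296 i)) (Nat.ble 5280 i)) (Bool.rec (motive := fun _ => List ℕ) (Bool.rec (motive := fun _ => List ℕ) (Bool.rec (motive := fun _ => List ℕ) (Bool.rec (motive := fun _ => List ℕ) (Bool.rec (motive := fun _ => List ℕ) (Bool.rec (motive := fun _ => List ℕ) (rw5312) (rw5313) (Nat.ble 5313 i)) (Bool.rec (motive := fun _ => List ℕ) (rw5314) (rw5315) (Nat.ble 5315 i)) (Nat.ble 5314 i)) (Bool.rec (motive := fun _ => List ℕ) (Bool.rec (motive := fun _ => List ℕ) (rw5316) (rw5317) (Nat.ble 5317 i)) (Bool.rec (motive := fun _ => List ℕ) (rw5318) (rw5319) (Nat.ble 5319 i)) (Nat.ble 5318 i)) (Nat.ble 5316 i)) (Bool.rec (motive := fun _ => List ℕ) (Bool.rec (motive := fun _ => List ℕ) (Bool.rec (motive := fun _ => List ℕ) (rw5320) (rw5321) (Nat.ble 5321 i)) (Bool.rec (motive := fun _ => List ℕ) (rw5322) (rw5323) (Nat.ble 5323 i)) (Nat.ble 5322 i)) (Bool.rec (motive := fun _ => List ℕ) (Bool.rec (motive := fun _ => List ℕ) (rw5324) (rw5325) (Nat.ble 5325 i)) (Bool.rec (motive := fun _ => List ℕ) (rw5326) (rw5327) (Nat.ble 5327 i)) (Nat.ble 5326 i)) (Nat.ble 5324 i)) (Nat.ble 5320 i)) (Bool.rec (motive := fun _ => List ℕ) (Bool.rec (motive := fun _ => List ℕ) (Bool.rec (motive := fun _ => List ℕ) (Bool.rec (motive := fun _ => List ℕ) (rw5328) (rw5329) (Nat.ble 5329 i)) (Bool.rec (motive := fun _ => List ℕ) (rw5330) (rw5331) (Nat.ble 5331 i)) (Nat.ble 5330 i)) (Bool.rec (motive := fun _ => List ℕ) (Bool.rec (motive := fun _ => List ℕ) (rw5332) (rw5333) (Nat.ble 5333 i)) (Bool.rec (motive := fun _ => List ℕ) (rw5334) (rw5335) (Nat.ble 5335 i)) (Nat.ble 5334 i)) (Nat.ble 5332 i)) (Bool.rec (motive := fun _ => List ℕ) (Bool.rec (motive := fun _ => List ℕ) (Bool.rec (motive := fun _ => List ℕ) (rw5336) (rw5337) (Nat.ble 5337 i)) (Bool.rec (motive := fun _ => List ℕ) (rw5338) (rw5339) (Nat.ble 5339 i)) (Nat.ble 5338 i)) (Bool.rec (motive := fun _ => List ℕ) (Bool.rec (motive := fun _ => List ℕ) (rw5340) (rw5341) (Nat.ble 5341 i)) (Bool.rec (motive := fun _ => List ℕ) (rw5342) (rw5343) (Nat.ble 5343 i)) (Nat.ble 5342 i)) (Nat.ble 5340 i)) (Nat.ble 5336 i)) (Nat.ble 5328 i)) (Bool.rec (motive := fun _ => List ℕ) (Bool.rec (motive := fun _ => List ℕ) (Bool.rec (motive := fun _ => List ℕ) (Bool.rec (motive := fun _ => List ℕ) (Bool.rec (motive := fun _ => List ℕ) (rw5344) (rw5345) (Nat.ble 5345 i)) (Bool.rec (motive := fun _ => List ℕ) (rw5346) (rw5347) (Nat.ble 5347 i)) (Nat.ble 5346 i)) (Bool.rec (motive := fun _ => List ℕ) (Bool.rec (motive := fun _ => List ℕ) (rw5348) (rw5349) (Nat.ble 5349 i)) (Bool.rec (motive := fun _ => List ℕ) (rw5350) (rw5351) (Nat.ble 5351 i)) (Nat.ble 5350 i)) (Nat.ble 5348 i)) (Bool.rec (motive := fun _ => List ℕ) (Bool.rec (motive := fun _ => List ℕ) (Bool.rec (motive := fun _ => List ℕ) (rw5352) (rw5353) (Nat.ble 5353 i)) (Bool.rec (motive := fun _ => List ℕ) (rw5354) (rw5355) (Nat.ble 5355 i)) (Nat.ble 5354 i)) (Bool.rec (motive := fun _ => List ℕ) (Bool.rec (motive := fun _ => List ℕ) (rw5356) (rw5357) (Nat.ble 5357 i)) (Bool.rec (motive := fun _ => List ℕ) (rw5358) (rw5359) (Nat.ble 5359 i)) (Nat.ble 5358 i)) (Nat.ble 5356 i)) (Nat.ble 5352 i)) (Bool.rec (motive := fun _ => List ℕ) (Bool.rec (motive := fun _ => List ℕ) (Bool.rec (motive := fun _ => List ℕ) (Bool.rec (motive := fun _ => List ℕ) (rw5360) (rw5361) (Nat.ble 5361 i)) (Bool.rec (motive := fun _ => List ℕ) (rw5362) (rw5363) (Nat.ble 5363 i)) (Nat.ble 5362 i)) (Bool.rec (motive := fun _ => List ℕ) (Bool.rec (motive := fun _ => List ℕ) (rw5364) (rw5365) (Nat.ble 5365 i)) (Bool.rec (motive := fun _ => List ℕ) (rw5366) (rw5367) (Nat.ble 5367 i)) (Nat.ble 5366 i)) (Nat.ble 5364 i)) (Bool.rec (motive := fun _ => List ℕ) (Bool.rec (motive := fun _ => List ℕ) (Bool.rec (motive := fun _ => List ℕ) (rw5368) (rw5369) (Nat.ble 5369 i)) (Bool.rec (motive := fun _ => List ℕ) (rw5370) (rw5371) (Nat.ble 5371 i)) (Nat.ble 5370 i)) (Bool.rec (motive := fun _ => List ℕ) (Bool.rec (motive := fun _ => List ℕ) (rw5372) (rw5373) (Nat.ble 5373 i)) (Bool.rec (motive := fun _ => List ℕ) (rw5374) (rw5375) (Nat.ble 5375 i)) (Nat.ble 5374 i)) (Nat.ble 5372 i)) (Nat.ble 5368 i)) (Nat.ble 5360 i)) (Nat.ble 5344 i)) (Nat.ble 5312 i)) (Nat.ble 5248 i)) (Bool.rec (motive := fun _ => List ℕ) (Bool.rec (motive := fun _ => List ℕ) (Bool.rec (motive := fun _ => List ℕ) (Bool.rec (motive := fun _ => List ℕ) (Bool.rec (motive := fun _ => List ℕ) (Bool.rec (motive := fun _ => List ℕ) (Bool.rec (motive := fun _ => List ℕ) (Bool.rec (motive := fun _ => List ℕ) (rw5376) (rw5377) (Nat.ble 5377 i)) (Bool.rec (motive := fun _ => List ℕ) (rw5378) (rw5379) (Nat.ble 5379 i)) (Nat.ble 5378 i)) (Bool.rec (motive := fun _ => List ℕ) (Bool.rec (motive := fun _ => List ℕ) (rw5380) (rw5381) (Nat.ble 5381 i)) (Bool.rec (motive := fun _ => List ℕ) (rw5382) (rw5383) (Nat.ble 5383 i)) (Nat.ble 5382 i)) (Nat.ble 5380 i)) (Bool.rec (motive := fun _ => List ℕ) (Bool.rec (motive := fun _ => List ℕ) (Bool.rec (motive := fun _ => List ℕ) (rw5384) (rw5385) (Nat.ble 5385 i)) (Bool.rec (motive := fun _ => List ℕ) (rw5386) (rw5387) (Nat.ble 5387 i)) (Nat.ble 5386 i)) (Bool.rec (motive := fun _ => List ℕ) (Bool.rec (motive := fun _ => List ℕ) (rw5388) (rw5389) (Nat.ble 5389 i)) (Bool.rec (motive := fun _ => List ℕ) (rw5390) (rw5391) (Nat.ble 5391 i)) (Nat.ble 5390 i)) (Nat.ble 5388 i)) (Nat.ble 5384 i)) (Bool.rec (motive := fun _ => List ℕ) (Bool.rec (motive := fun _ => List ℕ) (Bool.rec (motive := fun _ => List ℕ) (Bool.rec (motive := fun _ => List ℕ) (rw5392) (rw5393) (Nat.ble 5393 i)) (Bool.rec (motive := fun _ => List ℕ) (rw5394) (rw5395) (Nat.ble 5395 i)) (Nat.ble 5394 i)) (Bool.rec (motive := fun _ => List ℕ) (Bool.rec (motive := fun _ => List ℕ) (rw5396) (rw5397) (Nat.ble 5397 i)) (Bool.rec (motive := fun _ => List ℕ) (rw5398) (rw5399) (Nat.ble 5399 i)) (Nat.ble 5398 i)) (Nat.ble 5396 i)) (Bool.rec (motive := fun _ => List ℕ) (Bool.rec (motive := fun _ => List ℕ) (Bool.rec (motive := fun _ => List ℕ) (rw5400) (rw5401) (Nat.ble 5401 i)) (Bool.rec (motive := fun _ => List ℕ) (rw5402) (rw5403) (Nat.ble 5403 i)) (Nat.ble 5402 i)) (Bool.rec (motive := fun _ => List ℕ) (Bool.rec (motive := fun _ => List ℕ) (rw5404) (rw5405) (Nat.ble 5405 i)) (Bool.rec (motive := fun _ => List ℕ) (rw5406) (rw5407) (Nat.ble 5407 i)) (Nat.ble 5406 i)) (Nat.ble 5404 i)) (Nat.ble 5400 i)) (Nat.ble 5392 i)) (Bool.rec (motive := fun _ => List ℕ) (Bool.rec (motive := fun _ => List ℕ) (Bool.rec (motive := fun _ => List ℕ) (Bool.rec (motive := fun _ => List ℕ) (Bool.rec (motive := fun _ => List ℕ) (rw5408) (rw5409) (Nat.ble 5409 i)) (Bool.rec (motive := fun _ => List ℕ) (rw5410) (rw5411) (Nat.ble 5411 i)) (Nat.ble 5410 i)) (Bool.rec (motive := fun _ => List ℕ) (Bool.rec (motive := fun _ => List ℕ) (rw5412) (rw5413) (Nat.ble 5413 i)) (Bool.rec (motive := fun _ => List ℕ) (rw5414) (rw5415) (Nat.ble 5415 i)) (Nat.ble 5414 i)) (Nat.ble 5412 i)) (Bool.rec (motive := fun _ => List ℕ) (Bool.rec (motive := fun _ => List ℕ) (Bool.rec (motive := fun _ => List ℕ) (rw5416) (rw5417) (Nat.ble 5417 i)) (Bool.rec (motive := fun _ => List ℕ) (rw5418) (rw5419) (Nat.ble 5419 i)) (Nat.ble 5418 i)) (Bool.rec (motive := fun _ => List ℕ) (Bool.rec (motive := fun _ => List ℕ) (rw5420) (rw5421) (Nat.ble 5421 i)) (Bool.rec (motive := fun _ => List ℕ) (rw5422) (rw5423) (Nat.ble 5423 i)) (Nat.ble 5422 i)) (Nat.ble 5420 i)) (Nat.ble 5416 i)) (Bool.rec (motive := fun _ => List ℕ) (Bool.rec (motive := fun _ => List ℕ) (Bool.rec (motive := fun _ => List ℕ) (Bool.rec (motive := fun _ => List ℕ) (rw5424) (rw5425) (Nat.ble 5425 i)) (Bool.rec (motive := fun _ => List ℕ) (rw5426) (rw5427) (Nat.ble 5427 i)) (Nat.ble 5426 i)) (Bool.rec (motive := fun _ => List ℕ) (Bool.rec (motive := fun _ => List ℕ) (rw5428) (rw5429) (Nat.ble 5429 i)) (Bool.rec (motive := fun _ => List ℕ) (rw5430) (rw5431) (Nat.ble 5431 i)) (Nat.ble 5430 i)) (Nat.ble 5428 i)) (Bool.rec (motive := fun _ => List ℕ) (Bool.rec (motive := fun _ => List ℕ) (Bool.rec (motive := fun _ => List ℕ) (rw5432) (rw5433) (Nat.ble 5433 i)) (Bool.rec (motive := fun _ => List ℕ) (rw5434) (rw5435) (Nat.ble 5435 i)) (Nat.ble 5434 i)) (Bool.rec (motive := fun _ => List ℕ) (Bool.rec (motive := fun _ => List ℕ) (rw5436) (rw5437) (Nat.ble 5437 i)) (Bool.rec (motive := fun _ => List ℕ) (rw5438) (rw5439) (Nat.ble 5439 i)) (Nat.ble 5438 i)) (Nat.ble 5436 i)) (Nat.ble 5432 i)) (Nat.ble 5424 i)) (Nat.ble 5408 i)) (Bool.rec (motive := fun _ => List ℕ) (Bool.rec (motive := fun _ => List ℕ) (Bool.rec (motive := fun _ => List ℕ) (Bool.rec (motive := fun _ => List ℕ) (Bool.rec (motive := fun _ => List ℕ) (Bool.rec (motive := fun _ => List ℕ) (rw5440) (rw5441) (Nat.ble 5441 i)) (Bool.rec (motive := fun _ => List ℕ) (rw5442) (rw5443) (Nat.ble 5443 i)) (Nat.ble 5442 i)) (Bool.rec (motive := fun _ => List ℕ) (Bool.rec (motive := fun _ => List ℕ) (rw5444) (rw5445) (Nat.ble 5445 i)) (Bool.rec (motive := fun _ => List ℕ) (rw5446) (rw5447) (Nat.ble 5447 i)) (Nat.ble 5446 i)) (Nat.ble 5444 i)) (Bool.rec (motive := fun _ => List ℕ) (Bool.rec (motive := fun _ => List ℕ) (Bool.rec (motive := fun _ => List ℕ) (rw5448) (rw5449) (Nat.ble 5449 i)) (Bool.rec (motive := fun _ => List ℕ) (rw5450) (rw5451) (Nat.ble 5451 i)) (Nat.ble 5450 i)) (Bool.rec (motive := fun _ => List ℕ) (Bool.rec (motive := fun _ => List ℕ) (rw5452) (rw5453) (Nat.ble 5453 i)) (Bool.rec (motive := fun _ => List ℕ) (rw5454) (rw5455) (Nat.ble 5455 i)) (Nat.ble 5454 i)) (Nat.ble 5452 i)) (Nat.ble 5448 i)) (Bool.rec (motive := fun _ => List ℕ) (Bool.rec (motive := fun _ => List ℕ) (Bool.rec (motive := fun _ => List ℕ) (Bool.rec (motive := fun _ => List ℕ) (rw5456) (rw5457) (Nat.ble 5457 i)) (Bool.rec (motive := fun _ => List ℕ) (rw5458) (rw5459) (Nat.ble 5459 i)) (Nat.ble 5458 i)) (Bool.rec (motive := fun _ => List ℕ) (Bool.rec (motive := fun _ => List ℕ) (rw5460) (rw5461) (Nat.ble 5461 i)) (Bool.rec (motive := fun _ => List ℕ) (rw5462) (rw5463) (Nat.ble 5463 i)) (Nat.ble 5462 i)) (Nat.ble 5460 i)) (Bool.rec (motive := fun _ => List ℕ) (Bool.rec (motive := fun _ => List ℕ) (Bool.rec (motive := fun _ => List ℕ) (rw5464) (rw5465) (Nat.ble 5465 i)) (Bool.rec (motive := fun _ => List ℕ) (rw5466) (rw5467) (Nat.ble 5467 i)) (Nat.ble 5466 i)) (Bool.rec (motive := fun _ => List ℕ) (Bool.rec (motive := fun _ => List ℕ) (rw5468) (rw5469) (Nat.ble 5469 i)) (Bool.rec (motive := fun _ => List ℕ) (rw5470) (rw5471) (Nat.ble 5471 i)) (Nat.ble 5470 i)) (Nat.ble 5468 i)) (Nat.ble 5464 i)) (Nat.ble 5456 i)) (Bool.rec (motive := fun _ => List ℕ) (Bool.rec (motive := fun _ => List ℕ) (Bool.rec (motive := fun _ => List ℕ) (Bool.rec (motive := fun _ => List ℕ) (Bool.rec (motive := fun _ => List ℕ) (rw5472) (rw5473) (Nat.ble 5473 i)) (Bool.rec (motive := fun _ => List ℕ) (rw5474) (rw5475) (Nat.ble 5475 i)) (Nat.ble 5474 i)) (Bool.rec (motive := fun _ => List ℕ) (Bool.rec (motive := fun _ => List ℕ) (rw5476) (rw5477) (Nat.ble 5477 i)) (Bool.rec (motive := fun _ => List ℕ) (rw5478) (rw5479) (Nat.ble 5479 i)) (Nat.ble 5478 i)) (Nat.ble 5476 i)) (Bool.rec (motive := fun _ => List ℕ) (Bool.rec (motive := fun _ => List ℕ) (Bool.rec (motive := fun _ => List ℕ) (rw5480) (rw5481) (Nat.ble 5481 i)) (Bool.rec (motive := fun _ => List ℕ) (rw5482) (rw5483) (Nat.ble 5483 i)) (Nat.ble 5482 i)) (Bool.rec (motive := fun _ => List ℕ) (Bool.rec (motive := fun _ => List ℕ) (rw5484) (rw5485) (Nat.ble 5485 i)) (Bool.rec (motive := fun _ => List ℕ) (rw5486) (rw5487) (Nat.ble 5487 i)) (Nat.ble 5486 i)) (Nat.ble 5484 i)) (Nat.ble 5480 i)) (Bool.rec (motive := fun _ => List ℕ) (Bool.rec (motive := fun _ => List ℕ) (Bool.rec (motive := fun _ => List ℕ) (Bool.rec (motive := fun _ => List ℕ) (rw5488) (rw5489) (Nat.ble 5489 i)) (Bool.rec (motive := fun _ => List ℕ) (rw5490) (rw5491) (Nat.ble 5491 i)) (Nat.ble 5490 i)) (Bool.rec (motive := fun _ => List ℕ) (Bool.rec (motive := fun _ => List ℕ) (rw5492) (rw5493) (Nat.ble 5493 i)) (Bool.rec (motive := fun _ => List ℕ) (rw5494) (rw5495) (Nat.ble 5495 i)) (Nat.ble 5494 i)) (Nat.ble 5492 i)) (Bool.rec (motive := fun _ => List ℕ) (Bool.rec (motive := fun _ => List ℕ) (Bool.rec (motive := fun _ => List ℕ) (rw5496) (rw5497) (Nat.ble 5497 i)) (Bool.rec (motive := fun _ => List ℕ) (rw5498) (rw5499) (Nat.ble 5499 i)) (Nat.ble 5498 i)) (Bool.rec (motive := fun _ => List ℕ) (Bool.rec (motive := fun _ => List ℕ) (rw5500) (rw5501) (Nat.ble 5501 i)) (Bool.rec (motive := fun _ => List ℕ) (rw5502) (rw5503) (Nat.ble 5503 i)) (Nat.ble 5502 i)) (Nat.ble 5500 i)) (Nat.ble 5496 i)) (Nat.ble 5488 i)) (Nat.ble 5472 i)) (Nat.ble 5440 i)) (Bool.rec (motive := fun _ => List ℕ) (Bool.rec (motive := fun _ => List ℕ) (Bool.rec (motive := fun _ => List ℕ) (Bool.rec (motive := fun _ => List ℕ) (Bool.rec (motive := fun _ => List ℕ) (Bool.rec (motive := fun _ => List ℕ) (Bool.rec (motive := fun _ => List ℕ) (rw5504) (rw5505) (Nat.ble 5505 i)) (Bool.rec (motive := fun _ => List ℕ) (rw5506) (rw5507) (Nat.ble 5507 i)) (Nat.ble 5506 i)) (Bool.rec (motive := fun _ => List ℕ) (Bool.rec (motive := fun _ => List ℕ) (rw5508) (rw5509) (Nat.ble 5509 i)) (Bool.rec (motive := fun _ => List ℕ) (rw5510) (rw5511) (Nat.ble 5511 i)) (Nat.ble 5510 i)) (Nat.ble 5508 i)) (Bool.rec (motive := fun _ => List ℕ) (Bool.rec (motive := fun _ => List ℕ) (Bool.rec (motive := fun _ => List ℕ) (rw5512) (rw5513) (Nat.ble 5513 i)) (Bool.rec (motive := fun _ => List ℕ) (rw5514) (rw5515) (Nat.ble 5515 i)) (Nat.ble 5514 i)) (Bool.rec (motive := fun _ => List ℕ) (Bool.rec (motive := fun _ => List ℕ) (rw5516) (rw5517) (Nat.ble 5517 i)) (Bool.rec (motive := fun _ => List ℕ) (rw5518) (rw5519) (Nat.ble 5519 i)) (Nat.ble 5518 i)) (Nat.ble 5516 i)) (Nat.ble 5512 i)) (Bool.rec (motive := fun _ => List ℕ) (Bool.rec (motive := fun _ => List ℕ) (Bool.rec (motive := fun _ => List ℕ) (Bool.rec (motive := fun _ => List ℕ) (rw5520) (rw5521) (Nat.ble 5521 i)) (Bool.rec (motive := fun _ => List ℕ) (rw5522) (rw5523) (Nat.ble 5523 i)) (Nat.ble 5522 i)) (Bool.rec (motive := fun _ => List ℕ) (Bool.rec (motive := fun _ => List ℕ) (rw5524) (rw5525) (Nat.ble 5525 i)) (Bool.rec (motive := fun _ => List ℕ) (rw5526) (rw5527) (Nat.ble 5527 i)) (Nat.ble 5526 i)) (Nat.ble 5524 i)) (Bool.rec (motive := fun _ => List ℕ) (Bool.rec (motive := fun _ => List ℕ) (Bool.rec (motive := fun _ => List ℕ) (rw5528) (rw5529) (Nat.ble 5529 i)) (Bool.rec (motive := fun _ => List ℕ) (rw5530) (rw5531) (Nat.ble 5531 i)) (Nat.ble 5530 i)) (Bool.rec (motive := fun _ => List ℕ) (Bool.rec (motive := fun _ => List ℕ) (rw5532) (rw5533) (Nat.ble 5533 i)) (Bool.rec (motive := fun _ => List ℕ) (rw5534) (rw5535) (Nat.ble 5535 i)) (Nat.ble 5534 i)) (Nat.ble 5532 i)) (Nat.ble 5528 i)) (Nat.ble 5520 i)) (Bool.rec (motive := fun _ => List ℕ) (Bool.rec (motive := fun _ => List ℕ) (Bool.rec (motive := fun _ => List ℕ) (Bool.rec (motive := fun _ => List ℕ) (Bool.rec (motive := fun _ => List ℕ) (rw5536) (rw5537) (Nat.ble 5537 i)) (Bool.rec (motive := fun _ => List ℕ) (rw5538) (rw5539) (Nat.ble 5539 i)) (Nat.ble 5538 i)) (Bool.rec (motive := fun _ => List ℕ) (Bool.rec (motive := fun _ => List ℕ) (rw5540) (rw5541) (Nat.ble 5541 i)) (Bool.rec (motive := fun _ => List ℕ) (rw5542) (rw5543) (Nat.ble 5543 i)) (Nat.ble 5542 i)) (Nat.ble 5540 i)) (Bool.rec (motive := fun _ => List ℕ) (Bool.rec (motive := fun _ => List ℕ) (Bool.rec (motive := fun _ => List ℕ) (rw5544) (rw5545) (Nat.ble 5545 i)) (Bool.rec (motive := fun _ => List ℕ) (rw5546) (rw5547) (Nat.ble 5547 i)) (Nat.ble 5546 i)) (Bool.rec (motive := fun _ => List ℕ) (Bool.rec (motive := fun _ => List ℕ) (rw5548) (rw5549) (Nat.ble 5549 i)) (Bool.rec (motive := fun _ => List ℕ) (rw5550) (rw5551) (Nat.ble 5551 i)) (Nat.ble 5550 i)) (Nat.ble 5548 i)) (Nat.ble 5544 i)) (Bool.rec (motive := fun _ => List ℕ) (Bool.rec (motive := fun _ => List ℕ) (Bool.rec (motive := fun _ => List ℕ) (Bool.rec (motive := fun _ => List ℕ) (rw5552) (rw5553) (Nat.ble 5553 i)) (Bool.rec (motive := fun _ => List ℕ) (rw5554) (rw5555) (Nat.ble 5555 i)) (Nat.ble 5554 i)) (Bool.rec (motive := fun _ => List ℕ) (Bool.rec (motive := fun _ => List ℕ) (rw5556) (rw5557) (Nat.ble 5557 i)) (Bool.rec (motive := fun _ => List ℕ) (rw5558) (rw5559) (Nat.ble 5559 i)) (Nat.ble 5558 i)) (Nat.ble 5556 i)) (Bool.rec (motive := fun _ => List ℕ) (Bool.rec (motive := fun _ => List ℕ) (Bool.rec (motive := fun _ => List ℕ) (rw5560) (rw5561) (Nat.ble 5561 i)) (Bool.rec (motive := fun _ => List ℕ) (rw5562) (rw5563) (Nat.ble 5563 i)) (Nat.ble 5562 i)) (Bool.rec (motive := fun _ => List ℕ) (Bool.rec (motive := fun _ => List ℕ) (rw5564) (rw5565) (Nat.ble 5565 i)) (Bool.rec (motive := fun _ => List ℕ) (rw5566) (rw5567) (Nat.ble 5567 i)) (Nat.ble 5566 i)) (Nat.ble 5564 i)) (Nat.ble 5560 i)) (Nat.ble 5552 i)) (Nat.ble 5536 i)) (Bool.rec (motive := fun _ => List ℕ) (Bool.rec (motive := fun _ => List ℕ) (Bool.rec (motive := fun _ => List ℕ) (Bool.rec (motive := fun _ => List ℕ) (Bool.rec (motive := fun _ => List ℕ) (Bool.rec (motive := fun _ => List ℕ) (rw5568) (rw5569) (Nat.ble 5569 i)) (Bool.rec (motive := fun _ => List ℕ) (rw5570) (rw5571) (Nat.ble 5571 i)) (Nat.ble 5570 i)) (Bool.rec (motive := fun _ => List ℕ) (Bool.rec (motive := fun _ => List ℕ) (rw5572) (rw5573) (Nat.ble 5573 i)) (Bool.rec (motive := fun _ => List ℕ) (rw5574) (rw5575) (Nat.ble 5575 i)) (Nat.ble 5574 i)) (Nat.ble 5572 i)) (Bool.rec (motive := fun _ => List ℕ) (Bool.rec (motive := fun _ => List ℕ) (Bool.rec (motive := fun _ => List ℕ) (rw5576) (rw5577) (Nat.ble 5577 i)) (Bool.rec (motive := fun _ => List ℕ) (rw5578) (rw5579) (Nat.ble 5579 i)) (Nat.ble 5578 i)) (Bool.rec (motive := fun _ => List ℕ) (Bool.rec (motive := fun _ => List ℕ) (rw5580) (rw5581) (Nat.ble 5581 i)) (Bool.rec (motive := fun _ => List ℕ) (rw5582) (rw5583) (Nat.ble 5583 i)) (Nat.ble 5582 i)) (Nat.ble 5580 i)) (Nat.ble 5576 i)) (Bool.rec (motive := fun _ => List ℕ) (Bool.rec (motive := fun _ => List ℕ) (Bool.rec (motive := fun _ => List ℕ) (Bool.rec (motive := fun _ => List ℕ) (rw5584) (rw5585) (Nat.ble 5585 i)) (Bool.rec (motive := fun _ => List ℕ) (rw5586) (rw5587) (Nat.ble 5587 i)) (Nat.ble 5586 i)) (Bool.rec (motive := fun _ => List ℕ) (Bool.rec (motive := fun _ => List ℕ) (rw5588) (rw5589) (Nat.ble 5589 i)) (Bool.rec (motive := fun _ => List ℕ) (rw5590) (rw5591) (Nat.ble 5591 i)) (Nat.ble 5590 i)) (Nat.ble 5588 i)) (Bool.rec (motive := fun _ => List ℕ) (Bool.rec (motive := fun _ => List ℕ) (Bool.rec (motive := fun _ => List ℕ) (rw5592) (rw5593) (Nat.ble 5593 i)) (Bool.rec (motive := fun _ => List ℕ) (rw5594) (rw5595) (Nat.ble 5595 i)) (Nat.ble 5594 i)) (Bool.rec (motive := fun _ => List ℕ) (Bool.rec (motive := fun _ => List ℕ) (rw5596) (rw5597) (Nat.ble 5597 i)) (Bool.rec (motive := fun _ => List ℕ) (rw5598) (rw5599) (Nat.ble 5599 i)) (Nat.ble 5598 i)) (Nat.ble 5596 i)) (Nat.ble 5592 i)) (Nat.ble 5584 i)) (Bool.rec (motive := fun _ => List ℕ) (Bool.rec (motive := fun _ => List ℕ) (Bool.rec (motive := fun _ => List ℕ) (Bool.rec (motive := fun _ => List ℕ) (Bool.rec (motive := fun _ => List ℕ) (rw5600) (rw5601) (Nat.ble 5601 i)) (Bool.rec (motive := fun _ => List ℕ) (rw5602) (rw5603) (Nat.ble 5603 i)) (Nat.ble 5602 i)) (Bool.rec (motive := fun _ => List ℕ) (Bool.rec (motive := fun _ => List ℕ) (rw5604) (rw5605) (Nat.ble 5605 i)) (Bool.rec (motive := fun _ => List ℕ) (rw5606) (rw5607) (Nat.ble 5607 i)) (Nat.ble 5606 i)) (Nat.ble 5604 i)) (Bool.rec (motive := fun _ => List ℕ) (Bool.rec (motive := fun _ => List ℕ) (Bool.rec (motive := fun _ => List ℕ) (rw5608) (rw5609) (Nat.ble 5609 i)) (Bool.rec (motive := fun _ => List ℕ) (rw5610) (rw5611) (Nat.ble 5611 i)) (Nat.ble 5610 i)) (Bool.rec (motive := fun _ => List ℕ) (Bool.rec (motive := fun _ => List ℕ) (rw5612) (rw5613) (Nat.ble 5613 i)) (Bool.rec (motive := fun _ => List ℕ) (rw5614) (rw5615) (Nat.ble 5615 i)) (Nat.ble 5614 i)) (Nat.ble 5612 i)) (Nat.ble 5608 i)) (Bool.rec (motive := fun _ => List ℕ) (Bool.rec (motive := fun _ => List ℕ) (Bool.rec (motive := fun _ => List ℕ) (Bool.rec (motive := fun _ => List ℕ) (rw5616) (rw5617) (Nat.ble 5617 i)) (Bool.rec (motive := fun _ => List ℕ) (rw5618) (rw5619) (Nat.ble 5619 i)) (Nat.ble 5618 i)) (Bool.rec (motive := fun _ => List ℕ) (Bool.rec (motive := fun _ => List ℕ) (rw5620) (rw5621) (Nat.ble 5621 i)) (Bool.rec (motive := fun _ => List ℕ) (rw5622) (rw5623) (Nat.ble 5623 i)) (Nat.ble 5622 i)) (Nat.ble 5620 i)) (Bool.rec (motive := fun _ => List ℕ) (Bool.rec (motive := fun _ => List ℕ) (Bool.rec (motive := fun _ => List ℕ) (rw5624) (rw5625) (Nat.ble 5625 i)) (Bool.rec (motive := fun _ => List ℕ) (rw5626) (rw5627) (Nat.ble 5627 i)) (Nat.ble 5626 i)) (Bool.rec (motive := fun _ => List ℕ) (Bool.rec (motive := fun _ => List ℕ) (rw5628) (rw5629) (Nat.ble 5629 i)) (Bool.rec (motive := fun _ => List ℕ) (rw5630) (rw5631) (Nat.ble 5631 i)) (Nat.ble 5630 i)) (Nat.ble 5628 i)) (Nat.ble 5624 i)) (Nat.ble 5616 i)) (Nat.ble 5600 i)) (Nat.ble 5568 i)) (Nat.ble 5504 i)) (Nat.ble 5376 i)) (Bool.rec (motive := fun _ => List ℕ) (Bool.rec (motive := fun _ => List ℕ) (Bool.rec (motive := fun _ => List ℕ) (Bool.rec (motive := fun _ => List ℕ) (Bool.rec (motive := fun _ => List ℕ) (Bool.rec (motive := fun _ => List ℕ) (Bool.rec (motive := fun _ => List ℕ) (Bool.rec (motive := fun _ => List ℕ) (Bool.rec (motive := fun _ => List ℕ) (rw5632) (rw5633) (Nat.ble 5633 i)) (Bool.rec (motive := fun _ => List ℕ) (rw5634) (rw5635) (Nat.ble 5635 i)) (Nat.ble 5634 i)) (Bool.rec (motive := fun _ => List ℕ) (Bool.rec (motive := fun _ => List ℕ) (rw5636) (rw5637) (Nat.ble 5637 i)) (Bool.rec (motive := fun _ => List ℕ) (rw5638) (rw5639) (Nat.ble 5639 i)) (Nat.ble 5638 i)) (Nat.ble 5636 i)) (Bool.rec (motive := fun _ => List ℕ) (Bool.rec (motive := fun _ => List ℕ) (Bool.rec (motive := fun _ => List ℕ) (rw5640) (rw5641) (Nat.ble 5641 i)) (Bool.rec (motive := fun _ => List ℕ) (rw5642) (rw5643) (Nat.ble 5643 i)) (Nat.ble 5642 i)) (Bool.rec (motive := fun _ => List ℕ) (Bool.rec (motive := fun _ => List ℕ) (rw5644) (rw5645) (Nat.ble 5645 i)) (Bool.rec (motive := fun _ => List ℕ) (rw5646) (rw5647) (Nat.ble 5647 i)) (Nat.ble 5646 i)) (Nat.ble 5644 i)) (Nat.ble 5640 i)) (Bool.rec (motive := fun _ => List ℕ) (Bool.rec (motive := fun _ => List ℕ) (Bool.rec (motive := fun _ => List ℕ) (Bool.rec (motive := fun _ => List ℕ) (rw5648) (rw5649) (Nat.ble 5649 i)) (Bool.rec (motive := fun _ => List ℕ) (rw5650) (rw5651) (Nat.ble 5651 i)) (Nat.ble 5650 i)) (Bool.rec (motive := fun _ => List ℕ) (Bool.rec (motive := fun _ => List ℕ) (rw5652) (rw5653) (Nat.ble 5653 i)) (Bool.rec (motive := fun _ => List ℕ) (rw5654) (rw5655) (Nat.ble 5655 i)) (Nat.ble 5654 i)) (Nat.ble 5652 i)) (Bool.rec (motive := fun _ => List ℕ) (Bool.rec (motive := fun _ => List ℕ) (Bool.rec (motive := fun _ => List ℕ) (rw5656) (rw5657) (Nat.ble 5657 i)) (Bool.rec (motive := fun _ => List ℕ) (rw5658) (rw5659) (Nat.ble 5659 i)) (Nat.ble 5658 i)) (Bool.rec (motive := fun _ => List ℕ) (Bool.rec (motive := fun _ => List ℕ) (rw5660) (rw5661) (Nat.ble 5661 i)) (Bool.rec (motive := fun _ => List ℕ) (rw5662) (rw5663) (Nat.ble 5663 i)) (Nat.ble 5662 i)) (Nat.ble 5660 i)) (Nat.ble 5656 i)) (Nat.ble 5648 i)) (Bool.rec (motive := fun _ => List ℕ) (Bool.rec (motive := fun _ => List ℕ) (Bool.rec (motive := fun _ => List ℕ) (Bool.rec (motive := fun _ => List ℕ) (Bool.rec (motive := fun _ => List ℕ) (rw5664) (rw5665) (Nat.ble 5665 i)) (Bool.rec (motive := fun _ => List ℕ) (rw5666) (rw5667) (Nat.ble 5667 i)) (Nat.ble 5666 i)) (Bool.rec (motive := fun _ => List ℕ) (Bool.rec (motive := fun _ => List ℕ) (rw5668) (rw5669) (Nat.ble 5669 i)) (Bool.rec (motive := fun _ => List ℕ) (rw5670) (rw5671) (Nat.ble 5671 i)) (Nat.ble 5670 i)) (Nat.ble 5668 i)) (Bool.rec (motive := fun _ => List ℕ) (Bool.rec (motive := fun _ => List ℕ) (Bool.rec (motive := fun _ => List ℕ) (rw5672) (rw5673) (Nat.ble 5673 i)) (Bool.rec (motive := fun _ => List ℕ) (rw5674) (rw5675) (Nat.ble 5675 i)) (Nat.ble 5674 i)) (Bool.rec (motive := fun _ => List ℕ) (Bool.rec (motive := fun _ => List ℕ) (rw5676) (rw5677) (Nat.ble 5677 i)) (Bool.rec (motive := fun _ => List ℕ) (rw5678) (rw5679) (Nat.ble 5679 i)) (Nat.ble 5678 i)) (Nat.ble 5676 i)) (Nat.ble 5672 i)) (Bool.rec (motive := fun _ => List ℕ) (Bool.rec (motive := fun _ => List ℕ) (Bool.rec (motive := fun _ => List ℕ) (Bool.rec (motive := fun _ => List ℕ) (rw5680) (rw5681) (Nat.ble 5681 i)) (Bool.rec (motive := fun _ => List ℕ) (rw5682) (rw5683) (Nat.ble 5683 i)) (Nat.ble 5682 i)) (Bool.rec (motive := fun _ => List ℕ) (Bool.rec (motive := fun _ => List ℕ) (rw5684) (rw5685) (Nat.ble 5685 i)) (Bool.rec (motive := fun _ => List ℕ) (rw5686) (rw5687) (Nat.ble 5687 i)) (Nat.ble 5686 i)) (Nat.ble 5684 i)) (Bool.rec (motive := fun _ => List ℕ) (Bool.rec (motive := fun _ => List ℕ) (Bool.rec (motive := fun _ => List ℕ) (rw5688) (rw5689) (Nat.ble 5689 i)) (Bool.rec (motive := fun _ => List ℕ) (rw5690) (rw5691) (Nat.ble 5691 i)) (Nat.ble 5690 i)) (Bool.rec (motive := fun _ => List ℕ) (Bool.rec (motive := fun _ => List ℕ) (rw5692) (rw5693) (Nat.ble 5693 i)) (Bool.rec (motive := fun _ => List ℕ) (rw5694) (rw5695) (Nat.ble 5695 i)) (Nat.ble 5694 i)) (Nat.ble 5692 i)) (Nat.ble 5688 i)) (Nat.ble 5680 i)) (Nat.ble 5664 i)) (Bool.rec (motive := fun _ => List ℕ) (Bool.rec (motive := fun _ => List ℕ) (Bool.rec (motive := fun _ => List ℕ) (Bool.rec (motive := fun _ => List ℕ) (Bool.rec (motive := fun _ => List ℕ) (Bool.rec (motive := fun _ => List ℕ) (rw5696) (rw5697) (Nat.ble 5697 i)) (Bool.rec (motive := fun _ => List ℕ) (rw5698) (rw5699) (Nat.ble 5699 i)) (Nat.ble 5698 i)) (Bool.rec (motive := fun _ => List ℕ) (Bool.rec (motive := fun _ => List ℕ) (rw5700) (rw5701) (Nat.ble 5701 i)) (Bool.rec (motive := fun _ => List ℕ) (rw5702) (rw5703) (Nat.ble 5703 i)) (Nat.ble 5702 i)) (Nat.ble 5700 i)) (Bool.rec (motive := fun _ => List ℕ) (Bool.rec (motive := fun _ => List ℕ) (Bool.rec (motive := fun _ => List ℕ) (rw5704) (rw5705) (Nat.ble 5705 i)) (Bool.rec (motive := fun _ => List ℕ) (rw5706) (rw5707) (Nat.ble 5707 i)) (Nat.ble 5706 i)) (Bool.rec (motive := fun _ => List ℕ) (Bool.rec (motive := fun _ => List ℕ) (rw5708) (rw5709) (Nat.ble 5709 i)) (Bool.rec (motive := fun _ => List ℕ) (rw5710) (rw5711) (Nat.ble 5711 i)) (Nat.ble 5710 i)) (Nat.ble 5708 i)) (Nat.ble 5704 i)) (Bool.rec (motive := fun _ => List ℕ) (Bool.rec (motive := fun _ => List ℕ) (Bool.rec (motive := fun _ => List ℕ) (Bool.rec (motive := fun _ => List ℕ) (rw5712) (rw5713) (Nat.ble 5713 i)) (Bool.rec (motive := fun _ => List ℕ) (rw5714) (rw5715) (Nat.ble 5715 i)) (Nat.ble 5714 i)) (Bool.rec (motive := fun _ => List ℕ) (Bool.rec (motive := fun _ => List ℕ) (rw5716) (rw5717) (Nat.ble 5717 i)) (Bool.rec (motive := fun _ => List ℕ) (rw5718) (rw5719) (Nat.ble 5719 i)) (Nat.ble 5718 i)) (Nat.ble 5716 i)) (Bool.rec (motive := fun _ => List ℕ) (Bool.rec (motive := fun _ => List ℕ) (Bool.rec (motive := fun _ => List ℕ) (rw5720) (rw5721) (Nat.ble 5721 i)) (Bool.rec (motive := fun _ => List ℕ) (rw5722) (rw5723) (Nat.ble 5723 i)) (Nat.ble 5722 i)) (Bool.rec (motive := fun _ => List ℕ) (Bool.rec (motive := fun _ => List ℕ) (rw5724) (rw5725) (Nat.ble 5725 i)) (Bool.rec (motive := fun _ => List ℕ) (rw5726) (rw5727) (Nat.ble 5727 i)) (Nat.ble 5726 i)) (Nat.ble 5724 i)) (Nat.ble 5720 i)) (Nat.ble 5712 i)) (Bool.rec (motive := fun _ => List ℕ) (Bool.rec (motive := fun _ => List ℕ) (Bool.rec (motive := fun _ => List ℕ) (Bool.rec (motive := fun _ => List ℕ) (Bool.rec (motive := fun _ => List ℕ) (rw5728) (rw5729) (Nat.ble 5729 i)) (Bool.rec (motive := fun _ => List ℕ) (rw5730) (rw5731) (Nat.ble 5731 i)) (Nat.ble 5730 i)) (Bool.rec (motive := fun _ => List ℕ) (Bool.rec (motive := fun _ => List ℕ) (rw5732) (rw5733) (Nat.ble 5733 i)) (Bool.rec (motive := fun _ => List ℕ) (rw5734) (rw5735) (Nat.ble 5735 i)) (Nat.ble 5734 i)) (Nat.ble 5732 i)) (Bool.rec (motive := fun _ => List ℕ) (Bool.rec (motive := fun _ => List ℕ) (Bool.rec (motive := fun _ => List ℕ) (rw5736) (rw5737) (Nat.ble 5737 i)) (Bool.rec (motive := fun _ => List ℕ) (rw5738) (rw5739) (Nat.ble 5739 i)) (Nat.ble 5738 i)) (Bool.rec (motive := fun _ => List ℕ) (Bool.rec (motive := fun _ => List ℕ) (rw5740) (rw5741) (Nat.ble 5741 i)) (Bool.rec (motive := fun _ => List ℕ) (rw5742) (rw5743) (Nat.ble 5743 i)) (Nat.ble 5742 i)) (Nat.ble 5740 i)) (Nat.ble 5736 i)) (Bool.rec (motive := fun _ => List ℕ) (Bool.rec (motive := fun _ => List ℕ) (Bool.rec (motive := fun _ => List ℕ) (Bool.rec (motive := fun _ => List ℕ) (rw5744) (rw5745) (Nat.ble 5745 i)) (Bool.rec (motive := fun _ => List ℕ) (rw5746) (rw5747) (Nat.ble 5747 i)) (Nat.ble 5746 i)) (Bool.rec (motive := fun _ => List ℕ) (Bool.rec (motive := fun _ => List ℕ) (rw5748) (rw5749) (Nat.ble 5749 i)) (Bool.rec (motive := fun _ => List ℕ) (rw5750) (rw5751) (Nat.ble 5751 i)) (Nat.ble 5750 i)) (Nat.ble 5748 i)) (Bool.rec (motive := fun _ => List ℕ) (Bool.rec (motive := fun _ => List ℕ) (Bool.rec (motive := fun _ => List ℕ) (rw5752) (rw5753) (Nat.ble 5753 i)) (Bool.rec (motive := fun _ => List ℕ) (rw5754) (rw5755) (Nat.ble 5755 i)) (Nat.ble 5754 i)) (Bool.rec (motive := fun _ => List ℕ) (Bool.rec (motive := fun _ => List ℕ) (rw5756) (rw5757) (Nat.ble 5757 i)) (Bool.rec (motive := fun _ => List ℕ) (rw5758) (rw5759) (Nat.ble 5759 i)) (Nat.ble 5758 i)) (Nat.ble 5756 i)) (Nat.ble 5752 i)) (Nat.ble 5744 i)) (Nat.ble 5728 i)) (Nat.ble 5696 i)) (Bool.rec (motive := fun _ => List ℕ) (Bool.rec (motive := fun _ => List ℕ) (Bool.rec (motive := fun _ => List ℕ) (Bool.rec (motive := fun _ => List ℕ) (Bool.rec (motive := fun _ => List ℕ) (Bool.rec (motive := fun _ => List ℕ) (Bool.rec (motive := fun _ => List ℕ) (rw5760) (rw5761) (Nat.ble 5761 i)) (Bool.rec (motive := fun _ => List ℕ) (rw5762) (rw5763) (Nat.ble 5763 i)) (Nat.ble 5762 i)) (Bool.rec (motive := fun _ => List ℕ) (Bool.rec (motive := fun _ => List ℕ) (rw5764) (rw5765) (Nat.ble 5765 i)) (Bool.rec (motive := fun _ => List ℕ) (rw5766) (rw5767) (Nat.ble 5767 i)) (Nat.ble 5766 i)) (Nat.ble 5764 i)) (Bool.rec (motive := fun _ => List ℕ) (Bool.rec (motive := fun _ => List ℕ) (Bool.rec (motive := fun _ => List ℕ) (rw5768) (rw5769) (Nat.ble 5769 i)) (Bool.rec (motive := fun _ => List ℕ) (rw5770) (rw5771) (Nat.ble 5771 i)) (Nat.ble 5770 i)) (Bool.rec (motive := fun _ => List ℕ) (Bool.rec (motive := fun _ => List ℕ) (rw5772) (rw5773) (Nat.ble 5773 i)) (Bool.rec (motive := fun _ => List ℕ) (rw5774) (rw5775) (Nat.ble 5775 i)) (Nat.ble 5774 i)) (Nat.ble 5772 i)) (Nat.ble 5768 i)) (Bool.rec (motive := fun _ => List ℕ) (Bool.rec (motive := fun _ => List ℕ) (Bool.rec (motive := fun _ => List ℕ) (Bool.rec (motive := fun _ => List ℕ) (rw5776) (rw5777) (Nat.ble 5777 i)) (Bool.rec (motive := fun _ => List ℕ) (rw5778) (rw5779) (Nat.ble 5779 i)) (Nat.ble 5778 i)) (Bool.rec (motive := fun _ => List ℕ) (Bool.rec (motive := fun _ => List ℕ) (rw5780) (rw5781) (Nat.ble 5781 i)) (Bool.rec (motive := fun _ => List ℕ) (rw5782) (rw5783) (Nat.ble 5783 i)) (Nat.ble 5782 i)) (Nat.ble 5780 i)) (Bool.rec (motive := fun _ => List ℕ) (Bool.rec (motive := fun _ => List ℕ) (Bool.rec (motive := fun _ => List ℕ) (rw5784) (rw5785) (Nat.ble 5785 i)) (Bool.rec (motive := fun _ => List ℕ) (rw5786) (rw5787) (Nat.ble 5787 i)) (Nat.ble 5786 i)) (Bool.rec (motive := fun _ => List ℕ) (Bool.rec (motive := fun _ => List ℕ) (rw5788) (rw5789) (Nat.ble 5789 i)) (Bool.rec (motive := fun _ => List ℕ) (rw5790) (rw5791) (Nat.ble 5791 i)) (Nat.ble 5790 i)) (Nat.ble 5788 i)) (Nat.ble 5784 i)) (Nat.ble 5776 i)) (Bool.rec (motive := fun _ => List ℕ) (Bool.rec (motive := fun _ => List ℕ) (Bool.rec (motive := fun _ => List ℕ) (Bool.rec (motive := fun _ => List ℕ) (Bool.rec (motive := fun _ => List ℕ) (rw5792) (rw5793) (Nat.ble 5793 i)) (Bool.rec (motive := fun _ => List ℕ) (rw5794) (rw5795) (Nat.ble 5795 i)) (Nat.ble 5794 i)) (Bool.rec (motive := fun _ => List ℕ) (Bool.rec (motive := fun _ => List ℕ) (rw5796) (rw5797) (Nat.ble 5797 i)) (Bool.rec (motive := fun _ => List ℕ) (rw5798) (rw5799) (Nat.ble 5799 i)) (Nat.ble 5798 i)) (Nat.ble 5796 i)) (Bool.rec (motive := fun _ => List ℕ) (Bool.rec (motive := fun _ => List ℕ) (Bool.rec (motive := fun _ => List ℕ) (rw5800) (rw5801) (Nat.ble 5801 i)) (Bool.rec (motive := fun _ => List ℕ) (rw5802) (rw5803) (Nat.ble 5803 i)) (Nat.ble 5802 i)) (Bool.rec (motive := fun _ => List ℕ) (Bool.rec (motive := fun _ => List ℕ) (rw5804) (rw5805) (Nat.ble 5805 i)) (Bool.rec (motive := fun _ => List ℕ) (rw5806) (rw5807) (Nat.ble 5807 i)) (Nat.ble 5806 i)) (Nat.ble 5804 i)) (Nat.ble 5800 i)) (Bool.rec (motive := fun _ => List ℕ) (Bool.rec (motive := fun _ => List ℕ) (Bool.rec (motive := fun _ => List ℕ) (Bool.rec (motive := fun _ => List ℕ) (rw5808) (rw5809) (Nat.ble 5809 i)) (Bool.rec (motive := fun _ => List ℕ) (rw5810) (rw5811) (Nat.ble 5811 i)) (Nat.ble 5810 i)) (Bool.rec (motive := fun _ => List ℕ) (Bool.rec (motive := fun _ => List ℕ) (rw5812) (rw5813) (Nat.ble 5813 i)) (Bool.rec (motive := fun _ => List ℕ) (rw5814) (rw5815) (Nat.ble 5815 i)) (Nat.ble 5814 i)) (Nat.ble 5812 i)) (Bool.rec (motive := fun _ => List ℕ) (Bool.rec (motive := fun _ => List ℕ) (Bool.rec (motive := fun _ => List ℕ) (rw5816) (rw5817) (Nat.ble 5817 i)) (Bool.rec (motive := fun _ => List ℕ) (rw5818) (rw5819) (Nat.ble 5819 i)) (Nat.ble 5818 i)) (Bool.rec (motive := fun _ => List ℕ) (Bool.rec (motive := fun _ => List ℕ) (rw5820) (rw5821) (Nat.ble 5821 i)) (Bool.rec (motive := fun _ => List ℕ) (rw5822) (rw5823) (Nat.ble 5823 i)) (Nat.ble 5822 i)) (Nat.ble 5820 i)) (Nat.ble 5816 i)) (Nat.ble 5808 i)) (Nat.ble 5792 i)) (Bool.rec (motive := fun _ => List ℕ) (Bool.rec (motive := fun _ => List ℕ) (Bool.rec (motive := fun _ => List ℕ) (Bool.rec (motive := fun _ => List ℕ) (Bool.rec (motive := fun _ => List ℕ) (Bool.rec (motive := fun _ => List ℕ) (rw5824) (rw5825) (Nat.ble 5825 i)) (Bool.rec (motive := fun _ => List ℕ) (rw5826) (rw5827) (Nat.ble 5827 i)) (Nat.ble 5826 i)) (Bool.rec (motive := fun _ => List ℕ) (Bool.rec (motive := fun _ => List ℕ) (rw5828) (rw5829) (Nat.ble 5829 i)) (Bool.rec (motive := fun _ => List ℕ) (rw5830) (rw5831) (Nat.ble 5831 i)) (Nat.ble 5830 i)) (Nat.ble 5828 i)) (Bool.rec (motive := fun _ => List ℕ) (Bool.rec (motive := fun _ => List ℕ) (Bool.rec (motive := fun _ => List ℕ) (rw5832) (rw5833) (Nat.ble 5833 i)) (Bool.rec (motive := fun _ => List ℕ) (rw5834) (rw5835) (Nat.ble 5835 i)) (Nat.ble 5834 i)) (Bool.rec (motive := fun _ => List ℕ) (Bool.rec (motive := fun _ => List ℕ) (rw5836) (rw5837) (Nat.ble 5837 i)) (Bool.rec (motive := fun _ => List ℕ) (rw5838) (rw5839) (Nat.ble 5839 i)) (Nat.ble 5838 i)) (Nat.ble 5836 i)) (Nat.ble 5832 i)) (Bool.rec (motive := fun _ => List ℕ) (Bool.rec (motive := fun _ => List ℕ) (Bool.rec (motive := fun _ => List ℕ) (Bool.rec (motive := fun _ => List ℕ) (rw5840) (rw5841) (Nat.ble 5841 i)) (Bool.rec (motive := fun _ => List ℕ) (rw5842) (rw5843) (Nat.ble 5843 i)) (Nat.ble 5842 i)) (Bool.rec (motive := fun _ => List ℕ) (Bool.rec (motive := fun _ => List ℕ) (rw5844) (rw5845) (Nat.ble 5845 i)) (Bool.rec (motive := fun _ => List ℕ) (rw5846) (rw5847) (Nat.ble 5847 i)) (Nat.ble 5846 i)) (Nat.ble 5844 i)) (Bool.rec (motive := fun _ => List ℕ) (Bool.rec (motive := fun _ => List ℕ) (Bool.rec (motive := fun _ => List ℕ) (rw5848) (rw5849) (Nat.ble 5849 i)) (Bool.rec (motive := fun _ => List ℕ) (rw5850) (rw5851) (Nat.ble 5851 i)) (Nat.ble 5850 i)) (Bool.rec (motive := fun _ => List ℕ) (Bool.rec (motive := fun _ => List ℕ) (rw5852) (rw5853) (Nat.ble 5853 i)) (Bool.rec (motive := fun _ => List ℕ) (rw5854) (rw5855) (Nat.ble 5855 i)) (Nat.ble 5854 i)) (Nat.ble 5852 i)) (Nat.ble 5848 i)) (Nat.ble 5840 i)) (Bool.rec (motive := fun _ => List ℕ) (Bool.rec (motive := fun _ => List ℕ) (Bool.rec (motive := fun _ => List ℕ) (Bool.rec (motive := fun _ => List ℕ) (Bool.rec (motive := fun _ => List ℕ) (rw5856) (rw5857) (Nat.ble 5857 i)) (Bool.rec (motive := fun _ => List ℕ) (rw5858) (rw5859) (Nat.ble 5859 i)) (Nat.ble 5858 i)) (Bool.rec (motive := fun _ => List ℕ) (Bool.rec (motive := fun _ => List ℕ) (rw5860) (rw5861) (Nat.ble 5861 i)) (Bool.rec (motive := fun _ => List ℕ) (rw5862) (rw5863) (Nat.ble 5863 i)) (Nat.ble 5862 i)) (Nat.ble 5860 i)) (Bool.rec (motive := fun _ => List ℕ) (Bool.rec (motive := fun _ => List ℕ) (Bool.rec (motive := fun _ => List ℕ) (rw5864) (rw5865) (Nat.ble 5865 i)) (Bool.rec (motive := fun _ => List ℕ) (rw5866) (rw5867) (Nat.ble 5867 i)) (Nat.ble 5866 i)) (Bool.rec (motive := fun _ => List ℕ) (Bool.rec (motive := fun _ => List ℕ) (rw5868) (rw5869) (Nat.ble 5869 i)) (Bool.rec (motive := fun _ => List ℕ) (rw5870) (rw5871) (Nat.ble 5871 i)) (Nat.ble 5870 i)) (Nat.ble 5868 i)) (Nat.ble 5864 i)) (Bool.rec (motive := fun _ => List ℕ) (Bool.rec (motive := fun _ => List ℕ) (Bool.rec (motive := fun _ => List ℕ) (Bool.rec (motive := fun _ => List ℕ) (rw5872) (rw5873) (Nat.ble 5873 i)) (Bool.rec (motive := fun _ => List ℕ) (rw5874) (rw5875) (Nat.ble 5875 i)) (Nat.ble 5874 i)) (Bool.rec (motive := fun _ => List ℕ) (Bool.rec (motive := fun _ => List ℕ) (rw5876) (rw5877) (Nat.ble 5877 i)) (Bool.rec (motive := fun _ => List ℕ) (rw5878) (rw5879) (Nat.ble 5879 i)) (Nat.ble 5878 i)) (Nat.ble 5876 i)) (Bool.rec (motive := fun _ => List ℕ) (Bool.rec (motive := fun _ => List ℕ) (Bool.rec (motive := fun _ => List ℕ) (rw5880) (rw5881) (Nat.ble 5881 i)) (Bool.rec (motive := fun _ => List ℕ) (rw5882) (rw5883) (Nat.ble 5883 i)) (Nat.ble 5882 i)) (Bool.rec (motive := fun _ => List ℕ) (Bool.rec (motive := fun _ => List ℕ) (rw5884) (rw5885) (Nat.ble 5885 i)) (Bool.rec (motive := fun _ => List ℕ) (rw5886) (rw5887) (Nat.ble 5887 i)) (Nat.ble 5886 i)) (Nat.ble 5884 i)) (Nat.ble 5880 i)) (Nat.ble 5872 i)) (Nat.ble 5856 i)) (Nat.ble 5824 i)) (Nat.ble 5760 i)) (Bool.rec (motive := fun _ => List ℕ) (Bool.rec (motive := fun _ => List ℕ) (Bool.rec (motive := fun _ => List ℕ) (Bool.rec (motive := fun _ => List ℕ) (Bool.rec (motive := fun _ => List ℕ) (Bool.rec (motive := fun _ => List ℕ) (Bool.rec (motive := fun _ => List ℕ) (Bool.rec (motive := fun _ => List ℕ) (rw5888) (rw5889) (Nat.ble 5889 i)) (Bool.rec (motive := fun _ => List ℕ) (rw5890) (rw5891) (Nat.ble 5891 i)) (Nat.ble 5890 i)) (Bool.rec (motive := fun _ => List ℕ) (Bool.rec (motive := fun _ => List ℕ) (rw5892) (rw5893) (Nat.ble 5893 i)) (Bool.rec (motive := fun _ => List ℕ) (rw5894) (rw5895) (Nat.ble 5895 i)) (Nat.ble 5894 i)) (Nat.ble 5892 i)) (Bool.rec (motive := fun _ => List ℕ) (Bool.rec (motive := fun _ => List ℕ) (Bool.rec (motive := fun _ => List ℕ) (rw5896) (rw5897) (Nat.ble 5897 i)) (Bool.rec (motive := fun _ => List ℕ) (rw5898) (rw5899) (Nat.ble 5899 i)) (Nat.ble 5898 i)) (Bool.rec (motive := fun _ => List ℕ) (Bool.rec (motive := fun _ => List ℕ) (rw5900) (rw5901) (Nat.ble 5901 i)) (Bool.rec (motive := fun _ => List ℕ) (rw5902) (rw5903) (Nat.ble 5903 i)) (Nat.ble 5902 i)) (Nat.ble 5900 i)) (Nat.ble 5896 i)) (Bool.rec (motive := fun _ => List ℕ) (Bool.rec (motive := fun _ => List ℕ) (Bool.rec (motive := fun _ => List ℕ) (Bool.rec (motive := fun _ => List ℕ) (rw5904) (rw5905) (Nat.ble 5905 i)) (Bool.rec (motive := fun _ => List ℕ) (rw5906) (rw5907) (Nat.ble 5907 i)) (Nat.ble 5906 i)) (Bool.rec (motive := fun _ => List ℕ) (Bool.rec (motive := fun _ => List ℕ) (rw5908) (rw5909) (Nat.ble 5909 i)) (Bool.rec (motive := fun _ => List ℕ) (rw5910) (rw5911) (Nat.ble 5911 i)) (Nat.ble 5910 i)) (Nat.ble 5908 i)) (Bool.rec (motive := fun _ => List ℕ) (Bool.rec (motive := fun _ => List ℕ) (Bool.rec (motive := fun _ => List ℕ) (rw5912) (rw5913) (Nat.ble 5913 i)) (Bool.rec (motive := fun _ => List ℕ) (rw5914) (rw5915) (Nat.ble 5915 i)) (Nat.ble 5914 i)) (Bool.rec (motive := fun _ => List ℕ) (Bool.rec (motive := fun _ => List ℕ) (rw5916) (rw5917) (Nat.ble 5917 i)) (Bool.rec (motive := fun _ => List ℕ) (rw5918) (rw5919) (Nat.ble 5919 i)) (Nat.ble 5918 i)) (Nat.ble 5916 i)) (Nat.ble 5912 i)) (Nat.ble 5904 i)) (Bool.rec (motive := fun _ => List ℕ) (Bool.rec (motive := fun _ => List ℕ) (Bool.rec (motive := fun _ => List ℕ) (Bool.rec (motive := fun _ => List ℕ) (Bool.rec (motive := fun _ => List ℕ) (rw5920) (rw5921) (Nat.ble 5921 i)) (Bool.rec (motive := fun _ => List ℕ) (rw5922) (rw5923) (Nat.ble 5923 i)) (Nat.ble 5922 i)) (Bool.rec (motive := fun _ => List ℕ) (Bool.rec (motive := fun _ => List ℕ) (rw5924) (rw5925) (Nat.ble 5925 i)) (Bool.rec (motive := fun _ => List ℕ) (rw5926) (rw5927) (Nat.ble 5927 i)) (Nat.ble 5926 i)) (Nat.ble 5924 i)) (Bool.rec (motive := fun _ => List ℕ) (Bool.rec (motive := fun _ => List ℕ) (Bool.rec (motive := fun _ => List ℕ) (rw5928) (rw5929) (Nat.ble 5929 i)) (Bool.rec (motive := fun _ => List ℕ) (rw5930) (rw5931) (Nat.ble 5931 i)) (Nat.ble 5930 i)) (Bool.rec (motive := fun _ => List ℕ) (Bool.rec (motive := fun _ => List ℕ) (rw5932) (rw5933) (Nat.ble 5933 i)) (Bool.rec (motive := fun _ => List ℕ) (rw5934) (rw5935) (Nat.ble 5935 i)) (Nat.ble 5934 i)) (Nat.ble 5932 i)) (Nat.ble 5928 i)) (Bool.rec (motive := fun _ => List ℕ) (Bool.rec (motive := fun _ => List ℕ) (Bool.rec (motive := fun _ => List ℕ) (Bool.rec (motive := fun _ => List ℕ) (rw5936) (rw5937) (Nat.ble 5937 i)) (Bool.rec (motive := fun _ => List ℕ) (rw5938) (rw5939) (Nat.ble 5939 i)) (Nat.ble 5938 i)) (Bool.rec (motive := fun _ => List ℕ) (Bool.rec (motive := fun _ => List ℕ) (rw5940) (rw5941) (Nat.ble 5941 i)) (Bool.rec (motive := fun _ => List ℕ) (rw5942) (rw5943) (Nat.ble 5943 i)) (Nat.ble 5942 i)) (Nat.ble 5940 i)) (Bool.rec (motive := fun _ => List ℕ) (Bool.rec (motive := fun _ => List ℕ) (Bool.rec (motive := fun _ => List ℕ) (rw5944) ([]) (Nat.ble 5945 i)) ([]) (Nat.ble 5946 i)) ([]) (Nat.ble 5948 i)) (Nat.ble 5944 i)) (Nat.ble 5936 i)) (Nat.ble 5920 i)) ([]) (Nat.ble 5952 i)) ([]) (Nat.ble 6016 i)) (Nat.ble 5888 i)) (Nat.ble 5632 i)) (Nat.ble 5120 i)) ([]) (Nat.ble 6144 i)) (Nat.ble 4096 i))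
def sw0 : List ℕ := [0]
def sw1 : List ℕ := [2]
def sw2 : List ℕ := [4]
def sw3 : List ℕ := [6]
def sw4 : List ℕ := [8]
noncomputable def subW (i : ℕ) : List ℕ := (Bool.rec (motive := fun _ => List ℕ) (Bool.rec (motive := fun _ => List ℕ) (Bool.rec (motive := fun _ => List ℕ) (sw0) (sw1) (Nat.ble 1 i)) (Bool.rec (motive := fun _ => List ℕ) (sw2) (sw3) (Nat.ble 3 i)) (Nat.ble 2 i)) (Bool.rec (motive := fun _ => List ℕ) (Bool.rec (motive := fun _ => List ℕ) (sw4) ([]) (Nat.ble 5 i)) ([]) (Nat.ble 6 i)) (Nat.ble 4 i))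

noncomputable def data : Data where
  w := 17
  mask := 131071
  tw := 20
  tmask := 1048575
  hsh := 37
  lsh := 54
  ew := 57
  emask := 144115188075855871
  mw := 59
  mmask := 576460752303423487
  jw := 25
  jmask := 33554431
  bsh := 11
  bmask := 2047
  nc := 12
  fuel := 7
  E := eT
  J := jT
  Mg := mgT
  JM := jmT
  relW := relW
  nrot := 5945
  subW := subW
  nsub := 5

def M : ℕ := 107221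
def n : ℕ := 47104

def bases : List (List ℕ) := [
  [0, 0, 0, 0, 0, 0, 0],
  [1, 1, 1, 1, 1, 1, 1],
  [2, 2, 2, 2, 2, 2, 2],
  [3, 3, 3, 3, 3, 3, 3],
  [4, 4, 4, 4, 4, 4, 4],
  [5, 5, 5, 5, 5, 5, 5],
  [6, 6, 6, 6, 6, 6, 6],
  [7, 7, 7, 7, 7, 7, 7],
  [8, 8, 8, 8, 8, 8, 8],
  [9, 9, 9, 9, 9, 9, 9],
  [3, 1, 2, 0, 2, 1],
  [0, 3, 1, 3, 0, 2],
  [3, 3, 0, 0, 3, 0, 2, 1, 1, 2, 2, 1, 1],
  [0, 0, 3, 3, 0, 0, 3, 1, 2, 1, 1, 2, 2],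
  [7, 5, 6, 4, 6, 5],
  [4, 7, 5, 7, 4, 6],
  [9, 7, 8, 6, 8, 7],
  [6, 9, 7, 9, 6, 8],
  [5, 3, 3, 4, 2, 2, 4, 3, 3],
  [2, 2, 5, 3, 3, 5, 2, 2, 4],
  [0, 2, 0, 2, 0, 2],
  [3, 1, 3, 1, 3, 1],
  [0, 2, 2, 0, 2, 2],
  [3, 3, 1, 3, 3, 1],
  [0, 0, 2, 0, 3, 3, 1, 3],
  [2, 0, 2, 2, 1, 3, 1, 1],
  [2, 5, 2, 5, 2, 5],
  [4, 3, 4, 3, 4, 3],
  [4, 4, 6, 4, 4, 6],
  [7, 5, 5, 7, 5, 5],
  [4, 6, 4, 6, 4, 6],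
  [7, 5, 7, 5, 7, 5],
  [0, 0, 5, 2, 1, 3, 5],
  [4, 2, 0, 3, 4, 1, 1],
  [0, 3, 5, 1, 5, 1, 4],
  [5, 0, 4, 0, 4, 2, 1],
  [2, 5, 5, 5, 2, 5, 5, 5],
  [4, 4, 4, 3, 4, 4, 4, 3],
  [6, 9, 6, 9, 6, 9, 6, 9],
  [8, 7, 8, 7, 8, 7, 8, 7],
  [4, 4, 9, 4, 4, 9, 4, 4, 9],
  [8, 5, 5, 8, 5, 5, 8, 5, 5],
  [2, 2, 5, 9, 2, 4, 2, 5, 8, 7],
  [6, 9, 4, 3, 5, 3, 8, 4, 3, 3],
  [2, 6, 5, 5, 6, 3, 6, 5, 6, 4],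
  [5, 7, 4, 7, 2, 7, 4, 4, 7, 3],
  [4, 4, 7, 7, 4, 9, 6, 6, 9, 9],
  [8, 8, 7, 7, 8, 5, 6, 6, 5, 5],
  [0, 2, 1, 8, 8, 8, 1, 2, 1, 8, 4],
  [5, 9, 0, 3, 0, 9, 9, 9, 0, 3, 1],
  [2, 2, 2, 2, 4, 3, 3, 3, 4],
  [5, 2, 2, 2, 5, 3, 3, 3, 3],
  [0, 2, 4, 0, 5, 5, 5],
  [4, 4, 4, 1, 5, 3, 1],
  [0, 3, 0, 4, 4, 0, 3, 4],
  [5, 2, 1, 5, 5, 1, 2, 1],
  [0, 4, 2, 6, 0, 4, 2, 6],
  [7, 3, 5, 1, 7, 3, 5, 1],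
  [2, 4, 6, 3, 7, 2, 4, 7],
  [6, 5, 3, 6, 2, 7, 5, 3],
  [2, 5, 2, 7, 3, 7, 7, 4],
  [5, 6, 6, 2, 6, 3, 4, 3],
  [2, 5, 5, 7, 3, 7, 7, 5],
  [4, 6, 6, 2, 6, 4, 4, 3],
  [2, 6, 6, 6, 2, 6, 6, 6],
  [7, 7, 7, 3, 7, 7, 7, 3],
  [4, 6, 5, 6, 4, 6, 6, 6],
  [7, 7, 7, 5, 7, 4, 7, 5],
  [4, 7, 4, 7, 4, 7, 4, 7],
  [6, 5, 6, 5, 6, 5, 6, 5],
  [10, 10, 10, 10, 10, 10, 10, 10, 10, 10, 10, 10, 10, 10, 10, 10, 10, 10, 10, 10, 10, 10, 10],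
  [11, 11, 11, 11, 11, 11, 11, 11, 11, 11, 11, 11, 11, 11, 11, 11, 11, 11, 11, 11, 11, 11, 11],
  [0, 2, 9, 10, 8, 3, 1, 11, 11],
  [10, 10, 0, 2, 9, 11, 8, 3, 1],
  [10, 3, 5, 5, 11, 6, 8, 2, 4, 3, 8, 7, 1, 2, 4],
  [5, 3, 0, 6, 9, 2, 5, 3, 9, 7, 10, 4, 4, 2, 11],
  [10, 4, 4, 2, 11, 2, 9, 2, 8, 0, 7, 9, 5, 7, 1],
  [0, 6, 4, 8, 6, 1, 9, 3, 8, 3, 10, 3, 5, 5, 11],
  [10, 1, 5, 6, 2, 2, 11, 3, 1, 6, 1, 7, 9, 4, 2],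
  [3, 5, 8, 6, 0, 7, 0, 2, 10, 3, 3, 7, 4, 0, 11],
  [10, 2, 1, 2, 0, 11, 7, 7, 1, 1, 1, 6, 9, 1, 8, 6],
  [7, 9, 0, 8, 7, 0, 0, 0, 6, 6, 10, 1, 3, 0, 3, 11],
  [10, 2, 2, 2, 0, 11, 7, 9, 0, 8, 7, 0, 0, 0, 6, 6],
  [7, 7, 1, 1, 1, 6, 9, 1, 8, 6, 10, 1, 3, 3, 3, 11],
  [10, 1, 2, 2, 2, 2, 11, 7, 7, 1, 1, 1, 6, 9, 1, 8, 6],
  [7, 9, 0, 8, 7, 0, 0, 0, 6, 6, 10, 3, 3, 3, 3, 0, 11],
  [10, 1, 4, 2, 4, 0, 11, 1, 9, 1, 8, 2, 2, 9, 5, 5, 8],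
  [9, 4, 4, 8, 3, 3, 9, 0, 8, 0, 10, 1, 5, 3, 5, 0, 11],
  [10, 2, 4, 4, 2, 2, 11, 6, 8, 2, 4, 3, 8, 7, 1, 2, 4],
  [5, 3, 0, 6, 9, 2, 5, 3, 9, 7, 10, 3, 3, 5, 5, 3, 11],
  [10, 2, 5, 0, 0, 5, 11, 7, 7, 1, 1, 1, 6, 9, 1, 8, 6],
  [7, 9, 0, 8, 7, 0, 0, 0, 6, 6, 10, 4, 1, 1, 4, 3, 11],
  [10, 2, 5, 5, 3, 4, 11, 2, 9, 2, 8, 0, 7, 9, 5, 7, 1],
  [0, 6, 4, 8, 6, 1, 9, 3, 8, 3, 10, 5, 2, 4, 4, 3, 11],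
  [10, 3, 3, 5, 5, 3, 11, 2, 9, 2, 8, 0, 7, 9, 5, 7, 1],
  [0, 6, 4, 8, 6, 1, 9, 3, 8, 3, 10, 2, 4, 4, 2, 2, 11],
  [10, 3, 6, 4, 4, 6, 11, 6, 8, 2, 4, 3, 8, 7, 1, 2, 4],
  [5, 3, 0, 6, 9, 2, 5, 3, 9, 7, 10, 7, 5, 5, 7, 2, 11],
  [10, 5, 2, 4, 4, 3, 11, 6, 8, 2, 4, 3, 8, 7, 1, 2, 4],
  [5, 3, 0, 6, 9, 2, 5, 3, 9, 7, 10, 2, 5, 5, 3, 4, 11],
  [10, 6, 0, 4, 3, 7, 11, 4, 7, 0, 9, 1, 9, 5, 8, 0, 7],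
  [6, 1, 9, 4, 8, 0, 8, 1, 6, 5, 10, 6, 2, 5, 1, 7, 11],
  [10, 2, 1, 3, 3, 11, 7, 9, 0, 8, 7, 0, 0, 0, 6, 6],
  [7, 7, 1, 1, 1, 6, 9, 1, 8, 6, 10, 2, 2, 0, 3, 11],
  [10, 1, 4, 6, 4, 2, 6, 11, 9, 1, 4, 4, 2, 7, 9, 2, 0],
  [1, 3, 8, 6, 3, 5, 5, 0, 8, 10, 7, 3, 5, 7, 5, 0, 11],
  [10, 1, 5, 6, 2, 5, 5, 11, 9, 1, 4, 4, 2, 7, 9, 2, 0],
  [1, 3, 8, 6, 3, 5, 5, 0, 8, 10, 4, 4, 3, 7, 4, 0, 11],
  [10, 1, 5, 7, 5, 2, 6, 11, 9, 1, 4, 4, 2, 7, 9, 2, 0],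
  [1, 3, 8, 6, 3, 5, 5, 0, 8, 10, 7, 3, 4, 6, 4, 0, 11],
  [10, 1, 6, 4, 6, 2, 6, 11, 9, 1, 4, 4, 2, 7, 9, 2, 0],
  [1, 3, 8, 6, 3, 5, 5, 0, 8, 10, 7, 3, 7, 5, 7, 0, 11],
  [10, 1, 7, 5, 7, 2, 6, 11, 9, 1, 4, 4, 2, 7, 9, 2, 0],
  [1, 3, 8, 6, 3, 5, 5, 0, 8, 10, 7, 3, 6, 4, 6, 0, 11],
  [10, 6, 0, 5, 3, 3, 7, 11, 0, 4, 9, 3, 6, 6, 1, 5, 5],
  [4, 4, 0, 7, 7, 2, 8, 5, 1, 10, 6, 2, 2, 4, 1, 7, 11],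
  [10, 7, 5, 5, 7, 2, 11, 2, 9, 2, 8, 0, 7, 9, 5, 7, 1],
  [0, 6, 4, 8, 6, 1, 9, 3, 8, 3, 10, 3, 6, 4, 4, 6, 11],
  [10, 0, 7, 2, 6, 3, 6, 11, 9, 5, 1, 9, 7, 1, 6, 1, 2],
  [3, 0, 7, 0, 6, 8, 0, 4, 8, 10, 7, 2, 7, 3, 6, 1, 11],
  [10, 2, 6, 6, 0, 0, 5, 11, 8, 2, 8, 5, 7, 1, 1, 7, 8],
  [9, 6, 0, 0, 6, 4, 9, 3, 9, 10, 4, 1, 1, 7, 7, 3, 11],
  [10, 1, 5, 2, 9, 9, 5, 11, 8, 2, 8, 1, 2, 8, 7, 3, 4],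
  [5, 2, 6, 9, 3, 0, 9, 3, 9, 10, 4, 8, 8, 3, 4, 0, 11],
  [10, 0, 2, 0, 0, 0, 3, 11, 7, 9, 0, 8, 7, 0, 0, 0, 6, 6],
  [7, 7, 1, 1, 1, 6, 9, 1, 8, 6, 10, 2, 1, 1, 1, 3, 1, 11],
  [10, 0, 2, 0, 0, 3, 3, 11, 7, 7, 1, 1, 1, 6, 9, 1, 8, 6],
  [7, 9, 0, 8, 7, 0, 0, 0, 6, 6, 10, 2, 2, 1, 1, 3, 1, 11],
  [10, 0, 2, 4, 0, 5, 2, 11, 2, 9, 2, 8, 0, 7, 9, 5, 7, 1],
  [0, 6, 4, 8, 6, 1, 9, 3, 8, 3, 10, 3, 4, 1, 5, 3, 1, 11],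
  [10, 0, 3, 0, 3, 0, 0, 11, 7, 7, 1, 1, 1, 6, 9, 1, 8, 6],
  [7, 9, 0, 8, 7, 0, 0, 0, 6, 6, 10, 1, 1, 2, 1, 2, 1, 11],
  [10, 0, 3, 4, 1, 1, 5, 11, 6, 8, 2, 4, 3, 8, 7, 1, 2, 4],
  [5, 3, 0, 6, 9, 2, 5, 3, 9, 7, 10, 4, 0, 0, 5, 2, 1, 11],
  [10, 0, 5, 2, 1, 4, 0, 11, 1, 9, 1, 8, 2, 2, 9, 5, 5, 8],
  [9, 4, 4, 8, 3, 3, 9, 0, 8, 0, 10, 1, 5, 0, 3, 4, 1, 11],
  [10, 0, 5, 5, 1, 3, 4, 11, 7, 9, 0, 8, 7, 0, 0, 0, 6, 6],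
  [7, 7, 1, 1, 1, 6, 9, 1, 8, 6, 10, 5, 2, 0, 4, 4, 1, 11],
  [10, 1, 1, 4, 6, 0, 0, 11, 2, 1, 8, 8, 0, 7, 2, 7, 9, 6],
  [7, 8, 6, 3, 6, 1, 9, 9, 0, 3, 10, 1, 1, 7, 5, 0, 0, 11],
  [10, 1, 3, 0, 2, 2, 0, 11, 7, 7, 1, 1, 1, 6, 9, 1, 8, 6],
  [7, 9, 0, 8, 7, 0, 0, 0, 6, 6, 10, 1, 3, 3, 1, 2, 0, 11],
  [10, 1, 4, 1, 4, 4, 4, 11, 1, 9, 1, 8, 2, 2, 9, 5, 5, 8],
  [9, 4, 4, 8, 3, 3, 9, 0, 8, 0, 10, 5, 5, 5, 0, 5, 0, 11],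
  [10, 1, 5, 0, 4, 0, 5, 11, 6, 8, 2, 4, 3, 8, 7, 1, 2, 4],
  [5, 3, 0, 6, 9, 2, 5, 3, 9, 7, 10, 4, 1, 5, 1, 4, 0, 11],
  [10, 1, 5, 2, 2, 2, 5, 11, 7, 7, 1, 1, 1, 6, 9, 1, 8, 6],
  [7, 9, 0, 8, 7, 0, 0, 0, 6, 6, 10, 4, 3, 3, 3, 4, 0, 11],
  [10, 2, 0, 2, 0, 0, 3, 11, 7, 9, 0, 8, 7, 0, 0, 0, 6, 6],
  [7, 7, 1, 1, 1, 6, 9, 1, 8, 6, 10, 2, 1, 1, 3, 1, 3, 11],
  [10, 2, 0, 2, 0, 3, 3, 11, 7, 7, 1, 1, 1, 6, 9, 1, 8, 6],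
  [7, 9, 0, 8, 7, 0, 0, 0, 6, 6, 10, 2, 2, 1, 3, 1, 3, 11],
  [10, 2, 0, 7, 0, 3, 5, 11, 9, 3, 0, 6, 1, 6, 9, 2, 1, 8],
  [9, 0, 3, 8, 7, 0, 7, 1, 2, 8, 10, 4, 2, 1, 6, 1, 3, 11],
  [10, 2, 1, 1, 2, 0, 2, 11, 7, 7, 1, 1, 1, 6, 9, 1, 8, 6],
  [7, 9, 0, 8, 7, 0, 0, 0, 6, 6, 10, 3, 1, 3, 0, 0, 3, 11],
  [10, 2, 1, 3, 1, 3, 3, 11, 7, 7, 1, 1, 1, 6, 9, 1, 8, 6],
  [7, 9, 0, 8, 7, 0, 0, 0, 6, 6, 10, 2, 2, 0, 2, 0, 3, 11],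
  [10, 2, 2, 1, 2, 0, 2, 11, 7, 9, 0, 8, 7, 0, 0, 0, 6, 6],
  [7, 7, 1, 1, 1, 6, 9, 1, 8, 6, 10, 3, 1, 3, 0, 3, 3, 11],
  [10, 2, 2, 5, 5, 3, 5, 11, 2, 9, 2, 8, 0, 7, 9, 5, 7, 1],
  [0, 6, 4, 8, 6, 1, 9, 3, 8, 3, 10, 4, 2, 4, 4, 3, 3, 11],
  [10, 2, 4, 4, 2, 5, 5, 11, 2, 9, 2, 8, 0, 7, 9, 5, 7, 1],
  [0, 6, 4, 8, 6, 1, 9, 3, 8, 3, 10, 4, 4, 3, 5, 5, 3, 11],
  [10, 2, 6, 2, 4, 3, 6, 11, 2, 9, 2, 8, 0, 7, 9, 5, 7, 1],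
  [0, 6, 4, 8, 6, 1, 9, 3, 8, 3, 10, 7, 2, 5, 3, 7, 3, 11],
  [10, 3, 1, 5, 3, 1, 4, 11, 6, 8, 2, 4, 3, 8, 7, 1, 2, 4],
  [5, 3, 0, 6, 9, 2, 5, 3, 9, 7, 10, 5, 0, 2, 4, 0, 2, 11],
  [10, 3, 4, 1, 4, 0, 4, 11, 7, 9, 0, 8, 7, 0, 0, 0, 6, 6],
  [7, 7, 1, 1, 1, 6, 9, 1, 8, 6, 10, 5, 1, 5, 0, 5, 2, 11],
  [10, 3, 4, 4, 2, 4, 4, 11, 2, 9, 2, 8, 0, 7, 9, 5, 7, 1],
  [0, 6, 4, 8, 6, 1, 9, 3, 8, 3, 10, 5, 5, 3, 5, 5, 2, 11],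
  [10, 3, 4, 4, 4, 4, 4, 11, 6, 8, 2, 4, 3, 8, 7, 1, 2, 4],
  [5, 3, 0, 6, 9, 2, 5, 3, 9, 7, 10, 5, 5, 5, 5, 5, 2, 11],
  [10, 3, 4, 6, 5, 9, 4, 11, 0, 0, 9, 4, 6, 1, 3, 1, 9, 6],
  [7, 8, 0, 2, 0, 7, 5, 8, 1, 1, 10, 5, 8, 4, 7, 5, 2, 11],
  [10, 3, 5, 5, 3, 5, 5, 11, 2, 9, 2, 8, 0, 7, 9, 5, 7, 1],
  [0, 6, 4, 8, 6, 1, 9, 3, 8, 3, 10, 4, 4, 2, 4, 4, 2, 11],
  [10, 3, 7, 4, 6, 9, 4, 11, 0, 0, 9, 4, 6, 1, 3, 1, 9, 6],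
  [7, 8, 0, 2, 0, 7, 5, 8, 1, 1, 10, 5, 8, 7, 5, 6, 2, 11],
  [10, 4, 1, 7, 3, 3, 7, 11, 9, 7, 1, 8, 2, 0, 8, 1, 6, 8],
  [9, 7, 0, 9, 1, 3, 9, 0, 6, 8, 10, 6, 2, 2, 6, 0, 5, 11],
  [10, 4, 1, 7, 4, 1, 7, 11, 6, 8, 2, 4, 3, 8, 7, 1, 2, 4],
  [5, 3, 0, 6, 9, 2, 5, 3, 9, 7, 10, 6, 0, 5, 6, 0, 5, 11],
  [10, 5, 0, 5, 0, 4, 4, 11, 1, 9, 1, 8, 2, 2, 9, 5, 5, 8],
  [9, 4, 4, 8, 3, 3, 9, 0, 8, 0, 10, 5, 5, 1, 4, 1, 4, 11],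
  [10, 5, 5, 3, 4, 4, 4, 11, 2, 9, 2, 8, 0, 7, 9, 5, 7, 1],
  [0, 6, 4, 8, 6, 1, 9, 3, 8, 3, 10, 5, 5, 5, 2, 4, 4, 11],
  [10, 6, 2, 6, 3, 6, 6, 11, 6, 8, 2, 4, 3, 8, 7, 1, 2, 4],
  [5, 3, 0, 6, 9, 2, 5, 3, 9, 7, 10, 7, 7, 2, 7, 3, 7, 11],
  [10, 7, 4, 2, 5, 6, 6, 11, 6, 8, 2, 4, 3, 8, 7, 1, 2, 4],
  [5, 3, 0, 6, 9, 2, 5, 3, 9, 7, 10, 7, 7, 4, 3, 5, 6, 11],
  [10, 9, 4, 0, 4, 7, 8, 11, 3, 8, 1, 3, 1, 6, 1, 7, 9, 2],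
  [3, 8, 6, 0, 7, 0, 2, 0, 9, 2, 10, 9, 6, 5, 1, 5, 8, 11],
  [10, 0, 3, 6, 2, 6, 4, 11, 2, 1, 9, 7, 1, 9, 7, 1, 9, 7],
  [6, 8, 0, 6, 8, 0, 6, 8, 0, 3, 10, 5, 7, 3, 7, 2, 1, 11],
  [10, 0, 3, 7, 3, 4, 3, 11, 2, 1, 9, 7, 1, 9, 7, 1, 9, 7],
  [6, 8, 0, 6, 8, 0, 6, 8, 0, 3, 10, 2, 5, 2, 6, 2, 1, 11],
  [10, 0, 3, 7, 5, 2, 5, 11, 2, 1, 9, 7, 1, 9, 7, 1, 9, 7],
  [6, 8, 0, 6, 8, 0, 6, 8, 0, 3, 10, 4, 3, 4, 6, 2, 1, 11],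
  [10, 0, 4, 7, 2, 7, 7, 11, 2, 1, 9, 7, 1, 9, 7, 1, 9, 7],
  [6, 8, 0, 6, 8, 0, 6, 8, 0, 3, 10, 6, 6, 3, 6, 5, 1, 11],
  [10, 3, 3, 6, 1, 6, 5, 11, 8, 0, 7, 9, 1, 3, 4, 7, 3, 5],
  [4, 2, 6, 5, 2, 0, 8, 6, 1, 9, 10, 4, 7, 0, 7, 2, 2, 11],
  [10, 3, 3, 9, 2, 6, 5, 11, 2, 7, 9, 1, 1, 3, 6, 0, 9, 3],
  [2, 8, 1, 7, 2, 0, 0, 8, 6, 3, 10, 4, 7, 3, 8, 2, 2, 11],
  [10, 4, 9, 6, 3, 4, 7, 11, 2, 7, 7, 4, 0, 8, 6, 0, 3, 7],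
  [6, 2, 1, 7, 9, 1, 5, 6, 6, 3, 10, 6, 5, 2, 7, 8, 5, 11],
  [10, 6, 4, 2, 8, 5, 6, 11, 1, 7, 1, 1, 1, 4, 8, 8, 0, 9],
  [8, 1, 9, 9, 5, 0, 0, 0, 6, 0, 10, 7, 4, 9, 3, 5, 7, 11],
  [10, 6, 5, 3, 8, 5, 6, 11, 2, 8, 1, 7, 1, 1, 3, 8, 6, 3],
  [2, 7, 9, 2, 0, 0, 6, 0, 9, 3, 10, 7, 4, 9, 2, 4, 7, 11],
  [10, 7, 5, 1, 1, 6, 6, 11, 9, 9, 9, 4, 1, 8, 1, 8, 1, 1],
  [0, 0, 9, 0, 9, 0, 5, 8, 8, 8, 10, 7, 7, 0, 0, 4, 6, 11],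
  [10, 9, 0, 0, 3, 5, 8, 11, 9, 5, 1, 8, 4, 0, 5, 2, 9, 7],
  [6, 8, 3, 4, 1, 5, 9, 0, 4, 8, 10, 9, 4, 2, 1, 1, 8, 11],
  [11, 1, 6, 9, 9, 6, 0, 10, 8, 6, 1, 9, 4, 2, 9, 0, 6],
  [7, 1, 8, 3, 5, 8, 0, 7, 9, 11, 1, 7, 8, 8, 7, 0, 10],
  [11, 3, 3, 5, 7, 9, 10, 0, 3, 9, 3, 5, 0, 4, 2, 8, 1],
  [0, 9, 3, 5, 1, 4, 2, 8, 2, 1, 11, 8, 6, 4, 2, 2, 10],
  [11, 3, 3, 8, 7, 4, 8, 10, 0, 3, 9, 5, 8, 2, 1, 5, 3],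
  [2, 4, 0, 3, 9, 4, 8, 2, 1, 11, 9, 5, 6, 9, 2, 2, 10],
  [11, 2, 7, 2, 5, 5, 8, 10, 2, 7, 3, 8, 1, 1, 9, 2, 6, 5],
  [4, 7, 3, 8, 0, 0, 9, 2, 6, 3, 11, 9, 4, 4, 3, 6, 3, 10],
  [11, 4, 3, 5, 8, 2, 5, 10, 6, 5, 3, 8, 0, 7, 4, 3, 7, 4],
  [5, 6, 2, 5, 6, 1, 9, 2, 4, 7, 11, 4, 3, 9, 4, 2, 5, 10],
  [11, 5, 6, 2, 5, 8, 7, 10, 7, 0, 8, 1, 7, 0, 8, 2, 7, 8],
  [9, 6, 3, 9, 1, 6, 0, 9, 1, 6, 11, 6, 9, 4, 3, 7, 4, 10],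
  [11, 7, 2, 2, 7, 2, 8, 10, 2, 7, 3, 8, 1, 1, 9, 2, 6, 5],
  [4, 7, 3, 8, 0, 0, 9, 2, 6, 3, 11, 9, 3, 6, 3, 3, 6, 10],
  [11, 2, 0, 7, 4, 2, 8, 10, 1, 2, 9, 1, 5, 8, 4, 1, 3, 0],
  [1, 2, 0, 5, 9, 4, 0, 8, 3, 0, 11, 9, 3, 5, 6, 1, 3, 10],
  [11, 4, 2, 8, 4, 3, 7, 10, 1, 5, 1, 9, 0, 7, 9, 6, 1, 2],
  [3, 0, 7, 8, 6, 1, 8, 0, 4, 0, 11, 6, 2, 5, 9, 3, 5, 10],
  [11, 4, 0, 7, 4, 0, 9, 10, 1, 9, 1, 6, 9, 9, 2, 6, 5, 9],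
  [8, 4, 7, 3, 8, 8, 7, 0, 8, 0, 11, 8, 1, 5, 6, 1, 5, 10],
  [11, 6, 9, 2, 9, 11, 0, 4, 1, 7, 9, 0, 5, 6, 8, 0, 9, 7, 4, 1, 8, 6, 0, 5, 1, 10, 8, 3, 8, 7, 10, 1],
  [0, 11, 6, 9, 2, 9, 11, 0, 4, 1, 7, 9, 0, 5, 6, 8, 1, 9, 7, 4, 1, 8, 6, 0, 5, 1, 10, 8, 3, 8, 7, 10],
  [11, 6, 9, 2, 9, 11, 0, 4, 1, 7, 9, 0, 5, 6, 8, 2, 9, 7, 4, 1, 8, 6, 0, 5, 1, 10, 8, 3, 8, 7, 10, 3],
  [2, 11, 6, 9, 2, 9, 11, 0, 4, 1, 7, 9, 0, 5, 6, 8, 3, 9, 7, 4, 1, 8, 6, 0, 5, 1, 10, 8, 3, 8, 7, 10],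
  [11, 6, 9, 2, 9, 11, 0, 4, 1, 7, 9, 0, 5, 6, 8, 4, 9, 7, 4, 1, 8, 6, 0, 5, 1, 10, 8, 3, 8, 7, 10, 5],
  [4, 11, 6, 9, 2, 9, 11, 0, 4, 1, 7, 9, 0, 5, 6, 8, 5, 9, 7, 4, 1, 8, 6, 0, 5, 1, 10, 8, 3, 8, 7, 10],
  [11, 6, 9, 2, 9, 11, 0, 4, 1, 7, 9, 0, 5, 6, 8, 6, 9, 7, 4, 1, 8, 6, 0, 5, 1, 10, 8, 3, 8, 7, 10, 7],
  [6, 11, 6, 9, 2, 9, 11, 0, 4, 1, 7, 9, 0, 5, 6, 8, 7, 9, 7, 4, 1, 8, 6, 0, 5, 1, 10, 8, 3, 8, 7, 10],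
  [11, 6, 9, 2, 9, 11, 0, 4, 1, 7, 9, 0, 5, 6, 8, 8, 9, 7, 4, 1, 8, 6, 0, 5, 1, 10, 8, 3, 8, 7, 10, 9],
  [8, 11, 6, 9, 2, 9, 11, 0, 4, 1, 7, 9, 0, 5, 6, 8, 9, 9, 7, 4, 1, 8, 6, 0, 5, 1, 10, 8, 3, 8, 7, 10],
  [11, 6, 9, 2, 9, 11, 0, 4, 1, 7, 9, 0, 5, 6, 8, 10, 9, 7, 4, 1, 8, 6, 0, 5, 1, 10, 8, 3, 8, 7, 10, 11],
  [10, 11, 6, 9, 2, 9, 11, 0, 4, 1, 7, 9, 0, 5, 6, 8, 11, 9, 7, 4, 1, 8, 6, 0, 5, 1, 10, 8, 3, 8, 7, 10],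
  [10, 8, 3, 8, 7, 10, 9, 7, 4, 1, 8, 6, 0, 5, 1, 0, 0, 4, 1, 7, 9, 0, 5, 6, 8, 11, 6, 9, 2, 9, 11, 1],
  [0, 10, 8, 3, 8, 7, 10, 9, 7, 4, 1, 8, 6, 0, 5, 1, 1, 0, 4, 1, 7, 9, 0, 5, 6, 8, 11, 6, 9, 2, 9, 11],
  [10, 8, 3, 8, 7, 10, 9, 7, 4, 1, 8, 6, 0, 5, 1, 2, 0, 4, 1, 7, 9, 0, 5, 6, 8, 11, 6, 9, 2, 9, 11, 3],
  [2, 10, 8, 3, 8, 7, 10, 9, 7, 4, 1, 8, 6, 0, 5, 1, 3, 0, 4, 1, 7, 9, 0, 5, 6, 8, 11, 6, 9, 2, 9, 11],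
  [10, 8, 3, 8, 7, 10, 9, 7, 4, 1, 8, 6, 0, 5, 1, 4, 0, 4, 1, 7, 9, 0, 5, 6, 8, 11, 6, 9, 2, 9, 11, 5],
  [4, 10, 8, 3, 8, 7, 10, 9, 7, 4, 1, 8, 6, 0, 5, 1, 5, 0, 4, 1, 7, 9, 0, 5, 6, 8, 11, 6, 9, 2, 9, 11],
  [10, 8, 3, 8, 7, 10, 9, 7, 4, 1, 8, 6, 0, 5, 1, 6, 0, 4, 1, 7, 9, 0, 5, 6, 8, 11, 6, 9, 2, 9, 11, 7],
  [6, 10, 8, 3, 8, 7, 10, 9, 7, 4, 1, 8, 6, 0, 5, 1, 7, 0, 4, 1, 7, 9, 0, 5, 6, 8, 11, 6, 9, 2, 9, 11],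
  [10, 8, 3, 8, 7, 10, 9, 7, 4, 1, 8, 6, 0, 5, 1, 8, 0, 4, 1, 7, 9, 0, 5, 6, 8, 11, 6, 9, 2, 9, 11, 9],
  [8, 10, 8, 3, 8, 7, 10, 9, 7, 4, 1, 8, 6, 0, 5, 1, 9, 0, 4, 1, 7, 9, 0, 5, 6, 8, 11, 6, 9, 2, 9, 11],
  [10, 8, 3, 8, 7, 10, 9, 7, 4, 1, 8, 6, 0, 5, 1, 10, 0, 4, 1, 7, 9, 0, 5, 6, 8, 11, 6, 9, 2, 9, 11, 11],
  [10, 10, 8, 3, 8, 7, 10, 9, 7, 4, 1, 8, 6, 0, 5, 1, 11, 0, 4, 1, 7, 9, 0, 5, 6, 8, 11, 6, 9, 2, 9, 11],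
  [10, 4, 3, 0, 10, 1, 10, 6, 3, 6, 9, 0, 3, 7, 7, 8, 0, 9, 6, 6, 2, 1, 8, 7, 2, 7, 11, 0, 11, 1, 2, 5, 11, 1],
  [0, 10, 4, 3, 0, 10, 1, 10, 6, 3, 6, 9, 0, 3, 7, 7, 8, 1, 9, 6, 6, 2, 1, 8, 7, 2, 7, 11, 0, 11, 1, 2, 5, 11],
  [10, 4, 3, 0, 10, 1, 10, 6, 3, 6, 9, 0, 3, 7, 7, 8, 2, 9, 6, 6, 2, 1, 8, 7, 2, 7, 11, 0, 11, 1, 2, 5, 11, 3],
  [2, 10, 4, 3, 0, 10, 1, 10, 6, 3, 6, 9, 0, 3, 7, 7, 8, 3, 9, 6, 6, 2, 1, 8, 7, 2, 7, 11, 0, 11, 1, 2, 5, 11],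
  [10, 4, 3, 0, 10, 1, 10, 6, 3, 6, 9, 0, 3, 7, 7, 8, 4, 9, 6, 6, 2, 1, 8, 7, 2, 7, 11, 0, 11, 1, 2, 5, 11, 5],
  [4, 10, 4, 3, 0, 10, 1, 10, 6, 3, 6, 9, 0, 3, 7, 7, 8, 5, 9, 6, 6, 2, 1, 8, 7, 2, 7, 11, 0, 11, 1, 2, 5, 11],
  [10, 4, 3, 0, 10, 1, 10, 6, 3, 6, 9, 0, 3, 7, 7, 8, 6, 9, 6, 6, 2, 1, 8, 7, 2, 7, 11, 0, 11, 1, 2, 5, 11, 7],
  [6, 10, 4, 3, 0, 10, 1, 10, 6, 3, 6, 9, 0, 3, 7, 7, 8, 7, 9, 6, 6, 2, 1, 8, 7, 2, 7, 11, 0, 11, 1, 2, 5, 11],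
  [10, 4, 3, 0, 10, 1, 10, 6, 3, 6, 9, 0, 3, 7, 7, 8, 8, 9, 6, 6, 2, 1, 8, 7, 2, 7, 11, 0, 11, 1, 2, 5, 11, 9],
  [8, 10, 4, 3, 0, 10, 1, 10, 6, 3, 6, 9, 0, 3, 7, 7, 8, 9, 9, 6, 6, 2, 1, 8, 7, 2, 7, 11, 0, 11, 1, 2, 5, 11],
  [10, 4, 3, 0, 10, 1, 10, 6, 3, 6, 9, 0, 3, 7, 7, 8, 10, 9, 6, 6, 2, 1, 8, 7, 2, 7, 11, 0, 11, 1, 2, 5, 11, 11],
  [10, 10, 4, 3, 0, 10, 1, 10, 6, 3, 6, 9, 0, 3, 7, 7, 8, 11, 9, 6, 6, 2, 1, 8, 7, 2, 7, 11, 0, 11, 1, 2, 5, 11],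
  [10, 8, 10, 3, 6, 0, 10, 7, 0, 9, 3, 1, 4, 9, 6, 2, 0, 3, 7, 8, 5, 0, 2, 8, 1, 6, 11, 1, 7, 2, 11, 9, 11, 1],
  [0, 10, 8, 10, 3, 6, 0, 10, 7, 0, 9, 3, 1, 4, 9, 6, 2, 1, 3, 7, 8, 5, 0, 2, 8, 1, 6, 11, 1, 7, 2, 11, 9, 11],
  [10, 8, 10, 3, 6, 0, 10, 7, 0, 9, 3, 1, 4, 9, 6, 2, 2, 3, 7, 8, 5, 0, 2, 8, 1, 6, 11, 1, 7, 2, 11, 9, 11, 3],
  [2, 10, 8, 10, 3, 6, 0, 10, 7, 0, 9, 3, 1, 4, 9, 6, 2, 3, 3, 7, 8, 5, 0, 2, 8, 1, 6, 11, 1, 7, 2, 11, 9, 11],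
  [10, 8, 10, 3, 6, 0, 10, 7, 0, 9, 3, 1, 4, 9, 6, 2, 4, 3, 7, 8, 5, 0, 2, 8, 1, 6, 11, 1, 7, 2, 11, 9, 11, 5],
  [4, 10, 8, 10, 3, 6, 0, 10, 7, 0, 9, 3, 1, 4, 9, 6, 2, 5, 3, 7, 8, 5, 0, 2, 8, 1, 6, 11, 1, 7, 2, 11, 9, 11],
  [10, 8, 10, 3, 6, 0, 10, 7, 0, 9, 3, 1, 4, 9, 6, 2, 6, 3, 7, 8, 5, 0, 2, 8, 1, 6, 11, 1, 7, 2, 11, 9, 11, 7],
  [6, 10, 8, 10, 3, 6, 0, 10, 7, 0, 9, 3, 1, 4, 9, 6, 2, 7, 3, 7, 8, 5, 0, 2, 8, 1, 6, 11, 1, 7, 2, 11, 9, 11],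
  [10, 8, 10, 3, 6, 0, 10, 7, 0, 9, 3, 1, 4, 9, 6, 2, 8, 3, 7, 8, 5, 0, 2, 8, 1, 6, 11, 1, 7, 2, 11, 9, 11, 9],
  [8, 10, 8, 10, 3, 6, 0, 10, 7, 0, 9, 3, 1, 4, 9, 6, 2, 9, 3, 7, 8, 5, 0, 2, 8, 1, 6, 11, 1, 7, 2, 11, 9, 11],
  [10, 8, 10, 3, 6, 0, 10, 7, 0, 9, 3, 1, 4, 9, 6, 2, 10, 3, 7, 8, 5, 0, 2, 8, 1, 6, 11, 1, 7, 2, 11, 9, 11, 11],
  [10, 10, 8, 10, 3, 6, 0, 10, 7, 0, 9, 3, 1, 4, 9, 6, 2, 11, 3, 7, 8, 5, 0, 2, 8, 1, 6, 11, 1, 7, 2, 11, 9, 11],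
  [11, 0, 11, 1, 2, 5, 11, 9, 6, 6, 2, 1, 8, 7, 2, 7, 0, 6, 3, 6, 9, 0, 3, 7, 7, 8, 10, 4, 3, 0, 10, 1, 10, 1],
  [0, 11, 0, 11, 1, 2, 5, 11, 9, 6, 6, 2, 1, 8, 7, 2, 7, 1, 6, 3, 6, 9, 0, 3, 7, 7, 8, 10, 4, 3, 0, 10, 1, 10],
  [11, 0, 11, 1, 2, 5, 11, 9, 6, 6, 2, 1, 8, 7, 2, 7, 2, 6, 3, 6, 9, 0, 3, 7, 7, 8, 10, 4, 3, 0, 10, 1, 10, 3],
  [2, 11, 0, 11, 1, 2, 5, 11, 9, 6, 6, 2, 1, 8, 7, 2, 7, 3, 6, 3, 6, 9, 0, 3, 7, 7, 8, 10, 4, 3, 0, 10, 1, 10],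
  [11, 0, 11, 1, 2, 5, 11, 9, 6, 6, 2, 1, 8, 7, 2, 7, 4, 6, 3, 6, 9, 0, 3, 7, 7, 8, 10, 4, 3, 0, 10, 1, 10, 5],
  [4, 11, 0, 11, 1, 2, 5, 11, 9, 6, 6, 2, 1, 8, 7, 2, 7, 5, 6, 3, 6, 9, 0, 3, 7, 7, 8, 10, 4, 3, 0, 10, 1, 10],
  [11, 0, 11, 1, 2, 5, 11, 9, 6, 6, 2, 1, 8, 7, 2, 7, 6, 6, 3, 6, 9, 0, 3, 7, 7, 8, 10, 4, 3, 0, 10, 1, 10, 7],
  [6, 11, 0, 11, 1, 2, 5, 11, 9, 6, 6, 2, 1, 8, 7, 2, 7, 7, 6, 3, 6, 9, 0, 3, 7, 7, 8, 10, 4, 3, 0, 10, 1, 10],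
  [11, 0, 11, 1, 2, 5, 11, 9, 6, 6, 2, 1, 8, 7, 2, 7, 8, 6, 3, 6, 9, 0, 3, 7, 7, 8, 10, 4, 3, 0, 10, 1, 10, 9],
  [8, 11, 0, 11, 1, 2, 5, 11, 9, 6, 6, 2, 1, 8, 7, 2, 7, 9, 6, 3, 6, 9, 0, 3, 7, 7, 8, 10, 4, 3, 0, 10, 1, 10],
  [11, 0, 11, 1, 2, 5, 11, 9, 6, 6, 2, 1, 8, 7, 2, 7, 10, 6, 3, 6, 9, 0, 3, 7, 7, 8, 10, 4, 3, 0, 10, 1, 10, 11],
  [10, 11, 0, 11, 1, 2, 5, 11, 9, 6, 6, 2, 1, 8, 7, 2, 7, 11, 6, 3, 6, 9, 0, 3, 7, 7, 8, 10, 4, 3, 0, 10, 1, 10],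
  [11, 1, 7, 2, 11, 9, 11, 3, 7, 8, 5, 0, 2, 8, 1, 6, 0, 7, 0, 9, 3, 1, 4, 9, 6, 2, 10, 8, 10, 3, 6, 0, 10, 1],
  [0, 11, 1, 7, 2, 11, 9, 11, 3, 7, 8, 5, 0, 2, 8, 1, 6, 1, 7, 0, 9, 3, 1, 4, 9, 6, 2, 10, 8, 10, 3, 6, 0, 10],
  [11, 1, 7, 2, 11, 9, 11, 3, 7, 8, 5, 0, 2, 8, 1, 6, 2, 7, 0, 9, 3, 1, 4, 9, 6, 2, 10, 8, 10, 3, 6, 0, 10, 3],
  [2, 11, 1, 7, 2, 11, 9, 11, 3, 7, 8, 5, 0, 2, 8, 1, 6, 3, 7, 0, 9, 3, 1, 4, 9, 6, 2, 10, 8, 10, 3, 6, 0, 10],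
  [11, 1, 7, 2, 11, 9, 11, 3, 7, 8, 5, 0, 2, 8, 1, 6, 4, 7, 0, 9, 3, 1, 4, 9, 6, 2, 10, 8, 10, 3, 6, 0, 10, 5],
  [4, 11, 1, 7, 2, 11, 9, 11, 3, 7, 8, 5, 0, 2, 8, 1, 6, 5, 7, 0, 9, 3, 1, 4, 9, 6, 2, 10, 8, 10, 3, 6, 0, 10],
  [11, 1, 7, 2, 11, 9, 11, 3, 7, 8, 5, 0, 2, 8, 1, 6, 6, 7, 0, 9, 3, 1, 4, 9, 6, 2, 10, 8, 10, 3, 6, 0, 10, 7],
  [6, 11, 1, 7, 2, 11, 9, 11, 3, 7, 8, 5, 0, 2, 8, 1, 6, 7, 7, 0, 9, 3, 1, 4, 9, 6, 2, 10, 8, 10, 3, 6, 0, 10],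
  [11, 1, 7, 2, 11, 9, 11, 3, 7, 8, 5, 0, 2, 8, 1, 6, 8, 7, 0, 9, 3, 1, 4, 9, 6, 2, 10, 8, 10, 3, 6, 0, 10, 9],
  [8, 11, 1, 7, 2, 11, 9, 11, 3, 7, 8, 5, 0, 2, 8, 1, 6, 9, 7, 0, 9, 3, 1, 4, 9, 6, 2, 10, 8, 10, 3, 6, 0, 10],
  [11, 1, 7, 2, 11, 9, 11, 3, 7, 8, 5, 0, 2, 8, 1, 6, 10, 7, 0, 9, 3, 1, 4, 9, 6, 2, 10, 8, 10, 3, 6, 0, 10, 11],
  [10, 11, 1, 7, 2, 11, 9, 11, 3, 7, 8, 5, 0, 2, 8, 1, 6, 11, 7, 0, 9, 3, 1, 4, 9, 6, 2, 10, 8, 10, 3, 6, 0, 10],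
  [10, 0, 11, 6, 2, 4, 10, 8, 3, 8, 5, 1, 2, 8, 4, 2, 8, 0, 9, 3, 5, 9, 3, 0, 4, 9, 2, 9, 11, 5, 3, 7, 10, 1, 11, 1],
  [0, 10, 0, 11, 6, 2, 4, 10, 8, 3, 8, 5, 1, 2, 8, 4, 2, 8, 1, 9, 3, 5, 9, 3, 0, 4, 9, 2, 9, 11, 5, 3, 7, 10, 1, 11],
  [10, 0, 11, 6, 2, 4, 10, 8, 3, 8, 5, 1, 2, 8, 4, 2, 8, 2, 9, 3, 5, 9, 3, 0, 4, 9, 2, 9, 11, 5, 3, 7, 10, 1, 11, 3],
  [2, 10, 0, 11, 6, 2, 4, 10, 8, 3, 8, 5, 1, 2, 8, 4, 2, 8, 3, 9, 3, 5, 9, 3, 0, 4, 9, 2, 9, 11, 5, 3, 7, 10, 1, 11],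
  [10, 0, 11, 6, 2, 4, 10, 8, 3, 8, 5, 1, 2, 8, 4, 2, 8, 4, 9, 3, 5, 9, 3, 0, 4, 9, 2, 9, 11, 5, 3, 7, 10, 1, 11, 5],
  [4, 10, 0, 11, 6, 2, 4, 10, 8, 3, 8, 5, 1, 2, 8, 4, 2, 8, 5, 9, 3, 5, 9, 3, 0, 4, 9, 2, 9, 11, 5, 3, 7, 10, 1, 11],
  [10, 0, 11, 6, 2, 4, 10, 8, 3, 8, 5, 1, 2, 8, 4, 2, 8, 6, 9, 3, 5, 9, 3, 0, 4, 9, 2, 9, 11, 5, 3, 7, 10, 1, 11, 7],
  [6, 10, 0, 11, 6, 2, 4, 10, 8, 3, 8, 5, 1, 2, 8, 4, 2, 8, 7, 9, 3, 5, 9, 3, 0, 4, 9, 2, 9, 11, 5, 3, 7, 10, 1, 11],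
  [10, 0, 11, 6, 2, 4, 10, 8, 3, 8, 5, 1, 2, 8, 4, 2, 8, 8, 9, 3, 5, 9, 3, 0, 4, 9, 2, 9, 11, 5, 3, 7, 10, 1, 11, 9],
  [8, 10, 0, 11, 6, 2, 4, 10, 8, 3, 8, 5, 1, 2, 8, 4, 2, 8, 9, 9, 3, 5, 9, 3, 0, 4, 9, 2, 9, 11, 5, 3, 7, 10, 1, 11],
  [10, 0, 11, 6, 2, 4, 10, 8, 3, 8, 5, 1, 2, 8, 4, 2, 8, 10, 9, 3, 5, 9, 3, 0, 4, 9, 2, 9, 11, 5, 3, 7, 10, 1, 11, 11],
  [10, 10, 0, 11, 6, 2, 4, 10, 8, 3, 8, 5, 1, 2, 8, 4, 2, 8, 11, 9, 3, 5, 9, 3, 0, 4, 9, 2, 9, 11, 5, 3, 7, 10, 1, 11],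
  [10, 1, 7, 7, 10, 10, 10, 1, 8, 8, 4, 0, 8, 3, 9, 5, 6, 0, 7, 4, 8, 2, 9, 1, 5, 9, 9, 0, 11, 11, 11, 6, 6, 0, 11, 1],
  [0, 10, 1, 7, 7, 10, 10, 10, 1, 8, 8, 4, 0, 8, 3, 9, 5, 6, 1, 7, 4, 8, 2, 9, 1, 5, 9, 9, 0, 11, 11, 11, 6, 6, 0, 11],
  [10, 1, 7, 7, 10, 10, 10, 1, 8, 8, 4, 0, 8, 3, 9, 5, 6, 2, 7, 4, 8, 2, 9, 1, 5, 9, 9, 0, 11, 11, 11, 6, 6, 0, 11, 3],
  [2, 10, 1, 7, 7, 10, 10, 10, 1, 8, 8, 4, 0, 8, 3, 9, 5, 6, 3, 7, 4, 8, 2, 9, 1, 5, 9, 9, 0, 11, 11, 11, 6, 6, 0, 11],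
  [10, 1, 7, 7, 10, 10, 10, 1, 8, 8, 4, 0, 8, 3, 9, 5, 6, 4, 7, 4, 8, 2, 9, 1, 5, 9, 9, 0, 11, 11, 11, 6, 6, 0, 11, 5],
  [4, 10, 1, 7, 7, 10, 10, 10, 1, 8, 8, 4, 0, 8, 3, 9, 5, 6, 5, 7, 4, 8, 2, 9, 1, 5, 9, 9, 0, 11, 11, 11, 6, 6, 0, 11],
  [10, 1, 7, 7, 10, 10, 10, 1, 8, 8, 4, 0, 8, 3, 9, 5, 6, 6, 7, 4, 8, 2, 9, 1, 5, 9, 9, 0, 11, 11, 11, 6, 6, 0, 11, 7],
  [6, 10, 1, 7, 7, 10, 10, 10, 1, 8, 8, 4, 0, 8, 3, 9, 5, 6, 7, 7, 4, 8, 2, 9, 1, 5, 9, 9, 0, 11, 11, 11, 6, 6, 0, 11],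
  [10, 1, 7, 7, 10, 10, 10, 1, 8, 8, 4, 0, 8, 3, 9, 5, 6, 8, 7, 4, 8, 2, 9, 1, 5, 9, 9, 0, 11, 11, 11, 6, 6, 0, 11, 9],
  [8, 10, 1, 7, 7, 10, 10, 10, 1, 8, 8, 4, 0, 8, 3, 9, 5, 6, 9, 7, 4, 8, 2, 9, 1, 5, 9, 9, 0, 11, 11, 11, 6, 6, 0, 11],
  [10, 1, 7, 7, 10, 10, 10, 1, 8, 8, 4, 0, 8, 3, 9, 5, 6, 10, 7, 4, 8, 2, 9, 1, 5, 9, 9, 0, 11, 11, 11, 6, 6, 0, 11, 11],
  [10, 10, 1, 7, 7, 10, 10, 10, 1, 8, 8, 4, 0, 8, 3, 9, 5, 6, 11, 7, 4, 8, 2, 9, 1, 5, 9, 9, 0, 11, 11, 11, 6, 6, 0, 11]]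

def rots : List (ℕ × ℕ) := [(81, 13), (35, 1), (11, 0), (124, 4), (10, 3), (52, 3), (56, 0), (13, 4), (34, 0), (32, 0), (22, 0), (13, 1), (152, 4), (0, 1), (32, 1), (20, 2), (11, 4), (24, 1), (12, 3), (12, 2), (54, 0), (20, 0), (25, 1), (24, 0), (73, 2), (33, 2), (35, 3), (52, 0), (72, 0), (54, 2), (12, 5), (54, 5), (20, 4), (56, 4), (0, 3), (0, 6), (22, 3), (13, 0), (49, 2), (24, 3), (49, 4), (49, 8), (286, 1), (317, 2), (184, 4), (123, 15), (82, 4), (264, 27), (293, 30), (183, 12), (131, 2), (158, 5), (202, 9), (155, 15), (144, 5), (119, 6), (120, 5), (181, 7), (130, 5), (243, 7), (114, 8), (111, 15), (135, 9), (124, 5), (124, 3), (81, 5), (0, 5), (186, 12), (126, 4), (294, 1), (211, 4), (226, 9), (138, 12), (0, 2), (234, 5), (168, 10), (223, 4), (263, 4), (158, 10), (75, 2),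 (205, 5), (106, 16), (121, 2), (223, 5), (183, 15), (90, 3), (330, 27), (87, 15), (289, 30), (213, 13), (195, 2), (204, 15), (77, 0), (194, 1), (247, 23), (220, 8), (119, 1), (100, 15), (48, 0), (199, 5), (288, 1), (287, 2), (144, 3), (134, 1), (118, 1), (214, 2), (208, 16), (233, 9), (128, 1), (107, 15), (308, 1), (270, 27), (152, 10), (213, 14), (206, 15), (140, 3), (316, 1), (175, 4), (219, 0), (185, 9), (169, 14), (152, 2), (209, 5), (213, 5), (167, 15), (275, 22), (130, 1), (229, 5), (153, 1), (319, 2), (105, 7), (123, 5), (81, 2), (121, 3), (107, 7), (218, 12), (261, 28), (221, 2), (217, 6), (87, 9), (147, 6), (124, 10), (157, 13), (315, 2), (293, 2), (290, 1), (192, 3), (267, 28), (139, 8), (201, 8), (133, 13), (81, 6), (246, 22), (174, 9), (138, 5), (200, 1), (286, 29),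 (263, 28), (233, 7), (246, 6), (148, 2), (292, 1), (193, 3), (148, 10), (131, 6), (213, 3), (133, 12), (143, 14), (160, 12), (126, 3), (217, 15), (181, 2), (237, 12), (124, 1), (191, 2), (216, 6), (143, 9), (101, 5), (94, 11), (196, 1), (141, 16), (213, 1), (193, 7), (272, 21), (253, 13), (86, 5), (227, 6), (232, 12), (216, 15), (139, 15), (79, 4), (126, 1), (168, 5), (214, 3), (150, 2), (85, 6), (205, 6), (209, 9), (124, 15), (203, 13), (311, 2), (120, 4), (79, 13), (291, 30), (103, 13), (87, 7), (269, 28), (306, 11), (206, 12), (235, 7), (284, 1), (257, 17), (234, 2), (132, 1), (215, 7), (148, 4), (313, 2), (301, 12), (100, 9), (230, 17), (13, 5), (104, 16), (321, 34), (80, 4), (139, 16), (179, 2), (305, 19), (167, 12), (282, 5), (201, 5), (309, 2), (113, 15), (145, 16), (79,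 6), (312, 1), (185, 7), (237, 7), (248, 21), (181, 15), (134, 6), (307, 12), (130, 3), (230, 2), (193, 5), (159, 14), (265, 28), (119, 3), (326, 33), (266, 3), (184, 2), (203, 5), (115, 2), (76, 9), (242, 22), (136, 1), (233, 1), (239, 23), (197, 8), (197, 2), (289, 2), (291, 2), (262, 27), (154, 5), (128, 4), (85, 15), (267, 4), (231, 2), (155, 14), (162, 12), (255, 17), (285, 2), (141, 2), (245, 23), (143, 16), (306, 18), (310, 1), (209, 6), (116, 11), (140, 6), (180, 13), (294, 21), (240, 6), (114, 2), (90, 4), (284, 29), (275, 6), (95, 0), (178, 9), (195, 8), (168, 13), (195, 5), (244, 11), (272, 5), (235, 9), (244, 6), (278, 8), (329, 34), (153, 5), (171, 0), (199, 8), (135, 13), (113, 7), (100, 2), (268, 3), (260, 27), (99, 2), (167, 2), (143, 7), (314, 1), (231, 9), (247,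 7), (174, 8), (157, 15), (117, 0), (211, 7), (91, 7), (285, 30), (209, 7), (145, 2), (229, 4), (199, 2), (266, 27), (305, 12), (301, 32), (213, 0), (262, 11), (214, 13), (265, 4), (303, 32), (211, 5), (133, 2), (127, 5), (231, 6), (252, 16), (137, 13), (151, 5), (302, 11), (224, 12), (0, 4), (298, 11), (327, 34), (320, 27), (127, 2), (260, 3), (300, 31), (241, 23), (283, 9), (158, 15), (271, 4), (247, 12), (197, 5), (274, 5), (138, 6), (226, 13), (124, 13), (130, 6), (238, 22), (176, 12), (82, 8), (281, 6), (198, 1), (81, 7), (158, 13), (271, 28), (109, 15), (322, 33), (280, 21), (91, 2), (164, 12), (105, 15), (284, 21), (305, 32), (261, 4), (129, 0), (295, 30), (304, 31), (243, 12), (148, 5), (238, 6), (264, 3), (283, 22), (165, 0), (317, 24), (287, 30), (218, 7), (147, 5), (237,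 23), (131, 7), (297, 32), (82, 11), (91, 6), (268, 27), (168, 15), (276, 5), (274, 21), (331, 12), (82, 13), (151, 2), (135, 7), (290, 29), (112, 16), (313, 24), (283, 6), (147, 16), (178, 8), (269, 4), (250, 12), (261, 12), (242, 6), (262, 3), (245, 12), (323, 34), (241, 12), (92, 11), (111, 7), (330, 11), (273, 6), (175, 2), (259, 22), (245, 7), (236, 22), (102, 8), (294, 29), (286, 21), (108, 16), (330, 33), (328, 33), (97, 2), (258, 12), (254, 21), (324, 11), (128, 12), (280, 5), (319, 24), (325, 28), (329, 28), (89, 2), (325, 34), (270, 11), (279, 6), (302, 31), (256, 21), (292, 29), (270, 3), (314, 23), (82, 12), (251, 17), (254, 12), (320, 33), (246, 11), (325, 12), (91, 5), (201, 2), (187, 0), (173, 2), (250, 16), (110, 16), (243, 23), (277, 6), (331, 28), (141, 7), (155,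 5), (278, 5), (307, 32), (310, 23), (296, 31), (248, 16), (258, 16), (244, 22), (304, 18), (168, 14), (240, 22), (271, 12), (302, 18), (299, 32), (177, 0), (236, 6), (253, 22), (148, 14), (127, 6), (288, 29), (322, 27), (251, 22), (298, 31), (179, 4), (136, 10), (257, 13), (267, 12), (273, 9), (259, 13), (148, 13), (147, 2), (287, 22), (282, 8), (85, 2), (150, 4), (279, 9), (241, 7), (240, 11), (170, 12), (85, 7), (236, 11), (309, 24), (155, 2), (136, 13), (258, 21), (183, 2), (157, 7), (272, 8), (147, 7), (327, 12), (136, 14), (109, 7), (328, 27), (266, 11), (291, 22), (93, 0), (323, 12), (295, 2), (321, 28), (307, 19), (248, 12), (324, 33), (318, 1), (282, 21), (250, 21), (328, 11), (324, 27), (102, 13), (275, 9), (33, 5), (33, 6), (57, 7), (72, 6), (21, 5), (73, 8), (11, 2),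 (35, 6), (24, 6), (32, 4), (136, 4), (1, 1), (10, 1), (34, 5), (23, 5), (34, 3), (57, 3), (23, 2), (202, 4), (10, 5), (55, 2), (1, 6), (48, 6), (212, 4), (53, 3), (53, 6), (13, 10), (21, 3), (219, 4), (55, 5), (25, 7), (1, 3), (55, 7), (12, 7), (49, 10), (25, 6), (12, 11), (12, 12), (48, 8), (13, 7), (13, 9), (48, 2), (12, 8), (83, 11), (208, 11), (270, 5), (231, 15), (158, 3), (108, 1), (166, 2), (258, 14), (131, 14), (202, 12), (313, 34), (84, 1), (137, 16), (193, 14), (151, 13), (240, 19), (25, 4), (208, 8), (174, 15), (234, 8), (115, 8), (144, 1), (203, 8), (1, 4), (180, 15), (127, 13), (238, 24), (221, 8), (248, 18), (132, 4), (121, 11), (102, 2), (312, 33), (260, 5), (266, 5), (185, 13), (152, 12), (286, 3), (280, 27), (326, 1), (250, 18), (215, 4), (217, 1), (86, 1), (207,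 5), (308, 33), (194, 9), (172, 15), (228, 12), (145, 12), (288, 31), (212, 16), (261, 6), (130, 15), (137, 7), (118, 13), (196, 15), (293, 32), (139, 5), (81, 11), (142, 10), (207, 2), (105, 0), (133, 16), (80, 2), (241, 9), (268, 29), (115, 14), (327, 2), (292, 31), (100, 11), (233, 5), (235, 12), (128, 17), (140, 1), (226, 11), (76, 14), (265, 6), (164, 17), (125, 14), (318, 11), (101, 7), (285, 4), (93, 5), (181, 4), (234, 10), (166, 5), (246, 24), (215, 14), (171, 5), (222, 12), (145, 14), (138, 2), (80, 13), (227, 8), (286, 31), (146, 1), (112, 1), (228, 13), (139, 11), (138, 1), (90, 14), (141, 14), (121, 12), (285, 32), (219, 9), (151, 15), (91, 13), (278, 27), (199, 16), (314, 33), (1, 5), (182, 5), (311, 34), (134, 8), (104, 1), (149, 15), (118, 15), (287, 12), (131,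 12), (205, 2), (230, 11), (232, 10), (198, 12), (156, 2), (169, 12), (239, 9), (310, 33), (166, 15), (107, 0), (117, 5), (91, 12), (180, 2), (289, 32), (132, 5), (159, 3), (197, 16), (232, 16), (92, 16), (247, 20), (249, 10), (174, 13), (212, 3), (152, 16), (316, 33), (101, 14), (78, 10), (263, 6), (284, 31), (119, 15), (131, 11), (135, 11), (177, 5), (227, 4), (303, 2), (118, 10), (142, 3), (269, 6), (129, 16), (204, 11), (295, 12), (217, 10), (231, 0), (196, 12), (153, 7), (244, 8), (120, 14), (80, 8), (318, 33), (125, 12), (230, 8), (175, 8), (131, 16), (90, 11), (146, 15), (216, 1), (126, 15), (21, 1), (204, 12), (153, 13), (168, 3), (246, 8), (230, 15), (125, 13), (255, 19), (273, 28), (212, 14), (180, 10), (295, 4), (210, 12), (315, 34), (125, 4), (74, 12), (86, 7), (194,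 15), (141, 11), (139, 12), (212, 12), (185, 15), (80, 10), (122, 1), (83, 4), (208, 10), (212, 17), (235, 15), (111, 0), (154, 3), (86, 9), (153, 15), (272, 27), (210, 10), (104, 9), (309, 34), (154, 2), (175, 9), (146, 12), (201, 16), (78, 1), (218, 16), (184, 8), (127, 14), (243, 9), (291, 32), (222, 13), (215, 15), (257, 19), (187, 5), (84, 14), (194, 12), (142, 1), (114, 14), (264, 29), (290, 3), (77, 5), (84, 11), (277, 25), (192, 14), (287, 32), (101, 1), (120, 13), (232, 8), (149, 12), (96, 14), (216, 10), (264, 5), (78, 8), (330, 23), (209, 1), (196, 9), (320, 1), (98, 14), (290, 31), (214, 10), (87, 11), (159, 12), (200, 9), (182, 2), (155, 12), (146, 11), (282, 27), (262, 5), (317, 34), (134, 4), (156, 4), (208, 12), (225, 5), (149, 13), (322, 23), (267, 30), (129, 5),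 (195, 16), (242, 8), (271, 22), (295, 32), (260, 29), (1, 2), (106, 1), (298, 1), (269, 30), (265, 22), (249, 19), (159, 4), (266, 29), (289, 12), (126, 11), (110, 1), (125, 7), (268, 5), (184, 10), (248, 9), (277, 28), (282, 11), (127, 16), (106, 9), (307, 22), (210, 13), (169, 7), (283, 25), (142, 8), (122, 11), (192, 12), (278, 24), (236, 8), (132, 15), (300, 1), (262, 29), (135, 16), (322, 7), (300, 21), (306, 1), (80, 9), (256, 9), (138, 9), (305, 2), (169, 2), (270, 29), (281, 28), (178, 13), (247, 9), (150, 10), (220, 14), (236, 19), (129, 13), (284, 3), (178, 15), (200, 12), (192, 10), (112, 9), (190, 15), (258, 18), (258, 9), (125, 16), (273, 25), (271, 6), (154, 11), (103, 4), (113, 0), (251, 19), (263, 22), (299, 2), (274, 27), (116, 16), (291, 12), (108, 9), (254,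 14), (134, 10), (239, 25), (267, 6), (302, 1), (286, 11), (83, 3), (274, 24), (241, 25), (302, 21), (169, 3), (160, 17), (279, 28), (88, 14), (265, 30), (252, 18), (275, 28), (288, 3), (149, 4), (259, 19), (188, 15), (297, 2), (306, 14), (276, 27), (176, 17), (130, 12), (289, 4), (165, 5), (162, 17), (330, 7), (294, 3), (103, 7), (198, 9), (252, 9), (323, 2), (331, 2), (287, 4), (283, 12), (261, 30), (110, 9), (331, 24), (282, 24), (186, 17), (245, 25), (161, 5), (109, 0), (236, 24), (256, 14), (293, 4), (324, 1), (283, 28), (146, 10), (198, 15), (322, 1), (159, 7), (254, 18), (244, 24), (154, 12), (238, 8), (249, 15), (242, 19), (321, 8), (263, 30), (90, 9), (321, 2), (329, 8), (140, 11), (307, 15), (304, 1), (149, 7), (90, 10), (257, 10), (95, 5), (269, 22), (244, 19), (237,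 25), (240, 8), (170, 17), (94, 16), (328, 7), (179, 8), (126, 12), (245, 20), (150, 12), (331, 8), (276, 24), (328, 23), (294, 31), (154, 10), (284, 11), (306, 21), (292, 3), (242, 24), (245, 9), (182, 15), (243, 25), (200, 15), (237, 20), (251, 15), (291, 4), (260, 21), (256, 18), (281, 12), (320, 23), (272, 11), (83, 2), (83, 7), (319, 12), (144, 15), (137, 4), (179, 9), (84, 10), (241, 20), (237, 9), (301, 15), (236, 31), (324, 7), (243, 20), (259, 10), (330, 1), (320, 7), (238, 19), (246, 19), (272, 24), (325, 2), (84, 9), (326, 7), (327, 24), (271, 30), (323, 24), (329, 2), (275, 25), (52, 1), (50, 2), (35, 5), (20, 1), (11, 5), (194, 4), (18, 5), (19, 7), (200, 4), (36, 0), (10, 4), (58, 5), (18, 4), (10, 2), (2, 1), (26, 2), (32, 3), (22, 4), (2, 5), (19, 1), (204, 4),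 (45, 4), (2, 3), (61, 3), (22, 2), (58, 0), (12, 9), (60, 2), (13, 11), (20, 5), (60, 0), (22, 5), (59, 4), (2, 6), (62, 0), (2, 2), (13, 8), (33, 1), (26, 0), (51, 1), (19, 0), (48, 7), (55, 6), (56, 2), (50, 3), (19, 6), (50, 1), (42, 1), (42, 4), (42, 6), (42, 0), (51, 3), (36, 4), (51, 2), (25, 2), (55, 1), (22, 1), (12, 10), (63, 3), (64, 0), (25, 0), (64, 4), (26, 4), (13, 12), (44, 0), (2, 4), (48, 1), (222, 1), (228, 5), (72, 1), (160, 1), (260, 30), (153, 12), (80, 3), (171, 16), (187, 14), (56, 6), (92, 1), (205, 0), (141, 15), (198, 5), (295, 15), (50, 0), (205, 16), (158, 4), (80, 1), (127, 11), (228, 15), (263, 25), (224, 5), (150, 3), (182, 16), (194, 8), (214, 15), (219, 14), (179, 16), (264, 24), (148, 3), (122, 9), (216, 13), (110, 15), (197, 11), (82, 3), (254,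 28), (134, 3), (82, 2), (167, 13), (188, 2), (258, 28), (86, 3), (162, 1), (308, 4), (106, 4), (203, 1), (128, 6), (277, 30), (234, 14), (98, 15), (131, 15), (128, 8), (82, 1), (146, 3), (103, 12), (170, 4), (86, 12), (120, 9), (222, 3), (88, 5), (160, 8), (73, 3), (98, 2), (207, 13), (154, 4), (24, 2), (104, 15), (93, 12), (207, 1), (260, 20), (204, 8), (288, 4), (317, 5), (78, 4), (76, 7), (206, 8), (203, 15), (102, 1), (221, 0), (309, 5), (219, 15), (273, 30), (20, 3), (97, 15), (230, 1), (233, 12), (118, 3), (122, 12), (110, 5), (137, 12), (148, 1), (164, 1), (95, 14), (261, 31), (221, 14), (190, 3), (219, 8), (126, 2), (92, 7), (192, 17), (116, 5), (140, 5), (146, 5), (88, 1), (103, 11), (115, 11), (86, 11), (124, 2), (210, 8), (170, 10), (208, 3), (222, 15), (221, 7), (189,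 13), (128, 2), (232, 2), (12, 6), (175, 16), (146, 4), (78, 5), (158, 6), (164, 3), (162, 8), (251, 29), (116, 7), (205, 4), (177, 16), (197, 13), (88, 4), (176, 10), (309, 13), (154, 1), (84, 2), (104, 5), (76, 3), (266, 30), (112, 15), (199, 15), (169, 16), (203, 4), (160, 2), (133, 5), (203, 16), (287, 11), (90, 1), (302, 3), (122, 3), (167, 16), (108, 5), (162, 4), (25, 3), (84, 3), (219, 6), (319, 5), (223, 7), (95, 11), (134, 13), (232, 17), (303, 26), (88, 15), (198, 8), (221, 15), (310, 4), (131, 13), (118, 16), (181, 12), (161, 12), (84, 5), (180, 12), (276, 22), (274, 15), (119, 11), (272, 29), (133, 15), (273, 16), (190, 16), (127, 12), (228, 2), (153, 8), (231, 1), (197, 15), (75, 13), (152, 1), (237, 4), (225, 7), (132, 16), (76, 5), (303, 13), (229, 7), (138, 14),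 (279, 30), (211, 14), (244, 3), (200, 8), (193, 9), (95, 15), (78, 14), (301, 26), (123, 1), (115, 5), (79, 7), (319, 16), (183, 5), (177, 13), (290, 4), (128, 10), (250, 28), (230, 9), (173, 16), (215, 13), (297, 26), (89, 5), (226, 15), (154, 6), (238, 3), (310, 15), (296, 25), (249, 29), (205, 15), (230, 5), (274, 29), (165, 12), (280, 29), (120, 1), (312, 26), (125, 11), (75, 5), (184, 13), (303, 4), (140, 4), (246, 3), (189, 5), (138, 8), (313, 16), (220, 13), (164, 10), (311, 5), (236, 3), (276, 29), (101, 12), (289, 5), (284, 4), (225, 2), (166, 10), (255, 29), (74, 13), (167, 5), (301, 13), (94, 9), (218, 14), (112, 5), (152, 15), (299, 26), (305, 13), (115, 12), (222, 8), (275, 30), (240, 3), (188, 10), (181, 13), (151, 11), (88, 9), (99, 5), (228, 3), (193, 6), (151,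 12), (196, 8), (274, 22), (99, 11), (271, 25), (225, 15), (211, 0), (104, 12), (94, 7), (211, 3), (157, 14), (158, 1), (239, 4), (304, 25), (243, 4), (314, 12), (142, 13), (277, 23), (186, 8), (106, 15), (316, 4), (179, 3), (281, 30), (74, 7), (283, 23), (256, 28), (98, 9), (307, 26), (226, 3), (176, 8), (312, 4), (314, 26), (293, 5), (248, 28), (134, 12), (294, 10), (160, 10), (319, 13), (281, 23), (166, 16), (262, 24), (301, 4), (285, 5), (257, 29), (265, 31), (308, 26), (268, 30), (188, 16), (314, 4), (195, 15), (162, 10), (108, 15), (263, 31), (296, 3), (287, 5), (295, 5), (313, 5), (186, 10), (252, 28), (157, 12), (150, 1), (260, 24), (144, 10), (293, 11), (149, 11), (283, 30), (306, 25), (175, 3), (184, 12), (295, 11), (318, 12), (275, 23), (267, 21), (245, 4), (278, 22),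 (264, 30), (84, 4), (145, 5), (279, 23), (158, 2), (156, 1), (308, 15), (262, 30), (318, 15), (291, 5), (116, 9), (318, 4), (270, 20), (267, 31), (96, 9), (286, 4), (96, 15), (242, 3), (261, 25), (265, 21), (298, 12), (298, 3), (307, 13), (297, 4), (270, 30), (92, 9), (259, 29), (288, 10), (310, 26), (190, 10), (319, 27), (272, 22), (292, 4), (228, 8), (300, 3), (306, 3), (241, 4), (97, 5), (331, 22), (269, 21), (182, 10), (316, 12), (315, 5), (172, 16), (253, 29), (296, 12), (280, 22), (304, 12), (286, 10), (265, 25), (330, 21), (282, 15), (269, 31), (311, 27), (313, 27), (325, 22), (144, 16), (132, 10), (264, 20), (282, 22), (108, 12), (281, 16), (191, 5), (270, 24), (317, 16), (280, 15), (293, 15), (327, 22), (170, 8), (308, 12), (271, 21), (309, 27), (310, 12), (321, 22),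 (318, 26), (142, 12), (326, 21), (320, 21), (315, 16), (278, 15), (83, 13), (87, 13), (11, 1), (3, 1), (11, 3), (210, 3), (10, 0), (130, 4), (50, 6), (196, 4), (37, 7), (18, 2), (3, 2), (27, 5), (44, 5), (53, 5), (45, 9), (18, 8), (18, 1), (61, 7), (65, 7), (33, 3), (60, 4), (19, 4), (59, 7), (54, 1), (57, 1), (50, 7), (51, 8), (58, 3), (3, 6), (206, 4), (13, 2), (59, 2), (34, 1), (188, 4), (19, 3), (21, 0), (51, 7), (51, 6), (65, 3), (214, 4), (43, 9), (27, 3), (32, 5), (27, 1), (21, 4), (61, 5), (43, 8), (43, 3), (12, 0), (23, 4), (54, 6), (37, 3), (23, 0), (23, 1), (18, 7), (24, 5), (13, 3), (43, 5), (51, 5), (62, 4), (63, 7), (72, 5), (73, 7), (12, 1), (24, 7), (49, 3), (12, 4), (57, 5), (24, 4), (23, 3), (50, 5), (3, 3), (3, 4), (305, 30), (219, 2), (98, 5), (316, 30), (204,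 2), (204, 1), (178, 14), (161, 15), (196, 6), (288, 28), (163, 13), (25, 5), (289, 29), (77, 11), (83, 12), (192, 8), (13, 6), (204, 17), (126, 5), (251, 3), (21, 2), (107, 12), (79, 0), (159, 13), (199, 12), (78, 7), (202, 2), (122, 15), (172, 1), (92, 4), (156, 5), (207, 9), (260, 8), (85, 12), (152, 9), (220, 16), (109, 11), (94, 2), (118, 5), (294, 28), (133, 1), (100, 4), (160, 5), (135, 4), (233, 15), (229, 2), (231, 12), (79, 9), (181, 5), (183, 7), (266, 8), (231, 16), (311, 31), (192, 11), (279, 4), (189, 15), (87, 4), (83, 14), (93, 9), (318, 30), (157, 16), (149, 14), (210, 14), (141, 13), (193, 0), (165, 16), (123, 7), (170, 1), (77, 7), (253, 3), (161, 9), (143, 4), (222, 10), (180, 5), (166, 1), (74, 1), (176, 4), (89, 11), (320, 13), (102, 3), (94, 1), (191, 14),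 (235, 3), (124, 6), (296, 29), (132, 2), (194, 2), (114, 11), (229, 9), (298, 29), (85, 11), (121, 15), (224, 10), (145, 1), (218, 1), (223, 14), (233, 0), (185, 5), (127, 15), (168, 1), (330, 13), (114, 5), (97, 1), (178, 1), (85, 13), (266, 2), (173, 1), (218, 2), (195, 9), (232, 5), (105, 1), (295, 19), (117, 11), (185, 4), (113, 4), (151, 14), (174, 14), (224, 2), (93, 15), (225, 12), (223, 9), (230, 16), (119, 0), (209, 14), (141, 12), (229, 12), (75, 1), (164, 5), (136, 5), (188, 12), (107, 1), (147, 12), (227, 2), (287, 29), (81, 14), (151, 16), (121, 7), (163, 16), (148, 6), (105, 11), (147, 13), (220, 9), (113, 1), (171, 7), (166, 4), (94, 5), (319, 31), (202, 1), (204, 13), (89, 12), (205, 13), (113, 11), (135, 14), (312, 30), (187, 7), (102, 4), (77, 9), (87, 5), (245,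 28), (119, 13), (210, 17), (223, 16), (294, 18), (201, 13), (96, 1), (89, 15), (284, 28), (271, 3), (300, 7), (163, 9), (49, 9), (206, 16), (130, 2), (81, 12), (237, 28), (153, 2), (155, 16), (140, 2), (155, 13), (180, 4), (150, 6), (273, 4), (187, 9), (139, 9), (99, 14), (260, 12), (228, 10), (227, 14), (75, 7), (290, 18), (293, 19), (117, 9), (281, 11), (248, 2), (220, 1), (241, 28), (93, 7), (159, 15), (257, 3), (307, 30), (221, 3), (114, 4), (91, 15), (274, 3), (153, 16), (165, 14), (139, 3), (205, 9), (236, 27), (261, 9), (95, 9), (202, 13), (202, 16), (317, 9), (229, 14), (190, 12), (231, 8), (319, 23), (259, 3), (238, 27), (95, 7), (283, 4), (312, 19), (171, 9), (125, 15), (186, 3), (129, 15), (265, 3), (103, 14), (242, 27), (123, 4), (261, 13), (310, 30), (3, 5), (198,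 2), (88, 11), (215, 2), (147, 14), (159, 16), (249, 3), (123, 13), (167, 1), (301, 21), (277, 4), (129, 11), (304, 29), (217, 3), (318, 22), (223, 2), (111, 1), (201, 9), (220, 2), (174, 1), (313, 9), (99, 1), (211, 9), (191, 1), (79, 10), (290, 22), (309, 31), (196, 2), (247, 28), (218, 10), (261, 3), (111, 11), (285, 29), (195, 13), (99, 7), (129, 7), (197, 9), (85, 14), (161, 16), (254, 2), (271, 13), (300, 29), (268, 2), (155, 11), (218, 8), (224, 15), (182, 12), (243, 28), (177, 9), (152, 5), (285, 23), (166, 12), (89, 1), (317, 31), (264, 12), (308, 30), (299, 8), (258, 2), (299, 30), (161, 7), (275, 4), (267, 3), (156, 6), (313, 31), (310, 19), (229, 15), (262, 8), (159, 11), (318, 8), (199, 9), (156, 3), (316, 8), (250, 2), (303, 30), (304, 7), (292, 28), (291, 29), (296,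 7), (321, 14), (105, 4), (244, 27), (282, 10), (171, 13), (324, 13), (284, 18), (189, 7), (176, 1), (255, 3), (263, 3), (282, 3), (183, 1), (145, 7), (302, 7), (165, 7), (126, 6), (177, 7), (271, 9), (117, 7), (280, 3), (262, 2), (305, 21), (305, 8), (240, 27), (302, 29), (167, 7), (290, 28), (252, 2), (239, 28), (107, 4), (272, 3), (143, 5), (295, 29), (297, 30), (191, 7), (316, 19), (269, 3), (278, 3), (319, 9), (172, 12), (286, 18), (270, 8), (264, 2), (133, 7), (323, 14), (74, 9), (149, 16), (272, 10), (298, 7), (293, 29), (263, 9), (246, 27), (270, 12), (286, 28), (262, 12), (300, 20), (315, 31), (310, 8), (309, 9), (260, 2), (165, 9), (89, 7), (276, 3), (306, 7), (314, 30), (189, 1), (307, 8), (276, 10), (96, 11), (283, 11), (314, 22), (303, 21), (280, 10), (315, 9), (297,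 8), (277, 11), (273, 11), (304, 20), (281, 4), (163, 7), (292, 18), (306, 20), (109, 1), (308, 22), (283, 18), (282, 17), (270, 2), (292, 22), (327, 14), (135, 5), (129, 9), (98, 11), (278, 10), (238, 31), (307, 21), (301, 30), (318, 19), (279, 11), (314, 8), (278, 17), (308, 8), (264, 8), (280, 17), (272, 17), (275, 18), (273, 18), (75, 12), (54, 4), (34, 6), (93, 13), (219, 13), (27, 2), (18, 3), (33, 4), (35, 4), (27, 0), (15, 4), (68, 2), (33, 0), (53, 1), (50, 4), (104, 4), (18, 6), (56, 1), (44, 9), (54, 7), (15, 0), (164, 4), (35, 2), (68, 6), (37, 1), (182, 4), (28, 1), (14, 3), (4, 1), (37, 2), (67, 5), (52, 2), (68, 4), (37, 4), (60, 7), (192, 4), (4, 3), (53, 2), (230, 4), (234, 4), (232, 4), (28, 3), (19, 8), (53, 0), (46, 4), (4, 6), (28, 0), (40, 7), (45, 2), (58,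 6), (58, 1), (27, 4), (45, 6), (61, 6), (46, 1), (40, 3), (43, 2), (54, 3), (63, 5), (45, 7), (28, 4), (42, 5), (30, 4), (4, 4), (30, 2), (43, 7), (66, 0), (4, 2), (40, 1), (4, 5), (63, 0), (50, 8), (48, 10), (37, 6), (46, 0), (56, 5), (66, 4), (76, 1), (37, 5), (63, 6), (216, 12), (135, 15), (138, 3), (123, 10), (142, 5), (113, 13), (285, 28), (109, 12), (165, 2), (76, 2), (227, 16), (180, 1), (129, 12), (104, 2), (75, 11), (95, 13), (37, 0), (79, 12), (115, 13), (133, 11), (100, 3), (223, 13), (258, 8), (175, 13), (145, 15), (209, 12), (132, 3), (86, 4), (96, 4), (208, 2), (119, 7), (163, 11), (300, 22), (206, 1), (205, 11), (187, 16), (185, 2), (167, 14), (88, 2), (142, 4), (206, 5), (245, 8), (74, 14), (110, 3), (220, 5), (225, 11), (200, 2), (230, 14), (100, 7), (284, 27),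 (145, 11), (147, 11), (86, 2), (147, 15), (239, 8), (244, 7), (172, 5), (170, 2), (196, 5), (91, 11), (168, 4), (134, 5), (161, 14), (114, 9), (121, 5), (236, 7), (87, 2), (106, 11), (40, 4), (283, 13), (92, 5), (177, 11), (74, 8), (178, 11), (182, 1), (215, 12), (185, 14), (243, 19), (115, 0), (96, 16), (78, 13), (215, 8), (123, 14), (221, 5), (163, 2), (234, 1), (184, 6), (170, 3), (235, 1), (231, 5), (224, 14), (117, 14), (303, 23), (192, 2), (107, 14), (174, 6), (225, 8), (107, 10), (308, 5), (40, 6), (98, 4), (206, 11), (211, 15), (310, 5), (99, 15), (168, 6), (117, 13), (213, 15), (208, 13), (88, 3), (172, 2), (178, 6), (211, 12), (199, 13), (177, 14), (137, 15), (91, 14), (172, 3), (178, 3), (170, 6), (98, 3), (223, 12), (324, 10), (186, 4), (101, 3), (177, 12), (136, 6),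 (267, 2), (316, 5), (214, 12), (203, 11), (313, 25), (153, 11), (185, 16), (110, 10), (137, 14), (194, 6), (177, 15), (224, 1), (312, 24), (309, 6), (219, 5), (291, 28), (129, 2), (247, 8), (142, 6), (331, 20), (215, 3), (261, 2), (161, 11), (238, 7), (188, 11), (186, 5), (246, 18), (172, 6), (212, 11), (298, 22), (187, 15), (242, 7), (172, 4), (121, 10), (293, 28), (318, 5), (95, 12), (232, 1), (199, 11), (163, 12), (96, 3), (115, 1), (229, 0), (311, 6), (174, 2), (170, 5), (98, 10), (259, 18), (221, 1), (309, 25), (87, 1), (312, 5), (77, 2), (245, 19), (142, 2), (104, 10), (93, 2), (88, 10), (68, 0), (132, 17), (93, 14), (288, 27), (278, 12), (166, 17), (191, 13), (319, 6), (108, 10), (225, 14), (128, 3), (292, 27), (168, 2), (227, 13), (174, 11), (287, 28), (30, 0), (218, 13),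 (233, 8), (40, 0), (313, 6), (203, 0), (109, 14), (255, 18), (223, 0), (162, 3), (162, 2), (161, 13), (166, 11), (144, 11), (319, 25), (331, 11), (161, 2), (304, 22), (277, 13), (172, 17), (330, 19), (308, 14), (256, 17), (190, 2), (320, 19), (240, 7), (275, 13), (282, 12), (251, 18), (237, 19), (106, 10), (224, 17), (187, 2), (243, 8), (246, 7), (324, 19), (252, 17), (294, 27), (117, 2), (317, 6), (177, 2), (172, 11), (247, 19), (144, 4), (290, 27), (314, 5), (98, 16), (289, 28), (271, 2), (309, 15), (122, 16), (268, 1), (107, 11), (190, 17), (190, 11), (269, 2), (182, 17), (318, 14), (184, 5), (262, 1), (182, 11), (260, 1), (295, 28), (321, 20), (256, 8), (186, 6), (166, 6), (314, 24), (274, 12), (263, 2), (104, 11), (202, 14), (255, 9), (95, 2), (237, 8), (171, 2), (188, 17),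 (265, 2), (311, 25), (135, 2), (88, 16), (330, 10), (323, 20), (143, 1), (252, 8), (144, 17), (286, 27), (132, 11), (266, 1), (253, 9), (318, 24), (108, 11), (238, 18), (308, 24), (185, 1), (135, 1), (321, 11), (317, 25), (310, 14), (264, 1), (281, 13), (240, 18), (110, 11), (323, 11), (319, 15), (258, 17), (249, 9), (313, 15), (251, 9), (325, 11), (320, 10), (315, 25), (315, 15), (273, 13), (270, 1), (96, 10), (296, 22), (241, 8), (259, 9), (306, 22), (241, 19), (314, 14), (310, 24), (311, 15), (316, 14), (325, 20), (53, 4), (89, 13), (34, 4), (169, 13), (101, 13), (29, 2), (32, 6), (62, 7), (220, 11), (26, 5), (52, 4), (19, 5), (62, 2), (14, 1), (5, 1), (34, 2), (36, 2), (36, 1), (29, 1), (26, 1), (69, 7), (18, 0), (44, 7), (41, 8), (174, 4), (51, 0), (15, 2), (26, 3), (32,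 2), (52, 6), (44, 2), (45, 0), (14, 5), (29, 4), (60, 1), (55, 4), (35, 0), (29, 5), (222, 4), (52, 5), (226, 4), (67, 7), (55, 3), (59, 1), (51, 4), (19, 2), (47, 9), (43, 4), (44, 3), (55, 0), (41, 4), (230, 12), (66, 2), (5, 6), (57, 2), (74, 2), (61, 0), (69, 5), (47, 5), (36, 6), (41, 7), (31, 5), (47, 8), (69, 3), (31, 3), (41, 5), (41, 2), (5, 5), (36, 7), (59, 6), (31, 1), (36, 3), (67, 3), (42, 7), (62, 1), (5, 4), (42, 2), (5, 2), (122, 2), (143, 11), (207, 16), (105, 14), (152, 6), (163, 14), (36, 5), (106, 2), (319, 30), (41, 1), (113, 5), (173, 14), (87, 14), (225, 0), (224, 3), (115, 7), (112, 3), (99, 13), (93, 11), (185, 12), (100, 13), (233, 16), (106, 5), (77, 13), (214, 5), (179, 14), (246, 23), (187, 11), (114, 16), (190, 4), (74, 3), (210, 5), (259, 23), (77,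 12), (173, 12), (76, 12), (165, 13), (236, 23), (198, 4), (209, 4), (78, 2), (92, 2), (90, 2), (224, 6), (217, 4), (186, 1), (57, 6), (145, 0), (234, 16), (191, 15), (122, 6), (139, 14), (175, 11), (186, 2), (143, 13), (89, 6), (247, 13), (169, 15), (132, 6), (184, 3), (203, 3), (209, 15), (327, 16), (146, 2), (136, 3), (235, 16), (75, 0), (99, 0), (183, 16), (226, 1), (106, 6), (254, 22), (111, 13), (49, 0), (128, 5), (181, 16), (89, 14), (108, 2), (145, 13), (233, 13), (262, 31), (222, 5), (232, 9), (253, 14), (79, 1), (189, 0), (160, 6), (99, 12), (225, 3), (231, 13), (210, 2), (118, 9), (315, 30), (101, 9), (225, 16), (179, 11), (218, 11), (201, 15), (239, 13), (75, 6), (250, 22), (207, 12), (309, 30), (97, 12), (137, 11), (143, 12), (176, 5), (114, 3), (248, 22), (193, 15),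 (171, 14), (207, 6), (87, 12), (162, 15), (283, 21), (235, 13), (108, 4), (144, 6), (193, 13), (331, 25), (323, 25), (173, 15), (92, 3), (187, 13), (224, 9), (163, 15), (120, 11), (183, 13), (208, 5), (218, 3), (134, 2), (143, 15), (162, 5), (90, 5), (220, 15), (236, 12), (213, 6), (314, 29), (167, 11), (169, 11), (214, 9), (176, 6), (186, 15), (160, 3), (198, 6), (202, 6), (215, 5), (170, 15), (330, 24), (243, 24), (171, 11), (123, 0), (133, 0), (94, 4), (160, 15), (204, 6), (160, 4), (135, 12), (136, 2), (166, 3), (175, 15), (142, 16), (189, 6), (98, 1), (5, 3), (202, 17), (212, 2), (97, 13), (86, 15), (99, 6), (185, 11), (144, 2), (221, 11), (308, 29), (176, 2), (312, 29), (310, 29), (176, 3), (184, 1), (253, 23), (318, 29), (94, 3), (260, 31), (133, 14), (120, 6), (69, 1),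 (105, 12), (197, 12), (179, 6), (116, 2), (116, 3), (171, 15), (295, 6), (146, 6), (195, 11), (175, 6), (92, 14), (129, 14), (173, 13), (107, 6), (330, 15), (311, 30), (214, 14), (167, 6), (243, 13), (246, 12), (319, 11), (240, 23), (219, 3), (267, 32), (266, 31), (261, 32), (231, 3), (312, 20), (128, 15), (293, 6), (277, 21), (249, 14), (308, 20), (313, 30), (309, 21), (86, 14), (107, 5), (167, 0), (171, 12), (315, 11), (287, 6), (331, 16), (191, 0), (257, 23), (258, 13), (89, 0), (301, 11), (237, 24), (228, 17), (247, 24), (250, 13), (290, 5), (164, 15), (173, 11), (321, 16), (173, 0), (116, 14), (268, 31), (241, 13), (291, 6), (114, 15), (162, 6), (222, 17), (317, 30), (97, 0), (302, 10), (284, 5), (264, 31), (255, 14), (307, 11), (187, 12), (238, 23), (265, 32), (317, 11),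 (329, 16), (270, 31), (316, 29), (105, 6), (329, 25), (252, 22), (245, 13), (109, 6), (242, 12), (183, 6), (134, 16), (105, 5), (258, 22), (263, 32), (285, 6), (282, 20), (245, 24), (111, 5), (305, 11), (273, 21), (320, 24), (324, 15), (299, 11), (322, 15), (239, 24), (242, 23), (251, 23), (256, 22), (294, 5), (145, 6), (318, 10), (133, 6), (326, 24), (134, 15), (249, 23), (306, 10), (286, 5), (322, 24), (238, 12), (319, 21), (183, 0), (257, 14), (237, 13), (292, 5), (288, 5), (271, 32), (311, 11), (269, 32), (97, 6), (314, 10), (254, 13), (312, 10), (240, 12), (94, 14), (111, 6), (176, 15), (248, 13), (240, 31), (315, 21), (142, 15), (272, 20), (323, 16), (309, 11), (255, 23), (280, 20), (276, 20), (320, 15), (184, 15), (297, 11), (275, 21), (274, 20), (326, 15), (300, 10), (281,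 21), (278, 20), (63, 2), (118, 4), (44, 1), (138, 4), (61, 2), (69, 4), (58, 2), (44, 4), (14, 4), (61, 1), (14, 2), (61, 4), (44, 6), (15, 5), (28, 5), (56, 7), (16, 3), (28, 2), (59, 0), (56, 3), (44, 8), (63, 4), (59, 3), (17, 0), (6, 5), (6, 1), (64, 2), (66, 6), (30, 1), (66, 1), (6, 6), (46, 7), (46, 6), (17, 4), (38, 2), (63, 1), (6, 4), (6, 2), (38, 4), (30, 3), (6, 3), (43, 0), (225, 4), (64, 1), (69, 6), (66, 7), (47, 7), (64, 3), (47, 6), (66, 3), (69, 0), (38, 6), (64, 7), (64, 6), (210, 6), (104, 6), (125, 9), (207, 11), (330, 31), (64, 5), (118, 6), (104, 3), (178, 4), (202, 5), (117, 15), (96, 5), (280, 4), (253, 27), (271, 8), (212, 6), (300, 24), (221, 12), (208, 1), (183, 11), (236, 1), (306, 24), (117, 4), (247, 14), (227, 11), (155, 8), (227, 5), (119, 14),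 (183, 14), (237, 22), (109, 13), (100, 1), (80, 15), (164, 2), (322, 31), (229, 13), (225, 1), (110, 2), (178, 12), (174, 3), (152, 11), (181, 11), (211, 6), (84, 12), (161, 1), (174, 17), (191, 16), (299, 31), (114, 13), (195, 6), (202, 3), (203, 2), (93, 4), (199, 14), (78, 9), (201, 6), (227, 9), (216, 16), (216, 9), (213, 16), (223, 8), (106, 3), (114, 1), (286, 9), (215, 0), (127, 8), (93, 1), (80, 11), (188, 1), (190, 8), (153, 14), (314, 3), (66, 5), (96, 2), (257, 27), (101, 11), (193, 12), (78, 3), (320, 31), (96, 7), (69, 2), (195, 3), (194, 5), (242, 13), (212, 5), (188, 6), (233, 11), (326, 31), (239, 14), (81, 8), (197, 0), (188, 5), (187, 4), (117, 12), (209, 8), (194, 3), (223, 15), (118, 14), (224, 8), (139, 4), (254, 26), (119, 4), (192, 13), (240, 1), (139, 2),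 (206, 14), (270, 7), (164, 6), (206, 3), (110, 4), (309, 4), (216, 2), (190, 6), (255, 27), (207, 0), (187, 1), (204, 5), (107, 3), (227, 1), (259, 27), (276, 25), (204, 14), (152, 13), (121, 4), (288, 17), (148, 17), (195, 0), (210, 1), (216, 5), (226, 2), (113, 14), (138, 17), (113, 12), (190, 5), (197, 14), (79, 3), (101, 0), (311, 4), (110, 6), (133, 3), (207, 8), (181, 8), (168, 17), (287, 10), (244, 21), (188, 3), (101, 8), (310, 3), (243, 22), (229, 16), (171, 4), (188, 8), (123, 2), (180, 16), (308, 3), (199, 6), (167, 3), (294, 8), (240, 13), (322, 32), (115, 10), (312, 3), (121, 1), (201, 11), (235, 14), (174, 12), (84, 16), (264, 18), (183, 3), (229, 8), (307, 25), (219, 12), (91, 9), (146, 13), (300, 30), (250, 26), (293, 20), (203, 7), (120, 3), (272, 4), (137, 5),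 (205, 8), (248, 26), (325, 33), (313, 4), (324, 31), (169, 9), (222, 16), (77, 4), (181, 14), (163, 1), (91, 8), (266, 18), (299, 25), (81, 9), (237, 2), (320, 32), (201, 14), (245, 22), (231, 14), (284, 19), (327, 33), (82, 15), (120, 2), (238, 21), (179, 15), (88, 7), (201, 12), (108, 6), (323, 33), (112, 6), (245, 2), (147, 9), (232, 15), (233, 4), (105, 3), (136, 16), (131, 8), (323, 32), (321, 32), (316, 3), (259, 24), (126, 17), (177, 4), (318, 3), (282, 14), (234, 15), (283, 26), (158, 16), (74, 5), (271, 19), (238, 1), (276, 4), (263, 8), (114, 12), (301, 25), (242, 1), (252, 26), (30, 5), (172, 8), (317, 4), (275, 5), (329, 32), (303, 31), (165, 4), (254, 23), (246, 1), (182, 8), (282, 4), (321, 33), (228, 16), (99, 3), (207, 7), (277, 15), (97, 3), (293, 18), (159, 5),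 (98, 7), (201, 0), (297, 31), (239, 2), (173, 3), (257, 12), (251, 27), (285, 10), (77, 1), (328, 31), (210, 16), (261, 10), (146, 17), (319, 4), (95, 4), (327, 32), (304, 30), (244, 1), (144, 8), (304, 24), (262, 7), (178, 17), (150, 13), (90, 12), (148, 16), (236, 21), (159, 9), (266, 7), (273, 5), (197, 6), (208, 6), (236, 13), (165, 1), (270, 9), (124, 16), (242, 21), (201, 3), (238, 13), (247, 22), (266, 19), (90, 16), (289, 10), (95, 1), (286, 19), (249, 27), (243, 2), (241, 22), (193, 2), (331, 17), (117, 1), (261, 19), (294, 9), (284, 8), (85, 9), (328, 32), (150, 17), (277, 26), (294, 19), (295, 10), (149, 5), (258, 23), (325, 32), (298, 30), (246, 21), (270, 19), (256, 26), (302, 30), (38, 0), (241, 2), (272, 25), (177, 1), (75, 3), (279, 5), (249, 12), (329, 33), (296,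 30), (161, 4), (292, 19), (269, 19), (305, 25), (307, 16), (301, 31), (285, 9), (247, 2), (102, 15), (270, 18), (89, 3), (124, 17), (137, 9), (130, 13), (293, 10), (250, 11), (83, 5), (330, 32), (292, 8), (126, 13), (250, 23), (261, 8), (129, 1), (307, 31), (85, 8), (266, 9), (82, 14), (305, 31), (260, 18), (248, 23), (277, 5), (83, 9), (113, 3), (278, 4), (326, 32), (330, 16), (234, 11), (132, 8), (260, 19), (271, 20), (103, 9), (141, 8), (168, 16), (253, 12), (258, 11), (324, 32), (273, 26), (197, 3), (158, 17), (169, 5), (129, 4), (249, 24), (130, 17), (290, 19), (199, 3), (241, 14), (306, 15), (294, 17), (140, 13), (287, 9), (154, 17), (131, 9), (295, 18), (315, 4), (256, 23), (274, 4), (282, 25), (239, 22), (254, 11), (189, 3), (136, 17), (109, 3), (283, 15), (271, 10), (245,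 14), (302, 24), (276, 14), (274, 25), (253, 24), (298, 24), (291, 10), (256, 11), (251, 24), (265, 8), (258, 26), (147, 8), (322, 16), (288, 19), (284, 9), (291, 9), (290, 8), (286, 8), (125, 5), (191, 3), (268, 7), (287, 20), (260, 9), (263, 10), (288, 8), (281, 5), (280, 14), (151, 9), (111, 3), (278, 25), (265, 19), (260, 7), (264, 7), (281, 15), (269, 8), (199, 0), (303, 25), (171, 1), (273, 15), (304, 15), (320, 16), (103, 5), (263, 19), (121, 13), (79, 11), (60, 5), (67, 1), (58, 4), (45, 1), (57, 0), (62, 6), (45, 3), (45, 8), (60, 6), (65, 6), (59, 5), (15, 1), (15, 3), (67, 0), (14, 0), (57, 4), (58, 7), (65, 4), (45, 5), (67, 2), (16, 1), (7, 6), (65, 1), (17, 2), (7, 4), (7, 1), (220, 4), (228, 4), (29, 3), (62, 5), (65, 0), (60, 3), (29, 0), (39, 3), (65, 2), (39,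 5), (68, 1), (31, 4), (68, 7), (16, 5), (46, 3), (47, 3), (39, 1), (47, 2), (42, 9), (62, 3), (67, 4), (68, 3), (65, 5), (7, 2), (68, 5), (67, 6), (46, 2), (317, 32), (112, 4), (235, 6), (207, 14), (217, 14), (320, 2), (206, 6), (118, 12), (88, 13), (217, 0), (200, 6), (218, 4), (31, 2), (225, 9), (116, 1), (213, 11), (241, 30), (230, 3), (147, 0), (119, 10), (118, 2), (191, 11), (180, 9), (248, 4), (190, 1), (182, 3), (39, 7), (121, 14), (226, 8), (175, 5), (101, 15), (167, 9), (122, 14), (107, 13), (194, 17), (175, 0), (79, 5), (256, 4), (243, 30), (152, 3), (133, 9), (105, 10), (242, 29), (232, 13), (193, 4), (139, 13), (115, 3), (211, 16), (311, 32), (234, 3), (248, 19), (139, 0), (89, 9), (200, 3), (266, 25), (244, 9), (239, 30), (293, 14), (305, 3), (224, 16), (7, 5), (145,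 9), (211, 1), (75, 9), (195, 14), (119, 12), (100, 5), (189, 11), (253, 5), (180, 3), (74, 11), (116, 4), (124, 8), (153, 6), (115, 15), (217, 7), (318, 31), (127, 4), (226, 12), (189, 9), (308, 31), (165, 15), (191, 12), (137, 0), (108, 3), (223, 1), (189, 14), (165, 11), (196, 17), (192, 5), (200, 14), (222, 2), (208, 9), (192, 15), (200, 11), (296, 8), (119, 2), (112, 2), (164, 13), (224, 13), (180, 6), (154, 8), (195, 12), (233, 2), (284, 23), (297, 3), (227, 15), (206, 17), (114, 6), (150, 8), (189, 16), (265, 24), (97, 14), (76, 13), (322, 18), (148, 8), (207, 3), (97, 9), (90, 8), (251, 20), (243, 10), (205, 12), (78, 11), (259, 5), (99, 9), (111, 12), (322, 3), (196, 3), (209, 11), (162, 13), (200, 5), (214, 17), (94, 15), (202, 15), (124, 12), (100, 16), (81, 0), (179,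 13), (209, 16), (217, 11), (120, 12), (204, 9), (226, 16), (190, 14), (84, 7), (182, 6), (264, 23), (253, 20), (90, 7), (113, 10), (276, 28), (213, 12), (298, 8), (109, 10), (212, 1), (211, 11), (158, 8), (203, 14), (257, 5), (222, 9), (294, 23), (302, 2), (254, 4), (172, 14), (100, 8), (203, 12), (205, 3), (83, 0), (189, 12), (210, 11), (76, 10), (282, 7), (178, 2), (271, 15), (235, 2), (249, 5), (289, 14), (175, 14), (228, 1), (255, 5), (194, 11), (81, 4), (153, 4), (294, 15), (206, 9), (246, 17), (160, 13), (232, 6), (138, 13), (273, 29), (326, 3), (240, 29), (198, 3), (319, 32), (283, 29), (264, 14), (286, 23), (226, 6), (183, 9), (92, 15), (105, 13), (270, 13), (82, 10), (328, 3), (236, 29), (31, 0), (259, 20), (244, 29), (85, 4), (237, 30), (272, 28), (282, 28), (239, 10),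 (305, 9), (238, 29), (202, 10), (120, 15), (130, 8), (320, 3), (115, 4), (239, 18), (285, 24), (283, 19), (170, 13), (91, 4), (126, 9), (170, 16), (242, 17), (111, 14), (206, 10), (155, 0), (323, 3), (322, 2), (298, 2), (249, 20), (144, 14), (309, 32), (310, 31), (98, 13), (238, 17), (321, 4), (166, 14), (303, 3), (279, 19), (285, 14), (97, 11), (256, 7), (251, 5), (299, 3), (137, 1), (104, 13), (243, 18), (279, 29), (262, 25), (116, 12), (277, 29), (236, 9), (252, 4), (196, 14), (181, 1), (106, 13), (324, 2), (80, 7), (237, 10), (299, 9), (302, 8), (271, 26), (259, 8), (261, 14), (300, 2), (111, 10), (331, 4), (306, 8), (286, 13), (312, 31), (168, 8), (198, 17), (159, 1), (256, 19), (281, 29), (148, 12), (329, 4), (147, 4), (146, 9), (301, 3), (270, 14), (179, 5), (7, 3), (255,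 8), (274, 28), (194, 14), (327, 4), (103, 1), (112, 13), (82, 6), (200, 17), (324, 3), (132, 14), (250, 4), (127, 0), (116, 15), (240, 9), (179, 0), (196, 11), (331, 19), (323, 4), (282, 18), (238, 9), (198, 14), (247, 30), (307, 3), (327, 3), (246, 9), (286, 24), (254, 19), (325, 3), (138, 15), (314, 31), (258, 19), (176, 16), (263, 24), (262, 14), (284, 24), (169, 1), (280, 28), (326, 2), (191, 9), (108, 13), (329, 19), (198, 11), (247, 18), (131, 0), (270, 23), (289, 24), (80, 6), (271, 24), (257, 8), (266, 14), (321, 3), (300, 8), (297, 9), (228, 9), (329, 3), (247, 10), (160, 16), (245, 30), (262, 23), (304, 2), (281, 8), (162, 16), (248, 7), (131, 4), (290, 23), (169, 0), (125, 1), (229, 1), (306, 2), (130, 9), (136, 8), (316, 31), (140, 9), (249, 8), (92, 12), (268, 13),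 (237, 18), (150, 9), (328, 2), (140, 8), (246, 29), (267, 26), (258, 7), (110, 13), (188, 14), (267, 24), (254, 7), (307, 9), (325, 4), (277, 8), (149, 1), (252, 7), (315, 32), (276, 18), (125, 0), (241, 10), (261, 26), (236, 17), (155, 4), (255, 20), (270, 25), (278, 28), (102, 6), (291, 14), (128, 13), (288, 24), (260, 23), (242, 9), (287, 25), (186, 16), (164, 16), (258, 4), (126, 8), (253, 8), (275, 29), (331, 3), (151, 4), (295, 25), (307, 18), (83, 1), (241, 18), (136, 12), (293, 24), (291, 24), (285, 25), (102, 10), (257, 20), (141, 0), (293, 16), (296, 2), (295, 16), (295, 24), (154, 9), (168, 12), (288, 23), (91, 0), (290, 24), (269, 15), (85, 0), (269, 26), (278, 7), (128, 16), (272, 7), (263, 26), (292, 23), (242, 31), (313, 32), (292, 13), (275, 8), (306, 17), (94,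 12), (261, 15), (323, 19), (262, 13), (260, 25), (296, 17), (289, 25), (294, 13), (320, 18), (321, 19), (265, 14), (280, 7), (324, 18), (222, 11), (47, 1), (48, 9), (39, 4), (47, 4), (43, 6), (208, 4), (16, 4), (17, 5), (16, 2), (224, 4), (41, 6), (42, 8), (47, 0), (39, 0), (41, 3), (48, 4), (8, 1), (48, 5), (39, 6), (8, 2), (39, 2), (41, 0), (8, 6), (8, 4), (8, 3), (48, 3), (232, 3), (273, 2), (73, 6), (122, 8), (123, 11), (206, 13), (119, 5), (219, 11), (102, 9), (202, 8), (235, 11), (287, 13), (245, 27), (197, 4), (229, 3), (105, 8), (246, 20), (258, 10), (84, 15), (247, 29), (221, 6), (212, 13), (207, 15), (123, 12), (237, 29), (122, 13), (87, 3), (249, 4), (217, 13), (101, 6), (153, 9), (72, 4), (216, 8), (120, 8), (272, 1), (205, 1), (260, 15), (328, 9), (193, 1), (252,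 3), (315, 14), (256, 3), (215, 9), (276, 1), (220, 12), (318, 13), (213, 7), (152, 17), (235, 0), (81, 3), (181, 9), (331, 21), (226, 5), (134, 17), (275, 2), (192, 9), (239, 27), (256, 1), (163, 8), (215, 1), (272, 23), (306, 27), (192, 6), (243, 29), (79, 2), (301, 28), (228, 6), (86, 10), (205, 7), (282, 23), (146, 16), (166, 13), (107, 2), (277, 2), (230, 13), (138, 11), (117, 8), (307, 28), (238, 26), (230, 6), (318, 9), (120, 16), (175, 7), (74, 10), (76, 8), (143, 8), (210, 4), (195, 7), (82, 9), (215, 16), (213, 8), (180, 14), (235, 8), (180, 11), (297, 28), (88, 12), (124, 11), (231, 7), (128, 11), (242, 14), (101, 4), (281, 24), (195, 4), (115, 6), (138, 10), (210, 15), (304, 27), (222, 6), (77, 3), (175, 1), (201, 1), (218, 15), (98, 8), (320, 20), (303, 28), (111,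 8), (297, 10), (140, 16), (199, 1), (226, 10), (150, 16), (214, 6), (217, 5), (205, 14), (132, 9), (208, 14), (193, 16), (220, 6), (217, 2), (126, 16), (220, 3), (321, 10), (325, 10), (233, 6), (93, 3), (137, 8), (77, 8), (87, 8), (93, 8), (289, 13), (296, 27), (319, 14), (129, 8), (245, 29), (165, 8), (223, 3), (236, 26), (235, 4), (302, 27), (247, 15), (80, 14), (105, 2), (250, 3), (219, 7), (212, 15), (305, 28), (214, 11), (217, 12), (100, 14), (164, 11), (180, 17), (203, 6), (288, 12), (261, 16), (237, 15), (235, 5), (294, 12), (148, 11), (83, 8), (86, 16), (98, 12), (190, 13), (244, 26), (139, 1), (188, 13), (135, 3), (249, 25), (209, 0), (122, 10), (195, 1), (224, 11), (273, 20), (307, 10), (8, 5), (255, 11), (213, 9), (274, 1), (257, 11), (185, 8), (210, 9), (113, 8), (107,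 8), (300, 27), (279, 2), (175, 12), (283, 24), (119, 8), (244, 28), (270, 15), (330, 9), (116, 10), (330, 12), (327, 10), (236, 28), (331, 9), (91, 3), (197, 1), (226, 17), (154, 16), (142, 17), (95, 3), (299, 28), (187, 8), (135, 8), (253, 11), (238, 28), (298, 27), (300, 13), (250, 10), (253, 25), (179, 12), (240, 26), (184, 17), (159, 8), (208, 15), (331, 13), (226, 14), (278, 1), (201, 4), (95, 8), (166, 9), (237, 21), (259, 11), (96, 8), (281, 2), (117, 3), (323, 9), (310, 9), (258, 3), (324, 9), (144, 9), (169, 8), (313, 17), (268, 22), (188, 9), (243, 27), (172, 13), (228, 11), (158, 11), (177, 8), (238, 14), (310, 13), (279, 20), (259, 4), (260, 22), (251, 25), (182, 13), (250, 24), (168, 11), (130, 16), (255, 4), (120, 10), (153, 3), (321, 9), (247, 27), (233, 3), (252,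 10), (161, 8), (253, 2), (318, 16), (248, 24), (255, 2), (295, 13), (271, 23), (241, 21), (242, 26), (330, 8), (322, 8), (74, 6), (151, 3), (267, 16), (283, 20), (294, 25), (134, 11), (249, 2), (252, 24), (258, 24), (259, 2), (306, 13), (284, 25), (310, 7), (127, 3), (254, 24), (295, 26), (85, 3), (144, 13), (246, 28), (177, 3), (242, 28), (314, 7), (136, 11), (304, 9), (266, 15), (259, 25), (309, 8), (248, 10), (111, 2), (88, 8), (163, 3), (287, 26), (236, 20), (237, 27), (257, 4), (322, 12), (313, 14), (315, 10), (286, 25), (149, 8), (326, 8), (240, 28), (316, 9), (179, 1), (292, 12), (253, 4), (170, 11), (241, 27), (298, 9), (199, 7), (176, 11), (329, 21), (291, 26), (270, 22), (319, 10), (147, 3), (265, 16), (186, 11), (283, 2), (113, 2), (242, 20), (251, 2), (314, 13), (248,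 1), (160, 11), (240, 20), (254, 3), (309, 14), (125, 8), (267, 23), (304, 13), (317, 14), (197, 7), (319, 8), (280, 1), (185, 3), (307, 14), (190, 9), (199, 4), (257, 25), (286, 12), (141, 3), (109, 8), (132, 13), (276, 19), (298, 13), (201, 7), (289, 26), (172, 9), (254, 1), (254, 10), (309, 10), (239, 29), (251, 4), (171, 8), (165, 3), (319, 17), (318, 7), (142, 11), (313, 10), (277, 20), (320, 8), (278, 23), (90, 15), (292, 25), (184, 11), (264, 15), (290, 25), (238, 20), (187, 3), (143, 3), (322, 9), (331, 10), (179, 7), (303, 10), (250, 1), (266, 22), (282, 1), (279, 24), (131, 3), (323, 21), (285, 26), (171, 3), (301, 14), (300, 9), (269, 23), (302, 9), (96, 12), (313, 8), (252, 1), (293, 13), (129, 3), (308, 9), (245, 21), (241, 29), (282, 19), (94, 10), (243, 21), (103,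 8), (161, 3), (265, 23), (247, 21), (248, 3), (239, 21), (280, 23), (240, 14), (155, 3), (314, 9), (255, 25), (162, 11), (310, 16), (276, 23), (311, 17), (275, 24), (280, 19), (92, 10), (323, 10), (312, 9), (327, 9), (297, 14), (305, 14), (329, 10), (326, 9), (317, 10), (244, 14), (296, 13), (324, 12), (308, 13), (311, 14), (311, 8), (311, 10), (272, 19), (316, 7), (274, 23), (312, 7), (262, 15), (258, 1), (320, 9), (308, 7), (315, 8), (326, 20), (268, 15), (38, 3), (122, 4), (16, 0), (46, 8), (17, 3), (17, 1), (9, 6), (46, 9), (9, 1), (216, 4), (43, 1), (42, 3), (49, 5), (38, 5), (46, 5), (49, 6), (9, 3), (38, 7), (40, 8), (40, 2), (49, 1), (49, 7), (9, 4), (307, 6), (121, 0), (227, 0), (261, 11), (72, 2), (282, 31), (193, 11), (299, 6), (221, 10), (234, 6), (232, 14), (204,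 16), (203, 9), (258, 27), (274, 31), (122, 5), (178, 5), (9, 5), (227, 7), (181, 3), (223, 11), (100, 10), (123, 6), (114, 10), (211, 13), (275, 32), (219, 1), (221, 13), (202, 11), (242, 4), (320, 14), (227, 12), (102, 7), (216, 11), (327, 15), (189, 8), (99, 4), (142, 14), (160, 14), (234, 12), (256, 27), (280, 31), (153, 0), (218, 5), (118, 11), (245, 11), (239, 5), (225, 6), (181, 6), (167, 4), (174, 10), (204, 10), (230, 10), (174, 5), (198, 16), (214, 8), (215, 11), (86, 8), (91, 1), (104, 8), (215, 6), (223, 6), (246, 2), (212, 8), (242, 10), (296, 5), (319, 26), (40, 5), (211, 2), (124, 9), (246, 16), (97, 8), (232, 11), (234, 9), (272, 31), (278, 31), (207, 4), (249, 28), (134, 9), (139, 6), (192, 1), (208, 17), (209, 13), (216, 14), (209, 2), (76, 11), (231, 4), (112,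 14), (155, 1), (189, 4), (180, 8), (305, 6), (73, 4), (231, 11), (90, 13), (211, 8), (123, 3), (193, 8), (247, 3), (218, 9), (139, 7), (154, 14), (238, 4), (317, 22), (314, 25), (198, 10), (273, 32), (318, 18), (213, 4), (186, 9), (214, 1), (222, 14), (213, 2), (152, 14), (229, 6), (86, 13), (123, 8), (212, 9), (306, 5), (77, 6), (225, 13), (38, 1), (238, 10), (244, 4), (259, 28), (80, 12), (194, 13), (302, 5), (185, 6), (183, 8), (220, 10), (255, 30), (121, 6), (229, 11), (78, 12), (101, 2), (192, 16), (258, 6), (121, 8), (221, 4), (245, 5), (292, 7), (81, 1), (216, 3), (237, 3), (217, 8), (227, 3), (237, 5), (177, 6), (75, 4), (118, 8), (233, 14), (84, 13), (277, 32), (319, 22), (194, 16), (317, 26), (128, 14), (250, 6), (146, 14), (255, 28), (297, 6), (143, 0), (244, 2), (252,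 27), (82, 7), (150, 14), (142, 9), (301, 6), (238, 2), (234, 13), (206, 2), (243, 5), (204, 3), (194, 10), (246, 4), (169, 6), (277, 10), (100, 12), (181, 0), (212, 10), (170, 14), (259, 21), (106, 8), (136, 9), (117, 6), (145, 4), (234, 17), (110, 8), (275, 10), (196, 13), (104, 14), (236, 10), (329, 26), (76, 6), (236, 2), (214, 16), (250, 27), (282, 13), (94, 13), (312, 27), (241, 17), (298, 5), (133, 8), (255, 21), (279, 10), (323, 26), (318, 21), (307, 24), (262, 10), (252, 29), (174, 16), (147, 1), (303, 6), (281, 32), (152, 8), (184, 9), (295, 8), (316, 25), (294, 20), (95, 6), (282, 9), (245, 3), (255, 7), (276, 31), (162, 9), (236, 4), (247, 11), (200, 16), (249, 7), (328, 26), (311, 22), (258, 20), (304, 23), (138, 16), (127, 1), (94, 8), (9, 2), (170, 9), (312, 18),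 (299, 24), (89, 4), (322, 14), (200, 13), (270, 17), (137, 6), (209, 3), (239, 3), (145, 8), (251, 30), (87, 6), (279, 32), (273, 10), (87, 0), (134, 14), (318, 27), (240, 4), (312, 25), (306, 23), (256, 20), (228, 14), (75, 8), (112, 8), (304, 19), (286, 7), (280, 13), (126, 14), (272, 9), (314, 21), (93, 6), (110, 14), (133, 4), (103, 6), (108, 14), (316, 27), (196, 10), (252, 6), (243, 17), (294, 7), (160, 9), (176, 14), (322, 26), (310, 21), (304, 5), (116, 13), (303, 24), (184, 14), (237, 11), (259, 7), (241, 3), (178, 16), (283, 14), (253, 28), (92, 13), (240, 10), (157, 1), (239, 11), (106, 14), (248, 6), (125, 6), (326, 14), (331, 27), (128, 9), (325, 26), (275, 14), (284, 7), (168, 9), (300, 5), (108, 8), (140, 14), (271, 18), (173, 8), (252, 20), (259, 30), (135, 6),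 (162, 14), (276, 13), (300, 23), (286, 20), (196, 16), (257, 28), (159, 6), (130, 14), (267, 18), (135, 0), (324, 26), (315, 26), (173, 4), (330, 14), (302, 19), (97, 4), (322, 25), (288, 7), (313, 28), (200, 10), (314, 27), (303, 20), (89, 8), (242, 2), (299, 20), (309, 22), (185, 0), (248, 29), (331, 15), (253, 30), (92, 8), (257, 7), (285, 8), (243, 3), (327, 27), (268, 10), (240, 2), (251, 28), (176, 9), (322, 22), (257, 21), (149, 6), (99, 8), (277, 14), (143, 6), (198, 13), (237, 17), (306, 19), (302, 23), (289, 8), (254, 27), (264, 10), (250, 20), (131, 1), (280, 9), (271, 11), (249, 21), (186, 14), (308, 25), (141, 1), (116, 8), (281, 10), (330, 25), (297, 24), (254, 6), (258, 29), (164, 14), (330, 26), (278, 13), (248, 20), (326, 26), (251, 7), (309, 26), (187, 6), (305,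 20), (281, 14), (129, 6), (165, 6), (313, 26), (298, 23), (239, 17), (191, 4), (254, 29), (178, 10), (325, 15), (83, 6), (148, 9), (164, 9), (307, 20), (321, 27), (319, 19), (308, 18), (191, 8), (274, 9), (276, 9), (318, 25), (241, 11), (324, 22), (250, 29), (246, 10), (331, 23), (253, 7), (311, 28), (241, 5), (248, 27), (315, 22), (308, 21), (249, 30), (328, 25), (260, 10), (314, 18), (300, 19), (331, 26), (247, 17), (171, 6), (257, 30), (151, 1), (183, 4), (319, 28), (256, 6), (323, 27), (301, 20), (329, 27), (291, 21), (244, 31), (324, 25), (85, 1), (326, 25), (320, 26), (312, 21), (236, 16), (283, 10), (320, 22), (274, 13), (323, 23), (311, 26), (238, 16), (262, 17), (242, 16), (273, 14), (308, 27), (272, 13), (316, 21), (240, 16), (245, 17), (321, 26), (264, 17), (295, 21),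 (260, 17), (315, 19), (320, 25), (283, 32), (328, 14), (72, 3), (192, 0), (219, 16), (261, 5), (316, 0), (114, 0), (323, 5), (91, 10), (311, 1), (75, 10), (320, 6), (329, 6), (328, 5), (206, 0), (292, 30), (275, 1), (310, 0), (104, 0), (315, 33), (262, 6), (123, 9), (308, 32), (327, 5), (100, 0), (196, 0), (313, 1), (201, 10), (139, 10), (73, 0), (320, 5), (73, 1), (140, 0), (290, 26), (107, 9), (327, 6), (267, 7), (330, 4), (173, 10), (174, 0), (233, 17), (76, 0), (184, 0), (306, 26), (162, 0), (234, 7), (106, 0), (121, 9), (152, 0), (82, 0), (200, 0), (278, 0), (309, 33), (271, 7), (316, 32), (74, 0), (281, 1), (231, 17), (309, 1), (218, 6), (118, 0), (98, 0), (105, 9), (70, 22), (288, 30), (167, 10), (308, 0), (89, 10), (213, 10), (128, 0), (232, 7), (229, 17), (85, 10), (296,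 26), (214, 0), (319, 1), (220, 7), (78, 0), (212, 0), (209, 10), (216, 7), (289, 31), (134, 0), (170, 0), (207, 10), (146, 0), (102, 0), (268, 4), (293, 31), (274, 0), (159, 10), (79, 8), (269, 5), (310, 32), (329, 7), (83, 10), (135, 10), (277, 1), (277, 3), (264, 6), (88, 0), (322, 5), (320, 4), (92, 0), (221, 16), (143, 10), (113, 9), (258, 5), (322, 4), (193, 10), (331, 5), (211, 10), (181, 10), (189, 10), (330, 5), (97, 10), (326, 4), (133, 10), (204, 0), (325, 7), (222, 7), (309, 7), (171, 10), (321, 6), (103, 10), (223, 17), (138, 0), (125, 10), (126, 0), (115, 9), (285, 31), (282, 2), (99, 10), (136, 0), (325, 5), (301, 27), (180, 0), (124, 0), (144, 0), (215, 10), (321, 5), (101, 10), (202, 0), (160, 0), (287, 27), (274, 2), (163, 10), (108, 0), (331, 7), (295, 31), (80,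 0), (322, 6), (153, 10), (272, 2), (312, 32), (327, 1), (147, 10), (284, 30), (285, 27), (328, 4), (87, 10), (168, 0), (236, 25), (217, 16), (326, 5), (273, 7), (194, 0), (313, 7), (198, 0), (324, 5), (326, 6), (226, 7), (286, 26), (263, 5), (300, 28), (279, 3), (257, 6), (112, 0), (290, 32), (323, 6), (276, 0), (96, 0), (81, 10), (324, 6), (241, 31), (287, 31), (331, 6), (228, 7), (313, 33), (321, 7), (324, 4), (188, 0), (129, 10), (291, 31), (284, 32), (225, 17), (329, 5), (109, 9), (274, 6), (296, 28), (289, 33), (265, 5), (261, 7), (210, 0), (281, 7), (120, 0), (175, 10), (190, 0), (205, 10), (290, 30), (203, 10), (142, 0), (260, 6), (259, 1), (110, 0), (186, 0), (314, 0), (137, 10), (227, 17), (235, 17), (169, 10), (325, 6), (182, 0), (238, 25), (183, 10), (161, 10), (311,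 33), (245, 26), (157, 10), (122, 0), (269, 7), (179, 10), (317, 33), (272, 0), (262, 4), (239, 31), (260, 4), (119, 9), (282, 6), (237, 31), (251, 6), (317, 1), (303, 27), (302, 26), (242, 30), (185, 10), (314, 32), (276, 6), (253, 6), (283, 1), (151, 10), (297, 29), (165, 10), (255, 6), (224, 7), (319, 33), (111, 9), (191, 10), (318, 32), (312, 0), (127, 10), (208, 0), (230, 7), (275, 3), (141, 10), (86, 0), (252, 5), (271, 5), (323, 7), (248, 5), (249, 6), (145, 10), (130, 0), (297, 27), (286, 32), (248, 0), (273, 3), (299, 27), (172, 0), (318, 6), (77, 10), (294, 26), (236, 30), (164, 0), (292, 26), (241, 26), (247, 26), (312, 6), (271, 1), (93, 10), (264, 0), (280, 0), (264, 4), (95, 10), (237, 26), (90, 0), (84, 0), (283, 7), (272, 6), (330, 6), (327, 7), (254, 5), (273,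 1), (266, 0), (150, 0), (238, 30), (270, 6), (278, 2), (286, 30), (305, 27), (154, 0), (178, 0), (302, 28), (242, 25), (266, 4), (287, 33), (283, 3), (70, 3), (307, 27), (276, 2), (302, 32), (166, 0), (199, 10), (187, 10), (308, 6), (155, 10), (304, 32), (288, 32), (277, 7), (304, 28), (304, 26), (266, 6), (240, 30), (280, 2), (294, 30), (255, 1), (263, 1), (131, 10), (305, 33), (195, 10), (259, 6), (315, 1), (197, 10), (310, 6), (320, 0), (314, 6), (70, 9), (328, 6), (281, 3), (70, 6), (319, 7), (278, 6), (158, 0), (265, 7), (299, 29), (244, 30), (292, 32), (70, 13), (288, 26), (261, 1), (267, 5), (132, 0), (70, 8), (70, 18), (250, 5), (301, 29), (239, 26), (300, 26), (94, 0), (298, 32), (70, 19), (293, 33), (148, 0), (270, 4), (117, 10), (295, 27), (285, 33), (275, 7), (252,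 0), (303, 29), (307, 33), (263, 7), (247, 31), (307, 29), (243, 31), (70, 1), (116, 0), (268, 6), (279, 7), (156, 0), (246, 25), (249, 1), (284, 26), (70, 4), (305, 29), (289, 27), (265, 1), (245, 31), (279, 1), (250, 0), (149, 10), (280, 6), (256, 5), (315, 7), (298, 26), (316, 6), (262, 0), (324, 0), (244, 25), (317, 7), (298, 28), (177, 10), (243, 26), (251, 1), (303, 33), (260, 0), (70, 21), (293, 27), (70, 14), (70, 2), (70, 11), (70, 20), (176, 0), (70, 17), (291, 33), (256, 0), (299, 33), (311, 7), (254, 0), (70, 10), (300, 32), (322, 0), (328, 0), (240, 25), (321, 1), (268, 0), (326, 0), (153, 17), (74, 4), (105, 16), (236, 0), (230, 0), (224, 0), (266, 26), (142, 7), (81, 15), (302, 4), (315, 3), (329, 31), (108, 7), (119, 16), (261, 27), (72, 7), (305, 5), (122, 7),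 (183, 17), (312, 34), (89, 16), (102, 5), (326, 30), (207, 17), (320, 29), (325, 31), (114, 7), (313, 3), (306, 0), (72, 8), (275, 31), (263, 27), (219, 10), (330, 29), (291, 1), (86, 6), (223, 10), (321, 30), (278, 30), (181, 17), (323, 30), (325, 29), (225, 10), (78, 6), (324, 30), (82, 5), (136, 7), (73, 5), (278, 26), (308, 34), (288, 2), (212, 7), (270, 26), (322, 30), (292, 2), (282, 30), (280, 30), (232, 0), (254, 30), (138, 7), (250, 25), (323, 29), (324, 29), (218, 0), (202, 7), (228, 0), (101, 16), (239, 1), (217, 9), (215, 17), (322, 29), (193, 17), (226, 0), (279, 31), (221, 9), (106, 7), (214, 7), (83, 15), (293, 1), (134, 7), (227, 10), (152, 7), (320, 30), (199, 17), (293, 3), (75, 14), (328, 29), (189, 17), (231, 10), (283, 27), (297, 7), (194, 7), (316, 2), (93,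 16), (315, 35), (161, 17), (330, 30), (273, 31), (297, 1), (213, 17), (195, 17), (77, 14), (167, 17), (272, 32), (246, 0), (299, 5), (175, 17), (284, 2), (71, 16), (269, 27), (329, 30), (258, 30), (272, 26), (328, 28), (292, 0), (145, 17), (192, 7), (79, 14), (252, 25), (120, 7), (235, 10), (245, 1), (237, 1), (117, 16), (234, 0), (279, 33), (326, 28), (322, 28), (204, 7), (268, 26), (263, 29), (266, 28), (320, 28), (229, 10), (210, 7), (107, 16), (316, 28), (329, 29), (115, 16), (306, 4), (326, 29), (271, 27), (233, 10), (90, 6), (323, 31), (287, 7), (290, 0), (310, 2), (288, 0), (187, 17), (261, 29), (282, 26), (265, 27), (319, 3), (249, 26), (208, 7), (168, 7), (310, 34), (99, 16), (295, 3), (279, 27), (260, 28), (222, 0), (301, 7), (220, 0), (121, 16), (309, 35), (126, 7),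 (277, 33), (179, 17), (300, 4), (251, 26), (133, 17), (308, 2), (173, 17), (104, 7), (128, 7), (144, 7), (127, 17), (92, 6), (109, 16), (211, 17), (321, 29), (285, 7), (96, 6), (272, 30), (257, 26), (135, 17), (264, 26), (170, 7), (288, 6), (331, 29), (174, 7), (274, 30), (258, 25), (110, 7), (281, 31), (328, 30), (216, 0), (137, 17), (209, 17), (285, 3), (330, 28), (289, 1), (259, 26), (97, 16), (291, 7), (246, 5), (80, 5), (316, 34), (100, 6), (186, 7), (129, 17), (331, 30), (182, 7), (118, 7), (314, 2), (321, 31), (265, 29), (88, 6), (103, 15), (325, 30), (243, 1), (312, 2), (252, 30), (203, 17), (327, 29), (313, 35), (291, 3), (180, 7), (275, 27), (262, 26), (286, 0), (76, 4), (268, 28), (304, 0), (201, 17), (139, 17), (239, 6), (292, 6), (205, 17), (176, 7), (238, 5), (313,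 29), (166, 7), (171, 17), (309, 29), (307, 7), (324, 28), (295, 7), (301, 5), (277, 27), (163, 17), (253, 26), (87, 16), (274, 26), (177, 17), (260, 26), (294, 2), (309, 3), (271, 29), (184, 7), (308, 28), (267, 27), (285, 1), (311, 3), (304, 4), (284, 6), (95, 16), (251, 31), (327, 31), (112, 7), (123, 16), (143, 17), (310, 28), (94, 6), (241, 1), (185, 17), (197, 17), (172, 7), (85, 16), (276, 30), (71, 5), (311, 29), (319, 29), (148, 7), (164, 7), (274, 32), (277, 31), (262, 28), (131, 17), (317, 3), (132, 7), (281, 27), (307, 5), (240, 0), (276, 32), (300, 0), (130, 7), (190, 7), (267, 29), (71, 22), (314, 28), (318, 34), (305, 7), (327, 30), (294, 0), (287, 1), (191, 17), (296, 4), (303, 1), (287, 3), (146, 7), (200, 7), (124, 7), (269, 29), (165, 17), (289, 3), (160, 7),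 (264, 28), (206, 7), (150, 7), (303, 5), (284, 0), (297, 5), (315, 29), (275, 33), (240, 5), (254, 25), (151, 17), (290, 2), (312, 28), (306, 6), (276, 26), (298, 6), (255, 26), (198, 7), (247, 6), (311, 35), (270, 32), (286, 2), (248, 25), (273, 27), (244, 0), (322, 34), (196, 7), (242, 0), (111, 16), (98, 6), (178, 7), (162, 7), (327, 35), (302, 0), (71, 1), (331, 31), (296, 6), (314, 34), (147, 17), (318, 2), (242, 5), (264, 32), (280, 32), (71, 14), (237, 6), (289, 7), (248, 30), (270, 28), (301, 1), (188, 7), (116, 6), (158, 7), (262, 32), (256, 25), (113, 16), (280, 26), (269, 33), (159, 17), (261, 33), (321, 35), (141, 17), (84, 6), (303, 7), (278, 32), (267, 33), (300, 6), (71, 19), (169, 17), (266, 32), (238, 0), (273, 33), (282, 32), (71, 13), (71, 11), (281, 33), (304,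 6), (326, 34), (260, 32), (71, 2), (71, 17), (244, 5), (236, 5), (323, 35), (125, 17), (71, 12), (243, 6), (91, 16), (320, 34), (250, 30), (286, 6), (318, 28), (296, 0), (317, 35), (154, 7), (293, 7), (298, 4), (302, 6), (155, 17), (149, 17), (256, 30), (157, 17), (140, 7), (317, 29), (71, 3), (263, 33), (298, 0), (299, 7), (241, 6), (294, 6), (245, 6), (306, 28), (328, 21), (156, 8), (159, 2), (323, 8), (257, 31), (315, 28), (259, 17), (284, 13), (9, 0), (295, 33), (304, 21), (269, 1), (311, 0), (310, 35), (182, 9), (292, 15), (327, 8), (269, 0), (239, 7), (321, 15), (317, 0), (246, 15), (251, 0), (302, 33), (310, 11), (252, 23), (272, 14), (328, 20), (314, 35), (155, 6), (103, 0), (308, 35), (257, 9), (313, 11), (247, 16), (325, 8), (301, 8), (291, 27), (254, 31), (293, 0),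 (252, 31), (161, 0), (102, 14), (150, 11), (268, 8), (111, 4), (280, 11), (291, 0), (302, 20), (298, 20), (287, 14), (329, 9), (252, 11), (315, 12), (276, 33), (126, 10), (246, 26), (285, 21), (244, 23), (267, 11), (303, 8), (279, 26), (301, 2), (320, 35), (289, 22), (141, 6), (281, 0), (279, 0), (304, 14), (321, 0), (277, 0), (173, 9), (275, 11), (330, 22), (109, 2), (284, 10), (2, 0), (312, 35), (244, 15), (315, 0), (293, 9), (286, 33), (238, 11), (8, 0), (4, 0), (161, 6), (296, 1), (295, 22), (313, 0), (166, 8), (329, 11), (304, 8), (272, 33), (297, 33), (244, 13), (291, 8), (256, 31), (150, 5), (265, 9), (140, 17), (331, 32), (290, 33), (312, 8), (300, 25), (255, 15), (285, 0), (258, 31), (278, 29), (269, 14), (267, 8), (257, 2), (310, 27), (307, 17), (131, 5), (271, 16),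 (294, 4), (253, 0), (240, 21), (292, 10), (303, 9), (317, 8), (140, 10), (244, 10), (330, 17), (303, 15), (297, 15), (315, 6), (274, 8), (173, 5), (311, 21), (164, 8), (249, 13), (296, 23), (310, 20), (245, 15), (324, 34), (308, 10), (237, 0), (283, 31), (295, 20), (292, 9), (318, 35), (250, 8), (288, 33), (163, 4), (242, 11), (295, 0), (318, 17), (317, 27), (247, 4), (309, 0), (151, 6), (241, 24), (301, 33), (149, 9), (236, 18), (236, 14), (125, 2), (97, 7), (289, 11), (328, 24), (258, 15), (294, 24), (257, 15), (249, 22), (317, 15), (274, 33), (274, 7), (261, 24), (327, 11), (290, 6), (284, 15), (270, 10), (267, 1), (154, 13), (297, 12), (319, 20), (151, 8), (113, 6), (310, 22), (246, 13), (248, 31), (167, 8), (296, 32), (247, 0), (294, 22), (237, 14), (279, 15), (163, 0), (255,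 13), (299, 0), (290, 10), (253, 15), (260, 11), (331, 33), (312, 16), (253, 21), (254, 20), (7, 0), (291, 25), (294, 11), (155, 7), (283, 16), (308, 11), (316, 20), (304, 3), (110, 12), (276, 7), (307, 4), (0, 0), (259, 15), (279, 12), (248, 8), (316, 26), (155, 9), (312, 14), (293, 8), (1, 0), (241, 15), (268, 33), (307, 23), (288, 11), (302, 13), (239, 15), (267, 14), (290, 9), (261, 21), (247, 5), (255, 31), (328, 17), (141, 4), (250, 31), (256, 29), (283, 5), (305, 4), (239, 0), (280, 24), (273, 8), (71, 15), (3, 0), (264, 9)]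

def subsL : List (List ℕ) := [
  [0],
  [2],
  [4],
  [6],
  [8]]

end Cfsg.Agent.Lib.Helper1.Co2TC.Top
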